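import Mathlib

/-!
Square-order lemma (helper75).

A finite commutative group of odd order carrying two endomorphisms `φ ψ` with
`φ² = ψ² = inversion` and `φψ = (ψφ)⁻¹` (a "quaternion structure", e.g. coming from a
fixed-point-free action of the quaternion group `Q₈`, whose central involution must invert)
has square order.

* `QuatPair φ ψ` : the hypotheses.
* `isSquare_card_of_quatPair` : the order is a square.
-/

set_option autoImplicit false

namespace Cfsg.Agent.Lib.helper75

universe u

/-- A "quaternion structure" on a commutative group: two endomorphisms squaring to inversion and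
anticommuting. -/
structure QuatPair {N : Type u} [CommGroup N] (φ ψ : N →* N) : Prop where
  sq_left : ∀ n, φ (φ n) = n⁻¹
  sq_right : ∀ n, ψ (ψ n) = n⁻¹
  anti : ∀ n, φ (ψ n) = (ψ (φ n))⁻¹

theorem QuatPair.injective_left {N : Type u} [CommGroup N] {φ ψ : N →* N} (h : QuatPair φ ψ) :
    Function.Injective φ := by
  intro x y hxy
  have := congrArg φ hxy
  rw [h.sq_left, h.sq_left] at this
  exact inv_injective this

theorem QuatPair.injective_right {N : Type u} [CommGroup N] {φ ψ : N →* N} (h : QuatPair φ ψ) :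
    Function.Injective ψ := by
  intro x y hxy
  have := congrArg ψ hxy
  rw [h.sq_right, h.sq_right] at this
  exact inv_injective this

/-- Restriction of an endomorphism to an invariant subgroup. -/
def endRestrict {N : Type u} [CommGroup N] (φ : N →* N) (S : Subgroup N) (hφ : ∀ x ∈ S, φ x ∈ S) :
    S →* S :=
  (φ.comp S.subtype).codRestrict S (fun x => hφ x.1 x.2)

theorem endRestrict_coe {N : Type u} [CommGroup N] (φ : N →* N) (S : Subgroup N)
    (hφ : ∀ x ∈ S, φ x ∈ S) (x : S) : ((endRestrict φ S hφ x : S) : N) = φ x := rfl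

theorem QuatPair.restrict {N : Type u} [CommGroup N] {φ ψ : N →* N} (h : QuatPair φ ψ)
    (S : Subgroup N) (hφ : ∀ x ∈ S, φ x ∈ S) (hψ : ∀ x ∈ S, ψ x ∈ S) :
    QuatPair (endRestrict φ S hφ) (endRestrict ψ S hψ) where
  sq_left n := Subtype.ext (by simp [endRestrict_coe, h.sq_left])
  sq_right n := Subtype.ext (by simp [endRestrict_coe, h.sq_right])
  anti n := Subtype.ext (by simp [endRestrict_coe, h.anti])

theorem isSquare_card_of_quatPair_exp {N : Type u} [CommGroup N] [Finite N] (p : ℕ) [Fact p.Prime]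
    (hp2 : p ≠ 2) (hexp : ∀ n : N, n ^ p = 1) (φ ψ : N →* N) (h : QuatPair φ ψ) :
    IsSquare (Nat.card N) := by
  obtain ⟨a, b, k, -, -, hk⟩ := Int.exists_sq_add_sq_add_one_eq_mul p
  let τ : N →* N := (powMonoidHom a).comp φ * (powMonoidHom b).comp ψ
  have hτ : ∀ n, τ n = φ n ^ a * ψ n ^ b := fun n => rfl
  have hpow : ∀ n : N, n ^ (a * a + b * b) = n⁻¹ := by
    intro n
    apply eq_inv_of_mul_eq_one_left
    rw [← pow_succ]
    have : a * a + b * b + 1 = p * k := by rw [mul_comm p k, ← hk]; ring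
    rw [this, pow_mul, hexp, one_pow]
  have hττ : ∀ n, τ (τ n) = n := by
    intro n
    rw [hτ (τ n), hτ n]
    simp only [map_mul, map_pow, h.sq_left, h.sq_right, h.anti]
    set m := ψ (φ n) with hm
    simp only [mul_pow, inv_pow, ← pow_mul]
    have e1 : (n ^ (a * a))⁻¹ * (m ^ (b * a))⁻¹ * (m ^ (a * b) * (n ^ (b * b))⁻¹)
        = (n ^ (a * a))⁻¹ * (n ^ (b * b))⁻¹ := by
      rw [mul_comm b a, mul_assoc, inv_mul_cancel_left]
    rw [e1, ← mul_inv, ← pow_add, hpow, inv_inv]
  have h1 : ∀ n, ψ (φ (ψ n)) = φ n := by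
    intro n
    have := h.anti (ψ n)
    rw [h.sq_right, map_inv] at this
    rw [← inv_inj, ← this]
  have h2 : ∀ n, φ (ψ (φ n)) = ψ n := by
    intro n
    have := h.anti (φ n)
    rw [h.sq_left, map_inv] at this
    rw [this, inv_inv]
  have hanti : ∀ n, τ (φ (ψ n)) = (φ (ψ (τ n)))⁻¹ := by
    intro n
    rw [hτ (φ (ψ n)), hτ n]
    simp only [map_mul, map_pow, h.sq_left, h.sq_right, h1, h2, map_inv]
    simp only [mul_inv, inv_pow, inv_inv]
  let θ : N →* N := MonoidHom.id N * τ
  have hθ : ∀ n, θ n = n * τ n := fun n => rfl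
  have hker : ∀ n, n ∈ θ.ker ↔ τ n = n⁻¹ := by
    intro n
    rw [MonoidHom.mem_ker, hθ]
    constructor
    · intro h; exact eq_inv_of_mul_eq_one_right h
    · intro h; rw [h, mul_inv_cancel]
  have hrange : ∀ w, w ∈ θ.range ↔ τ w = w := by
    intro w
    constructor
    · rintro ⟨n, rfl⟩
      rw [hθ, map_mul, hττ, mul_comm]
    · intro hw
      obtain ⟨c, hc⟩ : ∃ c, c + c = p + 1 := by
        rcases (Fact.out : p.Prime).eq_two_or_odd' with h2 | ⟨c, hc⟩
        · exact absurd h2 hp2
        · exact ⟨c + 1, by omega⟩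
      refine ⟨w ^ c, ?_⟩
      rw [hθ, map_pow, hw, ← pow_add, hc, pow_succ, hexp, one_mul]
  have hcard : Nat.card θ.ker * Nat.card θ.range = Nat.card N := by
    rw [← Subgroup.index_ker]
    exact Subgroup.card_mul_index _
  have hχinj : Function.Injective (fun n : N => φ (ψ n)) :=
    h.injective_left.comp h.injective_right
  have hle1 : Nat.card θ.ker ≤ Nat.card θ.range := by
    refine Nat.card_le_card_of_injective
      (fun n : θ.ker => (⟨φ (ψ n.1), (hrange _).mpr
        (by rw [hanti, (hker _).mp n.2, map_inv, map_inv, inv_inv])⟩ : θ.range)) ?_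
    intro x y hxy
    exact Subtype.ext (hχinj (congrArg Subtype.val hxy))
  have hle2 : Nat.card θ.range ≤ Nat.card θ.ker := by
    refine Nat.card_le_card_of_injective
      (fun w : θ.range => (⟨φ (ψ w.1), (hker _).mpr
        (by rw [hanti, (hrange _).mp w.2])⟩ : θ.ker)) ?_
    intro x y hxy
    exact Subtype.ext (hχinj (congrArg Subtype.val hxy))
  refine ⟨Nat.card θ.ker, ?_⟩
  rw [← hcard, le_antisymm hle2 hle1]

/-- A finite commutative group of odd order with a quaternion structure has square order. -/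
theorem isSquare_card_of_quatPair_aux : ∀ (n : ℕ) (N : Type u) [CommGroup N] [Finite N],
    Nat.card N = n → Odd n → ∀ (φ ψ : N →* N), QuatPair φ ψ → IsSquare n := by
  intro n
  induction n using Nat.strong_induction_on with
  | _ n ih =>
  intro N _ _ hcard hodd φ ψ h
  by_cases h1 : n = 1
  · rw [h1]; exact ⟨1, rfl⟩
  obtain ⟨p, hp, hpn⟩ := Nat.exists_prime_and_dvd h1
  have : Fact p.Prime := ⟨hp⟩
  have hp2 : p ≠ 2 := by
    rintro rfl
    exact (Nat.not_even_iff_odd.mpr hodd) (even_iff_two_dvd.mpr hpn)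
  let π : N →* N := powMonoidHom p
  have hπ : ∀ x, π x = x ^ p := fun x => rfl
  have hcardπ : Nat.card π.ker * Nat.card π.range = n := by
    rw [← hcard, ← Subgroup.index_ker]
    exact Subgroup.card_mul_index _
  have hkφ : ∀ x ∈ π.ker, φ x ∈ π.ker := by
    intro x hx
    rw [MonoidHom.mem_ker, hπ] at hx ⊢
    rw [← map_pow, hx, map_one]
  have hkψ : ∀ x ∈ π.ker, ψ x ∈ π.ker := by
    intro x hx
    rw [MonoidHom.mem_ker, hπ] at hx ⊢
    rw [← map_pow, hx, map_one]
  have hrφ : ∀ x ∈ π.range, φ x ∈ π.range := by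
    rintro x ⟨y, rfl⟩
    exact ⟨φ y, by rw [hπ, hπ, map_pow]⟩
  have hrψ : ∀ x ∈ π.range, ψ x ∈ π.range := by
    rintro x ⟨y, rfl⟩
    exact ⟨ψ y, by rw [hπ, hπ, map_pow]⟩
  have hker_ne : 1 < Nat.card π.ker := by
    obtain ⟨x, hx⟩ := exists_prime_orderOf_dvd_card' (G := N) p (hcard ▸ hpn)
    have hx1 : x ≠ 1 := by
      rintro rfl
      rw [orderOf_one] at hx
      exact hp.one_lt.ne hx
    have hxk : x ∈ π.ker := by
      rw [MonoidHom.mem_ker, hπ, ← hx, pow_orderOf_eq_one]
    rw [Finite.one_lt_card_iff_nontrivial]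
    exact ⟨⟨⟨x, hxk⟩, 1, fun h => hx1 (congrArg Subtype.val h)⟩⟩
  have hnpos : 0 < n := hodd.pos
  have hrpos : 0 < Nat.card π.range := Nat.card_pos
  have hkpos : 0 < Nat.card π.ker := Nat.card_pos
  have hrange_lt : Nat.card π.range < n := by
    rw [← hcardπ]
    exact lt_mul_of_one_lt_left hrpos hker_ne
  have hodd_r : Odd (Nat.card π.range) :=
    Odd.of_dvd_nat hodd (hcardπ ▸ Dvd.intro_left _ rfl)
  have hodd_k : Odd (Nat.card π.ker) :=
    Odd.of_dvd_nat hodd (hcardπ ▸ Dvd.intro _ rfl)
  have hsq_r : IsSquare (Nat.card π.range) :=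
    ih _ hrange_lt π.range rfl hodd_r _ _ (h.restrict π.range hrφ hrψ)
  by_cases htop : π.ker = ⊤
  · have hexp : ∀ x : N, x ^ p = 1 := by
      intro x
      have : x ∈ π.ker := by rw [htop]; trivial
      exact this
    rw [← hcard]
    exact isSquare_card_of_quatPair_exp p hp2 hexp φ ψ h
  · have hker_lt : Nat.card π.ker < n := by
      rcases lt_or_eq_of_le (Subgroup.card_le_card_group π.ker) with hlt | heq
      · rwa [hcard] at hlt
      · exact absurd ((Subgroup.card_eq_iff_eq_top _).mp heq) htop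
    have hsq_k : IsSquare (Nat.card π.ker) :=
      ih _ hker_lt π.ker rfl hodd_k _ _ (h.restrict π.ker hkφ hkψ)
    rw [← hcardπ]
    exact hsq_k.mul hsq_r

/-- A finite commutative group of odd order with a quaternion structure has square order. -/
theorem isSquare_card_of_quatPair {N : Type u} [CommGroup N] [Finite N] (hodd : Odd (Nat.card N))
    (φ ψ : N →* N) (h : QuatPair φ ψ) : IsSquare (Nat.card N) :=
  isSquare_card_of_quatPair_aux _ N rfl hodd φ ψ h

end Cfsg.Agent.Lib.helper75
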