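import Mathlib
import Cfsg.Prelude.Def_Solvable
import Cfsg.Agent.S0035
import Cfsg.Agent.Lib.helper75.FrobBasic
import Cfsg.Agent.Lib.helper75.QuatSquare

/-!
Frobenius kernel facts (helper75), using Frobenius' theorem `Cfsg.Agent.S0035.result` (helper84).

* `frob_card_kernel` : `Nat.card (frobeniusKernel H) = H.index`.
* `frob_one_lt_card_kernel` : `1 < Nat.card (frobeniusKernel H)`.
* `frob_involution_inverts` : an involution of the complement inverts the kernel subgroup (which is
  therefore abelian).
* `frob_isSquare_of_quat` : if the complement contains `x, y` with `x² = y² = z` an involution and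
  `xy = z·yx` (a copy of `Q₈`), the kernel has odd square order.
-/

set_option autoImplicit false

namespace Cfsg.Agent.Lib.helper75

theorem frob_card_kernel {G : Type*} [Group G] [Finite G] (H : Subgroup G)
    (hH : Cfsg.IsFrobeniusComplement H) : Nat.card (Cfsg.frobeniusKernel H) = H.index := by
  obtain ⟨N, hN, hNn, hc⟩ := Cfsg.Agent.S0035.result H hH
  rw [hc.index_eq_card, ← hN]
  rfl

theorem frob_one_lt_card_kernel {G : Type*} [Group G] [Finite G] (H : Subgroup G)
    (hH : Cfsg.IsFrobeniusComplement H) : 1 < Nat.card (Cfsg.frobeniusKernel H) := by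
  rw [frob_card_kernel H hH]
  have h0 : H.index ≠ 0 := Subgroup.index_ne_zero_of_finite
  have h1 : H.index ≠ 1 := fun h => hH.2.1 (Subgroup.index_eq_one.mp h)
  omega

/-- An involution `z` of a Frobenius complement `H` inverts every element of a normal complement
`N` of `H`. -/
theorem frob_involution_inverts {G : Type*} [Group G] [Finite G] (H : Subgroup G)
    (hH : Cfsg.IsFrobeniusComplement H) (N : Subgroup G) [N.Normal] (hc : Subgroup.IsComplement' N H)
    (z : G) (hz : z ∈ H) (hz1 : z ≠ 1) (hz2 : z * z = 1) (n : N) :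
    MulAut.conjNormal z n = n⁻¹ := by
  have hdisj : ∀ g : G, g ∈ N → g ∈ H → g = 1 := by
    intro g hgN hgH
    have := hc.disjoint
    rw [Subgroup.disjoint_def] at this
    exact this hgN hgH
  have hfpf : ∀ n : N, MulAut.conjNormal z n = n → n = 1 := by
    intro n hn
    by_contra hn1
    have hnH : (n : G) ∉ H := fun h => hn1 (Subtype.ext (hdisj _ n.2 h))
    have h1 : z * (n : G) * z⁻¹ = n := by
      have := congrArg Subtype.val hn
      rwa [MulAut.conjNormal_apply] at this
    have h2 : (n : G) * z * (n : G)⁻¹ = z := by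
      have : z * (n : G) = n * z := by
        calc z * (n : G) = z * (n : G) * z⁻¹ * z := by group
          _ = n * z := by rw [h1]
      rw [← this]; group
    exact hz1 (((isFrobeniusComplement_iff H).mp hH).2.2 _ hnH z hz (by rw [h2]; exact hz))
  have hzz : ∀ n : N, MulAut.conjNormal z (MulAut.conjNormal z n) = n := by
    intro n
    rw [← MulAut.mul_apply, ← map_mul, hz2, map_one, MulAut.one_apply]
  let f : N → N := fun n => n⁻¹ * MulAut.conjNormal z n
  have hf : Function.Injective f := by
    intro a b hab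
    have hab' : a⁻¹ * MulAut.conjNormal z a = b⁻¹ * MulAut.conjNormal z b := hab
    have h1 : MulAut.conjNormal z (b * a⁻¹) = b * a⁻¹ := by
      rw [map_mul, map_inv]
      have : MulAut.conjNormal z b = b * (a⁻¹ * MulAut.conjNormal z a) := by
        rw [hab']; group
      rw [this]; group
    have := hfpf _ h1
    rw [mul_inv_eq_one] at this
    exact this.symm
  obtain ⟨m, rfl⟩ := (Finite.injective_iff_surjective.mp hf) n
  show MulAut.conjNormal z (m⁻¹ * MulAut.conjNormal z m) = (m⁻¹ * MulAut.conjNormal z m)⁻¹
  rw [map_mul, hzz, map_inv]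
  group

theorem frob_kernel_comm {G : Type*} [Group G] [Finite G] (H : Subgroup G)
    (hH : Cfsg.IsFrobeniusComplement H) (N : Subgroup G) [N.Normal] (hc : Subgroup.IsComplement' N H)
    (z : G) (hz : z ∈ H) (hz1 : z ≠ 1) (hz2 : z * z = 1) (a b : N) : a * b = b * a := by
  have h1 := frob_involution_inverts H hH N hc z hz hz1 hz2 (a * b)
  rw [map_mul, frob_involution_inverts H hH N hc z hz hz1 hz2 a,
    frob_involution_inverts H hH N hc z hz hz1 hz2 b] at h1
  have h2 := congrArg (fun t => t⁻¹) h1
  simp only [mul_inv_rev, inv_inv] at h2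
  exact h2.symm

/-- If a Frobenius complement contains `x, y` with `x² = y² = z` an involution and `xy = z·yx`
(for instance a quaternion subgroup), the Frobenius kernel has odd square order. -/
theorem frob_isSquare_of_quat {G : Type*} [Group G] [Finite G] (H : Subgroup G)
    (hH : Cfsg.IsFrobeniusComplement H) (x y z : G) (hx : x ∈ H) (_hy : y ∈ H) (hz1 : z ≠ 1)
    (hz2 : z * z = 1) (hxx : x * x = z) (hyy : y * y = z) (hxy : x * y = z * (y * x)) :
    Odd (Nat.card (Cfsg.frobeniusKernel H)) ∧ IsSquare (Nat.card (Cfsg.frobeniusKernel H)) := by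
  obtain ⟨N, hN, hNn, hc⟩ := Cfsg.Agent.S0035.result H hH
  have hcardN : Nat.card (Cfsg.frobeniusKernel H) = Nat.card N := by
    rw [← hN]; rfl
  have hz : z ∈ H := hxx ▸ H.mul_mem hx hx
  have hinv := frob_involution_inverts H hH N hc z hz hz1 hz2
  have hcomm := frob_kernel_comm H hH N hc z hz hz1 hz2
  have hodd : Odd (Nat.card N) := by
    rw [← hc.index_eq_card]
    have h2 : 2 ∣ Nat.card H := by
      have ho : orderOf (⟨z, hz⟩ : H) = 2 := by
        apply orderOf_eq_prime
        · exact Subtype.ext (by simpa [pow_two] using hz2)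
        · intro h; exact hz1 (congrArg Subtype.val h)
      rw [← ho]
      exact orderOf_dvd_natCard _
    have := frob_index_modEq_one H hH 2 Nat.prime_two h2
    rw [Nat.odd_iff]
    exact this
  rw [hcardN]
  refine ⟨hodd, ?_⟩
  let _ : CommGroup N := { (inferInstance : Group N) with mul_comm := hcomm }
  refine isSquare_card_of_quatPair hodd (MulAut.conjNormal x : MulAut N).toMonoidHom
    (MulAut.conjNormal y : MulAut N).toMonoidHom ⟨?_, ?_, ?_⟩
  · intro n
    show MulAut.conjNormal x (MulAut.conjNormal x n) = n⁻¹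
    rw [← MulAut.mul_apply, ← map_mul, hxx, hinv]
  · intro n
    show MulAut.conjNormal y (MulAut.conjNormal y n) = n⁻¹
    rw [← MulAut.mul_apply, ← map_mul, hyy, hinv]
  · intro n
    show MulAut.conjNormal x (MulAut.conjNormal y n) = (MulAut.conjNormal y (MulAut.conjNormal x n))⁻¹
    rw [← MulAut.mul_apply, ← map_mul, hxy, map_mul, MulAut.mul_apply, hinv, map_mul, MulAut.mul_apply]

/-- Refinement of `exists_frobenius_of_fpf`: the Frobenius kernel of the constructed group has the
same order as the group `N` acted upon. -/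
theorem exists_frobenius_of_fpf_card {N H : Type*} [Group N] [Group H] [Finite N] [Finite H]
    [Nontrivial N] [Nontrivial H]
    (φ : H →* MulAut N) (hφ : ∀ h : H, h ≠ 1 → ∀ n : N, φ h n = n → n = 1) :
    ∃ (L : Type) (_ : Group L) (_ : Finite L) (C : Subgroup L),
      Cfsg.IsFrobeniusComplement C ∧ Nonempty (H ≃* C) ∧
        Nat.card (Cfsg.frobeniusKernel C) = Nat.card N := by
  have : Finite (N ⋊[φ] H) := Finite.of_equiv _ (SemidirectProduct.equivProd (φ := φ)).symm
  have : Small.{0} (N ⋊[φ] H) := inferInstance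
  let e : Shrink.{0} (N ⋊[φ] H) ≃* (N ⋊[φ] H) := Shrink.mulEquiv
  have hfin : Finite (Shrink.{0} (N ⋊[φ] H)) := Finite.of_equiv _ e.symm.toEquiv
  have hC : Cfsg.IsFrobeniusComplement
      ((SemidirectProduct.inr : H →* N ⋊[φ] H).range.map e.symm.toMonoidHom) :=
    isFrobeniusComplement_map_equiv e.symm _ (isFrobeniusComplement_inr_range φ hφ)
  refine ⟨Shrink.{0} (N ⋊[φ] H), inferInstance, hfin,
    (SemidirectProduct.inr : H →* N ⋊[φ] H).range.map e.symm.toMonoidHom, hC, ?_, ?_⟩
  · have e1 : H ≃* (SemidirectProduct.inr : H →* N ⋊[φ] H).range :=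
      MonoidHom.ofInjective SemidirectProduct.inr_injective
    have e2 : (SemidirectProduct.inr : H →* N ⋊[φ] H).range ≃*
        (SemidirectProduct.inr : H →* N ⋊[φ] H).range.map e.symm.toMonoidHom :=
      e.symm.subgroupMap _
    exact ⟨e1.trans e2⟩
  · rw [frob_card_kernel _ hC]
    have h1 : ((SemidirectProduct.inr : H →* N ⋊[φ] H).range.map e.symm.toMonoidHom).index
        = (SemidirectProduct.inr : H →* N ⋊[φ] H).range.index :=
      Subgroup.index_map_equiv (H := (SemidirectProduct.inr : H →* N ⋊[φ] H).range) e.symm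
    rw [h1]
    have h2 := Subgroup.card_mul_index (SemidirectProduct.inr : H →* N ⋊[φ] H).range
    rw [SemidirectProduct.card] at h2
    have h3 : Nat.card (SemidirectProduct.inr : H →* N ⋊[φ] H).range = Nat.card H :=
      (Nat.card_congr (MonoidHom.ofInjective SemidirectProduct.inr_injective).toEquiv).symm
    rw [h3, mul_comm] at h2
    exact Nat.eq_of_mul_eq_mul_right Nat.card_pos h2

end Cfsg.Agent.Lib.helper75
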