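import Mathlib

/-!
No finite simple group has exactly 15 Sylow 7-subgroups (helper75).

The group acts faithfully and primitively on its 15 Sylow 7-subgroups; a Sylow 7-subgroup `P` fixes one
point and has two orbits of length 7.  If `|P| ≥ 49` some element of order 7 is a 7-cycle and Jordan's
theorem (Mathlib) gives 2-primitivity, contradicting the block system of `P`-orbits for the normalizer.
If `|P| = 7`, fixed-point counting and parity show `C(P) = P`, so the order is `105 e` with `e ∣ 6`, and
Burnside's transfer theorem gives a normal complement.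
-/

set_option autoImplicit false

namespace Cfsg.Agent.Lib.helper75

open MulAction
open scoped Pointwise

section General

variable {S : Type*} [Group S] [Finite S] {p : ℕ} [Fact p.Prime]

omit [Finite S] [Fact p.Prime] in
/-- The only Sylow subgroup fixed (under conjugation) by all elements of the Sylow subgroup `P` is `P`. -/
theorem sylow_fixed_iff (P Q : Sylow p S) : (∀ g ∈ (P : Subgroup S), g • Q = Q) ↔ Q = P := by
  constructor
  · intro h
    have hmem : Q ∈ fixedPoints (P : Subgroup S) (Sylow p S) := fun g => h g.1 g.2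
    have hle := (P.2.sylow_mem_fixedPoints_iff).mp hmem
    exact Sylow.ext (P.3 Q.2 hle)
  · rintro rfl g hg
    exact Sylow.smul_eq_iff_mem_normalizer.mpr (Subgroup.le_normalizer hg)

/-- A simple group with more than one Sylow `p`-subgroup acts faithfully on them. -/
theorem sylow_faithful [IsSimpleGroup S] (hn : Nat.card (Sylow p S) ≠ 1) (s : S)
    (hs : ∀ Q : Sylow p S, s • Q = Q) : s = 1 := by
  rcases Subgroup.Normal.eq_bot_or_eq_top
    (inferInstance : (MulAction.toPermHom S (Sylow p S)).ker.Normal) with h | h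
  · have : s ∈ (MulAction.toPermHom S (Sylow p S)).ker := by
      rw [MonoidHom.mem_ker]
      apply Equiv.ext
      intro Q
      exact hs Q
    rw [h, Subgroup.mem_bot] at this
    exact this
  · exfalso
    apply hn
    rw [Nat.card_eq_one_iff_unique]
    obtain ⟨P⟩ := (inferInstance : Nonempty (Sylow p S))
    refine ⟨⟨fun Q R => ?_⟩, ⟨P⟩⟩
    obtain ⟨g, rfl⟩ := MulAction.exists_smul_eq S Q R
    have : g ∈ (MulAction.toPermHom S (Sylow p S)).ker := by rw [h]; trivial
    have h2 := congrArg (fun σ : Equiv.Perm (Sylow p S) => σ Q) (MonoidHom.mem_ker.mp this)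
    exact h2.symm

omit [Finite S] [Fact p.Prime] in
/-- In a simple group of order `> 2`, every element acts as an even permutation on the Sylow
subgroups. -/
theorem sylow_sign_eq_one [IsSimpleGroup S] [Fintype (Sylow p S)] [DecidableEq (Sylow p S)]
    (h3 : 2 < Nat.card S) (s : S) :
    Equiv.Perm.sign (MulAction.toPerm s : Equiv.Perm (Sylow p S)) = 1 := by
  let sgn : S →* ℤˣ := Equiv.Perm.sign.comp (MulAction.toPermHom S (Sylow p S))
  rcases Subgroup.Normal.eq_bot_or_eq_top (inferInstance : sgn.ker.Normal) with h | h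
  · exfalso
    have hinj : Function.Injective sgn := (MonoidHom.ker_eq_bot_iff sgn).mp h
    have := Nat.card_le_card_of_injective sgn hinj
    have h2 : Nat.card ℤˣ = 2 := by
      rw [Nat.card_eq_fintype_card]; rfl
    omega
  · have : s ∈ sgn.ker := by rw [h]; trivial
    exact MonoidHom.mem_ker.mp this

/-- An involution moving `2k` points, `k` odd, is an odd permutation. -/
theorem sign_of_involution_card {α : Type*} [Fintype α] [DecidableEq α] (σ : Equiv.Perm α) (k : ℕ)
    (hk : Odd k) (hσ : orderOf σ = 2) (hsupp : σ.support.card = 2 * k) : Equiv.Perm.sign σ = -1 := by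
  have hp : (orderOf σ).Prime := by rw [hσ]; exact Nat.prime_two
  obtain ⟨n, hn⟩ := Equiv.Perm.cycleType_prime_order hp
  have hsum := Equiv.Perm.sum_cycleType σ
  rw [hn, hσ, Multiset.sum_replicate, hsupp, smul_eq_mul] at hsum
  have hn1 : n + 1 = k := by omega
  rw [Equiv.Perm.sign_of_cycleType, hn, hσ, Multiset.sum_replicate, Multiset.card_replicate, hn1,
    smul_eq_mul]
  have : Odd (k * 2 + k) := by
    obtain ⟨j, rfl⟩ := hk
    exact ⟨3 * j + 1, by ring⟩
  exact this.neg_one_pow

omit [Finite S] in
/-- Fixed-point congruence for an element of prime order. -/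
theorem card_fixed_modEq (Ω : Type*) [MulAction S Ω] [Finite Ω] (c : S) (r : ℕ) [Fact r.Prime]
    (hc : orderOf c = r) : Nat.card Ω ≡ Nat.card {ω : Ω // c • ω = ω} [MOD r] := by
  have hP : IsPGroup r (Subgroup.zpowers c) :=
    IsPGroup.of_card (n := 1) (by rw [Nat.card_zpowers, hc, pow_one])
  have h := hP.card_modEq_card_fixedPoints Ω
  have e : Nat.card (fixedPoints (Subgroup.zpowers c) Ω) = Nat.card {ω : Ω // c • ω = ω} := by
    apply Nat.card_congr
    apply Equiv.subtypeEquivRight
    intro ω
    constructor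
    · intro h; exact h ⟨c, Subgroup.mem_zpowers c⟩
    · rintro h ⟨g, hg⟩
      exact mem_stabilizer_iff.mp
        ((Subgroup.zpowers_le (H := stabilizer S ω)).mpr (mem_stabilizer_iff.mpr h) hg)
  rw [e] at h
  exact h

end General

section Seven

variable {S : Type*} [Group S] [Finite S]

/-- Every nontrivial orbit of a Sylow 7-subgroup on the 15 Sylow 7-subgroups has length 7. -/
theorem orbit_card_seven (h15 : Nat.card (Sylow 7 S) = 15) (P Q : Sylow 7 S) (hQ : Q ≠ P) :
    Nat.card (orbit (P : Subgroup S) Q) = 7 := by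
  have : Fact (Nat.Prime 7) := ⟨by norm_num⟩
  obtain ⟨n, hn⟩ := P.2.card_orbit Q
  have hn0 : n ≠ 0 := by
    rintro rfl
    rw [pow_zero, Nat.card_eq_one_iff_unique] at hn
    apply hQ
    rw [← sylow_fixed_iff]
    intro g hg
    have h1 : (⟨(⟨g, hg⟩ : (P : Subgroup S)) • Q, mem_orbit _ _⟩ : orbit (P : Subgroup S) Q)
        = ⟨Q, mem_orbit_self Q⟩ := hn.1.elim _ _
    exact congrArg Subtype.val h1
  have hle : Nat.card (orbit (P : Subgroup S) Q) ≤ 14 := by
    have hsub : orbit (P : Subgroup S) Q ⊆ Set.univ \ {P} := by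
      rintro R ⟨g, rfl⟩
      refine ⟨trivial, ?_⟩
      intro h
      apply hQ
      have h' : g • Q = P := h
      have : Q = g⁻¹ • P := eq_inv_smul_iff.mpr h'
      rw [this]
      exact Sylow.smul_eq_iff_mem_normalizer.mpr (Subgroup.le_normalizer (g⁻¹).2)
    have := Set.ncard_le_ncard hsub (Set.toFinite _)
    rw [Set.ncard_sdiff_singleton_of_mem (Set.mem_univ P), Set.ncard_univ, h15] at this
    exact this
  have : n = 1 := by
    by_contra hne
    have h2 : 2 ≤ n := by omega
    have : 7 ^ 2 ≤ 7 ^ n := Nat.pow_le_pow_right (by norm_num) h2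
    omega
  rw [hn, this, pow_one]

omit [Finite S] in
theorem not_mem_orbit_self (P Q : Sylow 7 S) (hQ : Q ≠ P) : P ∉ orbit (P : Subgroup S) Q := by
  rintro ⟨g, h⟩
  apply hQ
  have h' : g • Q = P := h
  have : Q = g⁻¹ • P := eq_inv_smul_iff.mpr h'
  rw [this]
  exact Sylow.smul_eq_iff_mem_normalizer.mpr (Subgroup.le_normalizer (g⁻¹).2)

/-- The action on the 15 Sylow 7-subgroups is primitive. -/
theorem sylow_preprimitive (h15 : Nat.card (Sylow 7 S) = 15) (P : Sylow 7 S) :
    IsPreprimitive S (Sylow 7 S) := by
  have : Fact (Nat.Prime 7) := ⟨by norm_num⟩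
  apply IsPreprimitive.of_isTrivialBlock_base P
  intro B hPB hB
  by_cases hsub : B.Subsingleton
  · exact Or.inl hsub
  right
  obtain ⟨Q, hQB, hQP⟩ : ∃ Q ∈ B, Q ≠ P := by
    by_contra hcon
    push Not at hcon
    exact hsub (fun x hx y hy => (hcon x hx).trans (hcon y hy).symm)
  have horb : orbit (P : Subgroup S) Q ⊆ B := by
    rintro R ⟨⟨g, hg⟩, rfl⟩
    have hgP : g • P = P :=
      Sylow.smul_eq_iff_mem_normalizer.mpr (Subgroup.le_normalizer hg)
    have hgB : g • B = B := by
      apply hB.smul_eq_of_nonempty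
      refine ⟨P, ?_, hPB⟩
      have h1 : g • P ∈ g • B := Set.smul_mem_smul_set hPB
      rwa [hgP] at h1
    show g • Q ∈ B
    rw [← hgB]
    exact Set.smul_mem_smul_set hQB
  have hcard : 8 ≤ B.ncard := by
    have h1 : (insert P (orbit (P : Subgroup S) Q)).ncard = 8 := by
      rw [Set.ncard_insert_of_notMem (not_mem_orbit_self P Q hQP) (Set.toFinite _),
        ← Nat.card_coe_set_eq, orbit_card_seven h15 P Q hQP]
    have h2 : insert P (orbit (P : Subgroup S) Q) ⊆ B := Set.insert_subset hPB horb
    rw [← h1]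
    exact Set.ncard_le_ncard h2 (Set.toFinite _)
  have hdvd : B.ncard ∣ 15 := h15 ▸ hB.ncard_dvd_card ⟨P, hPB⟩
  have hB15 : B.ncard = 15 := by
    have := Nat.le_of_dvd (by norm_num) hdvd
    interval_cases h : B.ncard <;> simp_all
  apply Set.eq_of_subset_of_ncard_le (Set.subset_univ B) _ (Set.toFinite _)
  rw [Set.ncard_univ, h15, hB15]

end Seven

section ClaimA

variable {S : Type*} [Group S] [Finite S] [IsSimpleGroup S]

/-- In a simple group with 15 Sylow 7-subgroups, these have order 7 (Jordan's theorem). -/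
theorem sylow_card_seven (h15 : Nat.card (Sylow 7 S) = 15) (P : Sylow 7 S) : Nat.card P = 7 := by
  have h7 : Fact (Nat.Prime 7) := ⟨by norm_num⟩
  obtain ⟨Q, hQ⟩ : ∃ Q : Sylow 7 S, Q ≠ P := by
    by_contra hcon
    push Not at hcon
    have : Nat.card (Sylow 7 S) = 1 :=
      Nat.card_eq_one_iff_unique.mpr ⟨⟨fun a b => (hcon a).trans (hcon b).symm⟩, ⟨P⟩⟩
    omega
  have horb := orbit_card_seven h15 P Q hQ
  have hstab : Nat.card (stabilizer (P : Subgroup S) Q) * 7 = Nat.card P := by
    have h1 := Subgroup.card_mul_index (stabilizer (P : Subgroup S) Q)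
    rw [MulAction.index_stabilizer, ← Nat.card_coe_set_eq, horb] at h1
    exact h1
  by_contra hne
  have hdvd : 7 ∣ Nat.card (stabilizer (P : Subgroup S) Q) := by
    have hPs : IsPGroup 7 (stabilizer (P : Subgroup S) Q) := P.2.to_subgroup _
    rcases hPs.card_eq_or_dvd with h | h
    · rw [h, one_mul] at hstab
      exact absurd hstab.symm hne
    · exact h
  obtain ⟨g₁, hg₁⟩ := exists_prime_orderOf_dvd_card' 7 hdvd
  obtain ⟨g, hg⟩ : ∃ g : S, g = ((g₁ : (P : Subgroup S)) : S) := ⟨_, rfl⟩
  have hgo : orderOf g = 7 := by rw [hg, Subgroup.orderOf_coe, Subgroup.orderOf_coe, hg₁]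
  have hgQ : g • Q = Q := by rw [hg]; exact g₁.2
  have hgP : g • P = P := by
    rw [hg]
    exact Sylow.smul_eq_iff_mem_normalizer.mpr (Subgroup.le_normalizer (g₁ : (P : Subgroup S)).2)
  have hg1 : g ≠ 1 := by
    intro h
    rw [h, orderOf_one] at hgo
    omega
  let F : Set (Sylow 7 S) := {ω | g • ω = ω}
  have hmod := card_fixed_modEq (Sylow 7 S) g 7 hgo
  have hF : F.ncard = 8 := by
    have h1 : F.ncard ≤ 15 := by
      have := Set.ncard_le_ncard (Set.subset_univ F) (Set.toFinite _)
      rwa [Set.ncard_univ, h15] at this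
    have h2 : 2 ≤ F.ncard := by
      have hsub : ({P, Q} : Set (Sylow 7 S)) ⊆ F := by
        rintro x (rfl | rfl)
        exacts [hgP, hgQ]
      have h3 := Set.ncard_le_ncard hsub (Set.toFinite _)
      rwa [Set.ncard_pair hQ.symm] at h3
    have h4 : F.ncard ≠ 15 := by
      intro h
      apply hg1
      apply sylow_faithful (p := 7) (by omega) g
      intro R
      have : F = Set.univ :=
        Set.eq_of_subset_of_ncard_le (Set.subset_univ F) (by rw [Set.ncard_univ, h15, h])
          (Set.toFinite _)
      have hR : R ∈ F := by rw [this]; trivial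
      exact hR
    have h5 : 15 ≡ F.ncard [MOD 7] := by
      rw [h15] at hmod
      exact hmod
    unfold Nat.ModEq at h5
    omega
  have hprim := sylow_preprimitive h15 P
  have hFc : (Fᶜ).ncard = 7 := by
    have := Set.ncard_add_ncard_compl F
    rw [hF, h15] at this
    omega
  have hgfix : g ∈ fixingSubgroup S F := (mem_fixingSubgroup_iff S).mpr (fun y hy => hy)
  have htrans : IsPretransitive (fixingSubgroup S F) (SubMulAction.ofFixingSubgroup S F) := by
    constructor
    rintro ⟨x, hx⟩ ⟨y, hy⟩
    have hx' : x ∉ F := hx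
    have hy' : y ∉ F := hy
    have horbx : orbit (Subgroup.zpowers g) x = Fᶜ := by
      apply Set.eq_of_subset_of_ncard_le
      · rintro z ⟨⟨h, hh⟩, rfl⟩
        obtain ⟨k, rfl⟩ := Subgroup.mem_zpowers_iff.mp hh
        intro hz
        apply hx'
        have hz' : g • (g ^ k • x) = g ^ k • x := hz
        have hc : g ^ k • (g • x) = g ^ k • x := by
          rw [← mul_smul, (Commute.zpow_self g k).eq, mul_smul]
          exact hz'
        exact smul_left_cancel _ hc
      · rw [hFc]
        have h1 := Subgroup.card_mul_index (stabilizer (Subgroup.zpowers g) x)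
        rw [MulAction.index_stabilizer, Nat.card_zpowers, hgo] at h1
        have h2 : (orbit (Subgroup.zpowers g) x).ncard ∣ 7 := Dvd.intro_left _ h1
        rcases (Nat.dvd_prime (by norm_num)).mp h2 with h3 | h3
        · exfalso
          apply hx'
          rw [Set.ncard_eq_one] at h3
          obtain ⟨a, ha⟩ := h3
          have hxa : x ∈ orbit (Subgroup.zpowers g) x := mem_orbit_self x
          have hgxa : (⟨g, Subgroup.mem_zpowers g⟩ : Subgroup.zpowers g) • x
              ∈ orbit (Subgroup.zpowers g) x := mem_orbit _ _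
          rw [ha] at hxa hgxa
          rw [Set.mem_singleton_iff] at hxa hgxa
          show g • x = x
          exact hgxa.trans hxa.symm
        · exact h3.ge
      · exact Set.toFinite _
    have hyorb : y ∈ orbit (Subgroup.zpowers g) x := by rw [horbx]; exact hy'
    obtain ⟨⟨h, hh⟩, rfl⟩ := hyorb
    have hhfix : h ∈ fixingSubgroup S F :=
      (Subgroup.zpowers_le (H := fixingSubgroup S F)).mpr hgfix hh
    exact ⟨⟨h, hhfix⟩, Subtype.ext rfl⟩
  have hcardX : Nat.card (SubMulAction.ofFixingSubgroup S F) = 7 := by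
    show Nat.card ↥(Fᶜ : Set (Sylow 7 S)) = 7
    rw [Nat.card_coe_set_eq, hFc]
  have hprimF : IsPreprimitive (fixingSubgroup S F) (SubMulAction.ofFixingSubgroup S F) :=
    IsPreprimitive.of_prime_card (by rw [hcardX]; norm_num)
  have h2 : IsMultiplyPreprimitive S (Sylow 7 S) 2 :=
    hprim.is_two_preprimitive (s := F) (n := 7) hF (by rw [h15]; norm_num) hprimF
  have h1 : IsPreprimitive (stabilizer S P) (SubMulAction.ofStabilizer S P) := by
    rw [← is_one_preprimitive_iff]
    exact isMultiplyPreprimitive_ofStabilizer (M := S) (α := Sylow 7 S) (n := 1) (a := P)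
  let P' : Subgroup (stabilizer S P) := (P : Subgroup S).subgroupOf (stabilizer S P)
  have hP'n : P'.Normal := by
    constructor
    intro n hn g'
    have hg' : (g' : S) ∈ Subgroup.normalizer ((P : Subgroup S) : Set S) :=
      Sylow.smul_eq_iff_mem_normalizer.mp g'.2
    rw [Subgroup.mem_subgroupOf] at hn ⊢
    exact (Subgroup.mem_normalizer_iff.mp hg' _).mp hn
  have hblock := IsBlock.orbit_of_normal (G := stabilizer S P) (N := P')
    (⟨Q, hQ⟩ : SubMulAction.ofStabilizer S P)
  rcases h1.isTrivialBlock_of_isBlock hblock with hsub | huniv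
  · apply hQ
    rw [← sylow_fixed_iff]
    intro x hx
    have hxN : x ∈ stabilizer S P :=
      Sylow.smul_eq_iff_mem_normalizer.mpr (Subgroup.le_normalizer hx)
    have hmem : (⟨⟨x, hxN⟩, hx⟩ : P') • (⟨Q, hQ⟩ : SubMulAction.ofStabilizer S P)
        ∈ orbit P' (⟨Q, hQ⟩ : SubMulAction.ofStabilizer S P) := mem_orbit _ _
    have := hsub hmem (mem_orbit_self _)
    exact congrArg Subtype.val this
  · have hP'p : IsPGroup 7 P' := P.2.comap_subtype
    obtain ⟨n, hn⟩ := hP'p.card_orbit (⟨Q, hQ⟩ : SubMulAction.ofStabilizer S P)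
    rw [huniv] at hn
    have h14 : Nat.card (SubMulAction.ofStabilizer S P) = 14 := by
      rw [SubMulAction.nat_card_ofStabilizer_eq, h15]
    rw [Nat.card_coe_set_eq, Set.ncard_univ, h14] at hn
    rcases n with _ | _ | n
    · norm_num at hn
    · norm_num at hn
    · have : 7 ^ 2 ≤ 7 ^ (n + 2) := Nat.pow_le_pow_right (by norm_num) (by omega)
      omega

end ClaimA

section Transfer

variable {G : Type*} [Group G] [Finite G]

omit [Finite G] in
/-- `|N(H) : C(H)|` divides `|Aut H|`. -/
theorem relIndex_centralizer_normalizer_dvd (H : Subgroup G) :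
    (Subgroup.centralizer (H : Set G)).relIndex (Subgroup.normalizer (H : Set G)) ∣
      Nat.card (MulAut H) := by
  have key := Subgroup.card_dvd_of_injective _
    (QuotientGroup.kerLift_injective H.normalizerMonoidHom)
  rw [Subgroup.normalizerMonoidHom_ker, ← Subgroup.index, ← Subgroup.relIndex] at key
  exact key

/-- Burnside's transfer theorem excludes a nontrivial proper Sylow subgroup central in its normalizer
in a simple group. -/
theorem not_simple_of_sylow_central [IsSimpleGroup G] (q : ℕ) [Fact q.Prime] (Q : Sylow q G)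
    (hQ : Subgroup.normalizer ((Q : Subgroup G) : Set G) ≤ Subgroup.centralizer ((Q : Subgroup G) : Set G))
    (h1 : Nat.card Q ≠ 1) (h2 : Nat.card Q ≠ Nat.card G) : False := by
  have hc := MonoidHom.ker_transferSylow_isComplement' Q hQ
  have hcard := hc.card_mul_card
  rcases Subgroup.Normal.eq_bot_or_eq_top
    (inferInstance : (MonoidHom.transferSylow Q hQ).ker.Normal) with h | h
  · rw [h, Subgroup.card_bot, one_mul] at hcard
    exact h2 hcard
  · rw [h, Subgroup.card_top] at hcard
    have hpos : 0 < Nat.card G := Nat.card_pos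
    have : Nat.card Q = 1 := by
      have h3 : Nat.card G * Nat.card Q = Nat.card G * 1 := by rw [hcard, mul_one]
      exact Nat.eq_of_mul_eq_mul_left hpos h3
    exact h1 this

end Transfer

section ClaimD

variable {S : Type*} [Group S] [Finite S] [IsSimpleGroup S]

/-- In a simple group with 15 Sylow 7-subgroups, a Sylow 7-subgroup is self-centralizing. -/
theorem centralizer_card_seven (h15 : Nat.card (Sylow 7 S) = 15) (P : Sylow 7 S) :
    Nat.card (Subgroup.centralizer ((P : Subgroup S) : Set S)) = 7 := by
  classical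
  have h7 : Fact (Nat.Prime 7) := ⟨by norm_num⟩
  have : Fintype (Sylow 7 S) := Fintype.ofFinite _
  have hP7 := sylow_card_seven h15 P
  have hcardS : 15 ≤ Nat.card S := by
    have h1 := Sylow.card_eq_index_normalizer P
    have h2 := Subgroup.index_dvd_card (Subgroup.normalizer (P : Set S))
    rw [← h1, h15] at h2
    exact Nat.le_of_dvd Nat.card_pos h2
  have key : ∀ r : ℕ, r.Prime → r ∣ Nat.card (Subgroup.centralizer ((P : Subgroup S) : Set S)) →
      r = 7 := by
    intro r hr hrC
    by_contra hr7
    have : Fact r.Prime := ⟨hr⟩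
    obtain ⟨c₁, hc₁⟩ := exists_prime_orderOf_dvd_card' r hrC
    obtain ⟨c, hc⟩ : ∃ c : S, c = (c₁ : S) := ⟨_, rfl⟩
    have hco : orderOf c = r := by rw [hc, Subgroup.orderOf_coe, hc₁]
    have hcC : c ∈ Subgroup.centralizer ((P : Subgroup S) : Set S) := by rw [hc]; exact c₁.2
    have hcP : c • P = P :=
      Sylow.smul_eq_iff_mem_normalizer.mpr (Subgroup.centralizer_le_normalizer _ hcC)
    have hc1 : c ≠ 1 := by
      intro h
      rw [h, orderOf_one] at hco
      exact hr.one_lt.ne hco
    -- the fixed points of `c`, a `P`-invariant set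
    let Fs : SubMulAction (P : Subgroup S) (Sylow 7 S) :=
      { carrier := {ω | c • ω = ω}
        smul_mem' := by
          intro g ω hω
          have hω' : c • ω = ω := hω
          show c • ((g : S) • ω) = (g : S) • ω
          rw [← mul_smul, ← (Subgroup.mem_centralizer_iff.mp hcC (g : S) g.2), mul_smul, hω'] }
    have hmod7 := P.2.card_modEq_card_fixedPoints Fs
    have hfix1 : Nat.card (fixedPoints (P : Subgroup S) Fs) = 1 := by
      rw [Nat.card_eq_one_iff_unique]
      refine ⟨⟨?_⟩, ⟨⟨⟨P, hcP⟩, ?_⟩⟩⟩
      · rintro ⟨⟨a, ha⟩, ha'⟩ ⟨⟨b, hb⟩, hb'⟩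
        have h1 : a = P := (sylow_fixed_iff P a).mp
          (fun g hg => congrArg Subtype.val (ha' ⟨g, hg⟩))
        have h2 : b = P := (sylow_fixed_iff P b).mp
          (fun g hg => congrArg Subtype.val (hb' ⟨g, hg⟩))
        exact Subtype.ext (Subtype.ext (h1.trans h2.symm))
      · intro g
        exact Subtype.ext
          (Sylow.smul_eq_iff_mem_normalizer.mpr (Subgroup.le_normalizer g.2))
    rw [hfix1] at hmod7
    have hmodr := card_fixed_modEq (Sylow 7 S) c r hco
    rw [h15] at hmodr
    have hFcard : Nat.card Fs = Nat.card {ω : Sylow 7 S // c • ω = ω} := rfl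
    rw [hFcard] at hmod7
    set f := Nat.card {ω : Sylow 7 S // c • ω = ω} with hf
    have hf15 : f ≤ 15 := by
      have := Finite.card_subtype_le (fun ω : Sylow 7 S => c • ω = ω)
      rwa [h15] at this
    have hfcases : f = 1 ∨ f = 8 ∨ f = 15 := by
      unfold Nat.ModEq at hmod7
      omega
    rcases hfcases with h | h | h
    · -- `c` is an involution with exactly one fixed point
      rw [h] at hmodr
      have hr14 : r ∣ 14 := (Nat.modEq_iff_dvd' (by norm_num)).mp hmodr.symm
      have hr2 : r = 2 := by
        have h14 : (14 : ℕ) = 2 * 7 := by norm_num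
        rw [h14] at hr14
        rcases (Nat.Prime.dvd_mul hr).mp hr14 with h' | h'
        · exact (Nat.prime_dvd_prime_iff_eq hr Nat.prime_two).mp h'
        · exact absurd ((Nat.prime_dvd_prime_iff_eq hr (by norm_num)).mp h') hr7
      have hinj : Function.Injective (MulAction.toPermHom S (Sylow 7 S)) := by
        rw [injective_iff_map_eq_one]
        intro s hs
        apply sylow_faithful (p := 7) (by omega) s
        intro R
        have := congrArg (fun σ : Equiv.Perm (Sylow 7 S) => σ R) hs
        exact this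
      have hσo : orderOf (MulAction.toPerm c : Equiv.Perm (Sylow 7 S)) = 2 := by
        have := orderOf_injective (MulAction.toPermHom S (Sylow 7 S)) hinj c
        rw [hco, hr2] at this
        exact this
      have hsupp : (MulAction.toPerm c : Equiv.Perm (Sylow 7 S)).support.card = 2 * 7 := by
        have h1 := Equiv.Perm.card_fixedPoints (MulAction.toPerm c : Equiv.Perm (Sylow 7 S))
        rw [Equiv.Perm.sum_cycleType] at h1
        have h2 : Fintype.card (Function.fixedPoints (MulAction.toPerm c : Equiv.Perm (Sylow 7 S)))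
            = f := by
          rw [hf, ← Nat.card_eq_fintype_card]
          rfl
        have h3 : Fintype.card (Sylow 7 S) = 15 := by rw [← Nat.card_eq_fintype_card, h15]
        have h4 := Finset.card_le_univ (MulAction.toPerm c : Equiv.Perm (Sylow 7 S)).support
        rw [h2, h, h3] at h1
        rw [h3] at h4
        omega
      have hs1 := sign_of_involution_card (MulAction.toPerm c : Equiv.Perm (Sylow 7 S)) 7
        (by decide) hσo hsupp
      have hs2 := sylow_sign_eq_one (p := 7) (by omega) c
      rw [hs1] at hs2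
      exact absurd hs2 (by decide)
    · rw [h] at hmodr
      have hr7' : r ∣ 7 := (Nat.modEq_iff_dvd' (by norm_num)).mp hmodr.symm
      exact hr7 ((Nat.prime_dvd_prime_iff_eq hr (by norm_num)).mp hr7')
    · apply hc1
      apply sylow_faithful (p := 7) (by omega) c
      intro R
      by_contra hR
      have hlt : f < Nat.card (Sylow 7 S) := by
        rw [hf]
        exact Finite.card_subtype_lt (p := fun ω : Sylow 7 S => c • ω = ω) hR
      omega
  have hCpos : Nat.card (Subgroup.centralizer ((P : Subgroup S) : Set S)) ≠ 0 := Nat.card_pos.ne'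
  have hCpow := Nat.eq_prime_pow_of_unique_prime_dvd hCpos (fun {d} hd hdvd => key d hd hdvd)
  have hCp : IsPGroup 7 (Subgroup.centralizer ((P : Subgroup S) : Set S)) :=
    IsPGroup.of_card hCpow
  have hPcyc : IsCyclic (P : Subgroup S) := isCyclic_of_prime_card hP7
  have hPcomm : IsMulCommutative (P : Subgroup S) := inferInstance
  have hPC : (P : Subgroup S) ≤ Subgroup.centralizer ((P : Subgroup S) : Set S) :=
    Subgroup.le_centralizer_iff_isMulCommutative.mpr hPcomm
  rw [P.3 hCp hPC]
  exact hP7

end ClaimD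

theorem dvd_six_cases (e : ℕ) (h : e ∣ 6) : e = 1 ∨ e = 2 ∨ e = 3 ∨ e = 6 := by
  have hle := Nat.le_of_dvd (by norm_num) h
  interval_cases e <;> omega

section Final

variable {S : Type*} [Group S] [Finite S] [IsSimpleGroup S]

/-- No finite simple group has exactly 15 Sylow 7-subgroups. -/
theorem no_simple_fifteen_sylow_seven : Nat.card (Sylow 7 S) ≠ 15 := by
  intro h15
  have h7 : Fact (Nat.Prime 7) := ⟨by norm_num⟩
  obtain ⟨P⟩ : Nonempty (Sylow 7 S) := inferInstance
  have hP7 := sylow_card_seven h15 P
  have hC7 := centralizer_card_seven h15 P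
  obtain ⟨e, he⟩ : ∃ e, e = (Subgroup.centralizer ((P : Subgroup S) : Set S)).relIndex
      (Subgroup.normalizer ((P : Subgroup S) : Set S)) := ⟨_, rfl⟩
  have he6 : e ∣ 6 := by
    have h1 := relIndex_centralizer_normalizer_dvd (P : Subgroup S)
    have hcyc : IsCyclic (P : Subgroup S) := isCyclic_of_prime_card hP7
    rw [IsCyclic.card_mulAut, hP7, Nat.totient_prime (by norm_num)] at h1
    rw [he]
    exact h1
  have hS : Nat.card S = 7 * (e * 15) := by
    have h1 := Subgroup.card_mul_index (Subgroup.centralizer ((P : Subgroup S) : Set S))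
    have h2 := Subgroup.relIndex_mul_index
      (Subgroup.centralizer_le_normalizer ((P : Subgroup S) : Set S))
    have h3 : Nat.card (Sylow 7 S) = (Subgroup.normalizer ((P : Subgroup S) : Set S)).index :=
      Sylow.card_eq_index_normalizer P
    rw [hC7, ← h2, ← h3, h15, ← he] at h1
    exact h1.symm
  have he_cases : e = 1 ∨ e = 2 ∨ e = 3 ∨ e = 6 := dvd_six_cases e he6
  rcases Nat.even_or_odd (Nat.card S) with hev | hodd
  · have h2 : Fact (Nat.Prime 2) := ⟨Nat.prime_two⟩
    obtain ⟨T⟩ : Nonempty (Sylow 2 S) := inferInstance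
    have hminFac : (Nat.card S).minFac = 2 := (Nat.minFac_eq_two_iff _).mpr hev.two_dvd
    have hT2 : Nat.card T = 2 := by
      obtain ⟨k, hk⟩ := T.2.exists_card_eq
      have hdvd : 2 ^ k ∣ Nat.card S := hk ▸ Subgroup.card_subgroup_dvd_card _
      have hne : (T : Subgroup S) ≠ ⊥ := T.ne_bot_of_dvd_card hev.two_dvd
      have hk1 : k ≠ 0 := by
        rintro rfl
        rw [pow_zero] at hk
        exact hne (Subgroup.card_eq_one.mp hk)
      have hk2 : k < 2 := by
        by_contra hge
        push Not at hge
        have h4 : 2 ^ 2 ∣ Nat.card S := (pow_dvd_pow 2 hge).trans hdvd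
        rw [hS] at h4
        rcases he_cases with h | h | h | h <;> rw [h] at h4 <;> omega
      have hk' : k = 1 := by omega
      rw [hk, hk', pow_one]
    have hcyc : IsCyclic (T : Subgroup S) := isCyclic_of_prime_card hT2
    exact not_simple_of_sylow_central 2 T (hcyc.normalizer_le_centralizer hminFac)
      (by rw [hT2]; norm_num) (by rw [hT2]; omega)
  · have h5 : Fact (Nat.Prime 5) := ⟨by norm_num⟩
    obtain ⟨Q⟩ : Nonempty (Sylow 5 S) := inferInstance
    have h5dvd : 5 ∣ Nat.card S := by
      rw [hS]
      exact ⟨7 * (e * 3), by ring⟩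
    have hQ5 : Nat.card Q = 5 := by
      obtain ⟨k, hk⟩ := Q.2.exists_card_eq
      have hdvd : 5 ^ k ∣ Nat.card S := hk ▸ Subgroup.card_subgroup_dvd_card _
      have hne : (Q : Subgroup S) ≠ ⊥ := Q.ne_bot_of_dvd_card h5dvd
      have hk1 : k ≠ 0 := by
        rintro rfl
        rw [pow_zero] at hk
        exact hne (Subgroup.card_eq_one.mp hk)
      have hk2 : k < 2 := by
        by_contra hge
        push Not at hge
        have h4 : 5 ^ 2 ∣ Nat.card S := (pow_dvd_pow 5 hge).trans hdvd
        rw [hS] at h4
        rcases he_cases with h | h | h | h <;> rw [h] at h4 <;> omega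
      have hk' : k = 1 := by omega
      rw [hk, hk', pow_one]
    have hcyc : IsCyclic (Q : Subgroup S) := isCyclic_of_prime_card hQ5
    have hrel := relIndex_centralizer_normalizer_dvd (Q : Subgroup S)
    rw [IsCyclic.card_mulAut, hQ5, Nat.totient_prime (by norm_num)] at hrel
    have hrel2 : (Subgroup.centralizer ((Q : Subgroup S) : Set S)).relIndex
        (Subgroup.normalizer ((Q : Subgroup S) : Set S)) ∣ Nat.card S :=
      (Subgroup.relIndex_dvd_card _ _).trans (Subgroup.card_subgroup_dvd_card _)
    have hcop : Nat.Coprime (5 - 1) (Nat.card S) := by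
      have h2 : Nat.Coprime 2 (Nat.card S) := Nat.coprime_two_left.mpr hodd
      have h4 : Nat.Coprime (2 ^ 2) (Nat.card S) := Nat.Coprime.pow_left 2 h2
      exact h4
    have hone := Nat.eq_one_of_dvd_coprimes hcop hrel hrel2
    exact not_simple_of_sylow_central 5 Q (Subgroup.relIndex_eq_one.mp hone)
      (by rw [hQ5]; norm_num) (by rw [hQ5]; omega)

end Final

end Cfsg.Agent.Lib.helper75
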