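import Mathlib
import Cfsg.Agent.Lib.helper75.Sylow15

/-!
General lemmas on the conjugation action of a finite (simple) group on its Sylow `p`-subgroups, mostly
for Sylow subgroups of prime order (helper75).

* `zpowers_eq_of_card_prime`, `sylow_free_of_card_prime`: a Sylow subgroup of order `p` acts freely on
  the other Sylow subgroups.
* `card_fixed_centralizer_modEq`: an element centralizing `P` fixes `≡ 1 (mod p)` Sylow subgroups.
* `involution_fixed_modEq_four`: in a simple group an involution fixes `≡ n_p (mod 4)` Sylow subgroups.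
* `inverts_of_involution`, `inverting_fixed_unique`, `inverting_card_fixed`: an involution normalizing
  but not centralizing `P` inverts it and has at most one fixed point in each `P`-orbit.
* `isCyclic_of_normalizing_faithful`: a subgroup normalizing `P` and meeting `C(P)` trivially is cyclic.
-/

set_option autoImplicit false

namespace Cfsg.Agent.Lib.helper75

open MulAction
open scoped Pointwise

section General

variable {S : Type*} [Group S] [Finite S] {p : ℕ} [Fact p.Prime]

omit [Finite S] in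
/-- A nonidentity element of a Sylow subgroup `P` of prime order generates `P`. -/
theorem zpowers_eq_of_card_prime (P : Sylow p S) (hP : Nat.card P = p) (x : S)
    (hx : x ∈ (P : Subgroup S)) (hx1 : x ≠ 1) : Subgroup.zpowers x = (P : Subgroup S) := by
  have hpp : p.Prime := Fact.out
  have hfin : Finite (P : Subgroup S) := Nat.finite_of_card_ne_zero (by rw [hP]; exact hpp.ne_zero)
  have hle : Subgroup.zpowers x ≤ (P : Subgroup S) := (Subgroup.zpowers_le).mpr hx
  apply Subgroup.eq_of_le_of_card_ge hle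
  rw [Nat.card_zpowers, hP]
  have hdvd : orderOf x ∣ p := by
    have h1 := Subgroup.card_dvd_of_le hle
    rwa [Nat.card_zpowers, hP] at h1
  rcases (Nat.dvd_prime hpp).mp hdvd with h | h
  · exact absurd (orderOf_eq_one_iff.mp h) hx1
  · exact h.ge

omit [Finite S] in
/-- A Sylow subgroup `P` of prime order acts freely on the other Sylow subgroups. -/
theorem sylow_free_of_card_prime (P Q : Sylow p S) (hP : Nat.card P = p) (hQ : Q ≠ P) (x : S)
    (hx : x ∈ (P : Subgroup S)) (hxQ : x • Q = Q) : x = 1 := by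
  by_contra hx1
  apply hQ
  rw [← sylow_fixed_iff]
  intro g hg
  rw [← zpowers_eq_of_card_prime P hP x hx hx1] at hg
  obtain ⟨k, rfl⟩ := Subgroup.mem_zpowers_iff.mp hg
  exact mem_stabilizer_iff.mp ((stabilizer S Q).zpow_mem (mem_stabilizer_iff.mpr hxQ) k)

/-- An element centralizing the Sylow subgroup `P` fixes `≡ 1 (mod p)` Sylow subgroups. -/
theorem card_fixed_centralizer_modEq (P : Sylow p S) (c : S)
    (hcC : c ∈ Subgroup.centralizer ((P : Subgroup S) : Set S)) :
    Nat.card {ω : Sylow p S // c • ω = ω} ≡ 1 [MOD p] := by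
  have hcP : c • P = P :=
    Sylow.smul_eq_iff_mem_normalizer.mpr (Subgroup.centralizer_le_normalizer _ hcC)
  let Fs : SubMulAction (P : Subgroup S) (Sylow p S) :=
    { carrier := {ω | c • ω = ω}
      smul_mem' := by
        intro g ω hω
        have hω' : c • ω = ω := hω
        show c • ((g : S) • ω) = (g : S) • ω
        rw [← mul_smul, ← (Subgroup.mem_centralizer_iff.mp hcC (g : S) g.2), mul_smul, hω'] }
  have hmod := P.2.card_modEq_card_fixedPoints Fs
  have hfix1 : Nat.card (fixedPoints (P : Subgroup S) Fs) = 1 := by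
    rw [Nat.card_eq_one_iff_unique]
    refine ⟨⟨?_⟩, ⟨⟨⟨P, hcP⟩, ?_⟩⟩⟩
    · rintro ⟨⟨a, ha⟩, ha'⟩ ⟨⟨b, hb⟩, hb'⟩
      have h1 : a = P := (sylow_fixed_iff P a).mp
        (fun g hg => congrArg Subtype.val (ha' ⟨g, hg⟩))
      have h2 : b = P := (sylow_fixed_iff P b).mp
        (fun g hg => congrArg Subtype.val (hb' ⟨g, hg⟩))
      exact Subtype.ext (Subtype.ext (h1.trans h2.symm))
    · intro g
      exact Subtype.ext
        (Sylow.smul_eq_iff_mem_normalizer.mpr (Subgroup.le_normalizer g.2))
  rw [hfix1] at hmod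
  have hFcard : Nat.card Fs = Nat.card {ω : Sylow p S // c • ω = ω} := rfl
  rw [hFcard] at hmod
  exact hmod

/-- In a simple group with more than one Sylow `p`-subgroup, an involution fixes `≡ n_p (mod 4)`
Sylow `p`-subgroups (it acts as an even permutation). -/
theorem involution_fixed_modEq_four [IsSimpleGroup S] (hn : Nat.card (Sylow p S) ≠ 1)
    (h3 : 2 < Nat.card S) (c : S) (hc : orderOf c = 2) :
    Nat.card {ω : Sylow p S // c • ω = ω} ≡ Nat.card (Sylow p S) [MOD 4] := by
  classical
  have : Fintype (Sylow p S) := Fintype.ofFinite _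
  have hinj : Function.Injective (MulAction.toPermHom S (Sylow p S)) := by
    rw [injective_iff_map_eq_one]
    intro s hs
    apply sylow_faithful (p := p) hn s
    intro R
    have := congrArg (fun σ : Equiv.Perm (Sylow p S) => σ R) hs
    exact this
  have hσo : orderOf (MulAction.toPerm c : Equiv.Perm (Sylow p S)) = 2 := by
    have := orderOf_injective (MulAction.toPermHom S (Sylow p S)) hinj c
    rw [hc] at this
    exact this
  have hpr : (orderOf (MulAction.toPerm c : Equiv.Perm (Sylow p S))).Prime := by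
    rw [hσo]; exact Nat.prime_two
  obtain ⟨j, hj⟩ := Equiv.Perm.cycleType_prime_order hpr
  have hsum := Equiv.Perm.sum_cycleType (MulAction.toPerm c : Equiv.Perm (Sylow p S))
  rw [hj, hσo, Multiset.sum_replicate, smul_eq_mul] at hsum
  have h1 := Equiv.Perm.card_fixedPoints (MulAction.toPerm c : Equiv.Perm (Sylow p S))
  rw [Equiv.Perm.sum_cycleType] at h1
  have h2 : Fintype.card (Function.fixedPoints (MulAction.toPerm c : Equiv.Perm (Sylow p S)))
      = Nat.card {ω : Sylow p S // c • ω = ω} := by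
    rw [← Nat.card_eq_fintype_card]
    rfl
  have h4 := Finset.card_le_univ (MulAction.toPerm c : Equiv.Perm (Sylow p S)).support
  rw [h2, ← Nat.card_eq_fintype_card] at h1
  rw [← Nat.card_eq_fintype_card] at h4
  have heven : Even (j + 1) := by
    by_contra hodd
    rw [Nat.not_even_iff_odd] at hodd
    have hs1 := sign_of_involution_card (MulAction.toPerm c : Equiv.Perm (Sylow p S)) (j + 1)
      hodd hσo (by rw [← hsum]; ring)
    have hs2 := sylow_sign_eq_one (p := p) h3 c
    rw [hs1] at hs2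
    exact absurd hs2 (by decide)
  obtain ⟨i, hi⟩ := heven
  unfold Nat.ModEq
  omega

omit [Finite S] in
/-- An involution normalizing but not centralizing a Sylow subgroup `P` of prime order inverts it. -/
theorem inverts_of_involution (P : Sylow p S) (hP : Nat.card P = p) (u : S) (hu2 : u * u = 1)
    (huN : u • P = P) (huC : u ∉ Subgroup.centralizer ((P : Subgroup S) : Set S)) :
    ∀ x ∈ (P : Subgroup S), u * x * u⁻¹ = x⁻¹ := by
  intro x hx
  have huN' : u ∈ Subgroup.normalizer ((P : Subgroup S) : Set S) :=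
    Sylow.smul_eq_iff_mem_normalizer.mp huN
  have hconj : u * x * u⁻¹ ∈ (P : Subgroup S) := (Subgroup.mem_normalizer_iff.mp huN' x).mp hx
  have hcyc : IsCyclic (P : Subgroup S) := isCyclic_of_prime_card hP
  have hcomm : ∀ a ∈ (P : Subgroup S), ∀ b ∈ (P : Subgroup S), a * b = b * a := by
    intro a ha b hb
    have := (inferInstance : IsMulCommutative (P : Subgroup S)).is_comm.comm ⟨a, ha⟩ ⟨b, hb⟩
    exact congrArg Subtype.val this
  have hu_inv : u⁻¹ = u := inv_eq_of_mul_eq_one_left hu2
  have hyP : x * (u * x * u⁻¹) ∈ (P : Subgroup S) := mul_mem hx hconj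
  have huy : u * (x * (u * x * u⁻¹)) = (x * (u * x * u⁻¹)) * u := by
    have h1 : u * (x * (u * x * u⁻¹)) = (u * x * u⁻¹) * (u * u) * x * u⁻¹ := by group
    rw [h1, hu2, mul_one, hcomm _ hconj _ hx, hu_inv]
  by_cases hy1 : x * (u * x * u⁻¹) = 1
  · exact eq_inv_of_mul_eq_one_right hy1
  · exfalso
    apply huC
    rw [Subgroup.mem_centralizer_iff]
    intro g hg
    rw [← zpowers_eq_of_card_prime P hP _ hyP hy1] at hg
    obtain ⟨k, rfl⟩ := Subgroup.mem_zpowers_iff.mp hg
    have hc : Commute u (x * (u * x * u⁻¹)) := huy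
    exact (hc.zpow_right k).eq.symm

omit [Finite S] in
/-- If `u` inverts the Sylow subgroup `P` of odd prime order and fixes `β ≠ P`, then `u` fixes no other
point of the `P`-orbit of `β`. -/
theorem inverting_fixed_unique (hp2 : p ≠ 2) (P : Sylow p S) (hP : Nat.card P = p) (u : S)
    (hinv : ∀ x ∈ (P : Subgroup S), u * x * u⁻¹ = x⁻¹)
    (β : Sylow p S) (hβ : u • β = β) (hβP : β ≠ P) (z : S) (hz : z ∈ (P : Subgroup S))
    (hzβ : u • (z • β) = z • β) : z = 1 := by
  have hpp : p.Prime := Fact.out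
  have hfin : Finite (P : Subgroup S) := Nat.finite_of_card_ne_zero (by rw [hP]; exact hpp.ne_zero)
  have h1 : u • (z • β) = z⁻¹ • β := by
    have : u * z = z⁻¹ * u := by rw [← hinv z hz]; group
    rw [← mul_smul, this, mul_smul, hβ]
  rw [h1] at hzβ
  have h2 : (z * z) • β = β := by
    rw [mul_smul, ← hzβ, smul_inv_smul]
  have h3 : z * z = 1 := sylow_free_of_card_prime P β hP hβP (z * z) (mul_mem hz hz) h2
  have h4 : orderOf z ∣ 2 := orderOf_dvd_of_pow_eq_one (by rw [pow_two]; exact h3)
  have h5 : orderOf z ∣ p := by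
    have h6 : orderOf (⟨z, hz⟩ : (P : Subgroup S)) ∣ Nat.card (P : Subgroup S) := orderOf_dvd_natCard _
    rwa [hP, Subgroup.orderOf_mk] at h6
  have h6 : orderOf z ∣ Nat.gcd 2 p := Nat.dvd_gcd h4 h5
  have hcop : Nat.gcd 2 p = 1 := (Nat.coprime_primes Nat.prime_two hpp).mpr (Ne.symm hp2)
  rw [hcop, Nat.dvd_one] at h6
  exact orderOf_eq_one_iff.mp h6

/-- If `u` inverts the Sylow subgroup `P` of odd prime order `p`, then `u` has at most
`1 + (n_p - 1) / p` fixed points; in case of equality every `P`-orbit contains a fixed point. -/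
theorem inverting_card_fixed (hp2 : p ≠ 2) (P : Sylow p S) (hP : Nat.card P = p) (u : S)
    (huP : u • P = P) (hinv : ∀ x ∈ (P : Subgroup S), u * x * u⁻¹ = x⁻¹) :
    (Nat.card {ω : Sylow p S // u • ω = ω} - 1) * p ≤ Nat.card (Sylow p S) - 1 ∧
    ((Nat.card {ω : Sylow p S // u • ω = ω} - 1) * p = Nat.card (Sylow p S) - 1 →
      ∀ ω : Sylow p S, ω ≠ P → ∃ β : Sylow p S, u • β = β ∧ β ≠ P ∧
        ∃ x ∈ (P : Subgroup S), ω = x • β) := by
  let F : Set (Sylow p S) := {ω | u • ω = ω}
  let A : Set (Sylow p S × S) := (F \ {P}) ×ˢ ((P : Subgroup S) : Set S)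
  let B : Set (Sylow p S) := Set.univ \ {P}
  let f : Sylow p S × S → Sylow p S := fun a => a.2 • a.1
  have hmaps : ∀ a ∈ A, f a ∈ B := by
    rintro ⟨β, x⟩ ⟨⟨-, hβP⟩, hx⟩
    refine ⟨trivial, ?_⟩
    intro h
    apply hβP
    have h' : x • β = P := h
    have h2 : β = x⁻¹ • P := eq_inv_smul_iff.mpr h'
    rw [h2]
    exact Sylow.smul_eq_iff_mem_normalizer.mpr
      (Subgroup.le_normalizer (inv_mem (show x ∈ (P : Subgroup S) from hx)))
  have hinj : Set.InjOn f A := by
    rintro ⟨β, x⟩ ⟨⟨hβ, hβP⟩, hx⟩ ⟨β', x'⟩ ⟨⟨hβ', hβP'⟩, hx'⟩ h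
    have hx0 : x ∈ (P : Subgroup S) := hx
    have hx0' : x' ∈ (P : Subgroup S) := hx'
    have hβ0 : u • β = β := hβ
    have hβ0' : u • β' = β' := hβ'
    have hβP0 : β ≠ P := hβP
    have h' : x • β = x' • β' := h
    have h2 : β' = (x'⁻¹ * x) • β := by
      rw [mul_smul, h', inv_smul_smul]
    have h3 : u • ((x'⁻¹ * x) • β) = (x'⁻¹ * x) • β := by rw [← h2]; exact hβ0'
    have h4 := inverting_fixed_unique hp2 P hP u hinv β hβ0 hβP0 (x'⁻¹ * x)
      (mul_mem (inv_mem hx0') hx0) h3
    have h5 : x = x' := by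
      have : x' * (x'⁻¹ * x) = x' * 1 := by rw [h4]
      rw [mul_inv_cancel_left, mul_one] at this
      exact this
    have h6 : β' = β := by rw [h2, h4, one_smul]
    exact Prod.ext h6.symm h5
  have hA : A.ncard = (Nat.card {ω : Sylow p S // u • ω = ω} - 1) * p := by
    have h1 : A.ncard = (F \ {P}).ncard * ((P : Subgroup S) : Set S).ncard := Set.ncard_prod
    have h2 : (F \ {P}).ncard = F.ncard - 1 := Set.ncard_sdiff_singleton_of_mem huP
    have h3 : F.ncard = Nat.card {ω : Sylow p S // u • ω = ω} := (Nat.card_coe_set_eq F).symm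
    have h4 : ((P : Subgroup S) : Set S).ncard = p := by
      rw [← Nat.card_coe_set_eq]; exact hP
    rw [h1, h2, h3, h4]
  have hB : B.ncard = Nat.card (Sylow p S) - 1 := by
    have h1 : B.ncard = (Set.univ : Set (Sylow p S)).ncard - 1 :=
      Set.ncard_sdiff_singleton_of_mem (Set.mem_univ P)
    rw [h1, Set.ncard_univ]
  constructor
  · rw [← hA, ← hB]
    exact Set.ncard_le_ncard_of_injOn f hmaps hinj (Set.toFinite _)
  · intro heq ω hω
    have himg : f '' A = B := by
      apply Set.eq_of_subset_of_ncard_le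
      · rintro _ ⟨a, ha, rfl⟩
        exact hmaps a ha
      · rw [hinj.ncard_image, hA, hB, heq]
      · exact Set.toFinite _
    have hωB : ω ∈ B := ⟨trivial, hω⟩
    rw [← himg] at hωB
    obtain ⟨⟨β, x⟩, ⟨⟨hβ, hβP⟩, hx⟩, rfl⟩ := hωB
    exact ⟨β, hβ, hβP, x, hx, rfl⟩

omit [Finite S] in
/-- A subgroup normalizing a Sylow subgroup `P` of prime order and meeting its centralizer trivially
is cyclic. -/
theorem isCyclic_of_normalizing_faithful (P : Sylow p S) (hP : Nat.card P = p) (T : Subgroup S)
    (hTN : T ≤ Subgroup.normalizer ((P : Subgroup S) : Set S))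
    (hTC : ∀ t ∈ T, t ∈ Subgroup.centralizer ((P : Subgroup S) : Set S) → t = 1) : IsCyclic T := by
  have hcyc : IsCyclic (P : Subgroup S) := isCyclic_of_prime_card hP
  have hfact : Fact (Nat.Prime (Nat.card (P : Subgroup S))) := ⟨by rw [hP]; exact Fact.out⟩
  have hcycA : IsCyclic (MulAut (P : Subgroup S)) :=
    isCyclic_of_injective (IsCyclic.mulAutMulEquiv (P : Subgroup S)).toMonoidHom
      (IsCyclic.mulAutMulEquiv (P : Subgroup S)).injective
  let ψ : T →* MulAut (P : Subgroup S) :=
    (Subgroup.normalizerMonoidHom (P : Subgroup S)).comp (Subgroup.inclusion hTN)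
  apply isCyclic_of_injective ψ
  rw [injective_iff_map_eq_one]
  intro t ht
  have h1 : Subgroup.inclusion hTN t ∈ (Subgroup.normalizerMonoidHom (P : Subgroup S)).ker :=
    MonoidHom.mem_ker.mpr ht
  rw [Subgroup.normalizerMonoidHom_ker, Subgroup.mem_subgroupOf] at h1
  have h2 := hTC (t : S) t.2 h1
  exact Subtype.ext h2

end General

end Cfsg.Agent.Lib.helper75
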