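import Mathlib
import Cfsg.Agent.Lib.helper75.Sylow15
import Cfsg.Agent.Lib.helper75.SylowPrime

/-!
Geometry of the conjugation action on Sylow subgroups (helper75).

* `orbCard P Q`: the size of the orbit of `Q` under `P`; `orbCard_mul`: it is `|P : P ∩ Q|`;
  symmetric, conjugation invariant, `= 1` iff `Q = P`.
* `sylow_le_normalizer_of_index`: a subgroup of index `p` of a Sylow `p`-subgroup is normalized by it.
* `inf_eq_of_mem_orbit`: if `|P : P ∩ Q| = p` then `P ∩ R = P ∩ Q` for all `R` in the `P`-orbit of `Q`.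
* `sylow_exists_smul_of_le`: Sylow subgroups contained in a subgroup `M` are conjugate under `M`.
* `orbit_card_mul_dvd`: `|orbit_M(ω)| · |U|` divides `|S|` for `U ≤ M` fixing `ω`.
* `fixed_eq_orbit_centralizer`: if `x` centralizes each Sylow subgroup it normalizes, its fixed
  points form one orbit of `C(x)`.
* `ncard_biUnion_orbit`: counting a disjoint union of orbits.
* `orbit_subset_zpowers`: an orbit of size `p` is the orbit of any element of `P` outside `Q`.
-/

set_option autoImplicit false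

namespace Cfsg.Agent.Lib.helper75

open MulAction
open scoped Pointwise

section SylGeom

variable {S : Type*} [Group S] [Finite S] {p : ℕ} [Fact p.Prime]

omit [Finite S] [Fact p.Prime] in
/-- An element `x` of the Sylow subgroup `P` normalizes `Q` iff it lies in `Q`. -/
theorem sylow_mem_smul_eq_iff (P Q : Sylow p S) (x : S) (hx : x ∈ (P : Subgroup S)) :
    x • Q = Q ↔ x ∈ (Q : Subgroup S) := by
  constructor
  · intro h'
    have h := P.2.inf_normalizer_sylow Q
    have hmem : x ∈ (P : Subgroup S) ⊓ Subgroup.normalizer ((Q : Subgroup S) : Set S) :=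
      ⟨hx, Sylow.smul_eq_iff_mem_normalizer.mp h'⟩
    have hmem2 : x ∈ (P : Subgroup S) ⊓ (Q : Subgroup S) := by
      rw [← h]
      exact hmem
    exact hmem2.2
  · intro h
    exact Sylow.smul_eq_iff_mem_normalizer.mpr (Subgroup.le_normalizer h)

omit [Finite S] [Fact p.Prime] in
theorem sylow_mem_smul_iff (g : S) (Q : Sylow p S) (y : S) :
    y ∈ ((g • Q : Sylow p S) : Subgroup S) ↔ g⁻¹ * y * g ∈ (Q : Subgroup S) := by
  rw [Sylow.coe_subgroup_smul, Subgroup.mem_pointwise_smul_iff_inv_smul_mem, MulAut.smul_def,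
    MulAut.conj_inv_apply]

/-- The size of the orbit of `Q` under the Sylow subgroup `P`. -/
noncomputable def orbCard (P Q : Sylow p S) : ℕ := (orbit (P : Subgroup S) Q).ncard

omit [Finite S] in
theorem orbCard_mul (P Q : Sylow p S) :
    orbCard P Q * Nat.card ((P : Subgroup S) ⊓ (Q : Subgroup S) : Subgroup S) = Nat.card P := by
  have h1 := Subgroup.card_mul_index (stabilizer (P : Subgroup S) Q)
  rw [MulAction.index_stabilizer] at h1
  have hst : stabilizer (P : Subgroup S) Q =
      ((P : Subgroup S) ⊓ (Q : Subgroup S)).subgroupOf (P : Subgroup S) := by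
    ext x
    rw [MulAction.mem_stabilizer_iff, Subgroup.mem_subgroupOf, Subgroup.mem_inf]
    constructor
    · intro h
      exact ⟨x.2, (sylow_mem_smul_eq_iff P Q x x.2).mp h⟩
    · intro h
      exact (sylow_mem_smul_eq_iff P Q x x.2).mpr h.2
  rw [hst, Nat.card_congr (Subgroup.subgroupOfEquivOfLe (inf_le_left :
    (P : Subgroup S) ⊓ (Q : Subgroup S) ≤ (P : Subgroup S))).toEquiv] at h1
  unfold orbCard
  rw [mul_comm]
  exact h1

theorem orbCard_pos (P Q : Sylow p S) : 0 < orbCard P Q := by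
  have h := orbCard_mul P Q
  have hP : 0 < Nat.card P := Nat.card_pos
  by_contra hcon
  have h0 : orbCard P Q = 0 := by omega
  rw [h0, zero_mul] at h
  omega

theorem orbCard_symm (P Q : Sylow p S) : orbCard P Q = orbCard Q P := by
  have h1 := orbCard_mul P Q
  have h2 := orbCard_mul Q P
  have hc : Nat.card P = Nat.card Q := by
    rw [P.card_eq_multiplicity, Q.card_eq_multiplicity]
  rw [inf_comm, ← hc, ← h1] at h2
  have hpos : 0 < Nat.card ((P : Subgroup S) ⊓ (Q : Subgroup S) : Subgroup S) := Nat.card_pos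
  exact (Nat.eq_of_mul_eq_mul_right hpos h2).symm

omit [Finite S] [Fact p.Prime] in
theorem orbCard_smul (g : S) (P Q : Sylow p S) : orbCard (g • P) (g • Q) = orbCard P Q := by
  unfold orbCard
  have himg : orbit ((g • P : Sylow p S) : Subgroup S) (g • Q) =
      (fun R : Sylow p S => g • R) '' orbit (P : Subgroup S) Q := by
    ext R
    constructor
    · rintro ⟨⟨x, hx⟩, rfl⟩
      rw [sylow_mem_smul_iff] at hx
      refine ⟨(g⁻¹ * x * g) • Q, ⟨⟨g⁻¹ * x * g, hx⟩, rfl⟩, ?_⟩
      show g • ((g⁻¹ * x * g) • Q) = x • (g • Q)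
      rw [← mul_smul, ← mul_smul]
      congr 1
      group
    · rintro ⟨R', ⟨⟨x, hx⟩, rfl⟩, rfl⟩
      have hx' : g * x * g⁻¹ ∈ ((g • P : Sylow p S) : Subgroup S) := by
        rw [sylow_mem_smul_iff]
        have : g⁻¹ * (g * x * g⁻¹) * g = x := by group
        rw [this]
        exact hx
      refine ⟨⟨g * x * g⁻¹, hx'⟩, ?_⟩
      show (g * x * g⁻¹) • (g • Q) = g • (x • Q)
      rw [← mul_smul, ← mul_smul]
      congr 1
      group
  rw [himg]
  exact Set.ncard_image_of_injective _ (MulAction.injective g)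

omit [Finite S] [Fact p.Prime] in
theorem orbCard_eq_one_iff [Finite (Sylow p S)] (P Q : Sylow p S) : orbCard P Q = 1 ↔ Q = P := by
  unfold orbCard
  constructor
  · intro h
    rw [Set.ncard_eq_one] at h
    obtain ⟨a, ha⟩ := h
    rw [← sylow_fixed_iff]
    intro x hx
    have h1 : Q ∈ orbit (P : Subgroup S) Q := mem_orbit_self Q
    have h2 : (⟨x, hx⟩ : (P : Subgroup S)) • Q ∈ orbit (P : Subgroup S) Q := mem_orbit Q _
    rw [ha] at h1 h2
    rw [Set.mem_singleton_iff] at h1 h2
    have h3 : x • Q = a := h2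
    rw [h3, h1]
  · intro h
    have h1 : orbit (P : Subgroup S) Q = {Q} := by
      ext R
      constructor
      · rintro ⟨⟨x, hx⟩, rfl⟩
        rw [Set.mem_singleton_iff]
        exact (sylow_fixed_iff P Q).mpr h x hx
      · intro hR
        rw [Set.mem_singleton_iff] at hR
        rw [hR]
        exact mem_orbit_self Q
    rw [h1, Set.ncard_singleton]

omit [Finite S] [Fact p.Prime] in
theorem orbCard_of_mem_orbit (P Q R : Sylow p S) (h : R ∈ orbit (P : Subgroup S) Q) :
    orbCard P R = orbCard P Q := by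
  unfold orbCard
  rw [MulAction.orbit_eq_iff.mpr h]

/-- A subgroup of index `p` in a Sylow `p`-subgroup is normalized by it. -/
theorem sylow_le_normalizer_of_index (R : Sylow p S) (D : Subgroup S) (hD : D ≤ (R : Subgroup S))
    (hcard : p * Nat.card D = Nat.card R) :
    (R : Subgroup S) ≤ Subgroup.normalizer (D : Set S) := by
  have hp : p.Prime := Fact.out
  have hidx : (D.subgroupOf (R : Subgroup S)).index = p := by
    have h1 := Subgroup.card_mul_index (D.subgroupOf (R : Subgroup S))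
    rw [Nat.card_congr (Subgroup.subgroupOfEquivOfLe hD).toEquiv, ← hcard] at h1
    have hpos : 0 < Nat.card D := Nat.card_pos
    have h2 : Nat.card D * (D.subgroupOf (R : Subgroup S)).index = Nat.card D * p := by
      rw [h1, mul_comm]
    exact Nat.eq_of_mul_eq_mul_left hpos h2
  have hmin : (Nat.card (R : Subgroup S)).minFac = p := by
    obtain ⟨n, hn⟩ := IsPGroup.iff_card.mp R.2
    have hn0 : n ≠ 0 := by
      rintro rfl
      rw [pow_zero] at hn
      have hp2 := hp.two_le
      have hpos : 0 < Nat.card D := Nat.card_pos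
      have : p * Nat.card D ≥ 2 := by nlinarith
      omega
    rw [hn]
    exact hp.pow_minFac hn0
  have hnorm : (D.subgroupOf (R : Subgroup S)).Normal :=
    Subgroup.normal_of_index_eq_minFac_card (by rw [hidx, hmin])
  have hconj : ∀ x ∈ (R : Subgroup S), ∀ y ∈ D, x * y * x⁻¹ ∈ D := by
    intro x hx y hy
    have h1 := hnorm.conj_mem ⟨y, hD hy⟩ (by rw [Subgroup.mem_subgroupOf]; exact hy) ⟨x, hx⟩
    rw [Subgroup.mem_subgroupOf] at h1
    exact h1
  intro x hx
  rw [Subgroup.mem_normalizer_iff]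
  intro y
  constructor
  · intro hy
    exact hconj x hx y hy
  · intro hy
    have h1 := hconj x⁻¹ (inv_mem hx) _ hy
    have h2 : x⁻¹ * (x * y * x⁻¹) * x⁻¹⁻¹ = y := by group
    rw [h2] at h1
    exact h1

/-- If `|P : P ∩ Q| = p`, then `P ∩ R = P ∩ Q` for every `R` in the `P`-orbit of `Q`. -/
theorem inf_eq_of_mem_orbit (P Q R : Sylow p S) (hPQ : orbCard P Q = p)
    (hR : R ∈ orbit (P : Subgroup S) Q) :
    (P : Subgroup S) ⊓ (R : Subgroup S) = (P : Subgroup S) ⊓ (Q : Subgroup S) := by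
  have hcard : p * Nat.card ((P : Subgroup S) ⊓ (Q : Subgroup S) : Subgroup S) = Nat.card P := by
    have h0 := orbCard_mul P Q
    rw [hPQ] at h0
    exact h0
  have hnorm := sylow_le_normalizer_of_index P _ inf_le_left hcard
  obtain ⟨⟨x, hx⟩, rfl⟩ := hR
  have hxn := hnorm hx
  rw [Subgroup.mem_normalizer_iff] at hxn
  ext y
  show y ∈ (P : Subgroup S) ⊓ ((x • Q : Sylow p S) : Subgroup S) ↔ _
  rw [Subgroup.mem_inf, Subgroup.mem_inf, sylow_mem_smul_iff]
  constructor
  · rintro ⟨hyP, hyQ⟩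
    have h1 : x⁻¹ * y * x ∈ (P : Subgroup S) ⊓ (Q : Subgroup S) :=
      ⟨Subgroup.mul_mem _ (Subgroup.mul_mem _ (Subgroup.inv_mem _ hx) hyP) hx, hyQ⟩
    have h2 := (hxn (x⁻¹ * y * x)).mp h1
    have h3 : x * (x⁻¹ * y * x) * x⁻¹ = y := by group
    rw [h3] at h2
    exact h2
  · rintro ⟨hyP, hyQ⟩
    refine ⟨hyP, ?_⟩
    have h1 : y ∈ (P : Subgroup S) ⊓ (Q : Subgroup S) := ⟨hyP, hyQ⟩
    have h2 : x * (x⁻¹ * y * x) * x⁻¹ ∈ (P : Subgroup S) ⊓ (Q : Subgroup S) := by
      have h3 : x * (x⁻¹ * y * x) * x⁻¹ = y := by group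
      rw [h3]
      exact h1
    exact ((hxn (x⁻¹ * y * x)).mpr h2).2

/-- Sylow subgroups contained in a subgroup `M` are conjugate under `M`. -/
theorem sylow_exists_smul_of_le (P R : Sylow p S) (M : Subgroup S) (hP : (P : Subgroup S) ≤ M)
    (hR : (R : Subgroup S) ≤ M) : ∃ m ∈ M, m • P = R := by
  obtain ⟨m, hm⟩ := MulAction.exists_smul_eq M (P.subtype hP) (R.subtype hR)
  rw [Sylow.smul_subtype] at hm
  exact ⟨m, m.2, Sylow.subtype_injective hm⟩

omit [Fact p.Prime] in
/-- `|orbit_M(ω)| · |U|` divides `|S|` when `U ≤ M` fixes `ω`. -/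
theorem orbit_card_mul_dvd {Ω : Type*} [MulAction S Ω] (M U : Subgroup S) (ω : Ω) (hUM : U ≤ M)
    (hU : ∀ u ∈ U, u • ω = ω) : (orbit M ω).ncard * Nat.card U ∣ Nat.card S := by
  have h1 := Subgroup.card_mul_index (stabilizer M ω)
  rw [MulAction.index_stabilizer] at h1
  have h2 : Nat.card U ∣ Nat.card (stabilizer M ω) := by
    have hle : U.subgroupOf M ≤ stabilizer M ω := by
      intro x hx
      rw [Subgroup.mem_subgroupOf] at hx
      rw [MulAction.mem_stabilizer_iff]
      exact hU x hx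
    have h3 := Subgroup.card_dvd_of_le hle
    rwa [Nat.card_congr (Subgroup.subgroupOfEquivOfLe hUM).toEquiv] at h3
  have h4 : (orbit M ω).ncard * Nat.card U ∣ Nat.card M := by
    rw [← h1, mul_comm]
    exact Nat.mul_dvd_mul_right h2 _
  exact h4.trans (Subgroup.card_subgroup_dvd_card M)

/-- If `x` centralizes every Sylow subgroup it normalizes, its fixed points form one orbit of
`C(x)`. -/
theorem fixed_eq_orbit_centralizer (x : S) (P : Sylow p S) (hP : x • P = P)
    (hcent : ∀ R : Sylow p S, x • R = R → ∀ y ∈ (R : Subgroup S), y * x = x * y) :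
    orbit (Subgroup.centralizer ({x} : Set S)) P = {R | x • R = R} := by
  ext R
  constructor
  · rintro ⟨⟨g, hg⟩, rfl⟩
    have hgx : x * g = g * x := Subgroup.mem_centralizer_iff.mp hg x rfl
    show x • (g • P) = g • P
    rw [← mul_smul, hgx, mul_smul, hP]
  · intro hR
    have hle : ∀ R' : Sylow p S, x • R' = R' →
        (R' : Subgroup S) ≤ Subgroup.centralizer ({x} : Set S) := by
      intro R' hR' y hy
      rw [Subgroup.mem_centralizer_iff]
      rintro _ rfl
      exact (hcent R' hR' y hy).symm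
    obtain ⟨m, hm, hmP⟩ := sylow_exists_smul_of_le P R _ (hle P hP) (hle R hR)
    exact ⟨⟨m, hm⟩, hmP⟩

omit [Finite S] [Fact p.Prime] in
/-- Counting a disjoint union of orbits of the same size. -/
theorem ncard_biUnion_orbit {Ω : Type*} [MulAction S Ω] [Finite Ω] (P : Subgroup S) (c : ℕ)
    (s : Finset Ω) (hc : ∀ Z ∈ s, (orbit P Z).ncard = c)
    (hdis : ∀ Z ∈ s, ∀ Z' ∈ s, Z' ∈ orbit P Z → Z = Z') :
    (⋃ Z ∈ s, orbit P Z).ncard = c * s.card := by
  classical
  induction s using Finset.induction_on with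
  | empty => simp
  | insert a s ha ih =>
    rw [Finset.set_biUnion_insert, Finset.card_insert_of_notMem ha]
    have hdisj : Disjoint (orbit P a) (⋃ Z ∈ s, orbit P Z) := by
      rw [Set.disjoint_left]
      intro w hwa hw
      simp only [Set.mem_iUnion] at hw
      obtain ⟨Z, hZ, hwZ⟩ := hw
      have e1 : orbit P w = orbit P a := MulAction.orbit_eq_iff.mpr hwa
      have e2 : orbit P w = orbit P Z := MulAction.orbit_eq_iff.mpr hwZ
      have hZa : Z ∈ orbit P a := by
        rw [← e1, e2]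
        exact mem_orbit_self Z
      have := hdis a (Finset.mem_insert_self a s) Z (Finset.mem_insert_of_mem hZ) hZa
      rw [this] at ha
      exact ha hZ
    rw [Set.ncard_union_eq hdisj (Set.toFinite _) (Set.toFinite _),
      ih (fun Z hZ => hc Z (Finset.mem_insert_of_mem hZ))
        (fun Z hZ Z' hZ' => hdis Z (Finset.mem_insert_of_mem hZ) Z' (Finset.mem_insert_of_mem hZ')),
      hc a (Finset.mem_insert_self a s)]
    ring

/-- An orbit of size `p` under `P` is the orbit of `⟨d⟩` for any `d ∈ P` not in `Q`. -/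
theorem orbit_subset_zpowers (P Q : Sylow p S) (hPQ : orbCard P Q = p) (d : S)
    (hd : d ∈ (P : Subgroup S)) (hdQ : d ∉ (Q : Subgroup S)) (R : Sylow p S)
    (hR : R ∈ orbit (P : Subgroup S) Q) : ∃ z ∈ Subgroup.zpowers d, R = z • Q := by
  have hp : p.Prime := Fact.out
  have hle : Subgroup.zpowers d ≤ (P : Subgroup S) := (Subgroup.zpowers_le).mpr hd
  have hsub : orbit (Subgroup.zpowers d) Q ⊆ orbit (P : Subgroup S) Q := by
    rintro _ ⟨⟨z, hz⟩, rfl⟩
    exact ⟨⟨z, hle hz⟩, rfl⟩
  have hdvd : (orbit (Subgroup.zpowers d) Q).ncard ∣ Nat.card P := by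
    have h1 := Subgroup.card_mul_index (stabilizer (Subgroup.zpowers d) Q)
    rw [MulAction.index_stabilizer] at h1
    have h2 : (orbit (Subgroup.zpowers d) Q).ncard ∣ Nat.card (Subgroup.zpowers d) :=
      Dvd.intro_left _ h1
    exact h2.trans (Subgroup.card_dvd_of_le hle)
  obtain ⟨n, hn⟩ := IsPGroup.iff_card.mp P.2
  rw [hn] at hdvd
  obtain ⟨j, -, hj⟩ := (Nat.dvd_prime_pow hp).mp hdvd
  have hne1 : (orbit (Subgroup.zpowers d) Q).ncard ≠ 1 := by
    intro h1
    rw [Set.ncard_eq_one] at h1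
    obtain ⟨a, ha⟩ := h1
    have h2 : Q ∈ orbit (Subgroup.zpowers d) Q := mem_orbit_self Q
    have h3 : (⟨d, Subgroup.mem_zpowers d⟩ : Subgroup.zpowers d) • Q ∈
        orbit (Subgroup.zpowers d) Q := mem_orbit Q _
    rw [ha, Set.mem_singleton_iff] at h2 h3
    have h4 : d • Q = a := h3
    rw [← h2] at h4
    exact hdQ ((sylow_mem_smul_eq_iff P Q d hd).mp h4)
  have hlep : (orbit (Subgroup.zpowers d) Q).ncard ≤ p := by
    have := Set.ncard_le_ncard hsub (Set.toFinite _)
    unfold orbCard at hPQ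
    rwa [hPQ] at this
  have hj1 : j = 1 := by
    rw [hj] at hne1 hlep
    have hj0 : j ≠ 0 := by
      rintro rfl
      exact hne1 (pow_zero p)
    by_contra hj1
    have hj2 : 2 ≤ j := by omega
    have h1 : p ^ 2 ≤ p ^ j := Nat.pow_le_pow_right hp.pos hj2
    have h2 := hp.two_le
    nlinarith
  have heq : orbit (Subgroup.zpowers d) Q = orbit (P : Subgroup S) Q := by
    apply Set.eq_of_subset_of_ncard_le hsub _ (Set.toFinite _)
    unfold orbCard at hPQ
    rw [hPQ, hj, hj1, pow_one]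
  rw [← heq] at hR
  obtain ⟨⟨z, hz⟩, rfl⟩ := hR
  exact ⟨z, hz, rfl⟩

omit [Finite S] [Fact p.Prime] in
/-- `P` is not in the `P`-orbit of another Sylow subgroup. -/
theorem self_not_mem_orbit (P Q : Sylow p S) (hQ : Q ≠ P) : P ∉ orbit (P : Subgroup S) Q := by
  rintro ⟨g, hg⟩
  apply hQ
  have h' : (g : S) • Q = P := hg
  have h2 : Q = (g : S)⁻¹ • P := eq_inv_smul_iff.mpr h'
  rw [h2]
  exact Sylow.smul_eq_iff_mem_normalizer.mpr (Subgroup.le_normalizer (inv_mem g.2))

omit [Finite S] [Fact p.Prime] in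
/-- If all orbits of `M` in an invariant set `A` have size `c`, then `c` divides `|A|`. -/
theorem dvd_ncard_of_orbit_ncard {Ω : Type*} [MulAction S Ω] [Finite Ω] (M : Subgroup S) (c : ℕ) :
    ∀ (n : ℕ) (A : Set Ω), (∀ g ∈ M, ∀ a ∈ A, g • a ∈ A) → (∀ a ∈ A, (orbit M a).ncard = c) →
      A.ncard = n → c ∣ n := by
  intro n
  induction n using Nat.strong_induction_on with
  | _ n ih =>
    intro A hinv hc hn
    by_cases hA : A = ∅
    · subst hA
      rw [Set.ncard_empty] at hn
      rw [← hn]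
      exact dvd_zero c
    · obtain ⟨a, ha⟩ := Set.nonempty_iff_ne_empty.mpr hA
      have hsub : orbit M a ⊆ A := by
        rintro _ ⟨g, rfl⟩
        exact hinv g g.2 a ha
      have hsplit := Set.ncard_sdiff_add_ncard_of_subset hsub (Set.toFinite A)
      rw [hc a ha] at hsplit
      have hcpos : 0 < c := by
        rw [← hc a ha]
        exact (Set.ncard_pos (Set.toFinite _)).mpr ⟨a, mem_orbit_self a⟩
      have hlt : (A \ orbit M a).ncard < n := by omega
      have h1 := ih _ hlt (A \ orbit M a) (by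
        intro g hg x hx
        refine ⟨hinv g hg x hx.1, ?_⟩
        intro hgx
        apply hx.2
        have e1 : orbit M ((⟨g, hg⟩ : M) • x) = orbit M a := MulAction.orbit_eq_iff.mpr hgx
        rw [MulAction.orbit_smul] at e1
        rw [← e1]
        exact mem_orbit_self x) (fun x hx => hc x hx.1) rfl
      rw [← hn, ← hsplit]
      exact Dvd.dvd.add h1 (dvd_refl c)

omit [Finite S] [Fact p.Prime] in
/-- If `g` normalizes `P` and `P ∩ gQg⁻¹ = P ∩ Q` then `g` normalizes `P ∩ Q`. -/
theorem mem_normalizer_inf (g : S) (P Q : Sylow p S) (hgP : g • P = P)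
    (h : (P : Subgroup S) ⊓ ((g • Q : Sylow p S) : Subgroup S) =
      (P : Subgroup S) ⊓ (Q : Subgroup S)) :
    g ∈ Subgroup.normalizer ((((P : Subgroup S) ⊓ (Q : Subgroup S)) : Subgroup S) : Set S) := by
  have hgN : g ∈ Subgroup.normalizer ((P : Subgroup S) : Set S) :=
    Sylow.smul_eq_iff_mem_normalizer.mp hgP
  rw [Subgroup.mem_normalizer_iff]
  intro y
  have key : g * y * g⁻¹ ∈ (P : Subgroup S) ⊓ (Q : Subgroup S) ↔
      (y ∈ (P : Subgroup S) ∧ y ∈ (Q : Subgroup S)) := by
    rw [← h, Subgroup.mem_inf, sylow_mem_smul_iff]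
    have e : g⁻¹ * (g * y * g⁻¹) * g = y := by group
    rw [e, ← (Subgroup.mem_normalizer_iff.mp hgN y)]
  rw [key, Subgroup.mem_inf]

omit [Finite S] [Fact p.Prime] in
/-- Conjugating by an element normalizing `P` preserves equality of intersections with `P`. -/
theorem inf_smul_congr (g : S) (P Q Q' : Sylow p S) (hgP : g • P = P)
    (h : (P : Subgroup S) ⊓ (Q : Subgroup S) = (P : Subgroup S) ⊓ (Q' : Subgroup S)) :
    (P : Subgroup S) ⊓ ((g • Q : Sylow p S) : Subgroup S) =
      (P : Subgroup S) ⊓ ((g • Q' : Sylow p S) : Subgroup S) := by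
  have hgN : g⁻¹ ∈ Subgroup.normalizer ((P : Subgroup S) : Set S) :=
    inv_mem (Sylow.smul_eq_iff_mem_normalizer.mp hgP)
  have key : ∀ (R : Sylow p S) (y : S),
      y ∈ (P : Subgroup S) ⊓ ((g • R : Sylow p S) : Subgroup S) ↔
        g⁻¹ * y * g ∈ (P : Subgroup S) ⊓ (R : Subgroup S) := by
    intro R y
    rw [Subgroup.mem_inf, Subgroup.mem_inf, sylow_mem_smul_iff]
    have h1 := Subgroup.mem_normalizer_iff.mp hgN y
    rw [inv_inv] at h1
    rw [h1]
  ext y
  rw [key Q y, key Q' y, h]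

/-- The Sylow subgroups containing a subgroup `D` of index `p` in `P` form the `N(D)`-orbit of
`P`. -/
theorem line_eq_orbit (D : Subgroup S) (P : Sylow p S) (hD : D ≤ (P : Subgroup S))
    (hcard : p * Nat.card D = Nat.card P) :
    orbit (Subgroup.normalizer (D : Set S)) P = {R : Sylow p S | D ≤ (R : Subgroup S)} := by
  ext R
  constructor
  · rintro ⟨⟨g, hg⟩, rfl⟩
    intro y hy
    show y ∈ ((g • P : Sylow p S) : Subgroup S)
    rw [sylow_mem_smul_iff]
    have h1 := (Subgroup.mem_normalizer_iff.mp (inv_mem hg) y).mp hy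
    rw [inv_inv] at h1
    exact hD h1
  · intro hR
    have hR' : D ≤ (R : Subgroup S) := hR
    have hcardR : p * Nat.card D = Nat.card R := by
      rw [hcard, P.card_eq_multiplicity, R.card_eq_multiplicity]
    obtain ⟨m, hm, hmP⟩ := sylow_exists_smul_of_le P R _
      (sylow_le_normalizer_of_index P D hD hcard) (sylow_le_normalizer_of_index R D hR' hcardR)
    exact ⟨⟨m, hm⟩, hmP⟩

/-- The orbit of a Sylow subgroup `P ≤ M` under `M` has size `≡ 1 (mod p)`. -/
theorem orbit_ncard_modEq_one (M : Subgroup S) (P : Sylow p S) (hP : (P : Subgroup S) ≤ M) :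
    (orbit M P).ncard ≡ 1 [MOD p] := by
  have h1 : (stabilizer M (P.subtype hP)).index = Nat.card (Sylow p M) :=
    MulAction.index_stabilizer_of_transitive M (P.subtype hP)
  have h2 : stabilizer M (P.subtype hP) = stabilizer M P := by
    ext m
    rw [MulAction.mem_stabilizer_iff, MulAction.mem_stabilizer_iff, Sylow.smul_subtype]
    constructor
    · intro h
      exact Sylow.subtype_injective h
    · intro h
      apply Sylow.ext
      have h3 : (((m • P : Sylow p S).subtype (Sylow.smul_le hP m) : Sylow p M) : Subgroup M) =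
          ((m • P : Sylow p S) : Subgroup S).subgroupOf M := rfl
      have h4 : ((P.subtype hP : Sylow p M) : Subgroup M) = (P : Subgroup S).subgroupOf M := rfl
      rw [h3, h4, h]
  rw [← MulAction.index_stabilizer, ← h2, h1]
  exact card_sylow_modEq_one p M

/-- If `D` has index `p` in `P` and `D ≤ Z ≠ P`, then `|P : P ∩ Z| = p` and `P ∩ Z = D`. -/
theorem orbCard_eq_of_le (P Z : Sylow p S) (D : Subgroup S) (hDP : D ≤ (P : Subgroup S))
    (hDZ : D ≤ (Z : Subgroup S)) (hcard : p * Nat.card D = Nat.card P) (hne : Z ≠ P) :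
    orbCard P Z = p ∧ (P : Subgroup S) ⊓ (Z : Subgroup S) = D := by
  have hp : p.Prime := Fact.out
  have hle : D ≤ (P : Subgroup S) ⊓ (Z : Subgroup S) := le_inf hDP hDZ
  obtain ⟨j, hj⟩ := Subgroup.card_dvd_of_le hle
  have h0 := orbCard_mul P Z
  rw [hj, ← hcard] at h0
  have hDpos : 0 < Nat.card D := Nat.card_pos
  have h1 : orbCard P Z * j = p := by
    have h2 : Nat.card D * (orbCard P Z * j) = Nat.card D * p := by
      rw [mul_comm (Nat.card D) p, ← h0]
      ring
    exact Nat.eq_of_mul_eq_mul_left hDpos h2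
  have hdvd : orbCard P Z ∣ p := Dvd.intro _ h1
  rcases (Nat.dvd_prime hp).mp hdvd with h | h
  · exact absurd ((orbCard_eq_one_iff P Z).mp h) hne
  · refine ⟨h, ?_⟩
    rw [h] at h1
    have hj1 : j = 1 := by
      have h3 : p * j = p * 1 := by rw [h1, mul_one]
      exact Nat.eq_of_mul_eq_mul_left hp.pos h3
    rw [hj1, mul_one] at hj
    exact (Subgroup.eq_of_le_of_card_ge hle (le_of_eq hj)).symm

/-- In a simple group with more than one Sylow `p`-subgroup, a subgroup contained in all of them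
is trivial. -/
theorem sylow_core_trivial [IsSimpleGroup S] (hn : Nat.card (Sylow p S) ≠ 1) (D : Subgroup S)
    (hD : ∀ R : Sylow p S, D ≤ (R : Subgroup S)) : D = ⊥ := by
  obtain ⟨P⟩ : Nonempty (Sylow p S) := inferInstance
  have hDK : D ≤ (P : Subgroup S).normalCore := by
    intro d hd b
    have h1 : d ∈ ((b⁻¹ • P : Sylow p S) : Subgroup S) := hD _ hd
    rw [sylow_mem_smul_iff, inv_inv] at h1
    exact h1
  rcases Subgroup.Normal.eq_bot_or_eq_top
    (inferInstance : ((P : Subgroup S).normalCore).Normal) with h | h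
  · rw [h] at hDK
    exact le_bot_iff.mp hDK
  · exfalso
    apply hn
    have hPtop : (P : Subgroup S) = ⊤ := top_le_iff.mp (h ▸ Subgroup.normalCore_le _)
    rw [Nat.card_eq_one_iff_unique]
    refine ⟨⟨fun Q R => ?_⟩, ⟨P⟩⟩
    have hQ : (P : Subgroup S) = Q := Q.3 P.2 (by rw [hPtop]; exact le_top)
    have hR : (P : Subgroup S) = R := R.3 P.2 (by rw [hPtop]; exact le_top)
    exact Sylow.ext (hQ.symm.trans hR)

/-- Points `Z` with `|P : P ∩ Z| = p` and pairwise distinct `P ∩ Z` lie in distinct `P`-orbits of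
size `p`; in case of equality these orbits cover all such points. -/
theorem orbit_union_le (P : Sylow p S) (s : Finset (Sylow p S)) (hs : ∀ Z ∈ s, orbCard P Z = p)
    (hinj : ∀ Z ∈ s, ∀ Z' ∈ s, (P : Subgroup S) ⊓ (Z : Subgroup S) =
      (P : Subgroup S) ⊓ (Z' : Subgroup S) → Z = Z') :
    p * s.card ≤ {Q : Sylow p S | orbCard P Q = p}.ncard ∧
    (p * s.card = {Q : Sylow p S | orbCard P Q = p}.ncard →
      ∀ Q : Sylow p S, orbCard P Q = p → ∃ Z ∈ s, Q ∈ orbit (P : Subgroup S) Z) := by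
  have hU : (⋃ Z ∈ s, orbit (P : Subgroup S) Z).ncard = p * s.card :=
    ncard_biUnion_orbit (P : Subgroup S) p s (fun Z hZ => hs Z hZ) (fun Z hZ Z' hZ' hmem =>
      hinj Z hZ Z' hZ' (inf_eq_of_mem_orbit P Z Z' (hs Z hZ) hmem).symm)
  have hsub : (⋃ Z ∈ s, orbit (P : Subgroup S) Z) ⊆ {Q : Sylow p S | orbCard P Q = p} := by
    intro Q hQ
    simp only [Set.mem_iUnion] at hQ
    obtain ⟨Z, hZ, hQZ⟩ := hQ
    show orbCard P Q = p
    rw [orbCard_of_mem_orbit P Z Q hQZ]
    exact hs Z hZ
  constructor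
  · rw [← hU]
    exact Set.ncard_le_ncard hsub (Set.toFinite _)
  · intro heq Q hQ
    have heq2 : (⋃ Z ∈ s, orbit (P : Subgroup S) Z) = {Q : Sylow p S | orbCard P Q = p} :=
      Set.eq_of_subset_of_ncard_le hsub (by rw [hU, heq]) (Set.toFinite _)
    have hQ' : Q ∈ (⋃ Z ∈ s, orbit (P : Subgroup S) Z) := by rw [heq2]; exact hQ
    simp only [Set.mem_iUnion] at hQ'
    obtain ⟨Z, hZ, hQZ⟩ := hQ'
    exact ⟨Z, hZ, hQZ⟩

/-- The Sylow subgroups `Q` with `|P : P ∩ Q| = c`. -/
def sylNbr (c : ℕ) (P : Sylow p S) : Set (Sylow p S) := {Q | orbCard P Q = c}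

omit [Finite S] [Fact p.Prime] in
theorem sylNbr_smul (c : ℕ) (g : S) (P : Sylow p S) :
    sylNbr c (g • P) = (fun R : Sylow p S => g • R) '' sylNbr c P := by
  ext Q
  constructor
  · intro hQ
    refine ⟨g⁻¹ • Q, ?_, smul_inv_smul g Q⟩
    show orbCard P (g⁻¹ • Q) = c
    have h1 := orbCard_smul g P (g⁻¹ • Q)
    rw [smul_inv_smul] at h1
    rw [← h1]
    exact hQ
  · rintro ⟨Q', hQ', rfl⟩
    show orbCard (g • P) (g • Q') = c
    rw [orbCard_smul]
    exact hQ'

omit [Finite S] [Fact p.Prime] in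
theorem sylNbr_ncard_smul (c : ℕ) (g : S) (P : Sylow p S) :
    (sylNbr c (g • P)).ncard = (sylNbr c P).ncard := by
  rw [sylNbr_smul]
  exact Set.ncard_image_of_injective _ (MulAction.injective g)

theorem sylNbr_ncard_eq (c : ℕ) (P Q : Sylow p S) : (sylNbr c P).ncard = (sylNbr c Q).ncard := by
  obtain ⟨g, rfl⟩ := MulAction.exists_smul_eq S P Q
  exact (sylNbr_ncard_smul c g P).symm

omit [Finite S] [Fact p.Prime] in
theorem sylNbr_invariant (c : ℕ) (g : S) (P : Sylow p S) (hg : g • P = P) (Q : Sylow p S)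
    (hQ : Q ∈ sylNbr c P) : g • Q ∈ sylNbr c P := by
  show orbCard P (g • Q) = c
  have h1 := orbCard_smul g P Q
  rw [hg] at h1
  rw [h1]
  exact hQ

theorem dvd_sylNbr_ncard (c : ℕ) (P : Sylow p S) : c ∣ (sylNbr c P).ncard := by
  apply dvd_ncard_of_orbit_ncard (P : Subgroup S) c _ (sylNbr c P) _ _ rfl
  · intro g hg Q hQ
    exact sylNbr_invariant c g P
      (Sylow.smul_eq_iff_mem_normalizer.mpr (Subgroup.le_normalizer hg)) Q hQ
  · intro Q hQ
    exact hQ

omit [Finite S] in
/-- Fixed points of `x` which are also fixed by a commuting element `w` of prime order `r`. -/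
theorem card_fixed_commuting_modEq {Ω : Type*} [MulAction S Ω] [Finite Ω] (x w : S) (r : ℕ)
    [Fact r.Prime] (hw : orderOf w = r) (hcomm : w * x = x * w) :
    Nat.card {ω : Ω // x • ω = ω} ≡ Nat.card {ω : Ω // x • ω = ω ∧ w • ω = ω} [MOD r] := by
  have hP : IsPGroup r (Subgroup.zpowers w) :=
    IsPGroup.of_card (n := 1) (by rw [Nat.card_zpowers, hw, pow_one])
  let Fs : SubMulAction (Subgroup.zpowers w) Ω :=
    { carrier := {ω | x • ω = ω}
      smul_mem' := by
        rintro ⟨g, hg⟩ ω hω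
        have hω' : x • ω = ω := hω
        show x • (g • ω) = g • ω
        have hgx : x * g = g * x := by
          obtain ⟨k, rfl⟩ := Subgroup.mem_zpowers_iff.mp hg
          exact ((show Commute w x from hcomm).zpow_left k).eq.symm
        rw [← mul_smul, hgx, mul_smul, hω'] }
  have hmod := hP.card_modEq_card_fixedPoints Fs
  have e : Nat.card (fixedPoints (Subgroup.zpowers w) Fs) =
      Nat.card {ω : Ω // x • ω = ω ∧ w • ω = ω} := by
    apply Nat.card_congr
    refine ⟨fun a => ⟨a.1.1, a.1.2, ?_⟩, fun b => ⟨⟨b.1, b.2.1⟩, ?_⟩, ?_, ?_⟩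
    · have h1 := a.2 ⟨w, Subgroup.mem_zpowers w⟩
      exact congrArg Subtype.val h1
    · rintro ⟨g, hg⟩
      apply Subtype.ext
      show g • b.1 = b.1
      exact mem_stabilizer_iff.mp
        ((Subgroup.zpowers_le (H := stabilizer S b.1)).mpr (mem_stabilizer_iff.mpr b.2.2) hg)
    · intro a
      rfl
    · intro b
      rfl
  have hFcard : Nat.card Fs = Nat.card {ω : Ω // x • ω = ω} := rfl
  rw [e, hFcard] at hmod
  exact hmod

end SylGeom

end Cfsg.Agent.Lib.helper75
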