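import Mathlib
import Cfsg.Agent.Lib.helper75.SylGeom

/-!
Tools for excluding orders of finite simple groups (helper75).

* `sylow_setup`: for `|S| = p m`, `p ∤ m`: the Sylow `p`-subgroups have order `p`, `n_p ≠ 1`,
  `n_p ≡ 1 (mod p)`, `|N(P)| = p k` with `n_p k = m`, and `|N(P)| = |C(P)| e` with `1 ≠ e ∣ p - 1`
  (Burnside transfer).
* `card_dvd_factorial_sylow`, `card_dvd_factorial_index`: a simple group embeds in `Sym(n)`.
* `fixed_unique_of_orderOf_prime`: an element of order `p` fixes exactly one Sylow subgroup.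
* `sylow_involution_counts`: fixed points of an involution centralizing `P`.
* `involution_centralizer_card`: if an involution `t ∈ C(P)` has many fixed points, `C(t)` is
  transitive on them: `|C(t)| = f s` with `s ∣ |N(P)|`.
* `exists_central_involution`: an involution in the centre of a Sylow 2-subgroup of a subgroup.
* `coset_faithful`, `commuting_counts`: congruences for the fixed points of a commuting pair
  (involution, element of prime order) in a faithful action.
-/

set_option autoImplicit false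

namespace Cfsg.Agent.Lib.helper75

open MulAction
open scoped Pointwise

section Faithful

variable {S : Type*} [Group S] [Finite S]

omit [Finite S] in
/-- In a simple group of order `> 2`, every element acts as an even permutation. -/
theorem sign_eq_one_of_simple [IsSimpleGroup S] {Ω : Type*} [MulAction S Ω] [Fintype Ω]
    [DecidableEq Ω] (h3 : 2 < Nat.card S) (s : S) :
    Equiv.Perm.sign (MulAction.toPerm s : Equiv.Perm Ω) = 1 := by
  let sgn : S →* ℤˣ := Equiv.Perm.sign.comp (MulAction.toPermHom S Ω)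
  rcases Subgroup.Normal.eq_bot_or_eq_top (inferInstance : sgn.ker.Normal) with h | h
  · exfalso
    have hinj : Function.Injective sgn := (MonoidHom.ker_eq_bot_iff sgn).mp h
    have h1 := Nat.card_le_card_of_injective sgn hinj
    have h2 : Nat.card ℤˣ = 2 := by
      rw [Nat.card_eq_fintype_card]
      rfl
    omega
  · have h1 : s ∈ sgn.ker := by
      rw [h]
      trivial
    exact MonoidHom.mem_ker.mp h1

omit [Finite S] in
/-- In a faithful action of a simple group, an involution fixes `≡ |Ω| (mod 4)` points. -/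
theorem involution_fixed_modEq_four_of_faithful [IsSimpleGroup S] {Ω : Type*} [MulAction S Ω]
    [Finite Ω] (hfaith : ∀ s : S, (∀ ω : Ω, s • ω = ω) → s = 1) (h3 : 2 < Nat.card S) (c : S)
    (hc : orderOf c = 2) : Nat.card {ω : Ω // c • ω = ω} ≡ Nat.card Ω [MOD 4] := by
  classical
  have : Fintype Ω := Fintype.ofFinite _
  have hinj : Function.Injective (MulAction.toPermHom S Ω) := by
    rw [injective_iff_map_eq_one]
    intro s hs
    apply hfaith s
    intro R
    exact congrArg (fun σ : Equiv.Perm Ω => σ R) hs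
  have hσo : orderOf (MulAction.toPerm c : Equiv.Perm Ω) = 2 := by
    have h1 := orderOf_injective (MulAction.toPermHom S Ω) hinj c
    rw [hc] at h1
    exact h1
  have hpr : (orderOf (MulAction.toPerm c : Equiv.Perm Ω)).Prime := by
    rw [hσo]
    exact Nat.prime_two
  obtain ⟨j, hj⟩ := Equiv.Perm.cycleType_prime_order hpr
  have hsum := Equiv.Perm.sum_cycleType (MulAction.toPerm c : Equiv.Perm Ω)
  rw [hj, hσo, Multiset.sum_replicate, smul_eq_mul] at hsum
  have h1 := Equiv.Perm.card_fixedPoints (MulAction.toPerm c : Equiv.Perm Ω)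
  rw [Equiv.Perm.sum_cycleType] at h1
  have h2 : Fintype.card (Function.fixedPoints (MulAction.toPerm c : Equiv.Perm Ω))
      = Nat.card {ω : Ω // c • ω = ω} := by
    rw [← Nat.card_eq_fintype_card]
    rfl
  have h4 := Finset.card_le_univ (MulAction.toPerm c : Equiv.Perm Ω).support
  rw [h2, ← Nat.card_eq_fintype_card] at h1
  rw [← Nat.card_eq_fintype_card] at h4
  have heven : Even (j + 1) := by
    by_contra hodd
    rw [Nat.not_even_iff_odd] at hodd
    have hs1 := sign_of_involution_card (MulAction.toPerm c : Equiv.Perm Ω) (j + 1)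
      hodd hσo (by rw [← hsum]; ring)
    have hs2 := sign_eq_one_of_simple (Ω := Ω) h3 c
    rw [hs1] at hs2
    exact absurd hs2 (by decide)
  obtain ⟨i, hi⟩ := heven
  unfold Nat.ModEq
  omega

omit [Finite S] in
theorem fixed_lt_of_faithful {Ω : Type*} [MulAction S Ω] [Finite Ω]
    (hfaith : ∀ s : S, (∀ ω : Ω, s • ω = ω) → s = 1) (x : S) (hx : x ≠ 1) :
    Nat.card {ω : Ω // x • ω = ω} < Nat.card Ω := by
  by_contra hcon
  apply hx
  apply hfaith x
  intro R
  by_contra hR
  have hlt := Finite.card_subtype_lt (p := fun ω : Ω => x • ω = ω) hR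
  omega

omit [Finite S] in
/-- A simple group acts faithfully on the cosets of a proper subgroup. -/
theorem coset_faithful [IsSimpleGroup S] (H : Subgroup S) (hH : H ≠ ⊤) (s : S)
    (hs : ∀ ω : S ⧸ H, s • ω = ω) : s = 1 := by
  have hmem : s ∈ H.normalCore := by
    intro b
    have h1 := hs ((b⁻¹ : S) : S ⧸ H)
    have h2 : s • ((b⁻¹ : S) : S ⧸ H) = ((s * b⁻¹ : S) : S ⧸ H) := rfl
    rw [h2, QuotientGroup.eq] at h1
    have h3 : b * s * b⁻¹ = ((s * b⁻¹)⁻¹ * b⁻¹)⁻¹ := by group
    rw [h3]
    exact inv_mem h1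
  rcases Subgroup.Normal.eq_bot_or_eq_top (inferInstance : H.normalCore.Normal) with h | h
  · rw [h, Subgroup.mem_bot] at hmem
    exact hmem
  · exact absurd (top_le_iff.mp (h ▸ H.normalCore_le)) hH

omit [Finite S] in
theorem coset_base_fixed (H : Subgroup S) (h : S) (hh : h ∈ H) :
    h • ((1 : S) : S ⧸ H) = ((1 : S) : S ⧸ H) := by
  have h2 : h • ((1 : S) : S ⧸ H) = ((h * 1 : S) : S ⧸ H) := rfl
  rw [h2, mul_one, QuotientGroup.eq, mul_one]
  exact inv_mem hh

omit [Finite S] in
/-- A simple group embeds into the symmetric group on the cosets of a proper subgroup. -/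
theorem card_dvd_factorial_index [IsSimpleGroup S] (H : Subgroup S) (hH : H ≠ ⊤)
    [Finite (S ⧸ H)] : Nat.card S ∣ (H.index).factorial := by
  have hinj : Function.Injective (MulAction.toPermHom S (S ⧸ H)) := by
    rw [injective_iff_map_eq_one]
    intro s hs
    apply coset_faithful H hH s
    intro R
    exact congrArg (fun σ : Equiv.Perm (S ⧸ H) => σ R) hs
  have h1 := Subgroup.card_dvd_of_injective _ hinj
  rwa [Nat.card_perm, ← Subgroup.index_eq_card] at h1

omit [Finite S] in
/-- Fixed-point congruences for a commuting pair (involution `t`, element `y` of prime order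
`r`) with a common fixed point, in a faithful action of a simple group. -/
theorem commuting_counts [IsSimpleGroup S] {Ω : Type*} [MulAction S Ω] [Finite Ω]
    (hfaith : ∀ s : S, (∀ ω : Ω, s • ω = ω) → s = 1) (h3 : 2 < Nat.card S) (t y : S)
    (ht : orderOf t = 2) (r : ℕ) [Fact r.Prime] (hy : orderOf y = r) (hcomm : t * y = y * t)
    (a₀ : Ω) (hta : t • a₀ = a₀) (hya : y • a₀ = a₀) :
    ∃ ft fy c : ℕ, ft % 4 = Nat.card Ω % 4 ∧ ft < Nat.card Ω ∧ fy % r = Nat.card Ω % r ∧
      fy < Nat.card Ω ∧ 1 ≤ c ∧ c ≤ fy ∧ c ≤ ft ∧ ft % r = c % r ∧ fy % 2 = c % 2 := by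
  have hr : r.Prime := Fact.out
  have ht1 : t ≠ 1 := by
    rintro rfl
    rw [orderOf_one] at ht
    omega
  have hy1 : y ≠ 1 := by
    rintro rfl
    rw [orderOf_one] at hy
    exact hr.one_lt.ne hy
  refine ⟨Nat.card {ω : Ω // t • ω = ω}, Nat.card {ω : Ω // y • ω = ω},
    Nat.card {ω : Ω // t • ω = ω ∧ y • ω = ω},
    involution_fixed_modEq_four_of_faithful hfaith h3 t ht, fixed_lt_of_faithful hfaith t ht1,
    (card_fixed_modEq Ω y r hy).symm, fixed_lt_of_faithful hfaith y hy1, ?_, ?_, ?_,
    card_fixed_commuting_modEq t y r hy hcomm.symm, ?_⟩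
  · exact Nat.card_pos_iff.mpr ⟨⟨⟨a₀, hta, hya⟩⟩, inferInstance⟩
  · exact Nat.card_le_card_of_injective
      (fun a : {ω : Ω // t • ω = ω ∧ y • ω = ω} => (⟨a.1, a.2.2⟩ : {ω : Ω // y • ω = ω}))
      (by
        intro a b hab
        have h1 := congrArg (fun z : {ω : Ω // y • ω = ω} => z.1) hab
        exact Subtype.ext h1)
  · exact Nat.card_le_card_of_injective
      (fun a : {ω : Ω // t • ω = ω ∧ y • ω = ω} => (⟨a.1, a.2.1⟩ : {ω : Ω // t • ω = ω}))
      (by
        intro a b hab
        have h1 := congrArg (fun z : {ω : Ω // t • ω = ω} => z.1) hab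
        exact Subtype.ext h1)
  · have h2 : Fact (Nat.Prime 2) := ⟨Nat.prime_two⟩
    have h1 := card_fixed_commuting_modEq (Ω := Ω) y t 2 ht hcomm
    have e : Nat.card {ω : Ω // y • ω = ω ∧ t • ω = ω} =
        Nat.card {ω : Ω // t • ω = ω ∧ y • ω = ω} :=
      Nat.card_congr (Equiv.subtypeEquivRight (fun ω => and_comm))
    rw [e] at h1
    exact h1

end Faithful

section SylowOrd

variable {S : Type*} [Group S] [Finite S] {p : ℕ} [Fact p.Prime]

/-- If `p` divides `|S|` exactly once, the Sylow `p`-subgroups have order `p`. -/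
theorem sylow_card_eq_prime (h1 : p ∣ Nat.card S) (h2 : ¬ p ^ 2 ∣ Nat.card S) (P : Sylow p S) :
    Nat.card P = p := by
  obtain ⟨k, hk⟩ := IsPGroup.iff_card.mp P.2
  have hd1 : p ∣ Nat.card P := P.dvd_card_of_dvd_card h1
  have hd2 : Nat.card P ∣ Nat.card S := Subgroup.card_subgroup_dvd_card _
  rw [hk] at hd1 hd2 ⊢
  have hp : p.Prime := Fact.out
  rcases k with _ | _ | k
  · rw [pow_zero] at hd1
    exact absurd (Nat.dvd_one.mp hd1) hp.one_lt.ne'
  · exact pow_one p
  · exfalso
    exact h2 ((pow_dvd_pow p (by omega)).trans hd2)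

theorem card_stabilizer_mul_card_sylow (P : Sylow p S) :
    Nat.card (stabilizer S P) * Nat.card (Sylow p S) = Nat.card S := by
  have h1 := Subgroup.card_mul_index (stabilizer S P)
  rwa [MulAction.index_stabilizer_of_transitive] at h1

omit [Finite S] [Fact p.Prime] in
/-- Every Sylow subgroup is contained in its stabilizer. -/
theorem sylow_le_stabilizer' (Q : Sylow p S) : (Q : Subgroup S) ≤ stabilizer S Q := by
  intro x hx
  rw [MulAction.mem_stabilizer_iff]
  exact (sylow_fixed_iff Q Q).mpr rfl x hx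

omit [Finite S] [Fact p.Prime] in
theorem card_centralizer_mul_relIndex (P : Sylow p S) :
    Nat.card (Subgroup.centralizer ((P : Subgroup S) : Set S)) *
      (Subgroup.centralizer ((P : Subgroup S) : Set S)).relIndex
        (Subgroup.normalizer ((P : Subgroup S) : Set S)) = Nat.card (stabilizer S P) := by
  have hcm := Subgroup.card_mul_index ((Subgroup.centralizer ((P : Subgroup S) : Set S)).subgroupOf
    (Subgroup.normalizer ((P : Subgroup S) : Set S)))
  rw [Nat.card_congr (Subgroup.subgroupOfEquivOfLe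
    (Subgroup.centralizer_le_normalizer ((P : Subgroup S) : Set S))).toEquiv] at hcm
  have hstab : Nat.card (stabilizer S P) =
      Nat.card (Subgroup.normalizer ((P : Subgroup S) : Set S)) := by
    rw [Sylow.stabilizer_eq_normalizer]
    rfl
  rw [hstab, ← hcm]
  rfl

theorem relIndex_dvd_pred (P : Sylow p S) (hP : Nat.card P = p) :
    (Subgroup.centralizer ((P : Subgroup S) : Set S)).relIndex
      (Subgroup.normalizer ((P : Subgroup S) : Set S)) ∣ p - 1 := by
  have hcyc : IsCyclic (P : Subgroup S) := isCyclic_of_prime_card hP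
  have hrel := relIndex_centralizer_normalizer_dvd (P : Subgroup S)
  rwa [IsCyclic.card_mulAut, hP, Nat.totient_prime Fact.out] at hrel

/-- In a simple group, `|N(P)| = |C(P)| e` with `e ∣ p - 1`, `e ≠ 1`, for `|P| = p`. -/
theorem sylow_centralizer_card [IsSimpleGroup S] (P : Sylow p S) (hP : Nat.card P = p)
    (hpS : p ≠ Nat.card S) :
    ∃ e : ℕ, e ∣ p - 1 ∧ e ≠ 1 ∧
      Nat.card (Subgroup.centralizer ((P : Subgroup S) : Set S)) * e =
        Nat.card (stabilizer S P) := by
  refine ⟨_, relIndex_dvd_pred P hP, ?_, card_centralizer_mul_relIndex P⟩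
  intro h1
  exact not_simple_of_sylow_central p P (Subgroup.relIndex_eq_one.mp h1)
    (by rw [hP]; exact (Fact.out : p.Prime).one_lt.ne') (by rw [hP]; exact hpS)

theorem sylow_card_ne_one [IsSimpleGroup S] (P : Sylow p S) (h1 : Nat.card P ≠ 1)
    (h2 : Nat.card P ≠ Nat.card S) : Nat.card (Sylow p S) ≠ 1 := by
  intro hn
  have hidx1 : Nat.card (Sylow p S) = (Subgroup.normalizer ((P : Subgroup S) : Set S)).index :=
    Sylow.card_eq_index_normalizer P
  rw [hn] at hidx1
  have htop := Subgroup.index_eq_one.mp hidx1.symm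
  have hnorm : (P : Subgroup S).Normal := Subgroup.normalizer_eq_top_iff.mp htop
  rcases hnorm.eq_bot_or_eq_top with hb | ht
  · apply h1
    have h3 : Nat.card (P : Subgroup S) = 1 := by
      rw [hb]
      exact Subgroup.card_bot
    exact h3
  · apply h2
    have h3 : Nat.card (P : Subgroup S) = Nat.card S := by
      rw [ht]
      exact Subgroup.card_top
    exact h3

/-- A simple group with `n_p ≠ 1` embeds into `Sym(n_p)`. -/
theorem card_dvd_factorial_sylow [IsSimpleGroup S] (hn : Nat.card (Sylow p S) ≠ 1) :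
    Nat.card S ∣ (Nat.card (Sylow p S)).factorial := by
  have hinj : Function.Injective (MulAction.toPermHom S (Sylow p S)) := by
    rw [injective_iff_map_eq_one]
    intro s hs
    apply sylow_faithful (p := p) hn s
    intro R
    exact congrArg (fun σ : Equiv.Perm (Sylow p S) => σ R) hs
  have h1 := Subgroup.card_dvd_of_injective _ hinj
  rwa [Nat.card_perm] at h1

/-- The basic Sylow data of a simple group of order `p m`, `p ∤ m`. -/
theorem sylow_setup [IsSimpleGroup S] (m : ℕ) (hS : Nat.card S = p * m) (hpm : ¬ p ∣ m)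
    (hm : 1 < m) (P : Sylow p S) :
    Nat.card P = p ∧ Nat.card (Sylow p S) ≠ 1 ∧ Nat.card (Sylow p S) % p = 1 ∧
    (∃ k, Nat.card (stabilizer S P) = p * k ∧ Nat.card (Sylow p S) * k = m) ∧
    ∃ e : ℕ, e ∣ p - 1 ∧ e ≠ 1 ∧
      Nat.card (Subgroup.centralizer ((P : Subgroup S) : Set S)) * e =
        Nat.card (stabilizer S P) := by
  have hp : p.Prime := Fact.out
  have hP : Nat.card P = p := by
    apply sylow_card_eq_prime _ _ P
    · rw [hS]
      exact Dvd.intro _ rfl
    · rw [hS, pow_two]
      intro h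
      exact hpm ((Nat.mul_dvd_mul_iff_left hp.pos).mp h)
  have hpS : p ≠ Nat.card S := by
    rw [hS]
    intro h
    have h2 : p * 1 = p * m := by rw [mul_one]; exact h
    have h3 := Nat.eq_of_mul_eq_mul_left hp.pos h2
    omega
  refine ⟨hP, sylow_card_ne_one P (by rw [hP]; exact hp.one_lt.ne') (by rw [hP]; exact hpS), ?_,
    ?_, sylow_centralizer_card P hP hpS⟩
  · have h1 := card_sylow_modEq_one p S
    unfold Nat.ModEq at h1
    rw [h1]
    exact Nat.mod_eq_of_lt hp.one_lt
  · have h1 : p ∣ Nat.card (stabilizer S P) := by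
      have h2 := Subgroup.card_dvd_of_le (sylow_le_stabilizer' P)
      rwa [hP] at h2
    obtain ⟨k, hk⟩ := h1
    refine ⟨k, hk, ?_⟩
    have h3 := card_stabilizer_mul_card_sylow P
    rw [hk, hS] at h3
    have h4 : p * (Nat.card (Sylow p S) * k) = p * m := by
      rw [← h3]
      ring
    exact Nat.eq_of_mul_eq_mul_left hp.pos h4

omit [Finite S] [Fact p.Prime] in
/-- A `p`-element normalizing a Sylow `p`-subgroup lies in it. -/
theorem mem_sylow_of_orderOf_pow (P : Sylow p S) (x : S) (k : ℕ) (hx : orderOf x = p ^ k)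
    (hxP : x • P = P) : x ∈ (P : Subgroup S) := by
  have hpg : IsPGroup p (Subgroup.zpowers x) :=
    IsPGroup.of_card (n := k) (by rw [Nat.card_zpowers, hx])
  have h := hpg.inf_normalizer_sylow P
  have hmem : x ∈ Subgroup.zpowers x ⊓ Subgroup.normalizer ((P : Subgroup S) : Set S) :=
    ⟨Subgroup.mem_zpowers x, Sylow.smul_eq_iff_mem_normalizer.mp hxP⟩
  have hmem2 : x ∈ Subgroup.zpowers x ⊓ (P : Subgroup S) := by
    rw [← h]
    exact hmem
  exact hmem2.2

omit [Finite S] in
/-- An element of order `p` fixes at most one Sylow `p`-subgroup of order `p`. -/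
theorem fixed_unique_of_orderOf_prime (P R : Sylow p S) (hP : Nat.card P = p) (x : S)
    (hx : orderOf x = p) (hxP : x • P = P) (hxR : x • R = R) : R = P := by
  have h1 := mem_sylow_of_orderOf_pow P x 1 (by rw [hx, pow_one]) hxP
  by_contra hne
  have h2 := sylow_free_of_card_prime P R hP hne x h1 hxR
  rw [h2, orderOf_one] at hx
  exact (Fact.out : p.Prime).one_lt.ne hx

theorem sylow_fixed_lt [IsSimpleGroup S] (hn : Nat.card (Sylow p S) ≠ 1) (x : S) (hx : x ≠ 1) :
    Nat.card {ω : Sylow p S // x • ω = ω} < Nat.card (Sylow p S) :=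
  fixed_lt_of_faithful (fun s hs => sylow_faithful (p := p) hn s hs) x hx

/-- Fixed points of an involution centralizing `P`. -/
theorem sylow_involution_counts [IsSimpleGroup S] (P : Sylow p S)
    (hn : Nat.card (Sylow p S) ≠ 1) (h3 : 2 < Nat.card S) (t : S) (ht : orderOf t = 2)
    (htC : t ∈ Subgroup.centralizer ((P : Subgroup S) : Set S)) :
    Nat.card {ω : Sylow p S // t • ω = ω} % p = 1 ∧
    Nat.card {ω : Sylow p S // t • ω = ω} % 4 = Nat.card (Sylow p S) % 4 ∧
    Nat.card {ω : Sylow p S // t • ω = ω} < Nat.card (Sylow p S) := by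
  have hp : p.Prime := Fact.out
  have ht1 : t ≠ 1 := by
    rintro rfl
    rw [orderOf_one] at ht
    omega
  refine ⟨?_, involution_fixed_modEq_four hn h3 t ht, sylow_fixed_lt hn t ht1⟩
  have h1 := card_fixed_centralizer_modEq P t htC
  unfold Nat.ModEq at h1
  rw [h1]
  exact Nat.mod_eq_of_lt hp.one_lt

/-- Fixed points of an element of prime order `r` centralizing `P`. -/
theorem sylow_prime_counts [IsSimpleGroup S] (P : Sylow p S)
    (hn : Nat.card (Sylow p S) ≠ 1) (x : S) (r : ℕ) [Fact r.Prime] (hx : orderOf x = r)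
    (hxC : x ∈ Subgroup.centralizer ((P : Subgroup S) : Set S)) :
    Nat.card {ω : Sylow p S // x • ω = ω} % p = 1 ∧
    Nat.card {ω : Sylow p S // x • ω = ω} % r = Nat.card (Sylow p S) % r ∧
    Nat.card {ω : Sylow p S // x • ω = ω} < Nat.card (Sylow p S) := by
  have hp : p.Prime := Fact.out
  have hr : r.Prime := Fact.out
  have hx1 : x ≠ 1 := by
    rintro rfl
    rw [orderOf_one] at hx
    exact hr.one_lt.ne hx
  refine ⟨?_, (card_fixed_modEq (Sylow p S) x r hx).symm, sylow_fixed_lt hn x hx1⟩
  have h1 := card_fixed_centralizer_modEq P x hxC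
  unfold Nat.ModEq at h1
  rw [h1]
  exact Nat.mod_eq_of_lt hp.one_lt

/-- If an involution `t ∈ C(P)` has more than `1 + (n_p - 1)/p` fixed points, then `C(t)` is
transitive on them, so `|C(t)| = f s` where `s = |C(t) ∩ N(P)|`. -/
theorem involution_centralizer_card (hp2 : p ≠ 2) (P : Sylow p S) (hP : Nat.card P = p) (t : S)
    (ht : orderOf t = 2) (htC : t ∈ Subgroup.centralizer ((P : Subgroup S) : Set S))
    (hbig : Nat.card (Sylow p S) - 1 < (Nat.card {ω : Sylow p S // t • ω = ω} - 1) * p)
    (V : Subgroup S) (hVP : V ≤ stabilizer S P) (hVt : ∀ v ∈ V, v * t = t * v) :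
    ∃ s : ℕ, Nat.card (Subgroup.centralizer ({t} : Set S)) =
        Nat.card {ω : Sylow p S // t • ω = ω} * s ∧ p ∣ s ∧ Nat.card V ∣ s ∧
        s ∣ Nat.card (stabilizer S P) := by
  have hR : ∀ R : Sylow p S, Nat.card R = p := fun R => by
    rw [R.card_eq_multiplicity, ← P.card_eq_multiplicity]
    exact hP
  have htP : t • P = P :=
    Sylow.smul_eq_iff_mem_normalizer.mpr (Subgroup.centralizer_le_normalizer _ htC)
  have ht2 : t * t = 1 := by
    rw [← pow_two, ← ht]
    exact pow_orderOf_eq_one t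
  have hcent : ∀ R : Sylow p S, t • R = R → ∀ z ∈ (R : Subgroup S), z * t = t * z := by
    intro R hRfix z hz
    by_contra hne
    have htR : t ∉ Subgroup.centralizer ((R : Subgroup S) : Set S) :=
      fun h => hne (Subgroup.mem_centralizer_iff.mp h z hz)
    have hinv := inverts_of_involution R (hR R) t ht2 hRfix htR
    have hb := (inverting_card_fixed hp2 R (hR R) t hRfix hinv).1
    omega
  have horb := fixed_eq_orbit_centralizer t P htP hcent
  have hncard : (orbit (Subgroup.centralizer ({t} : Set S)) P).ncard =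
      Nat.card {ω : Sylow p S // t • ω = ω} := by
    rw [horb]
    exact (Nat.card_coe_set_eq _).symm
  have h1 := Subgroup.card_mul_index (stabilizer (Subgroup.centralizer ({t} : Set S)) P)
  rw [MulAction.index_stabilizer, hncard] at h1
  have hst : stabilizer (Subgroup.centralizer ({t} : Set S)) P =
      ((Subgroup.centralizer ({t} : Set S)) ⊓ stabilizer S P).subgroupOf
        (Subgroup.centralizer ({t} : Set S)) := by
    ext x
    rw [MulAction.mem_stabilizer_iff, Subgroup.mem_subgroupOf, Subgroup.mem_inf,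
      MulAction.mem_stabilizer_iff]
    constructor
    · intro h
      exact ⟨x.2, h⟩
    · intro h
      exact h.2
  have hcard : Nat.card (stabilizer (Subgroup.centralizer ({t} : Set S)) P) =
      Nat.card ((Subgroup.centralizer ({t} : Set S)) ⊓ stabilizer S P : Subgroup S) := by
    rw [hst]
    exact Nat.card_congr (Subgroup.subgroupOfEquivOfLe inf_le_left).toEquiv
  refine ⟨Nat.card (stabilizer (Subgroup.centralizer ({t} : Set S)) P), by rw [← h1, mul_comm],
    ?_, ?_, ?_⟩
  · have hle : (P : Subgroup S) ≤ (Subgroup.centralizer ({t} : Set S)) ⊓ stabilizer S P := by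
      intro x hx
      refine ⟨?_, sylow_le_stabilizer' P hx⟩
      show x ∈ Subgroup.centralizer ({t} : Set S)
      rw [Subgroup.mem_centralizer_iff]
      rintro _ rfl
      exact (Subgroup.mem_centralizer_iff.mp htC x hx).symm
    have h2 := Subgroup.card_dvd_of_le hle
    rw [hP] at h2
    rw [hcard]
    exact h2
  · rw [hcard]
    apply Subgroup.card_dvd_of_le
    intro v hv
    refine ⟨?_, hVP hv⟩
    show v ∈ Subgroup.centralizer ({t} : Set S)
    rw [Subgroup.mem_centralizer_iff]
    rintro _ rfl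
    exact (hVt v hv).symm
  · rw [hcard]
    exact Subgroup.card_dvd_of_le inf_le_right

/-- A subgroup of even order has a Sylow 2-subgroup `V` and an involution `t ∈ Z(V)`. -/
theorem exists_central_involution (C : Subgroup S) (h2 : 2 ∣ Nat.card C) :
    ∃ (V : Subgroup S) (t : S), V ≤ C ∧ t ∈ V ∧ orderOf t = 2 ∧ (∀ v ∈ V, v * t = t * v) ∧
      ∀ k : ℕ, 2 ^ k ∣ Nat.card C → 2 ^ k ∣ Nat.card V := by
  have hf2 : Fact (Nat.Prime 2) := ⟨Nat.prime_two⟩
  obtain ⟨V₀⟩ : Nonempty (Sylow 2 C) := inferInstance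
  have hV2 : 2 ∣ Nat.card V₀ := V₀.dvd_card_of_dvd_card h2
  have hnt : Nontrivial (V₀ : Subgroup C) := by
    rw [← Finite.one_lt_card_iff_nontrivial]
    have hpos : 0 < Nat.card V₀ := Nat.card_pos
    have h3 := Nat.le_of_dvd hpos hV2
    omega
  have hcnt : Nontrivial (Subgroup.center (V₀ : Subgroup C)) := V₀.2.center_nontrivial
  have hcp : IsPGroup 2 (Subgroup.center (V₀ : Subgroup C)) := V₀.2.to_subgroup _
  obtain ⟨j, hj⟩ := IsPGroup.iff_card.mp hcp
  have h2c : 2 ∣ Nat.card (Subgroup.center (V₀ : Subgroup C)) := by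
    rw [hj]
    apply dvd_pow_self
    rintro rfl
    rw [pow_zero] at hj
    have h4 := Finite.one_lt_card_iff_nontrivial.mpr hcnt
    omega
  obtain ⟨z, hz⟩ := exists_prime_orderOf_dvd_card' 2 h2c
  refine ⟨(V₀ : Subgroup C).map C.subtype, (((z : (V₀ : Subgroup C)) : C) : S), ?_, ?_, ?_, ?_, ?_⟩
  · rintro _ ⟨v, -, rfl⟩
    exact v.2
  · exact ⟨((z : (V₀ : Subgroup C)) : C), (z : (V₀ : Subgroup C)).2, rfl⟩
  · rw [Subgroup.orderOf_coe, Subgroup.orderOf_coe, Subgroup.orderOf_coe]
    exact hz
  · rintro _ ⟨v, hv, rfl⟩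
    have h5 := Subgroup.mem_center_iff.mp z.2 ⟨v, hv⟩
    have h6 : ((⟨v, hv⟩ : (V₀ : Subgroup C)) * (z : (V₀ : Subgroup C)) : (V₀ : Subgroup C)) =
        (z : (V₀ : Subgroup C)) * ⟨v, hv⟩ := h5
    have h7 := congrArg (fun a : (V₀ : Subgroup C) => ((a : C) : S)) h6
    exact h7
  · intro k hk
    rw [Subgroup.card_map_of_injective (Subgroup.subtype_injective _)]
    exact V₀.pow_dvd_card_of_pow_dvd_card hk

omit [Fact p.Prime] in
/-- Cauchy's theorem inside a subgroup. -/
theorem exists_mem_orderOf_prime (C : Subgroup S) (r : ℕ) [Fact r.Prime] (h : r ∣ Nat.card C) :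
    ∃ x ∈ C, orderOf x = r := by
  obtain ⟨x, hx⟩ := exists_prime_orderOf_dvd_card' r h
  exact ⟨(x : S), x.2, by rw [Subgroup.orderOf_coe]; exact hx⟩

end SylowOrd

end Cfsg.Agent.Lib.helper75
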