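import Mathlib
import Cfsg.Agent.Lib.helper75.SimpleOrd

/-!
No simple groups of order 1440 or 2016 (helper75).

Common pattern: `P` a Sylow `p`-subgroup of order `p` (`p = 5` or `7`), `n_p ∈ {p + 1, 16, 36, …}`.
* `n_p = p + 1` or `n_5 = 16`: `C(P)` would have to act semiregularly on too few points.
* `n_p = 36`: an involution `t` in the centre of a Sylow 2-subgroup of `C(P)` fixes 16 (resp. 8)
  Sylow subgroups, `C(t)` is transitive on them, `|G : C(t)| = 9`, and the action on the 9 cosets
  of `C(t)` is impossible (`no_centralizer_index_nine`).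
* otherwise `N(P) = C(P)` and Burnside's transfer theorem applies.
-/

set_option autoImplicit false

namespace Cfsg.Agent.Lib.helper75

open MulAction
open scoped Pointwise

section OrdA

variable {S : Type*} [Group S] [Finite S] [IsSimpleGroup S]

/-- The centralizer of an involution commuting with an element of order 5 or 7 does not have
index 9. -/
theorem no_centralizer_index_nine (h3 : 2 < Nat.card S) (t y : S) (ht : orderOf t = 2) (r : ℕ)
    [Fact r.Prime] (hr : r = 5 ∨ r = 7) (hy : orderOf y = r) (hcomm : t * y = y * t)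
    (hidx : (Subgroup.centralizer ({t} : Set S)).index = 9) : False := by
  have hH : Subgroup.centralizer ({t} : Set S) ≠ ⊤ := by
    intro h
    rw [h, Subgroup.index_top] at hidx
    omega
  have hcard : Nat.card (S ⧸ Subgroup.centralizer ({t} : Set S)) = 9 := by
    rw [← Subgroup.index_eq_card]
    exact hidx
  have htH : t ∈ Subgroup.centralizer ({t} : Set S) := by
    rw [Subgroup.mem_centralizer_iff]
    rintro _ rfl
    rfl
  have hyH : y ∈ Subgroup.centralizer ({t} : Set S) := by
    rw [Subgroup.mem_centralizer_iff]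
    rintro _ rfl
    exact hcomm
  obtain ⟨ft, fy, c, c1, c2, c3, c4, c5, c6, c7, c8, c9⟩ :=
    commuting_counts (Ω := S ⧸ Subgroup.centralizer ({t} : Set S))
      (coset_faithful _ hH) h3 t y ht r hy hcomm _ (coset_base_fixed _ t htH)
      (coset_base_fixed _ y hyH)
  rw [hcard] at c1 c2 c3 c4
  rcases hr with rfl | rfl <;> omega

/-- `n_5 = 16` is impossible if 45 divides `|C(P)|`. -/
theorem no_sylow_five_sixteen (P : Sylow 5 S) (hP : Nat.card P = 5)
    (hn : Nat.card (Sylow 5 S) = 16)
    (hC : 45 ∣ Nat.card (Subgroup.centralizer ((P : Subgroup S) : Set S))) : False := by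
  have h5 : Fact (Nat.Prime 5) := ⟨by norm_num⟩
  have hn1 : Nat.card (Sylow 5 S) ≠ 1 := by omega
  have hnontriv : Nontrivial (Sylow 5 S) := by
    rw [← Finite.one_lt_card_iff_nontrivial, hn]
    norm_num
  obtain ⟨Z, hZ⟩ := exists_ne P
  have hCfix : ∀ x ∈ Subgroup.centralizer ((P : Subgroup S) : Set S), x • P = P := fun x hx =>
    Sylow.smul_eq_iff_mem_normalizer.mpr (Subgroup.centralizer_le_normalizer _ hx)
  have h1 := Subgroup.card_mul_index
    (stabilizer (Subgroup.centralizer ((P : Subgroup S) : Set S)) Z)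
  rw [MulAction.index_stabilizer] at h1
  have hle : (orbit (Subgroup.centralizer ((P : Subgroup S) : Set S)) Z).ncard ≤ 16 := by
    have h2 := Set.ncard_le_ncard
      (Set.subset_univ (orbit (Subgroup.centralizer ((P : Subgroup S) : Set S)) Z))
      (Set.toFinite _)
    rwa [Set.ncard_univ, hn] at h2
  have hpos : 0 < (orbit (Subgroup.centralizer ((P : Subgroup S) : Set S)) Z).ncard :=
    (Set.ncard_pos (Set.toFinite _)).mpr ⟨Z, mem_orbit_self Z⟩
  have h3 : ¬ 3 ∣ Nat.card (stabilizer (Subgroup.centralizer ((P : Subgroup S) : Set S)) Z) := by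
    intro hd
    obtain ⟨u, hu⟩ := exists_prime_orderOf_dvd_card' 3 hd
    have hu' : orderOf ((u : Subgroup.centralizer ((P : Subgroup S) : Set S)) : S) = 3 := by
      rw [Subgroup.orderOf_coe, Subgroup.orderOf_coe]
      exact hu
    have huZ : ((u : Subgroup.centralizer ((P : Subgroup S) : Set S)) : S) • Z = Z :=
      MulAction.mem_stabilizer_iff.mp u.2
    have huP : ((u : Subgroup.centralizer ((P : Subgroup S) : Set S)) : S) • P = P :=
      hCfix _ (u : Subgroup.centralizer ((P : Subgroup S) : Set S)).2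
    obtain ⟨c1, c2, c3⟩ := sylow_prime_counts P hn1
      ((u : Subgroup.centralizer ((P : Subgroup S) : Set S)) : S) 3 hu'
      (u : Subgroup.centralizer ((P : Subgroup S) : Set S)).2
    rw [hn] at c2 c3
    have hf1 : Nat.card {ω : Sylow 5 S //
        ((u : Subgroup.centralizer ((P : Subgroup S) : Set S)) : S) • ω = ω} = 1 := by omega
    rw [Nat.card_eq_one_iff_unique] at hf1
    have h4 := hf1.1.elim ⟨Z, huZ⟩ ⟨P, huP⟩
    exact hZ (congrArg Subtype.val h4)
  have h5' : ¬ 5 ∣ Nat.card (stabilizer (Subgroup.centralizer ((P : Subgroup S) : Set S)) Z) := by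
    intro hd
    obtain ⟨u, hu⟩ := exists_prime_orderOf_dvd_card' 5 hd
    have hu' : orderOf ((u : Subgroup.centralizer ((P : Subgroup S) : Set S)) : S) = 5 := by
      rw [Subgroup.orderOf_coe, Subgroup.orderOf_coe]
      exact hu
    have huZ : ((u : Subgroup.centralizer ((P : Subgroup S) : Set S)) : S) • Z = Z :=
      MulAction.mem_stabilizer_iff.mp u.2
    have huP : ((u : Subgroup.centralizer ((P : Subgroup S) : Set S)) : S) • P = P :=
      hCfix _ (u : Subgroup.centralizer ((P : Subgroup S) : Set S)).2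
    exact hZ (fixed_unique_of_orderOf_prime P Z hP _ hu' huP huZ)
  rw [← h1] at hC
  have hc9 : Nat.Coprime (3 ^ 2)
      (Nat.card (stabilizer (Subgroup.centralizer ((P : Subgroup S) : Set S)) Z)) :=
    Nat.Coprime.pow_left 2 ((Nat.Prime.coprime_iff_not_dvd Nat.prime_three).mpr h3)
  have hc5 : Nat.Coprime 5
      (Nat.card (stabilizer (Subgroup.centralizer ((P : Subgroup S) : Set S)) Z)) :=
    (Nat.Prime.coprime_iff_not_dvd (by norm_num)).mpr h5'
  have hd9 : 3 ^ 2 ∣ (orbit (Subgroup.centralizer ((P : Subgroup S) : Set S)) Z).ncard :=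
    hc9.dvd_of_dvd_mul_left (Dvd.dvd.trans (by norm_num) hC)
  have hd5 : 5 ∣ (orbit (Subgroup.centralizer ((P : Subgroup S) : Set S)) Z).ncard :=
    hc5.dvd_of_dvd_mul_left (Dvd.dvd.trans (by norm_num) hC)
  have hd45 : 3 ^ 2 * 5 ∣ (orbit (Subgroup.centralizer ((P : Subgroup S) : Set S)) Z).ncard :=
    Nat.Coprime.mul_dvd_of_dvd_of_dvd (by norm_num) hd9 hd5
  have h6 := Nat.le_of_dvd hpos hd45
  omega

/-- If `n_7 = 8` then `C(P) = P`: no other prime divides `|C(P)|`. -/
theorem no_sylow_seven_eight (P : Sylow 7 S) (hn : Nat.card (Sylow 7 S) = 8) (r : ℕ)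
    [Fact r.Prime] (hr : r ≠ 7)
    (hrC : r ∣ Nat.card (Subgroup.centralizer ((P : Subgroup S) : Set S))) : False := by
  have h7 : Fact (Nat.Prime 7) := ⟨by norm_num⟩
  obtain ⟨x, hxC, hx⟩ := exists_mem_orderOf_prime _ r hrC
  obtain ⟨c1, c2, c3⟩ := sylow_prime_counts P (by omega) x r hx hxC
  rw [hn] at c2 c3
  have hf1 : Nat.card {ω : Sylow 7 S // x • ω = ω} = 1 := by omega
  rw [hf1] at c2
  have hdvd : r ∣ 8 - 1 := (Nat.modEq_iff_dvd' (by norm_num)).mp c2
  have hr7 : r = 7 :=
    (Nat.prime_dvd_prime_iff_eq Fact.out (by norm_num : Nat.Prime 7)).mp hdvd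
  exact hr hr7

omit [IsSimpleGroup S] in
theorem centralizer_le_stabilizer {p : ℕ} (P : Sylow p S) :
    Subgroup.centralizer ((P : Subgroup S) : Set S) ≤ stabilizer S P := by
  intro x hx
  rw [MulAction.mem_stabilizer_iff]
  exact Sylow.smul_eq_iff_mem_normalizer.mpr (Subgroup.centralizer_le_normalizer _ hx)

/-- An involution `t` in the centre of a Sylow 2-subgroup `V` of `C(P)`, with its fixed-point
data on the Sylow `p`-subgroups. -/
theorem exists_involution_centralizer {p : ℕ} [Fact p.Prime] (hp2 : p ≠ 2) (P : Sylow p S)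
    (hP : Nat.card P = p) (hn1 : Nat.card (Sylow p S) ≠ 1) (h3 : 2 < Nat.card S)
    (h2C : 2 ∣ Nat.card (Subgroup.centralizer ((P : Subgroup S) : Set S))) :
    ∃ (t : S) (V : Subgroup S), orderOf t = 2 ∧
      t ∈ Subgroup.centralizer ((P : Subgroup S) : Set S) ∧
      (∀ k : ℕ, 2 ^ k ∣ Nat.card (Subgroup.centralizer ((P : Subgroup S) : Set S)) →
        2 ^ k ∣ Nat.card V) ∧
      Nat.card {ω : Sylow p S // t • ω = ω} % p = 1 ∧
      Nat.card {ω : Sylow p S // t • ω = ω} % 4 = Nat.card (Sylow p S) % 4 ∧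
      Nat.card {ω : Sylow p S // t • ω = ω} < Nat.card (Sylow p S) ∧
      (Nat.card (Sylow p S) - 1 < (Nat.card {ω : Sylow p S // t • ω = ω} - 1) * p →
        ∃ s : ℕ, Nat.card (Subgroup.centralizer ({t} : Set S)) =
          Nat.card {ω : Sylow p S // t • ω = ω} * s ∧ p ∣ s ∧ Nat.card V ∣ s ∧
          s ∣ Nat.card (stabilizer S P)) := by
  obtain ⟨V, t, hVC, htV, ht, hVt, hVk⟩ := exists_central_involution _ h2C
  obtain ⟨c1, c2, c3⟩ := sylow_involution_counts P hn1 h3 t ht (hVC htV)
  refine ⟨t, V, ht, hVC htV, hVk, c1, c2, c3, ?_⟩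
  intro hbig
  exact involution_centralizer_card hp2 P hP t ht (hVC htV) hbig V
    (hVC.trans (centralizer_le_stabilizer P)) hVt

/-- No finite simple group has order 1440. -/
theorem no_simple_1440 : Nat.card S ≠ 1440 := by
  intro hS
  have h5 : Fact (Nat.Prime 5) := ⟨by norm_num⟩
  obtain ⟨P⟩ : Nonempty (Sylow 5 S) := inferInstance
  obtain ⟨hP, hn1, hmod, ⟨k, hk, hnk⟩, e, he, he1, hCe⟩ :=
    sylow_setup (p := 5) 288 (by rw [hS]) (by norm_num) (by norm_num) P
  have he' : e = 2 ∨ e = 4 := by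
    have hle : e ≤ 4 := Nat.le_of_dvd (by norm_num) he
    have hpos : 0 < e := Nat.pos_of_dvd_of_pos he (by norm_num)
    interval_cases e <;> omega
  have hfact := card_dvd_factorial_sylow (p := 5) hn1
  obtain ⟨n, hn⟩ : ∃ n, n = Nat.card (Sylow 5 S) := ⟨_, rfl⟩
  rw [← hn] at hmod hnk hfact
  have hnd : n ∣ 288 := Dvd.intro _ hnk
  have hnle : n ≤ 288 := Nat.le_of_dvd (by norm_num) hnd
  have hn1' : n ≠ 1 := by rw [hn]; exact hn1
  have hcases : n = 6 ∨ n = 16 ∨ n = 36 ∨ n = 96 := by
    clear hfact hnk hn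
    interval_cases n <;> omega
  rcases hcases with rfl | rfl | rfl | rfl
  · rw [hS] at hfact
    revert hfact
    decide
  · have hk18 : k = 18 := by omega
    rw [hk18] at hk
    rw [hk] at hCe
    apply no_sylow_five_sixteen P hP hn.symm
    rcases he' with rfl | rfl
    · exact ⟨1, by omega⟩
    · omega
  · have hk8 : k = 8 := by omega
    rw [hk8] at hk
    rw [hk] at hCe
    have h2C : 2 ∣ Nat.card (Subgroup.centralizer ((P : Subgroup S) : Set S)) := by
      rcases he' with rfl | rfl
      · exact ⟨10, by omega⟩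
      · exact ⟨5, by omega⟩
    obtain ⟨t, V, ht, htC, hVk, c1, c2, c3, hbig⟩ :=
      exists_involution_centralizer (by norm_num) P hP hn1 (by omega) h2C
    rw [← hn] at c2 c3 hbig
    have hf : Nat.card {ω : Sylow 5 S // t • ω = ω} = 16 := by omega
    rw [hf] at hbig
    obtain ⟨s, hs1, hs2, hs3, hs4⟩ := hbig (by norm_num)
    rw [hk] at hs4
    have hV2 : 2 ∣ Nat.card V := by
      have h4 := hVk 1 (by rw [pow_one]; exact h2C)
      rwa [pow_one] at h4
    have h2s : 2 ∣ s := hV2.trans hs3
    have hCt : Nat.card (Subgroup.centralizer ({t} : Set S)) ∣ 1440 := by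
      rw [← hS]
      exact Subgroup.card_subgroup_dvd_card _
    rw [hs1] at hCt
    have hsle : s ≤ 40 := Nat.le_of_dvd (by norm_num) hs4
    have hs10 : s = 10 := by
      have hspos : 0 < s := Nat.pos_of_dvd_of_pos hs4 (by norm_num)
      interval_cases s <;> omega
    rw [hs10] at hs1
    have hidx := Subgroup.card_mul_index (Subgroup.centralizer ({t} : Set S))
    rw [hs1, hS] at hidx
    have hidx9 : (Subgroup.centralizer ({t} : Set S)).index = 9 := by omega
    obtain ⟨y, hyP, hy⟩ := exists_mem_orderOf_prime (P : Subgroup S) 5 (by rw [hP])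
    exact no_centralizer_index_nine (by omega) t y ht 5 (Or.inl rfl) hy
      (Subgroup.mem_centralizer_iff.mp htC y hyP).symm hidx9
  · have hk3 : k = 3 := by omega
    rw [hk3] at hk
    rw [hk] at hCe
    rcases he' with rfl | rfl <;> omega

/-- No finite simple group has order 2016. -/
theorem no_simple_2016 : Nat.card S ≠ 2016 := by
  intro hS
  have h7 : Fact (Nat.Prime 7) := ⟨by norm_num⟩
  obtain ⟨P⟩ : Nonempty (Sylow 7 S) := inferInstance
  obtain ⟨hP, hn1, hmod, ⟨k, hk, hnk⟩, e, he, he1, hCe⟩ :=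
    sylow_setup (p := 7) 288 (by rw [hS]) (by norm_num) (by norm_num) P
  have he' : e = 2 ∨ e = 3 ∨ e = 6 := by
    have hle : e ≤ 6 := Nat.le_of_dvd (by norm_num) he
    have hpos : 0 < e := Nat.pos_of_dvd_of_pos he (by norm_num)
    interval_cases e <;> omega
  obtain ⟨n, hn⟩ : ∃ n, n = Nat.card (Sylow 7 S) := ⟨_, rfl⟩
  rw [← hn] at hmod hnk
  have hnd : n ∣ 288 := Dvd.intro _ hnk
  have hnle : n ≤ 288 := Nat.le_of_dvd (by norm_num) hnd
  have hn1' : n ≠ 1 := by rw [hn]; exact hn1
  have hcases : n = 8 ∨ n = 36 ∨ n = 288 := by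
    clear hnk hn
    interval_cases n <;> omega
  rcases hcases with rfl | rfl | rfl
  · have hk36 : k = 36 := by omega
    rw [hk36] at hk
    rw [hk] at hCe
    have h2 : Fact (Nat.Prime 2) := ⟨Nat.prime_two⟩
    apply no_sylow_seven_eight P hn.symm 2 (by norm_num)
    rcases he' with rfl | rfl | rfl
    · exact ⟨63, by omega⟩
    · exact ⟨42, by omega⟩
    · exact ⟨21, by omega⟩
  · have hk8 : k = 8 := by omega
    rw [hk8] at hk
    rw [hk] at hCe
    have he2 : e = 2 := by
      rcases he' with rfl | rfl | rfl <;> omega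
    rw [he2] at hCe
    have hC28 : Nat.card (Subgroup.centralizer ((P : Subgroup S) : Set S)) = 28 := by omega
    have h2C : 2 ∣ Nat.card (Subgroup.centralizer ((P : Subgroup S) : Set S)) := by
      rw [hC28]
      norm_num
    obtain ⟨t, V, ht, htC, hVk, c1, c2, c3, hbig⟩ :=
      exists_involution_centralizer (by norm_num) P hP hn1 (by omega) h2C
    rw [← hn] at c2 c3 hbig
    have hf : Nat.card {ω : Sylow 7 S // t • ω = ω} = 8 := by omega
    rw [hf] at hbig
    obtain ⟨s, hs1, hs2, hs3, hs4⟩ := hbig (by norm_num)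
    rw [hk] at hs4
    have hV4 : 4 ∣ Nat.card V := by
      have h4 := hVk 2 (by rw [hC28]; norm_num)
      exact h4
    have h4s : 4 ∣ s := hV4.trans hs3
    have hsle : s ≤ 56 := Nat.le_of_dvd (by norm_num) hs4
    have hs28 : s = 28 ∨ s = 56 := by
      have hspos : 0 < s := Nat.pos_of_dvd_of_pos hs4 (by norm_num)
      interval_cases s <;> omega
    have hCt : Nat.card (Subgroup.centralizer ({t} : Set S)) ∣ 2016 := by
      rw [← hS]
      exact Subgroup.card_subgroup_dvd_card _
    rw [hs1] at hCt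
    have hs28' : s = 28 := by
      rcases hs28 with h | h
      · exact h
      · rw [h] at hCt
        omega
    rw [hs28'] at hs1
    have hidx := Subgroup.card_mul_index (Subgroup.centralizer ({t} : Set S))
    rw [hs1, hS] at hidx
    have hidx9 : (Subgroup.centralizer ({t} : Set S)).index = 9 := by omega
    obtain ⟨y, hyP, hy⟩ := exists_mem_orderOf_prime (P : Subgroup S) 7 (by rw [hP])
    exact no_centralizer_index_nine (by omega) t y ht 7 (Or.inr rfl) hy
      (Subgroup.mem_centralizer_iff.mp htC y hyP).symm hidx9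
  · have hk1 : k = 1 := by omega
    rw [hk1] at hk
    rw [hk] at hCe
    rcases he' with rfl | rfl | rfl <;> omega

end OrdA

end Cfsg.Agent.Lib.helper75
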