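import Mathlib

/-!
Actions of the quaternion group `Q₈ = QuaternionGroup 2` (helper75).

* `quatHom u v h4 hv hc` : the homomorphism `QuaternionGroup 2 →* G` with `a i ↦ u ^ i.val`,
  `xa i ↦ v * u ^ i.val`, for `u ^ 4 = 1`, `v * v = u ^ 2`, `v⁻¹ * u * v = u⁻¹`.
* `exists_quat_action k` (for `k ≠ 0`) : a commutative group `N : Type` of order `k ^ 2` with an action
  `φ : QuaternionGroup 2 →* MulAut N` whose central involution `a 2` inverts `N`.
* `quat_sq_or` : every nontrivial element of `QuaternionGroup 2` is `a 2` or squares to it.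
-/

set_option autoImplicit false

namespace Cfsg.Agent.Lib.helper75

section QuatHom

variable {G : Type*} [Group G]

theorem zmod4_pow_add (u : G) (h4 : u ^ (2 * 2) = 1) (i j : ZMod (2 * 2)) :
    u ^ (i + j).val = u ^ i.val * u ^ j.val := by
  rw [ZMod.val_add, ← pow_add, ← pow_eq_pow_mod _ h4]

theorem zmod4_pow_neg (u : G) (h4 : u ^ (2 * 2) = 1) (i : ZMod (2 * 2)) :
    u ^ (-i).val = (u ^ i.val)⁻¹ := by
  apply eq_inv_of_mul_eq_one_left
  rw [← zmod4_pow_add u h4, neg_add_cancel, ZMod.val_zero, pow_zero]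

theorem pow_mul_of_conj_eq_inv (u v : G) (hc : v⁻¹ * u * v = u⁻¹) (k : ℕ) :
    u ^ k * v = v * (u ^ k)⁻¹ := by
  have h := conj_pow (a := v⁻¹) (b := u) (i := k)
  rw [inv_inv, hc, inv_pow] at h
  rw [h]; group

/-- The homomorphism from the quaternion group of order 8 given by two elements satisfying its
relations. -/
def quatHom (u v : G) (h4 : u ^ (2 * 2) = 1) (hv : v * v = u ^ 2) (hc : v⁻¹ * u * v = u⁻¹) :
    QuaternionGroup 2 →* G where
  toFun
    | QuaternionGroup.a i => u ^ i.val
    | QuaternionGroup.xa i => v * u ^ i.val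
  map_one' := by
    rw [QuaternionGroup.one_def]
    simp
  map_mul' := by
    rintro (i | i) (j | j)
    · simp only [QuaternionGroup.a_mul_a]
      exact zmod4_pow_add u h4 i j
    · simp only [QuaternionGroup.a_mul_xa]
      rw [← mul_assoc, pow_mul_of_conj_eq_inv u v hc, mul_assoc, ← zmod4_pow_neg u h4,
        ← zmod4_pow_add u h4, neg_add_eq_sub]
    · simp only [QuaternionGroup.xa_mul_a]
      rw [mul_assoc, ← zmod4_pow_add u h4]
    · simp only [QuaternionGroup.xa_mul_xa]
      have h2 : u ^ 2 = u ^ (((2 : ℕ) : ZMod (2 * 2))).val := rfl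
      rw [mul_assoc v, ← mul_assoc (u ^ i.val), pow_mul_of_conj_eq_inv u v hc, ← mul_assoc,
        ← mul_assoc, hv, ← zmod4_pow_neg u h4, mul_assoc, ← zmod4_pow_add u h4, h2,
        ← zmod4_pow_add u h4]
      congr 2
      ring

theorem quatHom_a (u v : G) (h4 : u ^ (2 * 2) = 1) (hv : v * v = u ^ 2) (hc : v⁻¹ * u * v = u⁻¹)
    (i : ZMod (2 * 2)) : quatHom u v h4 hv hc (QuaternionGroup.a i) = u ^ i.val := rfl

theorem quatHom_xa (u v : G) (h4 : u ^ (2 * 2) = 1) (hv : v * v = u ^ 2) (hc : v⁻¹ * u * v = u⁻¹)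
    (i : ZMod (2 * 2)) : quatHom u v h4 hv hc (QuaternionGroup.xa i) = v * u ^ i.val := rfl

theorem quatHom_a_two (u v : G) (h4 : u ^ (2 * 2) = 1) (hv : v * v = u ^ 2) (hc : v⁻¹ * u * v = u⁻¹) :
    quatHom u v h4 hv hc (QuaternionGroup.a 2) = u ^ 2 := rfl

end QuatHom

theorem quat_sq_or : ∀ g : QuaternionGroup 2, g ≠ 1 →
    g * g = QuaternionGroup.a 2 ∨ g = QuaternionGroup.a 2 := by
  decide

section Matrices

variable {R : Type*} [CommRing R]

omit [CommRing R] in
theorem mat2_ext {x11 x12 x21 x22 y11 y12 y21 y22 : R} (h11 : x11 = y11) (h12 : x12 = y12)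
    (h21 : x21 = y21) (h22 : x22 = y22) : !![x11, x12; x21, x22] = !![y11, y12; y21, y22] := by
  rw [h11, h12, h21, h22]

/-- The matrix `[[0,-1],[1,0]]` as a unit. -/
def quatU (R : Type*) [CommRing R] : (Matrix (Fin 2) (Fin 2) R)ˣ where
  val := !![0, -1; 1, 0]
  inv := !![0, 1; -1, 0]
  val_inv := by
    rw [Matrix.mul_fin_two, Matrix.one_fin_two]
    exact mat2_ext (by ring) (by ring) (by ring) (by ring)
  inv_val := by
    rw [Matrix.mul_fin_two, Matrix.one_fin_two]
    exact mat2_ext (by ring) (by ring) (by ring) (by ring)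

/-- The matrix `[[a,b],[b,-a]]` with `a² + b² = -1` as a unit. -/
def quatV (a b : R) (hab : a ^ 2 + b ^ 2 = -1) : (Matrix (Fin 2) (Fin 2) R)ˣ where
  val := !![a, b; b, -a]
  inv := !![-a, -b; -b, a]
  val_inv := by
    rw [Matrix.mul_fin_two, Matrix.one_fin_two]
    exact mat2_ext (by linear_combination -hab) (by ring) (by ring) (by linear_combination -hab)
  inv_val := by
    rw [Matrix.mul_fin_two, Matrix.one_fin_two]
    exact mat2_ext (by linear_combination -hab) (by ring) (by ring) (by linear_combination -hab)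

theorem neg_one_fin_two : (-1 : Matrix (Fin 2) (Fin 2) R) = !![-1, 0; 0, -1] := by
  rw [Matrix.one_fin_two]
  ext i j
  fin_cases i <;> fin_cases j <;> simp

theorem quatU_sq : ((quatU R ^ 2 : (Matrix (Fin 2) (Fin 2) R)ˣ) : Matrix (Fin 2) (Fin 2) R) = -1 := by
  rw [pow_two, Units.val_mul]
  show !![0, -1; 1, 0] * !![0, -1; 1, 0] = (-1 : Matrix (Fin 2) (Fin 2) R)
  rw [Matrix.mul_fin_two, neg_one_fin_two]
  exact mat2_ext (by ring) (by ring) (by ring) (by ring)

theorem quatU_pow_four : quatU R ^ (2 * 2) = 1 := by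
  apply Units.ext
  rw [pow_mul, Units.val_pow_eq_pow_val, quatU_sq]
  simp

theorem quatV_mul_self (a b : R) (hab : a ^ 2 + b ^ 2 = -1) :
    quatV a b hab * quatV a b hab = quatU R ^ 2 := by
  apply Units.ext
  rw [quatU_sq, Units.val_mul]
  show !![a, b; b, -a] * !![a, b; b, -a] = (-1 : Matrix (Fin 2) (Fin 2) R)
  rw [Matrix.mul_fin_two, neg_one_fin_two]
  exact mat2_ext (by linear_combination hab) (by ring) (by ring) (by linear_combination hab)

theorem quatV_conj (a b : R) (hab : a ^ 2 + b ^ 2 = -1) :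
    (quatV a b hab)⁻¹ * quatU R * quatV a b hab = (quatU R)⁻¹ := by
  apply Units.ext
  rw [Units.val_mul, Units.val_mul]
  show !![-a, -b; -b, a] * !![0, -1; 1, 0] * !![a, b; b, -a] = !![0, 1; -1, 0]
  rw [Matrix.mul_fin_two, Matrix.mul_fin_two]
  exact mat2_ext (by ring) (by linear_combination -hab) (by linear_combination hab) (by ring)

/-- The action of invertible `2 × 2` matrices on column vectors, as automorphisms of the
multiplicative version of the vector group. -/
def vecAut (R : Type*) [CommRing R] :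
    (Matrix (Fin 2) (Fin 2) R)ˣ →* MulAut (Multiplicative (Fin 2 → R)) where
  toFun u :=
    { toFun := fun x => Multiplicative.ofAdd
        ((u : Matrix (Fin 2) (Fin 2) R).mulVec (Multiplicative.toAdd x))
      invFun := fun x => Multiplicative.ofAdd
        (((u⁻¹ : (Matrix (Fin 2) (Fin 2) R)ˣ) : Matrix (Fin 2) (Fin 2) R).mulVec (Multiplicative.toAdd x))
      left_inv := by
        intro x
        show Multiplicative.ofAdd (((u⁻¹ : (Matrix (Fin 2) (Fin 2) R)ˣ) : Matrix (Fin 2) (Fin 2) R).mulVec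
          ((u : Matrix (Fin 2) (Fin 2) R).mulVec (Multiplicative.toAdd x))) = x
        rw [Matrix.mulVec_mulVec, Units.inv_mul, Matrix.one_mulVec]
        rfl
      right_inv := by
        intro x
        show Multiplicative.ofAdd ((u : Matrix (Fin 2) (Fin 2) R).mulVec
          (((u⁻¹ : (Matrix (Fin 2) (Fin 2) R)ˣ) : Matrix (Fin 2) (Fin 2) R).mulVec
            (Multiplicative.toAdd x))) = x
        rw [Matrix.mulVec_mulVec, Units.mul_inv, Matrix.one_mulVec]
        rfl
      map_mul' := by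
        intro x y
        show Multiplicative.ofAdd ((u : Matrix (Fin 2) (Fin 2) R).mulVec
          (Multiplicative.toAdd x + Multiplicative.toAdd y)) = _
        rw [Matrix.mulVec_add]
        rfl }
  map_one' := by
    apply MulEquiv.ext
    intro x
    show Multiplicative.ofAdd ((1 : Matrix (Fin 2) (Fin 2) R).mulVec (Multiplicative.toAdd x)) = x
    rw [Matrix.one_mulVec]
    rfl
  map_mul' := by
    intro u v
    apply MulEquiv.ext
    intro x
    show Multiplicative.ofAdd (((u * v : (Matrix (Fin 2) (Fin 2) R)ˣ) : Matrix (Fin 2) (Fin 2) R).mulVec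
      (Multiplicative.toAdd x)) = Multiplicative.ofAdd ((u : Matrix (Fin 2) (Fin 2) R).mulVec
        ((v : Matrix (Fin 2) (Fin 2) R).mulVec (Multiplicative.toAdd x)))
    rw [Units.val_mul, Matrix.mulVec_mulVec]

theorem vecAut_apply (u : (Matrix (Fin 2) (Fin 2) R)ˣ) (x : Multiplicative (Fin 2 → R)) :
    vecAut R u x = Multiplicative.ofAdd
        ((u : Matrix (Fin 2) (Fin 2) R).mulVec (Multiplicative.toAdd x)) := rfl

end Matrices

/-- The property: a commutative group of order `k ^ 2` on which `Q₈` acts with the central involution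
acting by inversion. -/
def HasQuatAction (k : ℕ) : Prop :=
  ∃ (N : Type) (_ : CommGroup N) (_ : Finite N) (φ : QuaternionGroup 2 →* MulAut N),
    Nat.card N = k ^ 2 ∧ ∀ n : N, φ (QuaternionGroup.a 2) n = n⁻¹

theorem hasQuatAction_one : HasQuatAction 1 :=
  ⟨PUnit, inferInstance, inferInstance, 1, by simp, fun n => Subsingleton.elim _ _⟩

theorem hasQuatAction_prime (p : ℕ) (hp : p.Prime) : HasQuatAction p := by
  have : Fact p.Prime := ⟨hp⟩
  obtain ⟨a, b, hab⟩ := ZMod.sq_add_sq p (-1)
  refine ⟨Multiplicative (Fin 2 → ZMod p), inferInstance, inferInstance,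
    (vecAut (ZMod p)).comp (quatHom (quatU (ZMod p)) (quatV a b hab) quatU_pow_four
      (quatV_mul_self a b hab) (quatV_conj a b hab)), ?_, ?_⟩
  · rw [Nat.card_congr Multiplicative.toAdd, Nat.card_eq_fintype_card]
    simp [ZMod.card]
  · intro n
    rw [MonoidHom.comp_apply, quatHom_a_two, vecAut_apply, quatU_sq, Matrix.neg_mulVec,
      Matrix.one_mulVec]
    rfl

theorem hasQuatAction_mul (k l : ℕ) (hk : HasQuatAction k) (hl : HasQuatAction l) :
    HasQuatAction (k * l) := by
  obtain ⟨N₁, _, _, φ₁, hc₁, h₁⟩ := hk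
  obtain ⟨N₂, _, _, φ₂, hc₂, h₂⟩ := hl
  refine ⟨N₁ × N₂, inferInstance, inferInstance,
    { toFun := fun g => MulEquiv.prodCongr (φ₁ g) (φ₂ g)
      map_one' := by
        apply MulEquiv.ext
        rintro ⟨x, y⟩
        show ((φ₁ 1) x, (φ₂ 1) y) = (x, y)
        rw [map_one, map_one]
        rfl
      map_mul' := by
        intro g h
        apply MulEquiv.ext
        rintro ⟨x, y⟩
        show ((φ₁ (g * h)) x, (φ₂ (g * h)) y) = ((φ₁ g) ((φ₁ h) x), (φ₂ g) ((φ₂ h) y))
        rw [map_mul, map_mul]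
        rfl }, ?_, ?_⟩
  · rw [Nat.card_prod, hc₁, hc₂, mul_pow]
  · rintro ⟨n₁, n₂⟩
    show ((φ₁ (QuaternionGroup.a 2)) n₁, (φ₂ (QuaternionGroup.a 2)) n₂) = (n₁, n₂)⁻¹
    rw [h₁, h₂]
    rfl

theorem exists_quat_action (k : ℕ) (hk : k ≠ 0) : HasQuatAction k := by
  induction k using Nat.recOnMul with
  | zero => exact absurd rfl hk
  | one => exact hasQuatAction_one
  | prime p hp => exact hasQuatAction_prime p hp
  | mul a b ha hb =>
    have ha0 : a ≠ 0 := fun h => hk (by rw [h, zero_mul])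
    have hb0 : b ≠ 0 := fun h => hk (by rw [h, mul_zero])
    exact hasQuatAction_mul a b (ha ha0) (hb hb0)

/-- If `Q₈` acts on a commutative group of odd order with the central involution inverting, the action
is fixed-point-free. -/
theorem quat_action_fpf {N : Type*} [CommGroup N] [Finite N] (hodd : Odd (Nat.card N))
    (φ : QuaternionGroup 2 →* MulAut N) (hφ : ∀ n : N, φ (QuaternionGroup.a 2) n = n⁻¹)
    (g : QuaternionGroup 2) (hg : g ≠ 1) (n : N) (hn : φ g n = n) : n = 1 := by
  have h2 : φ (QuaternionGroup.a 2) n = n := by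
    rcases quat_sq_or g hg with h | h
    · rw [← h, map_mul, MulAut.mul_apply, hn, hn]
    · rw [← h, hn]
  rw [hφ] at h2
  have h3 : n ^ 2 = 1 := by
    rw [pow_two]
    nth_rewrite 1 [← h2]
    exact inv_mul_cancel n
  have h4 : orderOf n ∣ 2 := orderOf_dvd_of_pow_eq_one h3
  have h5 : orderOf n ∣ Nat.card N := orderOf_dvd_natCard n
  have h6 : (2 : ℕ).Coprime (Nat.card N) := (Nat.coprime_two_left).mpr hodd
  have h7 : orderOf n = 1 := Nat.eq_one_of_dvd_coprimes h6 h4 h5
  exact orderOf_eq_one_iff.mp h7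

end Cfsg.Agent.Lib.helper75
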