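import Mathlib
import Cfsg.Prelude.Def_Solvable
import Cfsg.Prelude.Def_LieExceptional
import Cfsg.Agent.S0035
import Cfsg.Agent.Lib.helper75.FrobComplement

/-!
Zassenhaus groups and Frobenius permutation groups (helper75).

* `exists_frobenius_kernel_of_action`: a finite group `A` acting on `X` such that the stabilizer `A_b` is
  proper, nontrivial and no nonidentity element fixes `b` and another point of its orbit has a normal
  subgroup `K` (the Frobenius kernel, from `Cfsg.Agent.S0035.result`) consisting of `1` and the elements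
  fixing no point of the orbit of `b`; `K` is transitive on that orbit.
* `frobenius_kernel_le_of_normal`: a normal subgroup containing a nonidentity element of `A_b` contains `K`.
* `zass_normal_transitive`, `zass_exists_two_fixed`, `zass_normal_two_transitive`,
  `zass_regular_normal_unique`, `zass_no_regular_normal`: the pieces of "a nontrivial normal subgroup
  of a Zassenhaus group is a Zassenhaus group".
* `zass_involution_two_fixed`, `zass_odd_normal_eq_top`: the pieces of "a Zassenhaus group of odd degree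
  is simple".
-/

set_option autoImplicit false

namespace Cfsg.Agent.Lib.helper75

open scoped Pointwise

/-- Frobenius kernel of a permutation-Frobenius group. -/
theorem exists_frobenius_kernel_of_action {A X : Type*} [Group A] [Finite A] [MulAction A X] (b : X)
    (h1 : MulAction.stabilizer A b ≠ ⊥) (h2 : MulAction.stabilizer A b ≠ ⊤)
    (h3 : ∀ a c : A, c • b ≠ b → a • b = b → a • (c • b) = c • b → a = 1) :
    ∃ K : Subgroup A, K.Normal ∧
      (∀ x : A, x ∈ K ↔ (x = 1 ∨ ∀ c : A, x • (c • b) ≠ c • b)) ∧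
      (∀ c : A, ∃ k ∈ K, k • b = c • b) := by
  have hH : Cfsg.IsFrobeniusComplement (MulAction.stabilizer A b) := by
    rw [isFrobeniusComplement_iff]
    refine ⟨h1, h2, ?_⟩
    intro g hg h hh hgh
    rw [MulAction.mem_stabilizer_iff] at hg hh hgh
    have hg' : g⁻¹ • b ≠ b := by
      intro h'
      apply hg
      calc g • b = g • (g⁻¹ • b) := by rw [h']
        _ = b := smul_inv_smul g b
    apply h3 h g⁻¹ hg' hh
    calc h • (g⁻¹ • b) = g⁻¹ • ((g * h * g⁻¹) • b) := by simp [mul_smul]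
      _ = g⁻¹ • b := by rw [hgh]
  obtain ⟨N, hN, hNn, hc⟩ := Cfsg.Agent.S0035.result _ hH
  refine ⟨N, hNn, ?_, ?_⟩
  · intro x
    have hx : x ∈ N ↔ x ∈ Cfsg.frobeniusKernel (MulAction.stabilizer A b) := by
      rw [← hN]; rfl
    rw [hx]
    unfold Cfsg.frobeniusKernel
    show (x = 1 ∨ ∀ g : A, x ∉ MulAut.conj g • MulAction.stabilizer A b) ↔ _
    refine or_congr Iff.rfl (forall_congr' fun c => ?_)
    rw [Subgroup.mem_pointwise_smul_iff_inv_smul_mem, MulAction.mem_stabilizer_iff,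
      MulAut.smul_def, MulAut.conj_inv_apply, mul_smul, mul_smul, inv_smul_eq_iff]
  · intro c
    obtain ⟨⟨k, h⟩, hkh⟩ := hc.2 c
    refine ⟨k.1, k.2, ?_⟩
    have hh : (h : A) • b = b := MulAction.mem_stabilizer_iff.mp h.2
    have hkh' : (k : A) * (h : A) = c := hkh
    calc (k : A) • b = (k : A) • ((h : A) • b) := by rw [hh]
      _ = c • b := by rw [← mul_smul, hkh']

/-- A normal subgroup of a permutation-Frobenius group containing a nonidentity element of the
complement contains the kernel. -/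
theorem frobenius_kernel_le_of_normal {A X : Type*} [Group A] [Finite A] [MulAction A X] (b : X)
    (h3 : ∀ a c : A, c • b ≠ b → a • b = b → a • (c • b) = c • b → a = 1)
    (K : Subgroup A) (hKn : K.Normal)
    (hK : ∀ x : A, x ∈ K → (x = 1 ∨ ∀ c : A, x • (c • b) ≠ c • b))
    (M : Subgroup A) (hM : M.Normal) (m : A) (hm : m ∈ M) (hm1 : m ≠ 1) (hmb : m • b = b) :
    K ≤ M := by
  classical
  let f : K → K := fun k => ⟨(k : A)⁻¹ * (m⁻¹ * k * m), K.mul_mem (K.inv_mem k.2) (by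
    have := hKn.conj_mem k.1 k.2 m⁻¹
    simpa using this)⟩
  have hf : Function.Injective f := by
    intro k l hkl
    have h := congrArg Subtype.val hkl
    simp only [f] at h
    have e1 : ((l : A) * (k : A)⁻¹) * m⁻¹ = m⁻¹ * ((l : A) * (k : A)⁻¹) := by
      have e : (l : A) * ((k : A)⁻¹ * (m⁻¹ * k * m)) * (m⁻¹ * (k : A)⁻¹)
          = (l : A) * ((l : A)⁻¹ * (m⁻¹ * l * m)) * (m⁻¹ * (k : A)⁻¹) := by rw [h]
      have e2 : (l : A) * ((k : A)⁻¹ * (m⁻¹ * k * m)) * (m⁻¹ * (k : A)⁻¹)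
          = (l : A) * (k : A)⁻¹ * m⁻¹ := by group
      have e3 : (l : A) * ((l : A)⁻¹ * (m⁻¹ * l * m)) * (m⁻¹ * (k : A)⁻¹)
          = m⁻¹ * ((l : A) * (k : A)⁻¹) := by group
      rw [e2, e3] at e
      exact e
    have hcK : (l : A) * (k : A)⁻¹ ∈ K := K.mul_mem l.2 (K.inv_mem k.2)
    have hcm : ((l : A) * (k : A)⁻¹) * m = m * ((l : A) * (k : A)⁻¹) := by
      calc ((l : A) * (k : A)⁻¹) * m = m * (m⁻¹ * ((l : A) * (k : A)⁻¹)) * m := by group
        _ = m * (((l : A) * (k : A)⁻¹) * m⁻¹) * m := by rw [e1]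
        _ = m * ((l : A) * (k : A)⁻¹) := by group
    have hc1 : (l : A) * (k : A)⁻¹ = 1 := by
      rcases hK _ hcK with h1 | h2
      · exact h1
      · exfalso
        apply hm1
        have h2' : ((l : A) * (k : A)⁻¹) • b ≠ b := by simpa using h2 1
        apply h3 m _ h2' hmb
        rw [← mul_smul, ← hcm, mul_smul, hmb]
    apply Subtype.ext
    exact (mul_inv_eq_one.mp hc1).symm
  have hs : Function.Surjective f := Finite.injective_iff_surjective.mp hf
  intro k hk
  obtain ⟨k', hk'⟩ := hs ⟨k, hk⟩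
  have hk2 : k = (k' : A)⁻¹ * (m⁻¹ * k' * m) := (congrArg Subtype.val hk').symm
  rw [hk2]
  have h1 : (k' : A)⁻¹ * m⁻¹ * ((k' : A)⁻¹)⁻¹ ∈ M := hM.conj_mem m⁻¹ (M.inv_mem hm) (k' : A)⁻¹
  have h2 := M.mul_mem h1 hm
  convert h2 using 1
  group

section Zassenhaus

variable {G Ω : Type*} [Group G] [MulAction G Ω]

/-- A nontrivial normal subgroup of a faithful 2-transitive group is transitive. -/
theorem zass_normal_transitive [FaithfulSMul G Ω]
    (h2 : ∀ {a b c d : Ω}, a ≠ b → c ≠ d → ∃ g : G, g • a = c ∧ g • b = d)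
    (N : Subgroup G) [hNn : N.Normal] (hN : N ≠ ⊥) (a c : Ω) : ∃ x ∈ N, x • a = c := by
  by_cases hac : a = c
  · exact ⟨1, N.one_mem, by rw [one_smul, hac]⟩
  · obtain ⟨x, hx, hx1⟩ : ∃ x ∈ N, x ≠ 1 := by
      by_contra hcon
      push_neg at hcon
      exact hN ((Subgroup.eq_bot_iff_forall N).mpr hcon)
    obtain ⟨p, hp⟩ : ∃ p : Ω, x • p ≠ p := by
      by_contra hcon
      push_neg at hcon
      exact hx1 (FaithfulSMul.eq_of_smul_eq_smul (α := Ω) (fun p => by rw [hcon p, one_smul]))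
    obtain ⟨g, hg1, hg2⟩ := h2 (Ne.symm hp) hac
    refine ⟨g * x * g⁻¹, hNn.conj_mem x hx g, ?_⟩
    rw [mul_smul, mul_smul, ← hg1, inv_smul_smul, hg2]

/-- In a Zassenhaus group, a nontrivial normal subgroup contains a nonidentity element fixing two
points. -/
theorem zass_exists_two_fixed [Finite G] [FaithfulSMul G Ω]
    (h2 : ∀ {a b c d : Ω}, a ≠ b → c ≠ d → ∃ g : G, g • a = c ∧ g • b = d)
    (hΩ : ∃ a b : Ω, a ≠ b)
    (hreg : ∀ N : Subgroup G, N.Normal → MulAction.IsPretransitive N Ω →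
      ∃ a : Ω, MulAction.stabilizer N a ≠ ⊥)
    (N : Subgroup G) [hNn : N.Normal] (hN : N ≠ ⊥) :
    ∃ m ∈ N, m ≠ 1 ∧ ∃ a b : Ω, a ≠ b ∧ m • a = a ∧ m • b = b := by
  by_contra hcon
  push_neg at hcon
  have htr := zass_normal_transitive h2 N hN
  haveI hNt : MulAction.IsPretransitive N Ω := ⟨fun a c => by
    obtain ⟨x, hx, hxa⟩ := htr a c
    exact ⟨⟨x, hx⟩, hxa⟩⟩
  obtain ⟨a, ha⟩ := hreg N hNn hNt
  have hA2 : MulAction.stabilizer N a ≠ ⊤ := by
    intro htop
    obtain ⟨p, q, hpq⟩ := hΩ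
    obtain ⟨c, hc⟩ : ∃ c : Ω, c ≠ a := by
      by_cases hp : p = a
      · exact ⟨q, fun hq => hpq (hp.trans hq.symm)⟩
      · exact ⟨p, hp⟩
    obtain ⟨x, hx, hxa⟩ := htr a c
    have hmem : (⟨x, hx⟩ : N) ∈ MulAction.stabilizer N a := by rw [htop]; exact Subgroup.mem_top _
    rw [MulAction.mem_stabilizer_iff] at hmem
    exact hc (hxa.symm.trans hmem)
  have hA3 : ∀ x c : N, c • a ≠ a → x • a = a → x • (c • a) = c • a → x = 1 := by
    intro x c hca hxa hxc
    by_contra hx1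
    have hx1' : (x : G) ≠ 1 := fun h => hx1 (Subtype.ext h)
    exact hcon x x.2 hx1' a (c • a) (Ne.symm hca) hxa hxc
  obtain ⟨K, hKn, hKmem, hKtr⟩ := exists_frobenius_kernel_of_action (A := N) a ha hA2 hA3
  have hKmove : ∀ k ∈ K, k ≠ 1 → ∀ p : Ω, (k : G) • p ≠ p := by
    intro k hk hk1 p
    obtain ⟨c, hc, hcp⟩ := htr a p
    rcases (hKmem k).mp hk with h | h
    · exact absurd h hk1
    · have h' := h ⟨c, hc⟩
      rw [← hcp]
      exact h'
  have hK'n : (K.map N.subtype).Normal := by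
    constructor
    intro n hn g
    rw [Subgroup.mem_map] at hn ⊢
    obtain ⟨k, hk, rfl⟩ := hn
    have hgk : g * (k : G) * g⁻¹ ∈ N := hNn.conj_mem k k.2 g
    refine ⟨⟨g * (k : G) * g⁻¹, hgk⟩, ?_, rfl⟩
    rw [hKmem]
    by_cases hk1 : k = 1
    · left
      apply Subtype.ext
      simp [hk1]
    · right
      intro c hfix
      have hfix' : (g * (k : G) * g⁻¹) • ((c : G) • a) = (c : G) • a := hfix
      apply hKmove k hk hk1 (g⁻¹ • ((c : G) • a))
      rw [mul_smul, mul_smul] at hfix'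
      exact eq_inv_smul_iff.mpr hfix'
  have hK't : MulAction.IsPretransitive (K.map N.subtype) Ω := by
    constructor
    intro x y
    obtain ⟨c1, hc1, hx⟩ := htr a x
    obtain ⟨c2, hc2, hy⟩ := htr a y
    obtain ⟨k1, hk1, hk1a⟩ := hKtr ⟨c1, hc1⟩
    obtain ⟨k2, hk2, hk2a⟩ := hKtr ⟨c2, hc2⟩
    have e1 : (k1 : G) • a = x := by rw [← hx]; exact hk1a
    have e2 : (k2 : G) • a = y := by rw [← hy]; exact hk2a
    refine ⟨⟨(k2 : G) * (k1 : G)⁻¹, ?_⟩, ?_⟩
    · rw [Subgroup.mem_map]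
      exact ⟨k2 * k1⁻¹, K.mul_mem hk2 (K.inv_mem hk1), by simp⟩
    · show ((k2 : G) * (k1 : G)⁻¹) • x = y
      rw [mul_smul, ← e1, inv_smul_smul, e2]
  obtain ⟨a', ha'⟩ := hreg _ hK'n hK't
  apply ha'
  rw [Subgroup.eq_bot_iff_forall]
  intro x hx
  rw [MulAction.mem_stabilizer_iff] at hx
  obtain ⟨k, hk, hkx⟩ := Subgroup.mem_map.mp x.2
  by_contra hx1
  have hk1 : k ≠ 1 := by
    intro h
    apply hx1
    apply Subtype.ext
    rw [← hkx, h]
    simp
  apply hKmove k hk hk1 a'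
  have hx' : (x : G) • a' = a' := hx
  rw [← hkx] at hx'
  exact hx'

/-- In a Zassenhaus group, a nontrivial normal subgroup is 2-transitive. -/
theorem zass_normal_two_transitive [Finite G] [FaithfulSMul G Ω]
    (h2 : ∀ {a b c d : Ω}, a ≠ b → c ≠ d → ∃ g : G, g • a = c ∧ g • b = d)
    (h3fix : ∀ g : G, ∀ a b c : Ω, a ≠ b → b ≠ c → a ≠ c → g • a = a → g • b = b → g • c = c →
      g = 1)
    (hΩ3 : ∀ a b : Ω, ∃ c : Ω, c ≠ a ∧ c ≠ b)
    (N : Subgroup G) [hNn : N.Normal] (hN : N ≠ ⊥)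
    (m : G) (hm : m ∈ N) (hm1 : m ≠ 1) (α β : Ω) (hαβ : α ≠ β) (hmα : m • α = α)
    (hmβ : m • β = β) :
    ∀ {a b c d : Ω}, a ≠ b → c ≠ d → ∃ x ∈ N, x • a = c ∧ x • b = d := by
  have key : ∀ γ : Ω, γ ≠ α → ∃ x ∈ N, x • α = α ∧ x • β = γ := by
    have hb1 : MulAction.stabilizer (MulAction.stabilizer G α) β ≠ ⊥ := by
      intro hbot
      have hmem : (⟨m, hmα⟩ : MulAction.stabilizer G α) ∈
          MulAction.stabilizer (MulAction.stabilizer G α) β := by
        rw [MulAction.mem_stabilizer_iff]; exact hmβ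
      rw [hbot, Subgroup.mem_bot] at hmem
      exact hm1 (congrArg Subtype.val hmem)
    have hb2 : MulAction.stabilizer (MulAction.stabilizer G α) β ≠ ⊤ := by
      intro htop
      obtain ⟨γ, hγα, hγβ⟩ := hΩ3 α β
      obtain ⟨g, hgα, hgβ⟩ := h2 hαβ (Ne.symm hγα)
      have hmem : (⟨g, hgα⟩ : MulAction.stabilizer G α) ∈
          MulAction.stabilizer (MulAction.stabilizer G α) β := by
        rw [htop]; exact Subgroup.mem_top _
      rw [MulAction.mem_stabilizer_iff] at hmem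
      exact hγβ (hgβ.symm.trans hmem)
    have hb3 : ∀ x c : MulAction.stabilizer G α, c • β ≠ β → x • β = β → x • (c • β) = c • β →
        x = 1 := by
      intro x c hcβ hxβ hxc
      apply Subtype.ext
      have hcα : (c : G) • α = α := c.2
      refine h3fix x α β (c • β) hαβ (Ne.symm hcβ) ?_ x.2 hxβ hxc
      intro h
      apply hαβ
      have h' : (c : G) • α = (c : G) • β := by rw [hcα]; exact h
      exact smul_left_cancel _ h'
    obtain ⟨K, hKn, hKmem, hKtr⟩ :=
      exists_frobenius_kernel_of_action (A := MulAction.stabilizer G α) β hb1 hb2 hb3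
    have hKM : K ≤ N.subgroupOf (MulAction.stabilizer G α) :=
      frobenius_kernel_le_of_normal (A := MulAction.stabilizer G α) β hb3 K hKn
        (fun x hx => (hKmem x).mp hx)
        (N.subgroupOf (MulAction.stabilizer G α)) inferInstance ⟨m, hmα⟩
        (by rw [Subgroup.mem_subgroupOf]; exact hm)
        (fun h => hm1 (congrArg Subtype.val h)) hmβ
    intro γ hγ
    obtain ⟨g, hgα, hgβ⟩ := h2 hαβ (Ne.symm hγ)
    obtain ⟨k, hk, hkβ⟩ := hKtr ⟨g, hgα⟩
    refine ⟨(k : G), Subgroup.mem_subgroupOf.mp (hKM hk), k.2, ?_⟩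
    rw [← hgβ]; exact hkβ
  have htr := zass_normal_transitive h2 N hN
  intro a b c d hab hcd
  obtain ⟨x1, hx1, hx1a⟩ := htr a α
  obtain ⟨x2, hx2, hx2c⟩ := htr c α
  have hb' : x1 • b ≠ α := by
    intro h
    apply hab
    rw [← hx1a] at h
    exact (smul_left_cancel _ h).symm
  have hd' : x2 • d ≠ α := by
    intro h
    apply hcd
    rw [← hx2c] at h
    exact (smul_left_cancel _ h).symm
  obtain ⟨y1, hy1, hy1α, hy1β⟩ := key _ hb'
  obtain ⟨y2, hy2, hy2α, hy2β⟩ := key _ hd'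
  refine ⟨x2⁻¹ * y2 * y1⁻¹ * x1,
    N.mul_mem (N.mul_mem (N.mul_mem (N.inv_mem hx2) hy2) (N.inv_mem hy1)) hx1, ?_, ?_⟩
  · rw [mul_smul, mul_smul, mul_smul, hx1a]
    have e1 : y1⁻¹ • α = α := by rw [inv_smul_eq_iff, hy1α]
    rw [e1, hy2α, inv_smul_eq_iff, hx2c]
  · rw [mul_smul, mul_smul, mul_smul]
    have e1 : y1⁻¹ • x1 • b = β := by rw [inv_smul_eq_iff, hy1β]
    rw [e1, hy2β, inv_smul_smul]

/-- Uniqueness of a regular subgroup normalized by a 2-transitive group `N` in which only the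
identity fixes three points. -/
theorem zass_regular_normal_unique [FaithfulSMul G Ω]
    (h3fix : ∀ g : G, ∀ a b c : Ω, a ≠ b → b ≠ c → a ≠ c → g • a = a → g • b = b → g • c = c →
      g = 1)
    (hΩ : ∃ a b : Ω, a ≠ b)
    (N : Subgroup G)
    (hN2 : ∀ {a b c d : Ω}, a ≠ b → c ≠ d → ∃ x ∈ N, x • a = c ∧ x • b = d)
    (M₁ M₂ : Subgroup G) (h1 : M₁ ≤ N) (h2 : M₂ ≤ N)
    (hn1 : ∀ n ∈ N, ∀ m ∈ M₁, n * m * n⁻¹ ∈ M₁) (hn2 : ∀ n ∈ N, ∀ m ∈ M₂, n * m * n⁻¹ ∈ M₂)
    (ht1 : ∀ a c : Ω, ∃ m ∈ M₁, m • a = c) (ht2 : ∀ a c : Ω, ∃ m ∈ M₂, m • a = c)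
    (hs1 : ∀ m ∈ M₁, ∀ a : Ω, m • a = a → m = 1) (hs2 : ∀ m ∈ M₂, ∀ a : Ω, m • a = a → m = 1) :
    M₁ = M₂ := by
  by_cases hI : ∃ x ∈ M₁ ⊓ M₂, x ≠ 1
  · obtain ⟨x, hx, hx1⟩ := hI
    have hIt : ∀ a c : Ω, ∃ i ∈ M₁ ⊓ M₂, i • a = c := by
      intro a c
      by_cases hac : a = c
      · exact ⟨1, Subgroup.one_mem _, by rw [one_smul, hac]⟩
      · obtain ⟨p, q, hpq⟩ := hΩ
        have hxp : x • p ≠ p := fun h => hx1 (hs1 x hx.1 p h)
        obtain ⟨n, hn, hn1', hn2'⟩ := hN2 (Ne.symm hxp) hac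
        refine ⟨n * x * n⁻¹, ⟨hn1 n hn x hx.1, hn2 n hn x hx.2⟩, ?_⟩
        rw [mul_smul, mul_smul, ← hn1', inv_smul_smul, hn2']
    obtain ⟨p, q, hpq⟩ := hΩ
    apply le_antisymm
    · intro m hm
      obtain ⟨i, hi, hip⟩ := hIt p (m • p)
      have h1' : i⁻¹ * m = 1 :=
        hs1 _ (M₁.mul_mem (M₁.inv_mem hi.1) hm) p (by rw [mul_smul, ← hip, inv_smul_smul])
      have h2' : m = i := by
        have := congrArg (fun z => i * z) h1'
        simpa using this
      rw [h2']; exact hi.2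
    · intro m hm
      obtain ⟨i, hi, hip⟩ := hIt p (m • p)
      have h1' : i⁻¹ * m = 1 :=
        hs2 _ (M₂.mul_mem (M₂.inv_mem hi.2) hm) p (by rw [mul_smul, ← hip, inv_smul_smul])
      have h2' : m = i := by
        have := congrArg (fun z => i * z) h1'
        simpa using this
      rw [h2']; exact hi.1
  · push_neg at hI
    exfalso
    have hcomm : ∀ m ∈ M₁, ∀ m' ∈ M₂, m * m' = m' * m := by
      intro m hm m' hm'
      have hmem : m * m' * m⁻¹ * m'⁻¹ ∈ M₁ ⊓ M₂ := by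
        rw [Subgroup.mem_inf]
        refine ⟨?_, ?_⟩
        · have h0 := M₁.mul_mem hm (hn1 m' (h2 hm') m⁻¹ (M₁.inv_mem hm))
          have e0 : m * m' * m⁻¹ * m'⁻¹ = m * (m' * m⁻¹ * m'⁻¹) := by group
          rw [e0]
          exact h0
        · exact M₂.mul_mem (hn2 m (h1 hm) m' hm') (M₂.inv_mem hm')
      have h1' := hI _ hmem
      calc m * m' = (m * m' * m⁻¹ * m'⁻¹) * (m' * m) := by group
        _ = m' * m := by rw [h1', one_mul]
    have hcomm' : ∀ m ∈ M₁, ∀ m' ∈ M₂, m'⁻¹ * m = m * m'⁻¹ := by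
      intro m hm m' hm'
      have hc := hcomm m hm m' hm'
      calc m'⁻¹ * m = m'⁻¹ * (m * m') * m'⁻¹ := by group
        _ = m'⁻¹ * (m' * m) * m'⁻¹ := by rw [hc]
        _ = m * m'⁻¹ := by group
    obtain ⟨a, b, hab⟩ := hΩ
    have hsq : ∀ m ∈ M₁, m * m = 1 := by
      intro m hm
      by_cases hma : m • a = a
      · rw [hs1 m hm a hma, one_mul]
      · obtain ⟨m', hm', hm'a⟩ := ht2 a (m • a)
        by_contra hmm
        have hmma : (m * m) • a ≠ a := fun h => hmm (hs1 _ (M₁.mul_mem hm hm) a h)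
        have hc' := hcomm' m hm m' hm'
        have hda : (m'⁻¹ * m) • a = a := by rw [mul_smul, ← hm'a, inv_smul_smul]
        have hdm : (m'⁻¹ * m) * m = m * (m'⁻¹ * m) := by rw [hc', mul_assoc, hc']
        have hdmm : (m'⁻¹ * m) * (m * m) = (m * m) * (m'⁻¹ * m) := by
          rw [← mul_assoc, hdm, mul_assoc, hdm, ← mul_assoc]
        have hd : m'⁻¹ * m = 1 := by
          refine h3fix _ a (m • a) ((m * m) • a) (Ne.symm hma) ?_ (Ne.symm hmma) hda ?_ ?_
          · intro h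
            rw [mul_smul] at h
            exact hma (smul_left_cancel _ h).symm
          · rw [← mul_smul, hdm, mul_smul, hda]
          · rw [← mul_smul, hdmm, mul_smul, hda]
        have hmm' : m = m' := by
          have := congrArg (fun z => m' * z) hd
          simpa using this
        have hm2 : m ∈ M₁ ⊓ M₂ := ⟨hm, by rw [hmm']; exact hm'⟩
        apply hma
        rw [hI m hm2, one_smul]
    have hab1 : ∀ x ∈ M₁, ∀ y ∈ M₁, x * y = y * x := by
      intro x hx y hy
      have e1 := hsq x hx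
      have e2 := hsq y hy
      have e3 := hsq (y * x) (M₁.mul_mem hy hx)
      calc x * y = (y * y) * (x * y) * (x * x) := by rw [e1, e2, one_mul, mul_one]
        _ = y * ((y * x) * (y * x)) * x := by group
        _ = y * x := by rw [e3, mul_one]
    obtain ⟨m, hm, hma⟩ := ht1 a b
    obtain ⟨m', hm', hm'a⟩ := ht2 a b
    have hda : (m'⁻¹ * m) • a = a := by rw [mul_smul, hma, ← hm'a, inv_smul_smul]
    have hd : m'⁻¹ * m = 1 := by
      apply FaithfulSMul.eq_of_smul_eq_smul (α := Ω)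
      intro c
      rw [one_smul]
      obtain ⟨x, hx, hxa⟩ := ht1 a c
      have hdx : (m'⁻¹ * m) * x = x * (m'⁻¹ * m) := by
        rw [mul_assoc, hab1 m hm x hx, ← mul_assoc, hcomm' x hx m' hm', mul_assoc]
      rw [← hxa, ← mul_smul, hdx, mul_smul, hda]
    have hmm' : m = m' := by
      have := congrArg (fun z => m' * z) hd
      simpa using this
    have hm2 : m ∈ M₁ ⊓ M₂ := ⟨hm, by rw [hmm']; exact hm'⟩
    apply hab
    rw [← hma, hI m hm2, one_smul]

/-- A Zassenhaus group has no regular subgroup normalized by a 2-transitive normal subgroup `N`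
and contained in `N`. -/
theorem zass_no_regular_normal [FaithfulSMul G Ω]
    (h3fix : ∀ g : G, ∀ a b c : Ω, a ≠ b → b ≠ c → a ≠ c → g • a = a → g • b = b → g • c = c →
      g = 1)
    (hΩ : ∃ a b : Ω, a ≠ b)
    (hreg : ∀ N : Subgroup G, N.Normal → MulAction.IsPretransitive N Ω →
      ∃ a : Ω, MulAction.stabilizer N a ≠ ⊥)
    (N : Subgroup G) [hNn : N.Normal]
    (hN2 : ∀ {a b c d : Ω}, a ≠ b → c ≠ d → ∃ x ∈ N, x • a = c ∧ x • b = d)
    (M : Subgroup G) (hMN : M ≤ N) (hn : ∀ n ∈ N, ∀ m ∈ M, n * m * n⁻¹ ∈ M)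
    (ht : ∀ a c : Ω, ∃ m ∈ M, m • a = c) (hs : ∀ m ∈ M, ∀ a : Ω, m • a = a → m = 1) : False := by
  have hMn : M.Normal := by
    constructor
    intro x hx g
    have hM2 : M.map (MulAut.conj g).toMonoidHom = M := by
      apply zass_regular_normal_unique h3fix hΩ N hN2 _ M ?_ hMN ?_ hn ?_ ht ?_ hs
      · intro y hy
        obtain ⟨z, hz, rfl⟩ := Subgroup.mem_map.mp hy
        exact hNn.conj_mem z (hMN hz) g
      · intro n hn' y hy
        obtain ⟨z, hz, rfl⟩ := Subgroup.mem_map.mp hy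
        rw [Subgroup.mem_map]
        refine ⟨(g⁻¹ * n * g) * z * (g⁻¹ * n * g)⁻¹, hn _ ?_ z hz, ?_⟩
        · have := hNn.conj_mem n hn' g⁻¹
          simpa using this
        · simp only [MulEquiv.coe_toMonoidHom, MulAut.conj_apply]
          group
      · intro a c
        obtain ⟨m, hm, hma⟩ := ht (g⁻¹ • a) (g⁻¹ • c)
        refine ⟨g * m * g⁻¹, Subgroup.mem_map.mpr ⟨m, hm, by simp [MulAut.conj_apply]⟩, ?_⟩
        rw [mul_smul, mul_smul, hma, smul_inv_smul]
      · intro y hy a hya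
        obtain ⟨z, hz, rfl⟩ := Subgroup.mem_map.mp hy
        have hz1 : z = 1 := by
          apply hs z hz (g⁻¹ • a)
          have h' : (g * z * g⁻¹) • a = a := hya
          rw [mul_smul, mul_smul] at h'
          exact eq_inv_smul_iff.mpr h'
        rw [hz1]; simp
    rw [← hM2]
    exact Subgroup.mem_map.mpr ⟨x, hx, by simp [MulAut.conj_apply]⟩
  have hMt : MulAction.IsPretransitive M Ω := ⟨fun a c => by
    obtain ⟨m, hm, hma⟩ := ht a c
    exact ⟨⟨m, hm⟩, hma⟩⟩
  obtain ⟨a, ha⟩ := hreg M hMn hMt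
  apply ha
  rw [Subgroup.eq_bot_iff_forall]
  intro x hx
  rw [MulAction.mem_stabilizer_iff] at hx
  apply Subtype.ext
  exact hs x x.2 a hx

/-- With an odd number of points and only the identity fixing three points, an involution cannot fix
two points. -/
theorem zass_involution_two_fixed [Fintype Ω]
    (h3fix : ∀ g : G, ∀ a b c : Ω, a ≠ b → b ≠ c → a ≠ c → g • a = a → g • b = b → g • c = c →
      g = 1)
    (hodd : Odd (Fintype.card Ω)) (s : G) (hs : s * s = 1) (a b : Ω) (hab : a ≠ b)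
    (ha : s • a = a) (hb : s • b = b) : s = 1 := by
  classical
  haveI : Fact (Nat.Prime 2) := ⟨Nat.prime_two⟩
  have hσ2 : (MulAction.toPermHom G Ω s) ^ 2 ^ 1 = 1 := by
    rw [pow_one, ← map_pow, pow_two, hs, map_one]
  have hmod := Equiv.Perm.card_compl_support_modEq (p := 2) (n := 1) hσ2
  have hmem : ∀ x : Ω, x ∈ (MulAction.toPermHom G Ω s).supportᶜ ↔ s • x = x := by
    intro x
    rw [Finset.mem_compl, Equiv.Perm.mem_support, not_not]
    rfl
  by_contra hs1
  have hsub : (MulAction.toPermHom G Ω s).supportᶜ = {a, b} := by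
    ext x
    rw [hmem, Finset.mem_insert, Finset.mem_singleton]
    constructor
    · intro hx
      by_contra hcon
      push_neg at hcon
      exact hs1 (h3fix s a b x hab (Ne.symm hcon.2) (Ne.symm hcon.1) ha hb hx)
    · rintro (rfl | rfl)
      · exact ha
      · exact hb
  rw [hsub, Finset.card_pair hab] at hmod
  obtain ⟨k, hk⟩ := hodd
  rw [hk] at hmod
  unfold Nat.ModEq at hmod
  omega

/-- In a group of odd degree in which only the identity fixes three points, a 2-transitive normal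
subgroup is everything. -/
theorem zass_odd_normal_eq_top [Fintype Ω] [Finite G]
    (h3fix : ∀ g : G, ∀ a b c : Ω, a ≠ b → b ≠ c → a ≠ c → g • a = a → g • b = b → g • c = c →
      g = 1)
    (hodd : Odd (Fintype.card Ω)) (α β : Ω) (hαβ : α ≠ β)
    (N : Subgroup G) [hNn : N.Normal]
    (hN2 : ∀ {a b c d : Ω}, a ≠ b → c ≠ d → ∃ x ∈ N, x • a = c ∧ x • b = d) : N = ⊤ := by
  classical
  have hinv : ∀ s : G, s * s = 1 → s • α = α → s • β = β → s = 1 :=
    fun s hs ha hb => zass_involution_two_fixed h3fix hodd s hs α β hαβ ha hb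
  obtain ⟨g, hgN, hgα, hgβ⟩ := hN2 hαβ (Ne.symm hαβ)
  have hggα : (g * g) • α = α := by rw [mul_smul, hgα, hgβ]
  have hggβ : (g * g) • β = β := by rw [mul_smul, hgβ, hgα]
  have hpowα : ∀ j : ℕ, ((g * g) ^ j) • α = α := fun j =>
    (MulAction.stabilizer G α).pow_mem hggα j
  have hpowβ : ∀ j : ℕ, ((g * g) ^ j) • β = β := fun j =>
    (MulAction.stabilizer G β).pow_mem hggβ j
  have hkodd : Odd (orderOf (g * g)) := by
    by_contra hne
    rw [Nat.not_odd_iff_even] at hne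
    obtain ⟨j, hj⟩ := hne
    have hpos : 0 < orderOf (g * g) := orderOf_pos _
    have hj0 : j ≠ 0 := by omega
    have hs1 : (g * g) ^ j ≠ 1 := pow_ne_one_of_lt_orderOf hj0 (by omega)
    apply hs1
    apply hinv _ ?_ (hpowα j) (hpowβ j)
    rw [← pow_add, ← hj, pow_orderOf_eq_one]
  obtain ⟨j, hj⟩ := hkodd
  have htN : g * (g * g) ^ j ∈ N := N.mul_mem hgN (N.pow_mem (N.mul_mem hgN hgN) j)
  have htα : (g * (g * g) ^ j) • α = β := by rw [mul_smul, hpowα, hgα]
  have htβ : (g * (g * g) ^ j) • β = α := by rw [mul_smul, hpowβ, hgβ]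
  have htt : (g * (g * g) ^ j) * (g * (g * g) ^ j) = 1 := by
    have hc : Commute g (g * g) := (Commute.refl g).mul_right (Commute.refl g)
    have h1 : g * (g * g) ^ j = (g * g) ^ j * g := (hc.pow_right j).eq
    calc (g * (g * g) ^ j) * (g * (g * g) ^ j)
        = (g * g) ^ j * g * (g * (g * g) ^ j) := by rw [h1]
      _ = (g * g) ^ j * (g * g) * (g * g) ^ j := by simp only [mul_assoc]
      _ = (g * g) ^ (j + 1 + j) := by rw [pow_add, pow_add, pow_one]
      _ = (g * g) ^ orderOf (g * g) := by rw [hj]; congr 1; omega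
      _ = 1 := pow_orderOf_eq_one _
  obtain ⟨t, ht⟩ : ∃ t : G, t = g * (g * g) ^ j := ⟨_, rfl⟩
  rw [← ht] at htN htα htβ htt
  have ht1 : t ≠ 1 := by
    intro h
    rw [h, one_smul] at htα
    exact hαβ htα
  have hcent : ∀ h : G, h • α = α → h • β = β → h * t = t * h → h = 1 := by
    intro h hα hβ hcomm
    haveI : Fact (Nat.Prime 2) := ⟨Nat.prime_two⟩
    have hσ2 : (MulAction.toPermHom G Ω t) ^ 2 ^ 1 = 1 := by
      rw [pow_one, ← map_pow, pow_two, htt, map_one]
    obtain ⟨γ, hγ⟩ := Equiv.Perm.exists_fixed_point_of_prime (p := 2) (n := 1)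
      (by intro h2; have := Nat.odd_iff.mp hodd; omega) hσ2
    have hγ' : t • γ = γ := hγ
    by_contra hh1
    by_cases hhγ : h • γ = γ
    · apply hh1
      refine h3fix h α β γ hαβ ?_ ?_ hα hβ hhγ
      · intro hβγ
        rw [← hβγ, htβ] at hγ'
        exact hαβ hγ'
      · intro hαγ
        rw [← hαγ, htα] at hγ'
        exact hαβ hγ'.symm
    · apply ht1
      refine zass_involution_two_fixed h3fix hodd t htt γ (h • γ) (Ne.symm hhγ) hγ' ?_
      rw [← mul_smul, ← hcomm, mul_smul, hγ']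
  have hmemGab : ∀ y : G, y ∈ MulAction.stabilizer G α ⊓ MulAction.stabilizer G β ↔
      y • α = α ∧ y • β = β := fun y => by
    rw [Subgroup.mem_inf, MulAction.mem_stabilizer_iff, MulAction.mem_stabilizer_iff]
  have htinvα : t⁻¹ • α = β := by rw [inv_smul_eq_iff, htβ]
  have htinvβ : t⁻¹ • β = α := by rw [inv_smul_eq_iff, htα]
  let f : (MulAction.stabilizer G α ⊓ MulAction.stabilizer G β : Subgroup G) →
      (MulAction.stabilizer G α ⊓ MulAction.stabilizer G β : Subgroup G) :=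
    fun y => ⟨(y : G)⁻¹ * (t * y * t⁻¹), by
      have hy := (hmemGab y).mp y.2
      apply Subgroup.mul_mem _ (Subgroup.inv_mem _ y.2)
      rw [hmemGab]
      constructor
      · rw [mul_smul, mul_smul, htinvα, hy.2, htβ]
      · rw [mul_smul, mul_smul, htinvβ, hy.1, htα]⟩
  have hf : Function.Injective f := by
    intro y z hyz
    have h := congrArg Subtype.val hyz
    simp only [f] at h
    have hc : ((z : G) * (y : G)⁻¹) * t = t * ((z : G) * (y : G)⁻¹) := by
      have e : (z : G) * ((y : G)⁻¹ * (t * y * t⁻¹)) * (t * (y : G)⁻¹)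
          = (z : G) * ((z : G)⁻¹ * (t * z * t⁻¹)) * (t * (y : G)⁻¹) := by rw [h]
      have e2 : (z : G) * ((y : G)⁻¹ * (t * y * t⁻¹)) * (t * (y : G)⁻¹)
          = (z : G) * (y : G)⁻¹ * t := by group
      have e3 : (z : G) * ((z : G)⁻¹ * (t * z * t⁻¹)) * (t * (y : G)⁻¹)
          = t * ((z : G) * (y : G)⁻¹) := by group
      rw [e2, e3] at e
      exact e
    have hzy : (z : G) * (y : G)⁻¹ = 1 := by
      have hm := (hmemGab _).mp (Subgroup.mul_mem _ z.2 (Subgroup.inv_mem _ y.2))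
      exact hcent _ hm.1 hm.2 hc
    apply Subtype.ext
    exact (mul_inv_eq_one.mp hzy).symm
  have hsurj : Function.Surjective f := Finite.injective_iff_surjective.mp hf
  have hGabN : ∀ w ∈ MulAction.stabilizer G α ⊓ MulAction.stabilizer G β, w ∈ N := by
    intro w hw
    obtain ⟨y, hy⟩ := hsurj ⟨w, hw⟩
    have hw' : w = (y : G)⁻¹ * (t * y * t⁻¹) := (congrArg Subtype.val hy).symm
    rw [hw']
    have h1 : (y : G)⁻¹ * t * ((y : G)⁻¹)⁻¹ ∈ N := hNn.conj_mem t htN _
    have h2 := N.mul_mem h1 (N.inv_mem htN)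
    convert h2 using 1
    group
  rw [eq_top_iff]
  intro x _
  have hx : x • α ≠ x • β := fun h => hαβ (smul_left_cancel _ h)
  obtain ⟨n, hn, hnα, hnβ⟩ := hN2 hαβ hx
  have hw : n⁻¹ * x ∈ MulAction.stabilizer G α ⊓ MulAction.stabilizer G β := by
    rw [hmemGab]
    constructor
    · rw [mul_smul, inv_smul_eq_iff, hnα]
    · rw [mul_smul, inv_smul_eq_iff, hnβ]
  have := N.mul_mem hn (hGabN _ hw)
  simpa using this

end Zassenhaus

end Cfsg.Agent.Lib.helper75
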