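import Mathlib
import Cfsg.Agent.Lib.helper2.BFDefs
import Cfsg.Agent.Lib.helper4.CharDecomp

/-!
# S4503 piece C2 (`good_of_closure`)
-/

set_option autoImplicit false

open Cfsg
open scoped ComplexConjugate

namespace Cfsg.Agent.Lib.helper2.BF

theorem h75_list_sum_apply {α : Type*} (l : List (α → ℂ)) (a : α) :
    l.sum a = (l.map (fun f => f a)).sum := by
  induction l with
  | nil => simp
  | cons f l ih => simp [ih]

/-- In a finite group whose order is not divisible by `p ^ 2`, a normal subgroup containing an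
element of order `p` contains every element of order `p`. -/
theorem h75_mem_of_order_p {S : Type*} [Group S] [Finite S] (p : ℕ) [Fact p.Prime]
    (hsq : ¬ p ^ 2 ∣ Nat.card S) (N : Subgroup S) [N.Normal] (x₁ : S) (hx₁ : x₁ ∈ N)
    (hx₁o : orderOf x₁ = p) (z : S) (hz : z ^ p = 1) : z ∈ N := by
  have hp : p.Prime := Fact.out
  have hpN : p ∣ Nat.card N := by
    rw [← hx₁o]
    exact Subgroup.orderOf_dvd_natCard N hx₁
  have hidx : ¬ p ∣ N.index := by
    intro h
    apply hsq
    rw [← Subgroup.card_mul_index N, pow_two]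
    exact Nat.mul_dvd_mul hpN h
  have hcop : Nat.Coprime p N.index := (Nat.Prime.coprime_iff_not_dvd hp).mpr hidx
  have h1 : (QuotientGroup.mk z : S ⧸ N) ^ p = 1 := by
    rw [← QuotientGroup.mk_pow, hz]
    rfl
  have h2 : (QuotientGroup.mk z : S ⧸ N) ^ N.index = 1 := by
    rw [← QuotientGroup.mk_pow]
    exact (QuotientGroup.eq_one_iff _).mpr (Subgroup.pow_index_mem N z)
  have h3 : (QuotientGroup.mk z : S ⧸ N) ^ Nat.gcd p N.index = 1 := pow_gcd_eq_one.mpr ⟨h1, h2⟩
  rw [Nat.Coprime.gcd_eq_one hcop, pow_one] at h3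
  exact (QuotientGroup.eq_one_iff _).mp h3

variable {G : Type*} [Group G] [Fintype G]

/-- C2. -/
theorem good_of_closure (p : ℕ) [Fact p.Prime] (hsq : ¬ p ^ 2 ∣ Nat.card G) (x : G)
    (hxo : orderOf x = p) (ψ : G → ℂ) (hψ : IsCharacter G ψ)
    (IH : ∀ φ : Subgroup.normalClosure ({x} : Set G) → ℂ,
      IsIrrCharacter (Subgroup.normalClosure ({x} : Set G)) φ →
      charDegree φ ≤ charDegree ψ → Good p (Subgroup.normalClosure ({x} : Set G)) φ) :
    Good p G ψ := by
  classical
  have hp : p.Prime := Fact.out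
  have hxS : x ∈ Subgroup.normalClosure ({x} : Set G) :=
    Subgroup.subset_normalClosure (Set.mem_singleton x)
  have hres := Cfsg.Agent.Lib.helper4.isCharacter_restrict
    (Subgroup.normalClosure ({x} : Set G)) hψ
  obtain ⟨l, hl⟩ := Cfsg.Agent.Lib.helper4.exists_irr_list_of_isCharacter hres
  have hsqS : ¬ p ^ 2 ∣ Nat.card (Subgroup.normalClosure ({x} : Set G)) := fun h =>
    hsq (h.trans (Subgroup.card_subgroup_dvd_card _))
  refine ⟨Subgroup.normalClosure ({x} : Set G), Subgroup.normalClosure_normal,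
    ⟨x, hxS, hxo⟩, ?_⟩
  intro y hy hyp
  -- degrees
  have hdeg : ∀ φ ∈ l, ∃ n : ℕ, (φ : Subgroup.normalClosure ({x} : Set G) → ℂ) 1 = n := by
    intro φ _
    obtain ⟨n, ρ, _, h⟩ := φ.2
    exact Cfsg.Agent.Lib.helper4.exists_nat_degree ⟨n, ρ, h⟩
  have hψ1 : ψ 1 = ((l.map Subtype.val).map
      (fun f : Subgroup.normalClosure ({x} : Set G) → ℂ => f 1)).sum := by
    rw [← h75_list_sum_apply, ← hl]
    simp
  have hψy : ψ y = ((l.map Subtype.val).map
      (fun f : Subgroup.normalClosure ({x} : Set G) → ℂ => f ⟨y, hy⟩)).sum := by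
    rw [← h75_list_sum_apply, ← hl]
  have hle : ∀ φ ∈ l, charDegree (φ : Subgroup.normalClosure ({x} : Set G) → ℂ) ≤
      charDegree ψ := by
    intro φ hφ
    unfold charDegree
    apply Nat.floor_le_floor
    rw [hψ1]
    have hre : (((l.map Subtype.val).map
        (fun f : Subgroup.normalClosure ({x} : Set G) → ℂ => f 1)).sum).re =
        (l.map (fun φ' : IrrCharacter (Subgroup.normalClosure ({x} : Set G)) =>
          ((φ' : Subgroup.normalClosure ({x} : Set G) → ℂ) 1).re)).sum := by
      rw [List.map_map]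
      have : ∀ l' : List ℂ, (l'.sum).re = (l'.map Complex.re).sum := by
        intro l'
        induction l' with
        | nil => simp
        | cons a l' ih => simp [ih]
      rw [this, List.map_map]
      rfl
    rw [hre]
    refine List.single_le_sum ?_ _ (List.mem_map.mpr ⟨φ, hφ, rfl⟩)
    intro r hr
    obtain ⟨φ', hφ', rfl⟩ := List.mem_map.mp hr
    obtain ⟨n, hn⟩ := hdeg φ' hφ'
    rw [hn]
    simp
  have key : ∀ φ ∈ l, (φ : Subgroup.normalClosure ({x} : Set G) → ℂ) ⟨y, hy⟩ =
      (φ : Subgroup.normalClosure ({x} : Set G) → ℂ) 1 := by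
    intro φ hφ
    obtain ⟨N, hN, ⟨x₁, hx₁, hx₁o⟩, hker⟩ := IH φ φ.2 (hle φ hφ)
    have hall : ∀ z : Subgroup.normalClosure ({x} : Set G), z ^ p = 1 → z ∈ N :=
      fun z hz => h75_mem_of_order_p p hsqS N x₁ hx₁ hx₁o z hz
    have htop : ∀ z : G, ∀ hz : z ∈ Subgroup.normalClosure ({x} : Set G),
        (⟨z, hz⟩ : Subgroup.normalClosure ({x} : Set G)) ∈ N := by
      have hle2 : Subgroup.normalClosure ({x} : Set G) ≤ N.map (Subgroup.subtype _) := by
        show Subgroup.closure (Group.conjugatesOfSet {x}) ≤ _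
        rw [Subgroup.closure_le]
        intro z hz
        have hzS : z ∈ Subgroup.normalClosure ({x} : Set G) :=
          Subgroup.conjugatesOfSet_subset_normalClosure hz
        obtain ⟨b, hb, hconj⟩ := Group.mem_conjugatesOfSet_iff.mp hz
        rw [Set.mem_singleton_iff] at hb
        subst hb
        obtain ⟨c, hc⟩ := isConj_iff.mp hconj
        have hzp : z ^ p = 1 := by
          rw [← hc, conj_pow, ← hxo, pow_orderOf_eq_one]
          group
        refine ⟨⟨z, hzS⟩, hall ⟨z, hzS⟩ ?_, rfl⟩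
        apply Subtype.ext
        simpa using hzp
      intro z hz
      obtain ⟨w, hw, hwz⟩ := hle2 hz
      have : w = ⟨z, hz⟩ := Subtype.ext hwz
      rw [← this]
      exact hw
    apply hker ⟨y, hy⟩ (htop y hy)
    rw [Subgroup.orderOf_mk]
    exact hyp
  rw [hψ1, hψy, List.map_map, List.map_map]
  congr 1
  apply List.map_congr_left
  intro φ hφ
  exact key φ hφ

end Cfsg.Agent.Lib.helper2.BF
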