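import Mathlib
import Cfsg.Agent.S4343
import Cfsg.Agent.Lib.helper75.SylowPrime

/-!
No finite simple group has exactly 21 Sylow 5-subgroups (helper75).

By `S4343` the Sylow 5-subgroups have order 5.  The group acts faithfully by even permutations on the
21 Sylow 5-subgroups.  An involution centralizing a Sylow 5-subgroup `P` fixes exactly one point
(congruences mod 5 and mod 4); an involution normalizing but not centralizing `P` inverts `P` and fixes
1 or 5 points.  If it fixed 5 points, its centralizer would be transitive on them, hence of order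
divisible by 5, so the involution would centralize a Sylow 5-subgroup: contradiction.  Hence every
involution fixes exactly one point, a Sylow 2-subgroup `T` acts freely on the other 20 points, and
`|T| ∣ 4`.  Burnside's transfer theorem (for `P` or for `T`) finishes.
-/

set_option autoImplicit false

namespace Cfsg.Agent.Lib.helper75

open MulAction
open scoped Pointwise

section Aux

variable {G : Type*} [Group G]

/-- The centralizer of a subgroup is normalized by its normalizer. -/
theorem conj_mem_centralizer_of_mem_normalizer (H : Subgroup G) (g : G)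
    (hg : g ∈ Subgroup.normalizer (H : Set G)) (s : G)
    (hs : s ∈ Subgroup.centralizer (H : Set G)) :
    g * s * g⁻¹ ∈ Subgroup.centralizer (H : Set G) := by
  rw [Subgroup.mem_centralizer_iff] at hs ⊢
  intro q hq
  have hq' : g⁻¹ * q * g ∈ H := by
    have := (Subgroup.mem_normalizer_iff.mp (inv_mem hg) q).mp hq
    rwa [inv_inv] at this
  have h1 := hs _ hq'
  calc q * (g * s * g⁻¹) = g * ((g⁻¹ * q * g) * s) * g⁻¹ := by group
    _ = g * (s * (g⁻¹ * q * g)) * g⁻¹ := by rw [h1]
    _ = g * s * g⁻¹ * q := by group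

end Aux

section TwentyOne

variable {S : Type*} [Group S] [Finite S]

theorem card_ge_of_sylow_21 (h21 : Nat.card (Sylow 5 S) = 21) : 21 ≤ Nat.card S := by
  have h5 : Fact (Nat.Prime 5) := ⟨by norm_num⟩
  obtain ⟨P⟩ : Nonempty (Sylow 5 S) := inferInstance
  have h1 := Sylow.card_eq_index_normalizer P
  have h2 := Subgroup.index_dvd_card (Subgroup.normalizer (P : Set S))
  rw [← h1, h21] at h2
  exact Nat.le_of_dvd Nat.card_pos h2

variable [IsSimpleGroup S]

/-- An involution centralizing a Sylow 5-subgroup fixes exactly one of the 21 Sylow 5-subgroups. -/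
theorem fixed_centralizer_involution_21 (h21 : Nat.card (Sylow 5 S) = 21) (P : Sylow 5 S) (c : S)
    (hc : orderOf c = 2) (hcC : c ∈ Subgroup.centralizer ((P : Subgroup S) : Set S)) :
    Nat.card {ω : Sylow 5 S // c • ω = ω} = 1 := by
  have h5 : Fact (Nat.Prime 5) := ⟨by norm_num⟩
  have hS := card_ge_of_sylow_21 h21
  have h1 := card_fixed_centralizer_modEq P c hcC
  have h2 := involution_fixed_modEq_four (p := 5) (by omega) (by omega) c hc
  rw [h21] at h2
  have h3 : Nat.card {ω : Sylow 5 S // c • ω = ω} ≤ 21 := by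
    have := Finite.card_subtype_le (fun ω : Sylow 5 S => c • ω = ω)
    rwa [h21] at this
  have h4 : Nat.card {ω : Sylow 5 S // c • ω = ω} ≠ 21 := by
    intro h
    have hc1 : c = 1 := by
      apply sylow_faithful (p := 5) (by omega) c
      intro R
      by_contra hR
      have hlt := Finite.card_subtype_lt (p := fun ω : Sylow 5 S => c • ω = ω) hR
      omega
    rw [hc1, orderOf_one] at hc
    omega
  unfold Nat.ModEq at h1 h2
  omega

/-- An involution normalizing a Sylow 5-subgroup `P` fixes 1 or 5 points; in the latter case it does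
not centralize `P`. -/
theorem fixed_normalizer_involution_21 (h21 : Nat.card (Sylow 5 S) = 21) (P : Sylow 5 S)
    (hP5 : Nat.card P = 5) (u : S) (hu : orderOf u = 2) (huP : u • P = P) :
    Nat.card {ω : Sylow 5 S // u • ω = ω} = 1 ∨
      (Nat.card {ω : Sylow 5 S // u • ω = ω} = 5 ∧
        u ∉ Subgroup.centralizer ((P : Subgroup S) : Set S)) := by
  have h5 : Fact (Nat.Prime 5) := ⟨by norm_num⟩
  have hS := card_ge_of_sylow_21 h21
  by_cases huC : u ∈ Subgroup.centralizer ((P : Subgroup S) : Set S)
  · left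
    exact fixed_centralizer_involution_21 h21 P u hu huC
  · have hu2 : u * u = 1 := by rw [← pow_two, ← hu]; exact pow_orderOf_eq_one u
    have hinv := inverts_of_involution P hP5 u hu2 huP huC
    have hb := (inverting_card_fixed (by norm_num) P hP5 u huP hinv).1
    have h2 := involution_fixed_modEq_four (p := 5) (by omega) (by omega) u hu
    rw [h21] at hb h2
    have hpos : 0 < Nat.card {ω : Sylow 5 S // u • ω = ω} :=
      Nat.card_pos_iff.mpr ⟨⟨⟨P, huP⟩⟩, inferInstance⟩
    unfold Nat.ModEq at h2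
    have hcases : Nat.card {ω : Sylow 5 S // u • ω = ω} = 1 ∨
        Nat.card {ω : Sylow 5 S // u • ω = ω} = 5 := by omega
    rcases hcases with h | h
    · left; exact h
    · right; exact ⟨h, huC⟩

/-- Two involutions normalizing `P`, both with 5 fixed points, differ by an element of `P`. -/
theorem key_conj_21 (h21 : Nat.card (Sylow 5 S) = 21) (P : Sylow 5 S) (hP5 : Nat.card P = 5)
    (u u' : S) (hu : orderOf u = 2) (huP : u • P = P)
    (hf : Nat.card {ω : Sylow 5 S // u • ω = ω} = 5)
    (huC : u ∉ Subgroup.centralizer ((P : Subgroup S) : Set S))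
    (hu' : orderOf u' = 2) (huP' : u' • P = P)
    (hf' : Nat.card {ω : Sylow 5 S // u' • ω = ω} = 5)
    (huC' : u' ∉ Subgroup.centralizer ((P : Subgroup S) : Set S)) :
    u' * u ∈ (P : Subgroup S) := by
  have h5 : Fact (Nat.Prime 5) := ⟨by norm_num⟩
  have hS := card_ge_of_sylow_21 h21
  have hu2 : u * u = 1 := by rw [← pow_two, ← hu]; exact pow_orderOf_eq_one u
  have hu2' : u' * u' = 1 := by rw [← pow_two, ← hu']; exact pow_orderOf_eq_one u'
  have hinv := inverts_of_involution P hP5 u hu2 huP huC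
  have hinv' := inverts_of_involution P hP5 u' hu2' huP' huC'
  have hsurj := (inverting_card_fixed (by norm_num) P hP5 u huP hinv).2 (by rw [hf, h21])
  have hsurj' := (inverting_card_fixed (by norm_num) P hP5 u' huP' hinv').2 (by rw [hf', h21])
  obtain ⟨c, hc⟩ : ∃ c : S, c = u' * u := ⟨_, rfl⟩
  rw [← hc]
  have hcomm : ∀ x ∈ (P : Subgroup S), c * x = x * c := by
    intro x hx
    have h1 : u * x = x⁻¹ * u := by rw [← hinv x hx]; group
    have h2 : u' * x⁻¹ = x * u' := by
      have := hinv' x⁻¹ (inv_mem hx)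
      rw [inv_inv] at this
      calc u' * x⁻¹ = (u' * x⁻¹ * u'⁻¹) * u' := by group
        _ = x * u' := by rw [this]
    rw [hc, mul_assoc, h1, ← mul_assoc, h2, mul_assoc]
  have hcP : c • P = P := by rw [hc, mul_smul, huP, huP']
  have hpow : ∀ x ∈ (P : Subgroup S), x ^ 5 = 1 := by
    intro x hx
    have h6 : orderOf (⟨x, hx⟩ : (P : Subgroup S)) ∣ Nat.card (P : Subgroup S) :=
      orderOf_dvd_natCard _
    rw [hP5, Subgroup.orderOf_mk] at h6
    exact orderOf_dvd_iff_pow_eq_one.mp h6
  have hfix : ∀ ω : Sylow 5 S, (c ^ 5) • ω = ω := by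
    intro ω
    by_cases hω : ω = P
    · rw [hω]
      exact mem_stabilizer_iff.mp ((stabilizer S P).pow_mem (mem_stabilizer_iff.mpr hcP) 5)
    · obtain ⟨β, hβ, hβP, x, hx, rfl⟩ := hsurj ω hω
      obtain ⟨γ, hγ, hγP, x', hx', hβγ⟩ := hsurj' β hβP
      have hcβ : c • β = (x'⁻¹ * x'⁻¹) • β := by
        have h1 : u' * x' = x'⁻¹ * u' := by rw [← hinv' x' hx']; group
        have hγβ : γ = x'⁻¹ • β := by rw [hβγ, inv_smul_smul]
        rw [hc, mul_smul, hβ]
        have h2 : u' • β = u' • (x' • γ) := by rw [← hβγ]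
        rw [h2, ← mul_smul, h1, mul_smul, hγ, hγβ, ← mul_smul]
      obtain ⟨y, hy⟩ : ∃ y : S, y = x'⁻¹ * x'⁻¹ := ⟨_, rfl⟩
      rw [← hy] at hcβ
      have hyP : y ∈ (P : Subgroup S) := by rw [hy]; exact mul_mem (inv_mem hx') (inv_mem hx')
      have hcy : Commute c y := hcomm y hyP
      have hpowβ : ∀ k : ℕ, (c ^ k) • β = (y ^ k) • β := by
        intro k
        induction k with
        | zero => simp
        | succ k ih =>
          rw [pow_succ, mul_smul, hcβ, ← mul_smul, (hcy.pow_left k).eq, mul_smul, ih, ← mul_smul,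
            ← pow_succ']
      have hcx : Commute (c ^ 5) x := (show Commute c x from hcomm x hx).pow_left 5
      rw [← mul_smul, hcx.eq, mul_smul, hpowβ 5, hpow y hyP, one_smul]
  have hc5 : c ^ 5 = 1 := sylow_faithful (p := 5) (by omega) (c ^ 5) hfix
  have hpg : IsPGroup 5 (Subgroup.zpowers c) := by
    intro g
    refine ⟨1, ?_⟩
    obtain ⟨j, hj⟩ := Subgroup.mem_zpowers_iff.mp g.2
    apply Subtype.ext
    rw [pow_one, Subgroup.coe_pow, ← hj, ← zpow_natCast, ← zpow_mul, mul_comm, zpow_mul,
      zpow_natCast, hc5, one_zpow]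
    rfl
  have h := hpg.inf_normalizer_sylow P
  have hmem : c ∈ Subgroup.zpowers c ⊓ Subgroup.normalizer ((P : Subgroup S) : Set S) :=
    ⟨Subgroup.mem_zpowers c, Sylow.smul_eq_iff_mem_normalizer.mp hcP⟩
  have hmem2 : c ∈ Subgroup.zpowers c ⊓ (P : Subgroup S) := by
    rw [← h]
    exact hmem
  exact hmem2.2

/-- No involution normalizing a Sylow 5-subgroup has exactly 5 fixed points. -/
theorem no_five_fixed_21 (h21 : Nat.card (Sylow 5 S) = 21)
    (hP5 : ∀ P : Sylow 5 S, Nat.card P = 5) (P : Sylow 5 S) (u : S) (hu : orderOf u = 2)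
    (huP : u • P = P) (hf : Nat.card {ω : Sylow 5 S // u • ω = ω} = 5) : False := by
  have h5 : Fact (Nat.Prime 5) := ⟨by norm_num⟩
  have hS := card_ge_of_sylow_21 h21
  have huC : u ∉ Subgroup.centralizer ((P : Subgroup S) : Set S) := by
    intro h
    have := fixed_centralizer_involution_21 h21 P u hu h
    omega
  have hu2 : u * u = 1 := by rw [← pow_two, ← hu]; exact pow_orderOf_eq_one u
  have hu_inv : u⁻¹ = u := inv_eq_of_mul_eq_one_left hu2
  have hinv := inverts_of_involution P (hP5 P) u hu2 huP huC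
  have htrans : ∀ β : Sylow 5 S, u • β = β → ∃ g : S, g * u = u * g ∧ g • P = β := by
    intro β hβ
    obtain ⟨h, rfl⟩ := MulAction.exists_smul_eq S P β
    obtain ⟨u', hu'⟩ : ∃ u' : S, u' = h⁻¹ * u * h := ⟨_, rfl⟩
    have hu'2 : u' * u' = 1 := by
      rw [hu']
      calc h⁻¹ * u * h * (h⁻¹ * u * h) = h⁻¹ * (u * u) * h := by group
        _ = 1 := by rw [hu2]; group
    have hu'1 : u' ≠ 1 := by
      intro h1
      have h2 : u = h * u' * h⁻¹ := by rw [hu']; group
      have h3 : u = 1 := by rw [h2, h1]; group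
      rw [h3, orderOf_one] at hu
      omega
    have hu'o : orderOf u' = 2 := orderOf_eq_prime (by rw [pow_two]; exact hu'2) hu'1
    have hu'P : u' • P = P := by
      rw [hu', mul_smul, mul_smul, hβ, inv_smul_smul]
    have hf' : Nat.card {ω : Sylow 5 S // u' • ω = ω} = 5 := by
      refine (Nat.card_congr ?_).trans hf
      exact (MulAction.toPerm h : Equiv.Perm (Sylow 5 S)).subtypeEquiv (fun ω => by
        show u' • ω = ω ↔ u • (h • ω) = h • ω
        rw [hu', mul_smul, mul_smul, inv_smul_eq_iff])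
    have huC' : u' ∉ Subgroup.centralizer ((P : Subgroup S) : Set S) := by
      intro hh
      have := fixed_centralizer_involution_21 h21 P u' hu'o hh
      omega
    have hcP := key_conj_21 h21 P (hP5 P) u u' hu huP hf huC hu'o hu'P hf' huC'
    obtain ⟨c, hc⟩ : ∃ c : S, c = u' * u := ⟨_, rfl⟩
    rw [← hc] at hcP
    have hc5 : c ^ 5 = 1 := by
      have h6 : orderOf (⟨c, hcP⟩ : (P : Subgroup S)) ∣ Nat.card (P : Subgroup S) :=
        orderOf_dvd_natCard _
      rw [hP5 P, Subgroup.orderOf_mk] at h6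
      exact orderOf_dvd_iff_pow_eq_one.mp h6
    have hc3P : c ^ 3 ∈ (P : Subgroup S) := pow_mem hcP 3
    refine ⟨h * c ^ 3, ?_, ?_⟩
    · have h1 : u * h = h * u' := by rw [hu']; group
      have h2 : u' = c * u := by rw [hc, mul_assoc, hu2, mul_one]
      have h3 : u * c ^ 3 = (c ^ 3)⁻¹ * u := by rw [← hinv _ hc3P]; group
      have h4 : c * (c ^ 3)⁻¹ = c ^ 3 := by
        have : c ^ 3 * c ^ 3 = c := by
          calc c ^ 3 * c ^ 3 = c ^ 5 * c := by group
            _ = c := by rw [hc5, one_mul]
        calc c * (c ^ 3)⁻¹ = c ^ 3 * c ^ 3 * (c ^ 3)⁻¹ := by rw [this]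
          _ = c ^ 3 := by group
      calc h * c ^ 3 * u = h * (c * (c ^ 3)⁻¹) * u := by rw [h4]
        _ = h * c * ((c ^ 3)⁻¹ * u) := by group
        _ = h * c * (u * c ^ 3) := by rw [h3]
        _ = h * (c * u) * c ^ 3 := by group
        _ = h * u' * c ^ 3 := by rw [h2]
        _ = u * h * c ^ 3 := by rw [h1]
        _ = u * (h * c ^ 3) := by group
    · rw [mul_smul]
      congr 1
      exact Sylow.smul_eq_iff_mem_normalizer.mpr (Subgroup.le_normalizer hc3P)
  obtain ⟨Cu, hCu⟩ : ∃ Cu : Subgroup S, Cu = Subgroup.centralizer ({u} : Set S) := ⟨_, rfl⟩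
  have horb : orbit Cu P = {ω | u • ω = ω} := by
    ext ω
    constructor
    · rintro ⟨⟨g, hg⟩, rfl⟩
      rw [hCu] at hg
      have hgu : u * g = g * u := Subgroup.mem_centralizer_iff.mp hg u rfl
      show u • (g • P) = g • P
      rw [← mul_smul, hgu, mul_smul, huP]
    · intro hω
      obtain ⟨g, hgu, rfl⟩ := htrans ω hω
      have hg : g ∈ Cu := by
        rw [hCu]
        exact Subgroup.mem_centralizer_iff.mpr (by rintro _ rfl; exact hgu.symm)
      exact ⟨⟨g, hg⟩, rfl⟩
  have h5dvd : 5 ∣ Nat.card Cu := by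
    have h1 := Subgroup.index_dvd_card (stabilizer Cu P)
    rw [MulAction.index_stabilizer, horb] at h1
    have h2 : ({ω | u • ω = ω} : Set (Sylow 5 S)).ncard = 5 := by
      rw [← Nat.card_coe_set_eq]; exact hf
    rwa [h2] at h1
  obtain ⟨w₁, hw₁⟩ := exists_prime_orderOf_dvd_card' 5 h5dvd
  obtain ⟨w, hw⟩ : ∃ w : S, w = (w₁ : S) := ⟨_, rfl⟩
  have hwo : orderOf w = 5 := by rw [hw, Subgroup.orderOf_coe, hw₁]
  have hwu : u * w = w * u := by
    have h1 : (w₁ : S) ∈ Subgroup.centralizer ({u} : Set S) := hCu ▸ w₁.2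
    rw [hw]
    exact Subgroup.mem_centralizer_iff.mp h1 u rfl
  have hpg : IsPGroup 5 (Subgroup.zpowers w) :=
    IsPGroup.of_card (n := 1) (by rw [Nat.card_zpowers, hwo, pow_one])
  obtain ⟨Q, hQ⟩ := hpg.exists_le_sylow
  have hwQ : w ∈ (Q : Subgroup S) := hQ (Subgroup.mem_zpowers w)
  have hw1 : w ≠ 1 := by
    intro h
    rw [h, orderOf_one] at hwo
    omega
  have hzQ := zpowers_eq_of_card_prime Q (hP5 Q) w hwQ hw1
  have huCQ : u ∈ Subgroup.centralizer ((Q : Subgroup S) : Set S) := by
    rw [Subgroup.mem_centralizer_iff]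
    intro g hg
    have hg' : g ∈ (Q : Subgroup S) := hg
    rw [← hzQ] at hg'
    obtain ⟨k, rfl⟩ := Subgroup.mem_zpowers_iff.mp hg'
    have hc : Commute u w := hwu
    exact (hc.zpow_right k).eq.symm
  have := fixed_centralizer_involution_21 h21 Q u hu huCQ
  omega

/-- Every involution fixes exactly one of the 21 Sylow 5-subgroups. -/
theorem involution_fixed_one_21 (h21 : Nat.card (Sylow 5 S) = 21)
    (hP5 : ∀ P : Sylow 5 S, Nat.card P = 5) (v : S) (hv : orderOf v = 2) :
    Nat.card {ω : Sylow 5 S // v • ω = ω} = 1 := by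
  have h5 : Fact (Nat.Prime 5) := ⟨by norm_num⟩
  have hS := card_ge_of_sylow_21 h21
  have h2 := involution_fixed_modEq_four (p := 5) (by omega) (by omega) v hv
  rw [h21] at h2
  have hne : Nat.card {ω : Sylow 5 S // v • ω = ω} ≠ 0 := by
    unfold Nat.ModEq at h2
    omega
  obtain ⟨⟨Q, hQ⟩⟩ : Nonempty {ω : Sylow 5 S // v • ω = ω} :=
    (Nat.card_pos_iff.mp (Nat.pos_of_ne_zero hne)).1
  rcases fixed_normalizer_involution_21 h21 Q (hP5 Q) v hv hQ with h | ⟨h, -⟩
  · exact h
  · exact (no_five_fixed_21 h21 hP5 Q v hv hQ h).elim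

omit [IsSimpleGroup S] in
/-- A Sylow 2-subgroup fixes one of the 21 Sylow 5-subgroups. -/
theorem sylow_two_fixed_21 (h21 : Nat.card (Sylow 5 S) = 21) (T : Sylow 2 S) :
    ∃ Q : Sylow 5 S, ∀ t ∈ (T : Subgroup S), t • Q = Q := by
  have h2 : Fact (Nat.Prime 2) := ⟨Nat.prime_two⟩
  have hmod := T.2.card_modEq_card_fixedPoints (Sylow 5 S)
  rw [h21] at hmod
  have hne : Nat.card (fixedPoints (T : Subgroup S) (Sylow 5 S)) ≠ 0 := by
    unfold Nat.ModEq at hmod
    omega
  obtain ⟨⟨Q, hQ⟩⟩ : Nonempty (fixedPoints (T : Subgroup S) (Sylow 5 S)) :=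
    (Nat.card_pos_iff.mp (Nat.pos_of_ne_zero hne)).1
  exact ⟨Q, fun t ht => hQ ⟨t, ht⟩⟩

/-- A Sylow 2-subgroup acts freely on the Sylow 5-subgroups other than its fixed point. -/
theorem sylow_two_free_21 (h21 : Nat.card (Sylow 5 S) = 21)
    (hP5 : ∀ P : Sylow 5 S, Nat.card P = 5) (T : Sylow 2 S) (Q : Sylow 5 S)
    (hQ : ∀ t ∈ (T : Subgroup S), t • Q = Q) (t : S) (ht : t ∈ (T : Subgroup S)) (ht1 : t ≠ 1)
    (R : Sylow 5 S) (hR : t • R = R) : R = Q := by
  have h2 : Fact (Nat.Prime 2) := ⟨Nat.prime_two⟩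
  obtain ⟨k, hk⟩ := (IsPGroup.iff_orderOf.mp T.2) ⟨t, ht⟩
  rw [Subgroup.orderOf_mk] at hk
  have hk0 : k ≠ 0 := by
    rintro rfl
    rw [pow_zero] at hk
    exact ht1 (orderOf_eq_one_iff.mp hk)
  obtain ⟨j, rfl⟩ := Nat.exists_eq_succ_of_ne_zero hk0
  obtain ⟨v, hv⟩ : ∃ v : S, v = t ^ (2 ^ j) := ⟨_, rfl⟩
  have hv2 : v ^ 2 = 1 := by
    rw [hv, ← pow_mul, ← pow_succ, ← hk]
    exact pow_orderOf_eq_one t
  have hv1 : v ≠ 1 := by
    intro h
    rw [hv] at h
    have := orderOf_dvd_of_pow_eq_one h
    rw [hk] at this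
    have := (Nat.pow_dvd_pow_iff_le_right (by norm_num : 1 < 2)).mp this
    omega
  have hvo : orderOf v = 2 := orderOf_eq_prime hv2 hv1
  have hvR : v • R = R := by
    rw [hv]
    exact mem_stabilizer_iff.mp ((stabilizer S R).pow_mem (mem_stabilizer_iff.mpr hR) _)
  have hvQ : v • Q = Q := by
    rw [hv]
    exact hQ _ (pow_mem ht _)
  have h1 := involution_fixed_one_21 h21 hP5 v hvo
  rw [Nat.card_eq_one_iff_unique] at h1
  have := h1.1.elim ⟨R, hvR⟩ ⟨Q, hvQ⟩
  exact congrArg Subtype.val this

/-- The order of a Sylow 2-subgroup divides 20. -/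
theorem sylow_two_card_dvd_21 (h21 : Nat.card (Sylow 5 S) = 21)
    (hP5 : ∀ P : Sylow 5 S, Nat.card P = 5) (T : Sylow 2 S) : Nat.card T ∣ 20 := by
  classical
  obtain ⟨Q, hQ⟩ := sylow_two_fixed_21 h21 T
  have : Fintype (T : Subgroup S) := Fintype.ofFinite _
  have : Fintype (Sylow 5 S) := Fintype.ofFinite _
  have : ∀ g : (T : Subgroup S), Fintype (fixedBy (Sylow 5 S) g) := fun g => Fintype.ofFinite _
  have : Fintype (Quotient (orbitRel (T : Subgroup S) (Sylow 5 S))) := Fintype.ofFinite _
  have hB := MulAction.sum_card_fixedBy_eq_card_orbits_mul_card_group (T : Subgroup S) (Sylow 5 S)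
  have h1 : ∀ g : (T : Subgroup S), g ≠ 1 → Fintype.card (fixedBy (Sylow 5 S) g) = 1 := by
    intro g hg
    rw [Fintype.card_eq_one_iff]
    refine ⟨⟨Q, hQ g.1 g.2⟩, ?_⟩
    rintro ⟨R, hR⟩
    apply Subtype.ext
    exact sylow_two_free_21 h21 hP5 T Q hQ g.1 g.2 (fun h => hg (Subtype.ext h)) R hR
  have h0 : Fintype.card (fixedBy (Sylow 5 S) (1 : (T : Subgroup S))) = 21 := by
    rw [← h21, Nat.card_eq_fintype_card]
    apply Fintype.card_congr
    exact Equiv.subtypeUnivEquiv (fun ω => by simp)
  have hsum : ∑ g : (T : Subgroup S), Fintype.card (fixedBy (Sylow 5 S) g)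
      = 21 + (Fintype.card (T : Subgroup S) - 1) := by
    rw [← Finset.add_sum_erase Finset.univ _ (Finset.mem_univ (1 : (T : Subgroup S))), h0]
    congr 1
    rw [Finset.sum_congr rfl (fun g hg => h1 g (Finset.ne_of_mem_erase hg)), Finset.sum_const,
      Finset.card_erase_of_mem (Finset.mem_univ _), Finset.card_univ, smul_eq_mul, mul_one]
  rw [hsum] at hB
  rw [Nat.card_eq_fintype_card]
  have hpos : 0 < Fintype.card (T : Subgroup S) := Fintype.card_pos
  have hdvd : Fintype.card (T : Subgroup S) ∣ 21 + (Fintype.card (T : Subgroup S) - 1) :=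
    Dvd.intro_left _ hB.symm
  have heq : 21 + (Fintype.card (T : Subgroup S) - 1) = 20 + Fintype.card (T : Subgroup S) := by
    omega
  rw [heq] at hdvd
  exact (Nat.dvd_add_left (dvd_refl _)).mp hdvd

/-- No finite simple group has exactly 21 Sylow 5-subgroups. -/
theorem no_simple_twentyone_sylow_five : Nat.card (Sylow 5 S) ≠ 21 := by
  intro h21
  have h5 : Fact (Nat.Prime 5) := ⟨by norm_num⟩
  have h2 : Fact (Nat.Prime 2) := ⟨Nat.prime_two⟩
  have hS21 := card_ge_of_sylow_21 h21
  obtain ⟨P⟩ : Nonempty (Sylow 5 S) := inferInstance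
  have hnc : ¬ IsMulCommutative S := by
    intro hc
    have htop : Subgroup.normalizer ((P : Subgroup S) : Set S) = ⊤ := by
      rw [eq_top_iff]
      intro g _
      rw [Subgroup.mem_normalizer_iff]
      intro h
      have : g * h * g⁻¹ = h := by rw [hc.is_comm.comm g h, mul_inv_cancel_right]
      rw [this]
    have h1 : Nat.card (Sylow 5 S) = (Subgroup.normalizer ((P : Subgroup S) : Set S)).index :=
      Sylow.card_eq_index_normalizer P
    rw [htop, Subgroup.index_top, h21] at h1
    omega
  have h5dvd : 5 ∣ Nat.card S := by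
    by_contra hnd
    have hcard : Nat.card (P : Subgroup S) = 1 := by
      rw [Sylow.card_eq_multiplicity, Nat.factorization_eq_zero_of_not_dvd hnd, pow_zero]
    have hbot : (P : Subgroup S) = ⊥ := Subgroup.card_eq_one.mp hcard
    have htop : Subgroup.normalizer ((P : Subgroup S) : Set S) = ⊤ := by
      rw [eq_top_iff]
      intro g _
      rw [Subgroup.mem_normalizer_iff]
      intro h
      show h ∈ (P : Subgroup S) ↔ g * h * g⁻¹ ∈ (P : Subgroup S)
      rw [hbot, Subgroup.mem_bot, Subgroup.mem_bot]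
      constructor
      · rintro rfl
        group
      · intro hh
        have : h = g⁻¹ * (g * h * g⁻¹) * g := by group
        rw [this, hh]
        group
    have h1 : Nat.card (Sylow 5 S) = (Subgroup.normalizer ((P : Subgroup S) : Set S)).index :=
      Sylow.card_eq_index_normalizer P
    rw [htop, Subgroup.index_top, h21] at h1
    omega
  have hP5 : ∀ Q : Sylow 5 S, Nat.card Q = 5 := fun Q =>
    Cfsg.Agent.S4343.result hnc 5 h5dvd (by rw [h21]; norm_num) Q
  obtain ⟨T⟩ : Nonempty (Sylow 2 S) := inferInstance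
  obtain ⟨Q, hQ⟩ := sylow_two_fixed_21 h21 T
  have hTdvd := sylow_two_card_dvd_21 h21 hP5 T
  obtain ⟨k, hk⟩ := (IsPGroup.iff_card.mp T.2)
  have hk2 : k ≤ 2 := by
    by_contra hlt
    push Not at hlt
    have h8 : 2 ^ 3 ∣ Nat.card T := by rw [hk]; exact pow_dvd_pow 2 hlt
    have := h8.trans hTdvd
    omega
  have hT4le : Nat.card T ≤ 4 := by
    rw [hk]
    calc 2 ^ k ≤ 2 ^ 2 := Nat.pow_le_pow_right (by norm_num) hk2
      _ = 4 := by norm_num
  have hTne : Nat.card T ≠ Nat.card S := by omega
  have hQ5 := hP5 Q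
  have hQcyc : IsCyclic (Q : Subgroup S) := isCyclic_of_prime_card hQ5
  have hrel := relIndex_centralizer_normalizer_dvd (Q : Subgroup S)
  rw [IsCyclic.card_mulAut, hQ5, Nat.totient_prime (by norm_num)] at hrel
  have hQtr : ¬ (Subgroup.normalizer ((Q : Subgroup S) : Set S) ≤
      Subgroup.centralizer ((Q : Subgroup S) : Set S)) := fun h =>
    not_simple_of_sylow_central 5 Q h (by rw [hQ5]; norm_num) (by rw [hQ5]; omega)
  have hTN : (T : Subgroup S) ≤ Subgroup.normalizer ((Q : Subgroup S) : Set S) :=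
    fun t ht => Sylow.smul_eq_iff_mem_normalizer.mp (hQ t ht)
  -- some element of `T` does not centralize `Q`
  have hex_u : ∃ u ∈ (T : Subgroup S), u ∉ Subgroup.centralizer ((Q : Subgroup S) : Set S) := by
    by_contra hcon
    push Not at hcon
    apply hQtr
    rw [← Subgroup.relIndex_eq_one]
    have hTC : (T : Subgroup S) ≤ Subgroup.centralizer ((Q : Subgroup S) : Set S) := hcon
    have h1 := Subgroup.relIndex_mul_index
      (Subgroup.centralizer_le_normalizer ((Q : Subgroup S) : Set S))
    have h2' : (Subgroup.centralizer ((Q : Subgroup S) : Set S)).index ∣ (T : Subgroup S).index :=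
      Subgroup.index_dvd_of_le hTC
    have h3 : ¬ 2 ∣ (T : Subgroup S).index := T.not_dvd_index
    have h4 : ¬ 2 ∣ (Subgroup.centralizer ((Q : Subgroup S) : Set S)).relIndex
        (Subgroup.normalizer ((Q : Subgroup S) : Set S)) := by
      intro h
      apply h3
      refine Dvd.dvd.trans ?_ h2'
      rw [← h1]
      exact Dvd.dvd.mul_right h _
    have hle := Nat.le_of_dvd (by norm_num) hrel
    obtain ⟨r, hr⟩ : ∃ r, r = (Subgroup.centralizer ((Q : Subgroup S) : Set S)).relIndex
        (Subgroup.normalizer ((Q : Subgroup S) : Set S)) := ⟨_, rfl⟩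
    rw [← hr] at hrel h4 hle ⊢
    interval_cases r <;> omega
  obtain ⟨u, huT, huC⟩ := hex_u
  by_cases hcyc : IsCyclic (T : Subgroup S)
  · have hT1 : Nat.card T ≠ 1 := by
      intro h
      have hb : (T : Subgroup S) = ⊥ := Subgroup.card_eq_one.mp h
      rw [hb, Subgroup.mem_bot] at huT
      rw [huT] at huC
      exact huC (one_mem _)
    have h2dvd : 2 ∣ Nat.card S := by
      have h1 : 2 ∣ Nat.card T := by
        rw [hk]
        apply dvd_pow_self
        rintro rfl
        rw [pow_zero] at hk
        exact hT1 hk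
      exact h1.trans (Subgroup.card_subgroup_dvd_card _)
    have hminFac : (Nat.card S).minFac = 2 := (Nat.minFac_eq_two_iff _).mpr h2dvd
    exact not_simple_of_sylow_central 2 T (hcyc.normalizer_le_centralizer hminFac) hT1 hTne
  · -- the Klein four case
    have hex_t : ∃ t ∈ (T : Subgroup S),
        t ∈ Subgroup.centralizer ((Q : Subgroup S) : Set S) ∧ t ≠ 1 := by
      by_contra hcon
      push Not at hcon
      exact hcyc (isCyclic_of_normalizing_faithful Q hQ5 (T : Subgroup S) hTN hcon)
    obtain ⟨t, htT, htC, ht1⟩ := hex_t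
    have hT4 : Nat.card T = 4 := by
      interval_cases k
      · exfalso
        apply hcyc
        rw [pow_zero] at hk
        have hb : (T : Subgroup S) = ⊥ := Subgroup.card_eq_one.mp hk
        rw [hb]
        infer_instance
      · exfalso
        apply hcyc
        exact isCyclic_of_prime_card (p := 2) (by rw [hk]; norm_num)
      · rw [hk]
        norm_num
    have hsq : ∀ s ∈ (T : Subgroup S), s * s = 1 := by
      intro s hs
      have h1 : orderOf (⟨s, hs⟩ : (T : Subgroup S)) ∣ 4 := by
        rw [← hT4]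
        exact orderOf_dvd_natCard _
      have h2' : orderOf (⟨s, hs⟩ : (T : Subgroup S)) ≠ 4 := by
        intro h
        apply hcyc
        exact isCyclic_of_orderOf_eq_card _ (by rw [h, hT4])
      have h3 : orderOf (⟨s, hs⟩ : (T : Subgroup S)) ∣ 2 := by
        have hle := Nat.le_of_dvd (by norm_num) h1
        obtain ⟨r, hr⟩ : ∃ r, r = orderOf (⟨s, hs⟩ : (T : Subgroup S)) := ⟨_, rfl⟩
        rw [← hr] at h1 h2' hle ⊢
        interval_cases r <;> omega
      rw [Subgroup.orderOf_mk] at h3
      have := orderOf_dvd_iff_pow_eq_one.mp h3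
      rwa [pow_two] at this
    have ht2 : t * t = 1 := hsq t htT
    have hto : orderOf t = 2 := orderOf_eq_prime (by rw [pow_two]; exact ht2) ht1
    -- `T ∩ C(Q) = {1, t}`
    have hD : ∀ d ∈ (T : Subgroup S), d ∈ Subgroup.centralizer ((Q : Subgroup S) : Set S) →
        d = 1 ∨ d = t := by
      intro d hdT hdC
      obtain ⟨D, hDdef⟩ : ∃ D : Subgroup S,
          D = (T : Subgroup S) ⊓ Subgroup.centralizer ((Q : Subgroup S) : Set S) := ⟨_, rfl⟩
      have hDT : D ≤ (T : Subgroup S) := by rw [hDdef]; exact inf_le_left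
      have hDcard : Nat.card D ∣ 4 := hT4 ▸ Subgroup.card_dvd_of_le hDT
      have hDne : Nat.card D ≠ 4 := by
        intro h
        have hDe : D = (T : Subgroup S) := Subgroup.eq_of_le_of_card_ge hDT (by rw [h, hT4])
        have huD : u ∈ D := by rw [hDe]; exact huT
        rw [hDdef] at huD
        exact huC huD.2
      have hzt : Subgroup.zpowers t ≤ D := by
        rw [Subgroup.zpowers_le, hDdef]
        exact ⟨htT, htC⟩
      have h2D : 2 ∣ Nat.card D := by
        have := Subgroup.card_dvd_of_le hzt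
        rwa [Nat.card_zpowers, hto] at this
      have hD2 : Nat.card D = 2 := by
        have hle := Nat.le_of_dvd (by norm_num) hDcard
        obtain ⟨r, hr⟩ : ∃ r, r = Nat.card D := ⟨_, rfl⟩
        rw [← hr] at hDcard hDne h2D hle ⊢
        interval_cases r <;> omega
      have hDz : Subgroup.zpowers t = D :=
        Subgroup.eq_of_le_of_card_ge hzt (by rw [hD2, Nat.card_zpowers, hto])
      have hdD : d ∈ D := by rw [hDdef]; exact ⟨hdT, hdC⟩
      rw [← hDz] at hdD
      obtain ⟨j, rfl⟩ := Subgroup.mem_zpowers_iff.mp hdD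
      have ht2' : t ^ (2 : ℤ) = 1 := by rw [zpow_two]; exact ht2
      rcases Int.even_or_odd' j with ⟨i, rfl | rfl⟩
      · left
        rw [zpow_mul, ht2', one_zpow]
      · right
        rw [zpow_add, zpow_mul, ht2', one_zpow, one_mul, zpow_one]
    have hu2 : u * u = 1 := hsq u huT
    have hNC : Subgroup.normalizer ((T : Subgroup S) : Set S) ≤
        Subgroup.centralizer ((T : Subgroup S) : Set S) := by
      intro g hg
      have hconjT : ∀ s, s ∈ (T : Subgroup S) → g * s * g⁻¹ ∈ (T : Subgroup S) :=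
        fun s hs => (Subgroup.mem_normalizer_iff.mp hg s).mp hs
      have hgQ : g • Q = Q := by
        have h1 : g⁻¹ * t * g ∈ (T : Subgroup S) := by
          have := (Subgroup.mem_normalizer_iff.mp (inv_mem hg) t).mp htT
          rwa [inv_inv] at this
        have h2' : t • (g • Q) = g • Q := by
          have : t * g = g * (g⁻¹ * t * g) := by group
          rw [← mul_smul, this, mul_smul, hQ _ h1]
        exact sylow_two_free_21 h21 hP5 T Q hQ t htT ht1 (g • Q) h2'
      have hgN : g ∈ Subgroup.normalizer ((Q : Subgroup S) : Set S) :=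
        Sylow.smul_eq_iff_mem_normalizer.mp hgQ
      have hgt : g * t * g⁻¹ = t := by
        rcases hD _ (hconjT t htT)
          (conj_mem_centralizer_of_mem_normalizer (Q : Subgroup S) g hgN t htC) with h | h
        · exfalso
          apply ht1
          have h' : t = g⁻¹ * (g * t * g⁻¹) * g := by group
          rw [h', h]
          group
        · exact h
      have hg2 : ∀ s ∈ (T : Subgroup S), g * (g * s * g⁻¹) * g⁻¹ = s := by
        intro s hs
        by_cases hsC : s ∈ Subgroup.centralizer ((Q : Subgroup S) : Set S)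
        · rcases hD s hs hsC with rfl | rfl
          · group
          · rw [hgt, hgt]
        · have hs'T := hconjT s hs
          have hs'C : g * s * g⁻¹ ∉ Subgroup.centralizer ((Q : Subgroup S) : Set S) := by
            intro h
            apply hsC
            have h1 := conj_mem_centralizer_of_mem_normalizer (Q : Subgroup S) g⁻¹
              (inv_mem hgN) _ h
            have h' : g⁻¹ * (g * s * g⁻¹) * g⁻¹⁻¹ = s := by group
            rwa [h'] at h1
          have hinv1 := inverts_of_involution Q hQ5 s (hsq s hs) (hQ s hs) hsC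
          have hinv2 := inverts_of_involution Q hQ5 (g * s * g⁻¹) (hsq _ hs'T) (hQ _ hs'T) hs'C
          have hdC : s⁻¹ * (g * s * g⁻¹) ∈ Subgroup.centralizer ((Q : Subgroup S) : Set S) := by
            rw [Subgroup.mem_centralizer_iff]
            intro q hq
            have e1 : (g * s * g⁻¹) * q = q⁻¹ * (g * s * g⁻¹) := by
              rw [← hinv2 q hq]; group
            have e2 : s⁻¹ * q⁻¹ = q * s⁻¹ := by
              have := hinv1 q hq
              calc s⁻¹ * q⁻¹ = s⁻¹ * (s * q * s⁻¹) := by rw [this]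
                _ = q * s⁻¹ := by group
            calc q * (s⁻¹ * (g * s * g⁻¹)) = (q * s⁻¹) * (g * s * g⁻¹) := by group
              _ = (s⁻¹ * q⁻¹) * (g * s * g⁻¹) := by rw [e2]
              _ = s⁻¹ * (q⁻¹ * (g * s * g⁻¹)) := by group
              _ = s⁻¹ * ((g * s * g⁻¹) * q) := by rw [e1]
              _ = s⁻¹ * (g * s * g⁻¹) * q := by group
          rcases hD _ (mul_mem (inv_mem hs) hs'T) hdC with h | h
          · have h' : g * s * g⁻¹ = s := by
              calc g * s * g⁻¹ = s * (s⁻¹ * (g * s * g⁻¹)) := by group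
                _ = s := by rw [h, mul_one]
            rw [h', h']
          · have h' : g * s * g⁻¹ = s * t := by
              calc g * s * g⁻¹ = s * (s⁻¹ * (g * s * g⁻¹)) := by group
                _ = s * t := by rw [h]
            calc g * (g * s * g⁻¹) * g⁻¹ = g * (s * t) * g⁻¹ := by rw [h']
              _ = (g * s * g⁻¹) * (g * t * g⁻¹) := by group
              _ = s * t * t := by rw [h', hgt]
              _ = s := by rw [mul_assoc, ht2, mul_one]
      have hgg : g ^ 2 ∈ Subgroup.centralizer ((T : Subgroup S) : Set S) := by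
        rw [Subgroup.mem_centralizer_iff]
        intro s hs
        have := hg2 s hs
        rw [pow_two]
        calc s * (g * g) = (g * (g * s * g⁻¹) * g⁻¹) * (g * g) := by rw [this]
          _ = g * g * s := by group
      obtain ⟨K, hKdef⟩ : ∃ K : Subgroup (Subgroup.normalizer ((T : Subgroup S) : Set S)),
          K = (Subgroup.centralizer ((T : Subgroup S) : Set S)).subgroupOf
            (Subgroup.normalizer ((T : Subgroup S) : Set S)) := ⟨_, rfl⟩
      have hKn : K.Normal := by
        have hK' : K = (Subgroup.normalizerMonoidHom (T : Subgroup S)).ker := by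
          rw [hKdef]
          exact (Subgroup.normalizerMonoidHom_ker _).symm
        rw [hK']
        infer_instance
      have hpow := Subgroup.pow_index_mem K (⟨g, hg⟩ : Subgroup.normalizer ((T : Subgroup S) : Set S))
      have hodd : ¬ 2 ∣ K.index := by
        have hTC : (T : Subgroup S) ≤ Subgroup.centralizer ((T : Subgroup S) : Set S) := by
          have hcm : IsMulCommutative (T : Subgroup S) :=
            IsPGroup.isMulCommutative_of_card_eq_prime_sq (p := 2) (by rw [hT4]; norm_num)
          exact Subgroup.le_centralizer_iff_isMulCommutative.mpr hcm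
        have h1 := Subgroup.relIndex_mul_index
          (Subgroup.centralizer_le_normalizer ((T : Subgroup S) : Set S))
        have h2' := Subgroup.index_dvd_of_le hTC
        have h3 : ¬ 2 ∣ (T : Subgroup S).index := T.not_dvd_index
        intro h
        apply h3
        refine Dvd.dvd.trans ?_ h2'
        rw [← h1]
        have h4 : K.index = (Subgroup.centralizer ((T : Subgroup S) : Set S)).relIndex
            (Subgroup.normalizer ((T : Subgroup S) : Set S)) := by rw [hKdef]; rfl
        rw [← h4]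
        exact Dvd.dvd.mul_right h _
      obtain ⟨m, hm⟩ : ∃ m, K.index = 2 * m + 1 := by
        rcases Nat.even_or_odd' K.index with ⟨m, hm | hm⟩
        · exact absurd ⟨m, hm⟩ hodd
        · exact ⟨m, hm⟩
      have hgK : (⟨g, hg⟩ : Subgroup.normalizer ((T : Subgroup S) : Set S)) ∈ K := by
        have h2' : (⟨g, hg⟩ : Subgroup.normalizer ((T : Subgroup S) : Set S)) ^ 2 ∈ K := by
          rw [hKdef, Subgroup.mem_subgroupOf]
          exact hgg
        have h3 : (⟨g, hg⟩ : Subgroup.normalizer ((T : Subgroup S) : Set S)) =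
            ((⟨g, hg⟩ : Subgroup.normalizer ((T : Subgroup S) : Set S)) ^ (2 * m))⁻¹ *
              (⟨g, hg⟩ : Subgroup.normalizer ((T : Subgroup S) : Set S)) ^ (2 * m + 1) := by
          rw [pow_succ, inv_mul_cancel_left]
        rw [h3]
        refine mul_mem (inv_mem ?_) (hm ▸ hpow)
        rw [pow_mul]
        exact pow_mem h2' m
      rw [hKdef, Subgroup.mem_subgroupOf] at hgK
      exact hgK
    exact not_simple_of_sylow_central 2 T hNC (by rw [hT4]; norm_num) hTne

end TwentyOne

end Cfsg.Agent.Lib.helper75
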