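import Mathlib

/-!
# Towers for a Frobenius group of order `p q` acting without fixed points (definitions)

Internal setting for the theorem "a non-abelian group of order `p q` acting coprimely and
fixed-point-freely on a finite solvable group forces Fitting height at most two".
-/

set_option autoImplicit false

namespace Cfsg.Agent.Lib.helper75.PQ

variable {Γ : Type*} [Group Γ] {F : Type*} [Field F] {W : Type*} [AddCommGroup W] [Module F W]

/-- `X` centralizes `Y` elementwise. -/
def Cz (X Y : Subgroup Γ) : Prop := ∀ x ∈ X, ∀ y ∈ Y, x * y = y * x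

/-- The tower setting: `K` of prime order `p` normalized (not centralized) by `H` of prime order
`q`; an `s`-group `S` and an `r`-group `R` normalized by `K` and `H`, `S` normalizing `R`; a
representation `ρ` on which `R` is faithful; `K`, `H` have no common nontrivial fixed points on
`S`, on `R` and on the module. -/
structure Tower (ρ : Γ →* Module.End F W) (K H S R : Subgroup Γ) (p q s r : ℕ) : Prop where
  hp : p.Prime
  hq : q.Prime
  hs : s.Prime
  hr : r.Prime
  hpq : p ≠ q
  hsr : s ≠ r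
  hsp : s ≠ p
  hsq : s ≠ q
  hrp : r ≠ p
  hrq : r ≠ q
  cardK : Nat.card K = p
  cardH : Nat.card H = q
  HK : H ≤ Subgroup.normalizer (K : Set Γ)
  nab : ¬ Cz K H
  Sgrp : IsPGroup s S
  Rgrp : IsPGroup r R
  KS : K ≤ Subgroup.normalizer (S : Set Γ)
  HS : H ≤ Subgroup.normalizer (S : Set Γ)
  KR : K ≤ Subgroup.normalizer (R : Set Γ)
  HR : H ≤ Subgroup.normalizer (R : Set Γ)
  SR : S ≤ Subgroup.normalizer (R : Set Γ)
  fpfS : ∀ x ∈ S, (∀ k ∈ K, k * x = x * k) → (∀ h ∈ H, h * x = x * h) → x = 1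
  fpfR : ∀ x ∈ R, (∀ k ∈ K, k * x = x * k) → (∀ h ∈ H, h * x = x * h) → x = 1
  fpfW : ∀ w : W, (∀ k ∈ K, ρ k w = w) → (∀ h ∈ H, ρ h w = w) → w = 0
  faith : ∀ x ∈ R, ρ x = 1 → x = 1
  pF : (p : F) ≠ 0
  qF : (q : F) ≠ 0
  rF : (r : F) ≠ 0

/-- The acting group: `K` of prime order `p`, normalized but not centralized by `H` of prime
order `q`. -/
structure FrobPQ (K H : Subgroup Γ) (p q : ℕ) : Prop where
  hp : p.Prime
  hq : q.Prime
  hpq : p ≠ q
  cardK : Nat.card K = p
  cardH : Nat.card H = q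
  HK : H ≤ Subgroup.normalizer (K : Set Γ)
  nab : ¬ Cz K H

theorem Tower.frob {ρ : Γ →* Module.End F W} {K H S R : Subgroup Γ} {p q s r : ℕ}
    (T : Tower ρ K H S R p q s r) : FrobPQ K H p q :=
  ⟨T.hp, T.hq, T.hpq, T.cardK, T.cardH, T.HK, T.nab⟩

/-- The internal setting of the theorem: a normal solvable subgroup `N` of order prime to `p q`,
on which `K` and `H` have no common nontrivial fixed point. -/
structure PQSetup (N K H : Subgroup Γ) (p q : ℕ) : Prop where
  frob : FrobPQ K H p q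
  nN : N.Normal
  solv : Group.IsSolvable N
  cop : (Nat.card N).Coprime (p * q)
  fpf : ∀ n ∈ N, (∀ k ∈ K, k * n = n * k) → (∀ h ∈ H, h * n = n * h) → n = 1

/-- The center of `R`, as a subgroup of the ambient group. -/
def ZR (R : Subgroup Γ) : Subgroup Γ := R ⊓ Subgroup.centralizer (R : Set Γ)

theorem mem_ZR {R : Subgroup Γ} {z : Γ} : z ∈ ZR R ↔ z ∈ R ∧ ∀ x ∈ R, x * z = z * x :=
  Iff.rfl

/-- A minimal tower in which `S` does not centralize `R`. -/
structure MinTower (ρ : Γ →* Module.End F W) (K H S R : Subgroup Γ) (p q s r : ℕ) : Prop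
    extends Tower ρ K H S R p q s r where
  ncz : ¬ Cz S R
  minS : ∀ S' : Subgroup Γ, S' ≤ S → S' ≠ S → K ≤ Subgroup.normalizer (S' : Set Γ) →
    H ≤ Subgroup.normalizer (S' : Set Γ) → Cz S' R
  minR : ∀ R' : Subgroup Γ, R' ≤ R → R' ≠ R → S ≤ Subgroup.normalizer (R' : Set Γ) →
    K ≤ Subgroup.normalizer (R' : Set Γ) → H ≤ Subgroup.normalizer (R' : Set Γ) → Cz S R'

/-- Case (a): `K` centralizes `S` modulo `C_S(R)` (all commutators `[k, y]` centralize `R`). -/
def CaseA (K S R : Subgroup Γ) : Prop :=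
  ∀ k ∈ K, ∀ y ∈ S, ∀ x ∈ R, (k * y * k⁻¹ * y⁻¹) * x = x * (k * y * k⁻¹ * y⁻¹)

universe u

/-- The internal form of the theorem: some term of the lower central series of `N` is
nilpotent. -/
def PQIntStmt : Prop :=
  ∀ (Γ : Type u) [Group Γ] [Finite Γ] (N K H : Subgroup Γ) (p q : ℕ), PQSetup N K H p q →
    ∃ k m : ℕ, (N.lowerCentralSeries k).lowerCentralSeries m = ⊥

end Cfsg.Agent.Lib.helper75.PQ
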