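import Mathlib
import Cfsg.Prelude.Def_Characters
import Cfsg.Prelude.Def_Blocks
import Cfsg.Agent.Lib.helper84.BrDefs
import Cfsg.Agent.Lib.helper66.BrSING
import Cfsg.Agent.Lib.helper81.CharOrtho

/-!
# S0997 split project, piece T4: `eta_deg`
-/

set_option autoImplicit false

namespace Cfsg.Agent.Lib.helper75.BU

open Cfsg Cfsg.Agent.Lib.helper81 Cfsg.Agent.Lib.helper84.Br
open scoped ComplexConjugate

universe u

variable {G : Type u} [Group G] [Fintype G]

variable {p : ℕ} [Fact p.Prime] {P : Sylow p G} {e : ℕ}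

/-- T4 : if `B'` misses `Y`, then `η = Σ_{χ ∈ X ∩ B'} δ_χ χ` vanishes on the `q`-singular elements
and `⟨η, θ⟩ = 0` gives `η(1) g₀ = ε e |Syl_p| |X ∩ B'|`. -/
theorem eta_deg (hP : Nat.card P = p)
    (hC : Subgroup.centralizer ((P : Subgroup G) : Set G) = (P : Subgroup G))
    (D : Data G p P e) (q g₀ : ℕ)
    (θ : IrrCharacter G) (hθ : θ ∈ D.Y) (hθd : charDegree (θ : G → ℂ) = g₀)
    (hpsum : psum (P : Subgroup G) (θ : G → ℂ) = -(D.ε : ℂ) * (e : ℂ))
    (hvan : ∀ g : G, g ≠ 1 → ¬ p ∣ orderOf g → ¬ q ∣ orderOf g → (θ : G → ℂ) g = 0)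
    (B' : Set (IrrCharacter G)) [DecidablePred (· ∈ B')]
    (hYB : ∀ θ' ∈ D.Y, θ' ∉ B')
    (hrel : ∀ x : G, x ∈ (P : Subgroup G) → x ≠ 1 → ∀ y : G, q ∣ orderOf y →
      ∑ χ ∈ D.X.filter (· ∈ B'), (D.δ χ : ℂ) * conj ((χ : G → ℂ) y) +
        ∑ θ ∈ D.Y.filter (· ∈ B'), (θ : G → ℂ) x * conj ((θ : G → ℂ) y) = 0) :
    (∑ χ ∈ D.X.filter (· ∈ B'), D.δ χ * (charDegree (χ : G → ℂ) : ℤ)) * (g₀ : ℤ) =
      D.ε * (e : ℤ) * (Nat.card (Sylow p G) : ℤ) * ((D.X.filter (· ∈ B')).card : ℤ) := by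
  classical
  have hp : p.Prime := Fact.out
  set S := D.X.filter (· ∈ B') with hS
  set η : G → ℂ := fun g => ∑ χ ∈ S, (D.δ χ : ℂ) * (χ : G → ℂ) g with hη
  have hSX : ∀ χ ∈ S, χ ∈ D.X := fun χ hχ => (Finset.mem_filter.mp hχ).1
  obtain ⟨x, hxP, hx1⟩ : ∃ x : G, x ∈ (P : Subgroup G) ∧ x ≠ 1 := by
    have h1 : 1 < Nat.card (P : Subgroup G) := by rw [hP]; exact hp.one_lt
    have hnt : Nontrivial (P : Subgroup G) := (Finite.one_lt_card_iff_nontrivial).mp h1
    obtain ⟨y, hy⟩ := exists_ne (1 : (P : Subgroup G))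
    exact ⟨y, y.2, fun h => hy (Subtype.ext h)⟩
  have hYempty : D.Y.filter (· ∈ B') = ∅ := by
    rw [Finset.filter_eq_empty_iff]; exact hYB
  have hη0 : ∀ y : G, q ∣ orderOf y → η y = 0 := by
    intro y hy
    have h := hrel x hxP hx1 y hy
    rw [hYempty, Finset.sum_empty, add_zero] at h
    have h2 : conj (η y) = 0 := by
      simp only [hη, map_sum, map_mul, map_intCast]
      exact h
    exact (map_eq_zero _).mp h2
  have hηP : ∀ y : G, y ∈ (P : Subgroup G) → y ≠ 1 → η y = (S.card : ℂ) := by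
    intro y hy hy1
    have h1 : ∀ χ ∈ S, (D.δ χ : ℂ) * (χ : G → ℂ) y = 1 := by
      intro χ hχ
      rw [D.val_X χ (hSX χ hχ) y hy hy1]
      rcases D.δ_sq χ (hSX χ hχ) with h | h <;> rw [h] <;> norm_num
    simp only [hη]
    rw [Finset.sum_congr rfl h1]; simp
  have hη1 : η 1 = ((∑ χ ∈ S, D.δ χ * (charDegree (χ : G → ℂ) : ℤ) : ℤ) : ℂ) := by
    simp only [hη]; push_cast
    refine Finset.sum_congr rfl (fun χ _ => ?_)
    rw [irr_one_eq_charDegree]
  have horth : ∑ g : G, η g * conj ((θ : G → ℂ) g) = 0 := by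
    have h1 : ∀ χ ∈ S, ∑ g : G, (χ : G → ℂ) g * conj ((θ : G → ℂ) g) = 0 := by
      intro χ hχ
      have hne : χ ≠ θ := by
        rintro rfl
        exact Finset.disjoint_left.mp D.disj (hSX χ hχ) hθ
      have h3 := irr_classInner_ne hne
      unfold classInner at h3
      rcases mul_eq_zero.mp h3 with h | h
      · exact absurd (inv_eq_zero.mp h) card_ne_zero_complex
      · exact h
    calc ∑ g : G, η g * conj ((θ : G → ℂ) g)
        = ∑ g : G, ∑ χ ∈ S, (D.δ χ : ℂ) * ((χ : G → ℂ) g * conj ((θ : G → ℂ) g)) := by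
          refine Finset.sum_congr rfl (fun g _ => ?_)
          simp only [hη]; rw [Finset.sum_mul]
          refine Finset.sum_congr rfl (fun χ _ => by ring)
      _ = ∑ χ ∈ S, (D.δ χ : ℂ) * ∑ g : G, ((χ : G → ℂ) g * conj ((θ : G → ℂ) g)) := by
          rw [Finset.sum_comm]
          refine Finset.sum_congr rfl (fun χ _ => ?_)
          rw [Finset.mul_sum]
      _ = 0 := by
          refine Finset.sum_eq_zero (fun χ hχ => ?_)
          rw [h1 χ hχ, mul_zero]
  set F : G → ℂ := fun g => η g * conj ((θ : G → ℂ) g) with hF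
  have hFcf : IsClassFunction G F := by
    intro g h
    simp only [hF, hη]
    rw [irr_classFun θ g h]
    congr 1
    refine Finset.sum_congr rfl (fun χ _ => ?_)
    rw [irr_classFun χ g h]
  have hsplit : ∑ g : G, F g = F 1 + ∑ g : G, if p ∣ orderOf g then F g else 0 := by
    have h0 : ∀ g : G, g ≠ 1 → ¬ p ∣ orderOf g → F g = 0 := by
      intro g hg hpg
      by_cases hq : q ∣ orderOf g
      · simp only [hF]; rw [hη0 g hq, zero_mul]
      · simp only [hF]; rw [hvan g hg hpg hq, map_zero, mul_zero]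
    have hp1 : ¬ p ∣ orderOf (1 : G) := by
      rw [orderOf_one]
      intro h
      exact hp.one_lt.ne' (Nat.dvd_one.mp h)
    rw [← Finset.add_sum_erase _ _ (Finset.mem_univ (1 : G))]
    congr 1
    rw [← Finset.add_sum_erase (s := Finset.univ) (a := (1 : G))
      (fun g => if p ∣ orderOf g then F g else 0) (Finset.mem_univ (1 : G))]
    rw [if_neg hp1, zero_add]
    refine Finset.sum_congr rfl (fun g hg => ?_)
    have hg1 : g ≠ 1 := Finset.ne_of_mem_erase hg
    split_ifs with h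
    · rfl
    · exact h0 g hg1 h
  have hsing := Cfsg.Agent.Lib.helper66.Br.psing_sum hP hC F hFcf
  have hpsF : psum (P : Subgroup G) F = (S.card : ℂ) * (-(D.ε : ℂ) * (e : ℂ)) := by
    have h1 : psum (P : Subgroup G) F =
        (S.card : ℂ) * conj (psum (P : Subgroup G) (θ : G → ℂ)) := by
      unfold psum
      rw [map_sum, Finset.mul_sum]
      refine Finset.sum_congr rfl (fun g _ => ?_)
      split_ifs with h
      · simp only [hF]; rw [hηP g h.1 h.2]
      · simp
    rw [h1, hpsum]; simp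
  have hfinal : η 1 * (g₀ : ℂ) =
      (D.ε : ℂ) * (e : ℂ) * (Nat.card (Sylow p G) : ℂ) * (S.card : ℂ) := by
    have h1 : F 1 = η 1 * (g₀ : ℂ) := by
      simp only [hF]; rw [irr_one_eq_charDegree, hθd]; simp
    have h2 : ∑ g : G, F g = 0 := horth
    rw [hsplit, hsing, hpsF, h1] at h2
    linear_combination h2
  rw [hη1] at hfinal
  exact_mod_cast hfinal

end Cfsg.Agent.Lib.helper75.BU
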