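import Mathlib

/-!
# S4504 split project, piece GC2: `helper21_X_functional`
-/

set_option autoImplicit false

namespace Cfsg.Agent.Lib.helper2.BG

/-- GC2 (pure finite-sum bookkeeping; no groups). -/
theorem helper21_X_functional {ι : Type*} [Fintype ι] (X : Finset ι) (one : ι)
    (εX : ι → ℤ) (deg m₁ m₂ : ι → ℕ) (p : ℕ) (hp5 : 5 ≤ p)
    (h1X : one ∈ X) (hε1 : εX one = 1) (hdeg1 : deg one = 1)
    (hsign : ∀ ξ ∈ X, εX ξ = 1 ∨ εX ξ = -1)
    (hA : ∀ ξ ∈ X, ξ ≠ one → εX ξ = 1 → deg ξ = p + 1)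
    (hB : ∀ ξ ∈ X, εX ξ = -1 → deg ξ = p - 1)
    (hdiff : ∀ ξ ∈ X, (m₁ ξ : ℤ) - (m₂ ξ : ℤ) = εX ξ)
    (hzero : ∀ ξ, m₁ ξ * m₂ ξ = 0)
    (f : ι → ℂ) (hf1 : f one = 1) :
    ((∀ ξ, ξ ∉ X → m₁ ξ = 0) →
      ∑ ξ ∈ X, f ξ / (deg ξ : ℂ) =
        1 + (∑ ξ, (m₁ ξ : ℂ) * f ξ - 1) / ((p : ℂ) + 1)
          + (∑ ξ, (m₁ ξ : ℂ) * f ξ - ∑ ξ ∈ X, (εX ξ : ℂ) * f ξ) / ((p : ℂ) - 1)) ∧
    ((∀ ξ, ξ ∉ X → m₂ ξ = 0) →
      ∑ ξ ∈ X, f ξ / (deg ξ : ℂ) =
        1 + (∑ ξ, (m₂ ξ : ℂ) * f ξ + ∑ ξ ∈ X, (εX ξ : ℂ) * f ξ - 1) / ((p : ℂ) + 1)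
          + (∑ ξ, (m₂ ξ : ℂ) * f ξ) / ((p : ℂ) - 1)) := by
  classical
  have hpC : (p : ℂ) + 1 ≠ 0 := by
    have h1 : ((p + 1 : ℕ) : ℂ) ≠ 0 := Nat.cast_ne_zero.mpr (by omega)
    push_cast at h1
    exact h1
  have hpC' : (p : ℂ) - 1 ≠ 0 := by
    intro h
    have h1 : (p : ℂ) = 1 := by linear_combination h
    have h2 : p = 1 := by exact_mod_cast h1
    omega
  have hcast : ((p - 1 : ℕ) : ℂ) = (p : ℂ) - 1 := by
    rw [Nat.cast_sub (by omega)]; simp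
  have hm : ∀ ξ ∈ X, (εX ξ = 1 ∧ m₁ ξ = 1 ∧ m₂ ξ = 0) ∨ (εX ξ = -1 ∧ m₁ ξ = 0 ∧ m₂ ξ = 1) := by
    intro ξ hξ
    have h1 := hdiff ξ hξ
    rcases Nat.mul_eq_zero.mp (hzero ξ) with h | h
    · rcases hsign ξ hξ with he | he
      · rw [h, he] at h1
        exfalso
        have : (0 : ℤ) ≤ (m₂ ξ : ℤ) := Int.natCast_nonneg _
        push_cast at h1
        omega
      · right
        rw [h, he] at h1
        refine ⟨he, h, ?_⟩
        push_cast at h1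
        omega
    · rcases hsign ξ hξ with he | he
      · left
        rw [h, he] at h1
        refine ⟨he, ?_, h⟩
        push_cast at h1
        omega
      · rw [h, he] at h1
        exfalso
        have : (0 : ℤ) ≤ (m₁ ξ : ℤ) := Int.natCast_nonneg _
        push_cast at h1
        omega
  have hterm1 : ∀ ξ ∈ X, f ξ / (deg ξ : ℂ) =
      (if ξ = one then (1 - 1 / ((p : ℂ) + 1)) else 0) + (m₁ ξ : ℂ) * f ξ / ((p : ℂ) + 1)
        + ((m₁ ξ : ℂ) * f ξ - (εX ξ : ℂ) * f ξ) / ((p : ℂ) - 1) := by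
    intro ξ hξ
    by_cases h1 : ξ = one
    · rw [if_pos h1, h1]
      rcases hm one h1X with ⟨he, hm1, hm2⟩ | ⟨he, hm1, hm2⟩
      · rw [hdeg1, hm1, he, hf1]
        push_cast
        field_simp
        ring
      · rw [hε1] at he
        norm_num at he
    · rw [if_neg h1]
      rcases hm ξ hξ with ⟨he, hm1, hm2⟩ | ⟨he, hm1, hm2⟩
      · rw [hA ξ hξ h1 he, hm1, he]
        push_cast
        field_simp
        ring
      · rw [hB ξ hξ he, hm1, he, hcast]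
        push_cast
        field_simp
        ring
  have hterm2 : ∀ ξ ∈ X, f ξ / (deg ξ : ℂ) =
      (if ξ = one then (1 - 1 / ((p : ℂ) + 1)) else 0)
        + ((m₂ ξ : ℂ) * f ξ + (εX ξ : ℂ) * f ξ) / ((p : ℂ) + 1)
        + (m₂ ξ : ℂ) * f ξ / ((p : ℂ) - 1) := by
    intro ξ hξ
    by_cases h1 : ξ = one
    · rw [if_pos h1, h1]
      rcases hm one h1X with ⟨he, hm1, hm2⟩ | ⟨he, hm1, hm2⟩
      · rw [hdeg1, hm2, he, hf1]
        push_cast
        field_simp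
        ring
      · rw [hε1] at he
        norm_num at he
    · rw [if_neg h1]
      rcases hm ξ hξ with ⟨he, hm1, hm2⟩ | ⟨he, hm1, hm2⟩
      · rw [hA ξ hξ h1 he, hm2, he]
        push_cast
        field_simp
        ring
      · rw [hB ξ hξ he, hm2, he, hcast]
        push_cast
        field_simp
        ring
  constructor
  · intro h0
    have hS : ∑ ξ ∈ X, (m₁ ξ : ℂ) * f ξ = ∑ ξ, (m₁ ξ : ℂ) * f ξ := by
      apply Finset.sum_subset (Finset.subset_univ _)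
      intro ξ _ hξ
      rw [h0 ξ hξ]
      simp
    rw [Finset.sum_congr rfl hterm1, Finset.sum_add_distrib, Finset.sum_add_distrib,
      Finset.sum_ite_eq' X one, if_pos h1X, ← Finset.sum_div, ← Finset.sum_div,
      Finset.sum_sub_distrib, hS]
    field_simp
    ring
  · intro h0
    have hS : ∑ ξ ∈ X, (m₂ ξ : ℂ) * f ξ = ∑ ξ, (m₂ ξ : ℂ) * f ξ := by
      apply Finset.sum_subset (Finset.subset_univ _)
      intro ξ _ hξ
      rw [h0 ξ hξ]
      simp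
    rw [Finset.sum_congr rfl hterm2, Finset.sum_add_distrib, Finset.sum_add_distrib,
      Finset.sum_ite_eq' X one, if_pos h1X, ← Finset.sum_div, ← Finset.sum_div,
      Finset.sum_add_distrib, hS]
    field_simp
    ring

end Cfsg.Agent.Lib.helper2.BG
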