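import Mathlib

/-!
# S0999 piece AR2 (`no_minus_arith`)
-/

set_option autoImplicit false

namespace Cfsg.Agent.Lib.helper21.BR

/-- AR2 -/
theorem no_minus_arith (p e t n v f : ℕ) (hp : p.Prime) (het : e * t = p - 1) (he : 2 ≤ e)
    (hn : 2 ≤ n) (hsmall : e * v * n < p) (hf : f = 1 + (e - 1) * (1 + n * p))
    (hsum : t * f ^ 2 ≤ p * e * v * (1 + n * p)) : False := by
  have hp2 := hp.two_le
  obtain ⟨e', rfl⟩ : ∃ e', e = e' + 2 := ⟨e - 2, by omega⟩
  obtain ⟨n', rfl⟩ : ∃ n', n = n' + 2 := ⟨n - 2, by omega⟩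
  have he1 : e' + 2 - 1 = e' + 1 := by omega
  rw [he1] at hf
  have hf1 : 1 ≤ f := by rw [hf]; omega
  -- `v * n ≤ t`
  have hvt : v * (n' + 2) ≤ t := by
    have h1 : (e' + 2) * v * (n' + 2) ≤ (e' + 2) * t := by rw [het]; omega
    have h2 : (e' + 2) * (v * (n' + 2)) ≤ (e' + 2) * t := by
      calc (e' + 2) * (v * (n' + 2)) = (e' + 2) * v * (n' + 2) := by ring
        _ ≤ (e' + 2) * t := h1
    exact Nat.le_of_mul_le_mul_left h2 (by omega)
  rcases Nat.eq_zero_or_pos v with hv | hv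
  · subst hv
    have h0 : t * f ^ 2 = 0 := by
      have : p * (e' + 2) * 0 * (1 + (n' + 2) * p) = 0 := by ring
      omega
    have hf2 : 0 < f ^ 2 := by positivity
    have ht0 : t = 0 := by
      rcases Nat.eq_zero_or_pos t with h | h
      · exact h
      · exfalso
        have := Nat.mul_pos h hf2
        omega
    subst ht0
    simp at het
    omega
  · -- cancel `v`
    have h1 : v * ((n' + 2) * f ^ 2) ≤ v * (p * (e' + 2) * (1 + (n' + 2) * p)) := by
      calc v * ((n' + 2) * f ^ 2) = v * (n' + 2) * f ^ 2 := by ring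
        _ ≤ t * f ^ 2 := Nat.mul_le_mul_right _ hvt
        _ ≤ p * (e' + 2) * v * (1 + (n' + 2) * p) := hsum
        _ = v * (p * (e' + 2) * (1 + (n' + 2) * p)) := by ring
    have h2 : (n' + 2) * f ^ 2 ≤ p * (e' + 2) * (1 + (n' + 2) * p) :=
      Nat.le_of_mul_le_mul_left h1 hv
    set m := 1 + (n' + 2) * p with hm
    have hm1 : 1 + 2 * p ≤ m := by
      rw [hm]
      have : 2 * p ≤ (n' + 2) * p := Nat.mul_le_mul_right _ (by omega)
      omega
    -- `f ^ 2 > (e' + 1) ^ 2 * m ^ 2`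
    have hf3 : (e' + 1) ^ 2 * m ^ 2 < f ^ 2 := by
      have : (e' + 1) * m < f := by rw [hf]; omega
      calc (e' + 1) ^ 2 * m ^ 2 = ((e' + 1) * m) ^ 2 := by ring
        _ < f ^ 2 := Nat.pow_lt_pow_left this (by norm_num)
    have h3 : 2 * ((e' + 1) ^ 2 * m ^ 2) < p * (e' + 2) * m := by
      calc 2 * ((e' + 1) ^ 2 * m ^ 2) < 2 * f ^ 2 := by omega
        _ ≤ (n' + 2) * f ^ 2 := Nat.mul_le_mul_right _ (by omega)
        _ ≤ p * (e' + 2) * m := h2
    have h4 : p * (e' + 2) * m ≤ 2 * ((e' + 1) ^ 2 * m ^ 2) := by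
      have h5 : p * (e' + 2) ≤ 2 * (e' + 1) ^ 2 * m := by
        calc p * (e' + 2) ≤ p * (4 * (e' + 1) ^ 2) := Nat.mul_le_mul_left _ (by nlinarith)
          _ = 2 * (e' + 1) ^ 2 * (2 * p) := by ring
          _ ≤ 2 * (e' + 1) ^ 2 * m := Nat.mul_le_mul_left _ (by omega)
      calc p * (e' + 2) * m ≤ 2 * (e' + 1) ^ 2 * m * m := Nat.mul_le_mul_right _ h5
        _ = 2 * ((e' + 1) ^ 2 * m ^ 2) := by ring
    omega

end Cfsg.Agent.Lib.helper21.BR
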