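import Mathlib

/-!
# S0999 piece AR4 (`coprime_of_config`)
-/

set_option autoImplicit false

namespace Cfsg.Agent.Lib.helper21.BR

/-- AR4 -/
theorem coprime_of_config (p e t a : ℕ) (het : e * t = p - 1) (hea : e = 2 + a * t)
    (hp : 2 ≤ p) : Nat.Coprime (p - 1) (p - e) := by
  have ht : 1 ≤ t := by
    rcases Nat.eq_zero_or_pos t with h | h
    · subst h
      simp at het
      omega
    · exact h
  obtain ⟨t', rfl⟩ : ∃ t', t = t' + 1 := ⟨t - 1, by omega⟩
  have hpe : p - e = e * t' + 1 := by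
    have h1 : p = e * (t' + 1) + 1 := by omega
    rw [h1]
    have h2 : e * (t' + 1) + 1 = e * t' + 1 + e := by ring
    rw [h2]
    omega
  rw [← het, hpe]
  rw [← Nat.isCoprime_iff_coprime]
  push_cast
  refine IsCoprime.mul_left ?_ ?_
  · exact ⟨-(t' : ℤ), 1, by ring⟩
  · refine ⟨(e : ℤ) - a, -1, ?_⟩
    have h3 : (e : ℤ) = 2 + a * (t' + 1) := by exact_mod_cast hea
    linear_combination h3

end Cfsg.Agent.Lib.helper21.BR
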