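import Mathlib

set_option autoImplicit false

namespace Cfsg.Agent.Lib.helper44.SUW

open Matrix

/-- A shear `1 + u vᵀ` with `v = (x k)⁻¹ e_k`, `u k = 0`: determinant one, moves `x` to `x + u`. -/
theorem h75_sltr_step {K : Type*} [Field K] {d : ℕ} (x u : Fin d → K) (k : Fin d)
    (hk : x k ≠ 0) (hu : u k = 0) :
    ∃ B : Matrix (Fin d) (Fin d) K, B.det = 1 ∧ Matrix.mulVec B x = x + u := by
  refine ⟨1 + Matrix.vecMulVec u (Pi.single k (x k)⁻¹), ?_, ?_⟩
  · rw [Matrix.vecMulVec_eq Unit, Matrix.det_one_add_replicateCol_mul_replicateRow]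
    simp [hu]
  · rw [Matrix.add_mulVec, Matrix.one_mulVec, Matrix.vecMulVec_mulVec]
    simp [hk]

/-- SLTR (M) -/
theorem sl_trans {K : Type*} [Field K] {d : ℕ} (hd : 2 ≤ d) (x y : Fin d → K) (hx : x ≠ 0)
    (hy : y ≠ 0) : ∃ B : Matrix (Fin d) (Fin d) K, B.det = 1 ∧ B *ᵥ x = y := by
  obtain ⟨i, hi⟩ : ∃ i, x i ≠ 0 := by
    by_contra h
    exact hx (funext fun i => by simpa using fun hne => h ⟨i, hne⟩)
  obtain ⟨j, hj⟩ : ∃ j, y j ≠ 0 := by
    by_contra h
    exact hy (funext fun i => by simpa using fun hne => h ⟨i, hne⟩)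
  by_cases hij : i = j
  · subst hij
    haveI : Nontrivial (Fin d) := Fin.nontrivial_iff_two_le.mpr hd
    obtain ⟨l, hl⟩ := exists_ne i
    -- x → z1 (coordinate l := 1) → z2 (coordinate i := y i) → y
    obtain ⟨B1, hB1, hB1x⟩ := h75_sltr_step x (Function.update x l 1 - x) i hi (by
      simp [Function.update_of_ne (Ne.symm hl)])
    have e1 : Matrix.mulVec B1 x = Function.update x l 1 := by rw [hB1x]; abel
    obtain ⟨B2, hB2, hB2x⟩ := h75_sltr_step (Function.update x l 1)
      (Function.update (Function.update x l 1) i (y i) - Function.update x l 1) l (by simp) (by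
      simp [Function.update_of_ne hl])
    have e2 : Matrix.mulVec B2 (Function.update x l 1)
        = Function.update (Function.update x l 1) i (y i) := by rw [hB2x]; abel
    obtain ⟨B3, hB3, hB3x⟩ := h75_sltr_step (Function.update (Function.update x l 1) i (y i))
      (y - Function.update (Function.update x l 1) i (y i)) i (by simpa using hj) (by simp)
    have e3 : Matrix.mulVec B3 (Function.update (Function.update x l 1) i (y i)) = y := by
      rw [hB3x]; abel
    refine ⟨B3 * (B2 * B1), by simp [Matrix.det_mul, hB1, hB2, hB3], ?_⟩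
    rw [← Matrix.mulVec_mulVec, ← Matrix.mulVec_mulVec, e1, e2, e3]
  · -- x → z (coordinate j := y j) → y
    obtain ⟨B1, hB1, hB1x⟩ := h75_sltr_step x (Function.update x j (y j) - x) i hi (by
      simp [Function.update_of_ne hij])
    have e1 : Matrix.mulVec B1 x = Function.update x j (y j) := by rw [hB1x]; abel
    obtain ⟨B2, hB2, hB2x⟩ := h75_sltr_step (Function.update x j (y j))
      (y - Function.update x j (y j)) j (by simpa using hj) (by simp)
    have e2 : Matrix.mulVec B2 (Function.update x j (y j)) = y := by rw [hB2x]; abel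
    refine ⟨B2 * B1, by simp [Matrix.det_mul, hB1, hB2], ?_⟩
    rw [← Matrix.mulVec_mulVec, e1, e2]

end Cfsg.Agent.Lib.helper44.SUW
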