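import Mathlib
import Cfsg.Agent.Lib.helper17.StsCNTBCore

/-!
# S5973 piece CNTB (`stp_count`): counting totally singular subspaces through singular frames,
with a general count `f` of the singular vectors orthogonal to a totally singular subspace.
(Generic version of helper17's `sts_count_core`.)
-/

set_option autoImplicit false

namespace Cfsg.Agent.Lib.helper75

open Module Cfsg.Agent.Lib.helper17

section StpCount

variable {F V : Type*} [Field F] [AddCommGroup V] [Module F V] [Fintype F] [FiniteDimensional F V]

/-- The number of ways to extend a singular frame by one vector (general count). -/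
theorem h75_card_sframe_fiber (Q : QuadraticForm F V) (m : ℕ) (f : ℕ → ℕ)
    (hA : ∀ U : Submodule F V, (∀ u ∈ U, Q u = 0) → finrank F U < m →
      Nat.card {v : V // Q v = 0 ∧ ∀ u ∈ U, QuadraticMap.polar Q u v = 0} = f (finrank F U))
    (k : ℕ) (hk : k < m) (x : SFrame Q k) :
    Nat.card {v : V // v ∉ Submodule.span F (Set.range x.1) ∧ Q v = 0 ∧
        ∀ i, QuadraticMap.polar Q (x.1 i) v = 0} =
      f k - Fintype.card F ^ k := by
  classical
  have : Finite V := Module.finite_of_finite F
  obtain ⟨hs1, hs2⟩ := sframe_span_sing Q x.1 x.2.2.1 x.2.2.2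
  have hdimX : finrank F (Submodule.span F (Set.range x.1)) = k := by
    rw [finrank_span_eq_card x.2.1, Fintype.card_fin]
  have hS := hA _ hs1 (by rw [hdimX]; exact hk)
  rw [hdimX] at hS
  have hXS : (Submodule.span F (Set.range x.1) : Set V) ⊆
      {v : V | Q v = 0 ∧ ∀ u ∈ Submodule.span F (Set.range x.1), QuadraticMap.polar Q u v = 0} := by
    intro z hz
    exact ⟨hs1 z hz, fun u hu => hs2 u hu z hz⟩
  have hset : {v : V | v ∉ Submodule.span F (Set.range x.1) ∧ Q v = 0 ∧
        ∀ i, QuadraticMap.polar Q (x.1 i) v = 0} =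
      {v : V | Q v = 0 ∧ ∀ u ∈ Submodule.span F (Set.range x.1), QuadraticMap.polar Q u v = 0} \
        (Submodule.span F (Set.range x.1) : Set V) := by
    ext v
    simp only [Set.mem_ofPred_eq, Set.mem_sdiff, SetLike.mem_coe]
    constructor
    · rintro ⟨h1, h2, h3⟩
      exact ⟨⟨h2, fun u hu => sframe_polar_span Q x.1 v h3 u hu⟩, h1⟩
    · rintro ⟨⟨h2, h3⟩, h1⟩
      exact ⟨h1, h2, fun i => h3 _ (Submodule.subset_span (Set.mem_range_self i))⟩
  have hcS : ({v : V | Q v = 0 ∧
      ∀ u ∈ Submodule.span F (Set.range x.1), QuadraticMap.polar Q u v = 0}).ncard = f k := by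
    rw [← Nat.card_coe_set_eq]
    exact hS
  have hcX : (Submodule.span F (Set.range x.1) : Set V).ncard = Fintype.card F ^ k := by
    rw [← Nat.card_coe_set_eq]
    change Nat.card (Submodule.span F (Set.range x.1)) = _
    rw [Module.natCard_eq_pow_finrank (K := F), hdimX, Nat.card_eq_fintype_card]
  change Nat.card ↥{v : V | v ∉ Submodule.span F (Set.range x.1) ∧ Q v = 0 ∧
        ∀ i, QuadraticMap.polar Q (x.1 i) v = 0} = _
  rw [Nat.card_coe_set_eq, hset]
  have := Set.ncard_sdiff_add_ncard_of_subset hXS (Set.toFinite _)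
  rw [hcS, hcX] at this
  omega

/-- The number of singular frames (general count). -/
theorem h75_card_sframe (Q : QuadraticForm F V) (m : ℕ) (f : ℕ → ℕ)
    (hA : ∀ U : Submodule F V, (∀ u ∈ U, Q u = 0) → finrank F U < m →
      Nat.card {v : V // Q v = 0 ∧ ∀ u ∈ U, QuadraticMap.polar Q u v = 0} = f (finrank F U))
    (k : ℕ) (hk : k ≤ m) :
    Nat.card (SFrame Q k) =
      ∏ i ∈ Finset.range k, (f i - Fintype.card F ^ i) := by
  classical
  have : Finite V := Module.finite_of_finite F
  induction k with
  | zero =>
    rw [Finset.prod_range_zero]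
    have : Unique (SFrame Q 0) :=
      { default := ⟨fun i => i.elim0, linearIndependent_empty_type, fun i => i.elim0,
          fun i => i.elim0⟩
        uniq := fun s => Subtype.ext (funext fun i => i.elim0) }
    exact Nat.card_unique
  | succ k ih =>
    have : Finite (SFrame Q k) := by
      unfold SFrame
      infer_instance
    have : Fintype (SFrame Q k) := Fintype.ofFinite _
    rw [Nat.card_congr (sframeEquiv Q k), Nat.card_sigma, Finset.prod_range_succ, ← ih (by omega)]
    simp only [h75_card_sframe_fiber Q m f hA k (by omega)]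
    rw [Finset.sum_const, Finset.card_univ, smul_eq_mul, Nat.card_eq_fintype_card]

/-- CNTB, universe-polymorphic core. -/
theorem h75_stp_count_core (Q : QuadraticForm F V) (m : ℕ) (f : ℕ → ℕ)
    (hA : ∀ U : Submodule F V, (∀ u ∈ U, Q u = 0) → finrank F U < m →
      Nat.card {v : V // Q v = 0 ∧ ∀ u ∈ U, QuadraticMap.polar Q u v = 0} = f (finrank F U)) :
    Nat.card {W : Submodule F V // finrank F W = m ∧ ∀ w ∈ W, Q w = 0} *
        ∏ j ∈ Finset.range m, (Fintype.card F ^ m - Fintype.card F ^ j) =
      ∏ j ∈ Finset.range m, (f j - Fintype.card F ^ j) := by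
  classical
  have : Finite V := Module.finite_of_finite F
  have h1 : Nat.card {W : Submodule F V // finrank F W = m ∧ ∀ w ∈ W, Q w = 0} *
      ∏ i : Fin m, (Fintype.card F ^ m - Fintype.card F ^ (i : ℕ)) = Nat.card (SFrame Q m) := by
    let φ : SFrame Q m → {W : Submodule F V // finrank F W = m ∧ ∀ w ∈ W, Q w = 0} :=
      fun s => ⟨Submodule.span F (Set.range s.1),
        by rw [finrank_span_eq_card s.2.1, Fintype.card_fin],
        (sframe_span_sing Q s.1 s.2.2.1 s.2.2.2).1⟩
    have : Fintype {W : Submodule F V // finrank F W = m ∧ ∀ w ∈ W, Q w = 0} :=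
      Fintype.ofFinite _
    have : Finite (SFrame Q m) := by
      unfold SFrame
      infer_instance
    rw [Nat.card_congr (Equiv.sigmaFiberEquiv φ).symm, Nat.card_sigma]
    have key : ∀ W : {W : Submodule F V // finrank F W = m ∧ ∀ w ∈ W, Q w = 0},
        Nat.card {s : SFrame Q m // φ s = W} =
          ∏ i : Fin m, (Fintype.card F ^ m - Fintype.card F ^ (i : ℕ)) := by
      intro W
      have h1 : Nat.card {s : SFrame Q m // φ s = W} =
          Nat.card {s : Fin m → V //
            LinearIndependent F s ∧ Submodule.span F (Set.range s) = W.1} := by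
        apply Nat.card_congr
        refine ⟨fun s => ⟨s.1.1, s.1.2.1, ?_⟩, fun s => ⟨⟨s.1, s.2.1, ?_, ?_⟩, ?_⟩, ?_, ?_⟩
        · exact congrArg Subtype.val s.2
        · intro i
          apply W.2.2
          have h := Submodule.subset_span (R := F) (Set.mem_range_self (f := s.1) i)
          rw [s.2.2] at h
          exact h
        · intro i j
          have hmem : ∀ i, s.1 i ∈ W.1 := by
            intro i
            have h := Submodule.subset_span (R := F) (Set.mem_range_self (f := s.1) i)
            rw [s.2.2] at h
            exact h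
          unfold QuadraticMap.polar
          rw [W.2.2 _ (add_mem (hmem i) (hmem j)), W.2.2 _ (hmem i), W.2.2 _ (hmem j)]
          simp
        · exact Subtype.ext s.2.2
        · intro s; rfl
        · intro s; rfl
      rw [h1, Cfsg.Agent.Lib.helper63.Elusive.card_fiber m W.1 W.2.1,
        card_linearIndependent (K := F) (V := W.1) (le_of_eq W.2.1.symm), W.2.1]
    simp only [key, Finset.sum_const, Finset.card_univ, smul_eq_mul]
    rw [Nat.card_eq_fintype_card]
  rw [h75_card_sframe Q m f hA m le_rfl,
    Fin.prod_univ_eq_prod_range (fun i => Fintype.card F ^ m - Fintype.card F ^ i) m] at h1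
  exact h1

end StpCount

end Cfsg.Agent.Lib.helper75

namespace Cfsg.Agent.Lib.helper24

open Module

universe u

section stpgeneric

variable {F : Type u} [Field F] [Fintype F]

/-- Counting totally singular `m`-spaces through singular frames: if the number of singular
vectors orthogonal to a totally singular `U` only depends on `dim U = j < m`, through `f j`. -/
theorem stp_count {V : Type u} [AddCommGroup V] [Module F V] [FiniteDimensional F V]
    (Q : QuadraticForm F V) (m : ℕ) (f : ℕ → ℕ)
    (hA : ∀ U : Submodule F V, (∀ u ∈ U, Q u = 0) → finrank F U < m →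
      Nat.card {v : V // Q v = 0 ∧ ∀ u ∈ U, QuadraticMap.polar Q u v = 0} = f (finrank F U)) :
    Nat.card {W : Submodule F V // finrank F W = m ∧ ∀ w ∈ W, Q w = 0} *
        ∏ j ∈ Finset.range m, (Fintype.card F ^ m - Fintype.card F ^ j) =
      ∏ j ∈ Finset.range m, (f j - Fintype.card F ^ j) := by
  exact Cfsg.Agent.Lib.helper75.h75_stp_count_core Q m f hA

end stpgeneric

end Cfsg.Agent.Lib.helper24
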