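import Mathlib
import Cfsg.Agent.Lib.helper66.ExtraRepA
import Cfsg.Agent.Lib.helper66.ExtraRepD

set_option autoImplicit false

namespace Cfsg.Agent.Lib.helper75

open Module Cfsg.Agent.Lib.helper66

section HHDeg

variable {K : Type*} [Field K]

theorem hh_finrank_of_indep {ι : Type*} [Fintype ι] {V : Type*} [AddCommGroup V] [Module K V]
    [FiniteDimensional K V] (A : ι → Submodule K V) (hind : iSupIndep A) (htop : iSup A = ⊤) :
    finrank K V = ∑ i, finrank K (A i) := by
  classical
  have hint := DirectSum.isInternal_submodule_of_iSupIndep_of_iSup_eq_top hind htop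
  have e := LinearEquiv.ofBijective (DirectSum.coeLinearMap A) hint
  rw [← e.finrank_eq, Module.finrank_directSum]

theorem hh_finrank_eq_one_of_scalar {V : Type*} [AddCommGroup V] [Module K V]
    [FiniteDimensional K V] [Nontrivial V] {H : Type*} [Group H] (R : H →* Module.End K V)
    (hirr : ∀ U : Submodule K V, (∀ u, ∀ w ∈ U, R u w ∈ U) → U = ⊥ ∨ U = ⊤)
    (hsc : ∀ u, ∃ c : K, R u = c • (1 : Module.End K V)) : finrank K V = 1 := by
  obtain ⟨v, hv⟩ := exists_ne (0 : V)
  have h1 : (K ∙ v) = ⊤ := by
    rcases hirr (K ∙ v) (by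
      intro u w hw
      obtain ⟨c, hc⟩ := hsc u
      rw [hc, LinearMap.smul_apply, Module.End.one_apply]
      exact Submodule.smul_mem _ _ hw) with h | h
    · exfalso
      exact hv (Submodule.span_singleton_eq_bot.mp h)
    · exact h
  rw [← finrank_top K V, ← h1, finrank_span_singleton hv]

/-- Clifford-type decomposition: `V` is the direct sum of the translates of a `T`-invariant
subspace of an eigenspace of `R a`, where `a` is central modulo scalars. -/
theorem hh_clifford_core {V : Type*} [AddCommGroup V] [Module K V] [FiniteDimensional K V]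
    {H : Type*} [Group H] [Finite H] (R : H →* Module.End K V)
    (hirr : ∀ U : Submodule K V, (∀ u, ∀ w ∈ U, R u w ∈ U) → U = ⊥ ∨ U = ⊤)
    (a : H) (cc : H → K) (hcc : ∀ h, R h * R a = cc h • (R a * R h))
    (T : Subgroup H) (hT : ∀ g, R g * R a = R a * R g → g ∈ T)
    (μ : K) (W' : Submodule K V) (hW'0 : W' ≠ ⊥) (hW'μ : ∀ w ∈ W', R a w = μ • w)
    (hW'T : ∀ t ∈ T, ∀ w ∈ W', R t w ∈ W') :
    finrank K V = T.index * finrank K W' := by
  classical
  let _ : Fintype (H ⧸ T) := Fintype.ofFinite _
  have hRinv : ∀ h : H, R h⁻¹ * R h = 1 := fun h => by rw [← map_mul, inv_mul_cancel, map_one]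
  have hRinv' : ∀ h : H, R h * R h⁻¹ = 1 := fun h => by rw [← map_mul, mul_inv_cancel, map_one]
  have hRinj : ∀ h : H, Function.Injective (R h) := by
    intro h v w hvw
    have h1 := congrArg (R h⁻¹) hvw
    rwa [← Module.End.mul_apply, ← Module.End.mul_apply, hRinv, Module.End.one_apply,
      Module.End.one_apply] at h1
  obtain ⟨w0, hw0W, hw0⟩ := (Submodule.ne_bot_iff W').mp hW'0
  have hμ : μ ≠ 0 := by
    intro h0
    have h1 := hW'μ w0 hw0W
    rw [h0, zero_smul] at h1
    exact hw0 (hRinj a (by rw [h1, map_zero]))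
  have hcc0 : ∀ h, cc h ≠ 0 := by
    intro h h0
    have h1 := hcc h
    rw [h0, zero_smul, ← map_mul] at h1
    have h2 : (R (h * a)) w0 = 0 := by
      rw [h1]
      rfl
    exact hw0 (hRinj (h * a) (by rw [h2, map_zero]))
  have heig : ∀ h : H, ∀ w ∈ W', R a (R h w) = ((cc h)⁻¹ * μ) • R h w := by
    intro h w hw
    have h1 := congrArg (fun F : Module.End K V => F w) (hcc h)
    simp only [Module.End.mul_apply, LinearMap.smul_apply] at h1
    rw [hW'μ w hw, map_smul] at h1
    rw [mul_smul, h1, smul_smul, inv_mul_cancel₀ (hcc0 h), one_smul]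
  have hcoset : ∀ h k : H, cc h = cc k → h⁻¹ * k ∈ T := by
    intro h k hhk
    apply hT
    have e2 : R a * R h⁻¹ = cc h • (R h⁻¹ * R a) := by
      calc R a * R h⁻¹ = R h⁻¹ * (R h * R a) * R h⁻¹ := by
            rw [← mul_assoc, hRinv, one_mul]
        _ = R h⁻¹ * (cc h • (R a * R h)) * R h⁻¹ := by rw [hcc h]
        _ = cc h • (R h⁻¹ * R a) := by
            rw [mul_smul_comm, smul_mul_assoc, mul_assoc, mul_assoc, hRinv', mul_one]
    have e1 : R h⁻¹ * R a = (cc h)⁻¹ • (R a * R h⁻¹) := by
      rw [e2, smul_smul, inv_mul_cancel₀ (hcc0 h), one_smul]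
    calc R (h⁻¹ * k) * R a = R h⁻¹ * (R k * R a) := by rw [map_mul, mul_assoc]
      _ = cc k • ((R h⁻¹ * R a) * R k) := by rw [hcc k, mul_smul_comm, mul_assoc]
      _ = (cc k * (cc h)⁻¹) • (R a * R h⁻¹ * R k) := by
          rw [e1, smul_mul_assoc, smul_smul]
      _ = R a * R (h⁻¹ * k) := by
          rw [hhk, mul_inv_cancel₀ (hcc0 k), one_smul, map_mul, mul_assoc]
  let Uc : H ⧸ T → Submodule K V := fun c => W'.map (R (Quotient.out c))
  have hUc : Uc ≤ fun c : H ⧸ T => (R a).eigenspace ((cc (Quotient.out c))⁻¹ * μ) := by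
    intro c
    rintro _ ⟨w, hw, rfl⟩
    rw [Module.End.mem_eigenspace_iff]
    exact heig _ w hw
  have hνinj : Function.Injective (fun c : H ⧸ T => (cc (Quotient.out c))⁻¹ * μ) := by
    intro c c' h
    have h1 : (cc (Quotient.out c))⁻¹ = (cc (Quotient.out c'))⁻¹ := mul_right_cancel₀ hμ h
    have h2 : cc (Quotient.out c) = cc (Quotient.out c') := inv_injective h1
    have h3 := hcoset _ _ h2
    have h4 : (QuotientGroup.mk (Quotient.out c) : H ⧸ T) = QuotientGroup.mk (Quotient.out c') :=
      QuotientGroup.eq.mpr h3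
    rwa [QuotientGroup.out_eq', QuotientGroup.out_eq'] at h4
  have hind : iSupIndep Uc :=
    ((Module.End.eigenspaces_iSupIndep (R a)).comp hνinj).mono hUc
  have hinv : ∀ u, ∀ w ∈ ⨆ c, Uc c, R u w ∈ ⨆ c, Uc c := by
    intro u w hw
    have h1 : (⨆ c, Uc c).map (R u) ≤ ⨆ c, Uc c := by
      rw [Submodule.map_iSup]
      apply iSup_le
      intro c
      rintro _ ⟨_, ⟨w, hw, rfl⟩, rfl⟩
      have ht : (Quotient.out (QuotientGroup.mk (u * Quotient.out c) : H ⧸ T))⁻¹
          * (u * Quotient.out c) ∈ T := by
        apply QuotientGroup.eq.mp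
        rw [QuotientGroup.out_eq']
      have h2 : R u (R (Quotient.out c) w)
          = R (Quotient.out (QuotientGroup.mk (u * Quotient.out c) : H ⧸ T))
            (R ((Quotient.out (QuotientGroup.mk (u * Quotient.out c) : H ⧸ T))⁻¹
              * (u * Quotient.out c)) w) := by
        rw [← Module.End.mul_apply, ← Module.End.mul_apply, ← map_mul, ← map_mul,
          mul_inv_cancel_left]
      rw [h2]
      exact Submodule.mem_iSup_of_mem (QuotientGroup.mk (u * Quotient.out c) : H ⧸ T)
        ⟨_, hW'T _ ht w hw, rfl⟩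
    exact h1 ⟨w, hw, rfl⟩
  have htop : ⨆ c, Uc c = ⊤ := by
    rcases hirr _ hinv with h | h
    · exfalso
      have h1 : R (Quotient.out (QuotientGroup.mk 1 : H ⧸ T)) w0 ∈ ⨆ c, Uc c :=
        Submodule.mem_iSup_of_mem (QuotientGroup.mk 1 : H ⧸ T) ⟨w0, hw0W, rfl⟩
      rw [h, Submodule.mem_bot] at h1
      exact hw0 (hRinj _ (by rw [h1, map_zero]))
    · exact h
  have hsum := hh_finrank_of_indep Uc hind htop
  have hfr : ∀ c, finrank K (Uc c) = finrank K W' := fun c =>
    (Submodule.equivMapOfInjective (R (Quotient.out c)) (hRinj _) W').finrank_eq.symm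
  rw [hsum, Finset.sum_congr rfl (fun c _ => hfr c), Finset.sum_const, Finset.card_univ,
    smul_eq_mul, Subgroup.index, Nat.card_eq_fintype_card]

universe uH uV2

theorem hh_pgroup_finrank_aux [IsAlgClosed K] (q : ℕ) [Fact q.Prime] :
    ∀ (N : ℕ) {H : Type uH} [Group H] [Finite H] {V : Type uV2} [AddCommGroup V] [Module K V]
      [FiniteDimensional K V] [Nontrivial V] (R : H →* Module.End K V),
      Nat.card H ≤ N → IsPGroup q H →
      (∀ U : Submodule K V, (∀ u, ∀ w ∈ U, R u w ∈ U) → U = ⊥ ∨ U = ⊤) →
      ∃ b : ℕ, finrank K V = q ^ b := by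
  intro N
  induction N with
  | zero =>
    intro H _ _ V _ _ _ _ R hcard
    have := Nat.card_pos (α := H)
    omega
  | succ N ih =>
    intro H _ _ V _ _ _ _ R hcard hq hirr
    classical
    by_cases hsc : ∀ u, ∃ c : K, R u = c • (1 : Module.End K V)
    · exact ⟨0, by rw [pow_zero]; exact hh_finrank_eq_one_of_scalar R hirr hsc⟩
    · have hRinv : ∀ h : H, R h⁻¹ * R h = 1 := fun h => by
        rw [← map_mul, inv_mul_cancel, map_one]
      have hRinv' : ∀ h : H, R h * R h⁻¹ = 1 := fun h => by
        rw [← map_mul, mul_inv_cancel, map_one]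
      have h10 : (1 : Module.End K V) ≠ 0 := by
        obtain ⟨v, hv⟩ := exists_ne (0 : V)
        intro h
        have := congrArg (fun F : Module.End K V => F v) h
        exact hv (by simpa using this)
      let S : Subgroup H :=
        { carrier := {u | ∃ c : K, R u = c • (1 : Module.End K V)}
          mul_mem' := by
            rintro u v ⟨c, hc⟩ ⟨c', hc'⟩
            exact ⟨c * c', by rw [map_mul, hc, hc', smul_mul_smul_comm, mul_one]⟩
          one_mem' := ⟨1, by rw [map_one, one_smul]⟩
          inv_mem' := by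
            rintro u ⟨c, hc⟩
            have hc0 : c ≠ 0 := by
              intro h0
              have h1 := hRinv u
              rw [hc, h0, zero_smul, mul_zero] at h1
              exact h10 h1.symm
            refine ⟨c⁻¹, ?_⟩
            have h1 := hRinv u
            rw [hc, mul_smul_comm, mul_one] at h1
            rw [← h1, smul_smul, inv_mul_cancel₀ hc0, one_smul] }
      have hSmem : ∀ u, u ∈ S ↔ ∃ c : K, R u = c • (1 : Module.End K V) := fun u => Iff.rfl
      haveI hSn : S.Normal := ⟨by
        rintro n ⟨c, hc⟩ g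
        refine ⟨c, ?_⟩
        rw [map_mul, map_mul, hc, mul_smul_comm, mul_one, smul_mul_assoc, hRinv']⟩
      obtain ⟨u₀, hu₀⟩ := not_forall.mp hsc
      haveI : Nontrivial (H ⧸ S) :=
        nontrivial_of_ne (QuotientGroup.mk u₀) 1 (fun h => hu₀ ((QuotientGroup.eq_one_iff u₀).mp h))
      haveI := (hq.to_quotient S).center_nontrivial
      obtain ⟨⟨abar, habar⟩, hne⟩ := exists_ne (1 : Subgroup.center (H ⧸ S))
      obtain ⟨a, rfl⟩ := QuotientGroup.mk_surjective abar
      have haS : a ∉ S := by
        intro h
        apply hne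
        apply Subtype.ext
        exact (QuotientGroup.eq_one_iff a).mpr h
      have hcomm : ∀ h, ∃ c : K, R h * R a = c • (R a * R h) := by
        intro h
        have h1 : h * a * h⁻¹ * a⁻¹ ∈ S := by
          rw [← QuotientGroup.eq_one_iff]
          have h2 := Subgroup.mem_center_iff.mp habar (QuotientGroup.mk h)
          simp only [QuotientGroup.mk_mul, QuotientGroup.mk_inv]
          rw [h2, mul_inv_cancel_right, mul_inv_cancel]
        obtain ⟨c, hc⟩ := h1
        refine ⟨c, ?_⟩
        have h2 : h * a = h * a * h⁻¹ * a⁻¹ * (a * h) := by group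
        rw [← map_mul, h2, map_mul, hc, smul_mul_assoc, one_mul, map_mul]
      choose cc hcc using hcomm
      let T : Subgroup H :=
        { carrier := {g | R g * R a = R a * R g}
          mul_mem' := by
            intro g k hg hk
            show R (g * k) * R a = R a * R (g * k)
            rw [map_mul, mul_assoc, (hk : R k * R a = R a * R k), ← mul_assoc,
              (hg : R g * R a = R a * R g), mul_assoc]
          one_mem' := by
            show R 1 * R a = R a * R 1
            rw [map_one, one_mul, mul_one]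
          inv_mem' := by
            intro g hg
            show R g⁻¹ * R a = R a * R g⁻¹
            calc R g⁻¹ * R a = R g⁻¹ * R a * (R g * R g⁻¹) := by rw [hRinv', mul_one]
              _ = R g⁻¹ * (R a * R g) * R g⁻¹ := by simp only [mul_assoc]
              _ = R g⁻¹ * (R g * R a) * R g⁻¹ := by rw [(hg : R g * R a = R a * R g)]
              _ = R a * R g⁻¹ := by rw [← mul_assoc, hRinv, one_mul] }
      have hTmem : ∀ g, g ∈ T ↔ R g * R a = R a * R g := fun g => Iff.rfl
      have hTne : T ≠ ⊤ := by
        intro htop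
        apply haS
        have hall : ∀ B ∈ Set.range R, R a * B = B * R a := by
          rintro _ ⟨g, rfl⟩
          have hg : g ∈ T := by rw [htop]; exact Subgroup.mem_top g
          exact ((hTmem g).mp hg).symm
        exact schur_set (Set.range R)
          (fun U hU => hirr U (fun u w hw => hU (R u) ⟨u, rfl⟩ w hw)) _ hall
      obtain ⟨μ, hμ⟩ := Module.End.exists_eigenvalue (R a)
      obtain ⟨w0, hw0⟩ := hμ.exists_hasEigenvector
      have hW0 : (R a).eigenspace μ ≠ ⊥ := (Submodule.ne_bot_iff _).mpr ⟨w0, hw0.1, hw0.2⟩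
      have hWμ : ∀ w ∈ (R a).eigenspace μ, R a w = μ • w :=
        fun w hw => Module.End.mem_eigenspace_iff.mp hw
      have hWT : ∀ t ∈ T, ∀ w ∈ (R a).eigenspace μ, R t w ∈ (R a).eigenspace μ := by
        intro t ht w hw
        rw [Module.End.mem_eigenspace_iff]
        have h1 := congrArg (fun F : Module.End K V => F w) ((hTmem t).mp ht)
        simp only [Module.End.mul_apply] at h1
        rw [← h1, hWμ w hw, map_smul]
      have hK1 := hh_clifford_core R hirr a cc hcc T (fun g hg => hg) μ _ hW0 hWμ hWT
      haveI : Nontrivial ((R a).eigenspace μ) := Submodule.nontrivial_iff_ne_bot.mpr hW0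
      have hirrT : ∀ U : Submodule K ((R a).eigenspace μ),
          (∀ u : T, ∀ w ∈ U, restrictHom R T ((R a).eigenspace μ) hWT u w ∈ U) →
          U = ⊥ ∨ U = ⊤ := by
        intro U hU
        by_cases hU0 : U = ⊥
        · exact Or.inl hU0
        · right
          have hU'0 : U.map ((R a).eigenspace μ).subtype ≠ ⊥ := by
            intro h
            apply hU0
            rw [eq_bot_iff]
            intro w hw
            have h5 : ((R a).eigenspace μ).subtype w ∈ U.map ((R a).eigenspace μ).subtype :=
              ⟨w, hw, rfl⟩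
            rw [h, Submodule.mem_bot] at h5
            exact (Submodule.mem_bot K).mpr (Subtype.ext h5)
          have hK2 := hh_clifford_core R hirr a cc hcc T (fun g hg => hg) μ
            (U.map ((R a).eigenspace μ).subtype) hU'0
            (by
              rintro _ ⟨w, _, rfl⟩
              exact hWμ _ w.2)
            (by
              rintro t ht _ ⟨w, hw, rfl⟩
              exact ⟨restrictHom R T ((R a).eigenspace μ) hWT ⟨t, ht⟩ w, hU ⟨t, ht⟩ w hw, rfl⟩)
          have hidx : 0 < T.index := Nat.pos_of_ne_zero Subgroup.index_ne_zero_of_finite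
          have h3 : finrank K (U.map ((R a).eigenspace μ).subtype) = finrank K U :=
            Submodule.finrank_map_subtype_eq _ U
          have h4 : finrank K U = finrank K ((R a).eigenspace μ) := by
            rw [h3, hK1] at hK2
            exact (Nat.eq_of_mul_eq_mul_left hidx hK2).symm
          exact Submodule.eq_top_of_finrank_eq h4
      have hcardT : Nat.card T ≤ N := by
        have h1 : Nat.card T ≤ Nat.card H := Subgroup.card_le_card_group T
        have h2 : Nat.card T ≠ Nat.card H := fun h => hTne (Subgroup.eq_top_of_card_eq T h)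
        omega
      obtain ⟨b, hb⟩ := ih (restrictHom R T ((R a).eigenspace μ) hWT) hcardT
        (hq.to_subgroup T) hirrT
      obtain ⟨j, hj⟩ := hq.index T
      exact ⟨j + b, by rw [hK1, hj, hb, pow_add]⟩

/-- An irreducible representation of a finite `q`-group over an algebraically closed field has
`q`-power degree. -/
theorem hh_pgroup_finrank [IsAlgClosed K] (q : ℕ) [Fact q.Prime] {H : Type*} [Group H]
    [Finite H] {V : Type*} [AddCommGroup V] [Module K V] [FiniteDimensional K V] [Nontrivial V]
    (R : H →* Module.End K V) (hq : IsPGroup q H)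
    (hirr : ∀ U : Submodule K V, (∀ u, ∀ w ∈ U, R u w ∈ U) → U = ⊥ ∨ U = ⊤) :
    ∃ b : ℕ, finrank K V = q ^ b :=
  hh_pgroup_finrank_aux q (Nat.card H) R le_rfl hq hirr

end HHDeg

end Cfsg.Agent.Lib.helper75
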