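import Mathlib
import Cfsg.Agent.Lib.helper66.ExtraRepB

set_option autoImplicit false

namespace Cfsg.Agent.Lib.helper75

open Module Cfsg.Agent.Lib.helper66

section HHNil

variable {K : Type*} [Field K]

theorem hh_finrank_comap_le {M : Type*} [AddCommGroup M] [Module K M] [FiniteDimensional K M]
    (A : Module.End K M) (S : Submodule K M) :
    finrank K (S.comap A) ≤ finrank K S + finrank K (LinearMap.ker A) := by
  let A' : S.comap A →ₗ[K] S := A.restrict (p := S.comap A) (q := S) (fun x hx => hx)
  have h1 := LinearMap.finrank_range_add_finrank_ker A'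
  have h2 : finrank K (LinearMap.range A') ≤ finrank K S := Submodule.finrank_le _
  have h3 : finrank K (LinearMap.ker A') ≤ finrank K (LinearMap.ker A) := by
    have h4 : LinearMap.ker A' = (LinearMap.ker A).comap (S.comap A).subtype := by
      ext x
      simp only [LinearMap.mem_ker, Submodule.mem_comap, Submodule.subtype_apply]
      constructor
      · intro h
        have := congrArg Subtype.val h
        simpa [A', LinearMap.restrict_apply] using this
      · intro h
        apply Subtype.ext
        simpa [A', LinearMap.restrict_apply] using h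
    rw [h4, ← Submodule.finrank_map_subtype_eq]
    apply Submodule.finrank_mono
    rw [Submodule.map_comap_subtype]
    exact inf_le_right
  omega

/-- A nilpotent operator of index at most `P` has a kernel of dimension at least `dim / P`. -/
theorem hh_finrank_le_mul_finrank_ker {M : Type*} [AddCommGroup M] [Module K M]
    [FiniteDimensional K M] (A : Module.End K M) (P : ℕ) (hA : A ^ P = 0) :
    finrank K M ≤ P * finrank K (LinearMap.ker A) := by
  have key : ∀ k : ℕ, finrank K (LinearMap.ker (A ^ k)) ≤ k * finrank K (LinearMap.ker A) := by
    intro k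
    induction k with
    | zero =>
      have : LinearMap.ker (A ^ 0) = ⊥ := by
        rw [pow_zero]
        exact LinearMap.ker_id
      rw [this]
      simp
    | succ k ih =>
      have h1 : LinearMap.ker (A ^ (k + 1)) = (LinearMap.ker (A ^ k)).comap A := by
        rw [pow_succ]
        exact LinearMap.ker_comp A (A ^ k)
      rw [h1]
      have h2 := hh_finrank_comap_le A (LinearMap.ker (A ^ k))
      have h3 : (k + 1) * finrank K (LinearMap.ker A)
          = k * finrank K (LinearMap.ker A) + finrank K (LinearMap.ker A) := by ring
      omega
  have h := key P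
  rw [hA] at h
  have h2 : LinearMap.ker (0 : Module.End K M) = ⊤ := LinearMap.ker_zero
  rw [h2, finrank_top] at h
  exact h

/-- Invariant-submodule version. -/
theorem hh_finrank_le_mul_fix {M : Type*} [AddCommGroup M] [Module K M]
    [FiniteDimensional K M] (A : Module.End K M) (P : ℕ) (hA : A ^ P = 0)
    (L : Submodule K M) (hL : ∀ v ∈ L, A v ∈ L) :
    finrank K L ≤ P * finrank K (L ⊓ LinearMap.ker A : Submodule K M) := by
  have h1 : (A.restrict hL) ^ P = 0 := by
    rw [Module.End.pow_restrict]
    ext v
    simp [LinearMap.restrict_apply, hA]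
  have h2 := hh_finrank_le_mul_finrank_ker (A.restrict hL) P h1
  have h3 : finrank K (LinearMap.ker (A.restrict hL))
      = finrank K (L ⊓ LinearMap.ker A : Submodule K M) := by
    have h4 : LinearMap.ker (A.restrict hL) = (LinearMap.ker A).comap L.subtype := by
      ext x
      simp only [LinearMap.mem_ker, Submodule.mem_comap, Submodule.subtype_apply]
      constructor
      · intro h
        have := congrArg Subtype.val h
        simpa [LinearMap.restrict_apply] using this
      · intro h
        apply Subtype.ext
        simpa [LinearMap.restrict_apply] using h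
    rw [h4, ← Submodule.finrank_map_subtype_eq, Submodule.map_comap_subtype]
  rw [h3] at h2
  exact h2

/-- Passing to the image of a (nilpotent) operator: the commutant shrinks by at least the
square of the corank. -/
theorem hh_commSub_step {V : Type*} [AddCommGroup V] [Module K V] [FiniteDimensional K V]
    (N : Module.End K V) (hW : ∀ w ∈ LinearMap.range N, N w ∈ LinearMap.range N) :
    (finrank K V - finrank K (LinearMap.range N)) ^ 2
      + finrank K (commSub (N.restrict hW)) ≤ finrank K (commSub N) := by
  classical
  have hpres : ∀ T ∈ commSub N, ∀ w ∈ LinearMap.range N, T w ∈ LinearMap.range N := by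
    intro T hT w hw
    obtain ⟨v, rfl⟩ := hw
    refine ⟨T v, ?_⟩
    have h := congrArg (fun F : Module.End K V => F v) ((mem_commSub N T).mp hT)
    simpa using h
  let Res : commSub N →ₗ[K] Module.End K (LinearMap.range N) :=
    { toFun := fun T => (T : Module.End K V).restrict (hpres T.1 T.2)
      map_add' := by
        intro a b
        ext w
        simp [LinearMap.restrict_apply]
      map_smul' := by
        intro c a
        ext w
        simp [LinearMap.restrict_apply] }
  have hRes : ∀ (T : commSub N) (w : LinearMap.range N),
      ((Res T w : LinearMap.range N) : V) = (T : Module.End K V) (w : V) := by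
    intro T w
    rfl
  have hN' : ∀ w : LinearMap.range N, ((N.restrict hW w : LinearMap.range N) : V) = N (w : V) := by
    intro w
    rfl
  have hrange : LinearMap.range Res = commSub (N.restrict hW) := by
    apply le_antisymm
    · rintro _ ⟨T, rfl⟩
      rw [mem_commSub]
      ext w
      rw [Module.End.mul_apply, Module.End.mul_apply, hN', hRes, hRes, hN']
      have h := congrArg (fun F : Module.End K V => F (w : V)) ((mem_commSub N T.1).mp T.2)
      simpa using h
    · intro S hS
      rw [mem_commSub] at hS
      obtain ⟨π, hπ⟩ := (LinearMap.range N).subtype.exists_leftInverse_of_injective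
        (LinearMap.range N).ker_subtype
      obtain ⟨σ, hσ⟩ := N.rangeRestrict.exists_rightInverse_of_surjective N.range_rangeRestrict
      have hπ' : ∀ w : LinearMap.range N, π (w : V) = w := by
        intro w
        have := congrArg (fun F => F w) hπ
        simpa using this
      have hσ' : ∀ w : LinearMap.range N, N (σ w) = (w : V) := by
        intro w
        have := congrArg (fun F => ((F w : LinearMap.range N) : V)) hσ
        simpa using this
      have hS' : ∀ w : LinearMap.range N, N.restrict hW (S w) = S (N.restrict hW w) := by
        intro w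
        have := congrArg (fun F : Module.End K (LinearMap.range N) => F w) hS
        simpa using this
      let T : Module.End K V :=
        (LinearMap.range N).subtype ∘ₗ S ∘ₗ π
          + σ ∘ₗ S ∘ₗ N.rangeRestrict ∘ₗ (LinearMap.id - (LinearMap.range N).subtype ∘ₗ π)
      have hT : ∀ v : V, T v = (S (π v) : V)
          + σ (S (N.rangeRestrict (v - (π v : V)))) := by
        intro v
        rfl
      have hTW : ∀ w : LinearMap.range N, T (w : V) = (S w : V) := by
        intro w
        rw [hT, hπ', sub_self, map_zero, map_zero, map_zero, add_zero]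
      have hNr : ∀ v : V, (N.rangeRestrict v : V) = N v := fun v => rfl
      have hTN : N * T = T * N := by
        ext v
        rw [Module.End.mul_apply, Module.End.mul_apply]
        have e1 : T (N v) = (S (N.rangeRestrict v) : V) := by
          have := hTW (N.rangeRestrict v)
          rw [hNr] at this
          exact this
        rw [e1, hT, map_add, hσ']
        have e2 : N.rangeRestrict (v - (π v : V)) = N.rangeRestrict v - N.restrict hW (π v) := by
          apply Subtype.ext
          rw [Submodule.coe_sub, hNr, hNr, hN', map_sub]
        rw [e2, map_sub, ← hS', ← hN' (S (π v))]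
        rw [Submodule.coe_sub]
        abel
      refine ⟨⟨T, (mem_commSub N T).mpr hTN⟩, ?_⟩
      ext w
      rw [hRes]
      exact hTW w
  let j : (V ⧸ LinearMap.range N →ₗ[K] LinearMap.ker N) →ₗ[K] commSub N :=
    { toFun := fun φ => ⟨(LinearMap.ker N).subtype ∘ₗ φ ∘ₗ (LinearMap.range N).mkQ, by
        rw [mem_commSub]
        ext v
        rw [Module.End.mul_apply, Module.End.mul_apply]
        simp only [LinearMap.comp_apply, Submodule.subtype_apply, Submodule.mkQ_apply]
        have h1 : (Submodule.Quotient.mk (N v) : V ⧸ LinearMap.range N) = 0 := by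
          rw [Submodule.Quotient.mk_eq_zero]
          exact ⟨v, rfl⟩
        rw [h1, map_zero]
        have h2 := (φ (Submodule.Quotient.mk v)).2
        rw [LinearMap.mem_ker] at h2
        rw [h2]
        rfl⟩
      map_add' := by
        intro a b
        apply Subtype.ext
        ext v
        simp
      map_smul' := by
        intro c a
        apply Subtype.ext
        ext v
        simp }
  have hjinj : Function.Injective j := by
    rw [← LinearMap.ker_eq_bot, LinearMap.ker_eq_bot']
    intro φ hφ
    refine LinearMap.ext fun q => ?_
    obtain ⟨v, rfl⟩ := Submodule.Quotient.mk_surjective _ q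
    have h := congrArg (fun T : commSub N => (T : Module.End K V) v) hφ
    apply Subtype.ext
    simpa [j] using h
  have hjker : LinearMap.range j ≤ LinearMap.ker Res := by
    rintro _ ⟨φ, rfl⟩
    rw [LinearMap.mem_ker]
    ext w
    rw [hRes]
    simp only [j, LinearMap.coe_mk, AddHom.coe_mk, LinearMap.comp_apply, Submodule.subtype_apply,
      Submodule.mkQ_apply]
    have h1 : (Submodule.Quotient.mk (w : V) : V ⧸ LinearMap.range N) = 0 := by
      rw [Submodule.Quotient.mk_eq_zero]
      exact w.2
    rw [h1, map_zero]
    rfl
  have h1 := LinearMap.finrank_range_add_finrank_ker Res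
  rw [hrange] at h1
  have h2 : finrank K (V ⧸ LinearMap.range N →ₗ[K] LinearMap.ker N)
      ≤ finrank K (LinearMap.ker Res) := by
    rw [← LinearMap.finrank_range_of_inj hjinj]
    exact Submodule.finrank_mono hjker
  have h3 : finrank K (V ⧸ LinearMap.range N →ₗ[K] LinearMap.ker N)
      = finrank K (V ⧸ LinearMap.range N) * finrank K (LinearMap.ker N) :=
    Module.finrank_linearMap K K _ _
  have h4 := (LinearMap.range N).finrank_quotient_add_finrank
  have h5 := LinearMap.finrank_range_add_finrank_ker N
  have h6 : finrank K (V ⧸ LinearMap.range N) = finrank K V - finrank K (LinearMap.range N) := by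
    omega
  have h7 : finrank K (LinearMap.ker N) = finrank K V - finrank K (LinearMap.range N) := by
    omega
  rw [h3, h6, h7] at h2
  rw [sq]
  omega

theorem hh_arith_step (s r m c' : ℕ) (h : r ^ 2 ≤ s * c') :
    (r + m) ^ 2 ≤ (s + 1) * (m ^ 2 + c') := by
  rcases Nat.eq_zero_or_pos s with h0 | h0
  · subst h0
    have hr : r = 0 := by
      have : r ^ 2 ≤ 0 := by simpa using h
      have h2 : r ^ 2 = 0 := Nat.le_zero.mp this
      exact pow_eq_zero_iff (two_ne_zero) |>.mp h2
    subst hr
    simp
  · have hz : ((r : ℤ)) ^ 2 ≤ (s : ℤ) * (c' : ℤ) := by exact_mod_cast h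
    have hs : (0 : ℤ) < (s : ℤ) := by exact_mod_cast h0
    have hX : 0 ≤ (s : ℤ) * ((s : ℤ) * (m : ℤ) ^ 2 + (c' : ℤ) - 2 * (r : ℤ) * (m : ℤ)) := by
      nlinarith [sq_nonneg ((s : ℤ) * (m : ℤ) - (r : ℤ))]
    have hX' : 0 ≤ (s : ℤ) * (m : ℤ) ^ 2 + (c' : ℤ) - 2 * (r : ℤ) * (m : ℤ) :=
      nonneg_of_mul_nonneg_right hX hs
    have key : ((r : ℤ) + (m : ℤ)) ^ 2 ≤ ((s : ℤ) + 1) * ((m : ℤ) ^ 2 + (c' : ℤ)) := by
      nlinarith
    exact_mod_cast key

universe uV

/-- For a nilpotent operator `N` of exact index `s` on a space of dimension `d`, with commutant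
of dimension `c`: `s ≤ d ≤ c` and `d² ≤ s c`. -/
theorem hh_commSub_bounds : ∀ (s : ℕ) {V : Type uV} [AddCommGroup V] [Module K V]
    [FiniteDimensional K V] (N : Module.End K V), N ^ s = 0 → (∀ k < s, N ^ k ≠ 0) →
    s ≤ finrank K V ∧ finrank K V ≤ finrank K (commSub N)
      ∧ finrank K V ^ 2 ≤ s * finrank K (commSub N) := by
  intro s
  induction s with
  | zero =>
    intro V _ _ _ N hs _
    have h1 : (1 : Module.End K V) = 0 := by simpa using hs
    haveI : Subsingleton V := ⟨fun a b => by
      have ha := congrArg (fun F : Module.End K V => F a) h1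
      have hb := congrArg (fun F : Module.End K V => F b) h1
      simp only [Module.End.one_apply, LinearMap.zero_apply] at ha hb
      rw [ha, hb]⟩
    have h2 : finrank K V = 0 := finrank_zero_of_subsingleton
    rw [h2]
    simp
  | succ s ih =>
    intro V _ _ _ N hs hmin
    have hW : ∀ w ∈ LinearMap.range N, N w ∈ LinearMap.range N := fun w _ => ⟨w, rfl⟩
    have hcoe : ∀ (k : ℕ) (w : LinearMap.range N),
        (((N.restrict hW) ^ k) w : V) = (N ^ k) (w : V) := by
      intro k w
      rw [Module.End.pow_restrict]
      rfl
    have hN's : (N.restrict hW) ^ s = 0 := by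
      ext w
      rw [hcoe]
      obtain ⟨v, hv⟩ := w.2
      rw [← hv, ← Module.End.mul_apply, ← pow_succ, hs]
      rfl
    have hN'min : ∀ k < s, (N.restrict hW) ^ k ≠ 0 := by
      intro k hk h0
      apply hmin (k + 1) (by omega)
      ext v
      rw [pow_succ, Module.End.mul_apply]
      have := hcoe k ⟨N v, ⟨v, rfl⟩⟩
      rw [h0] at this
      simpa using this.symm
    obtain ⟨i1, i2, i3⟩ := ih (N.restrict hW) hN's hN'min
    have step := hh_commSub_step N hW
    have hrn := LinearMap.finrank_range_add_finrank_ker N
    have hd1 : 1 ≤ finrank K V := by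
      by_contra hcon
      have h0 : finrank K V = 0 := by omega
      haveI : Subsingleton V := Module.finrank_zero_iff.mp h0
      apply hmin 0 (by omega)
      ext v
      exact Subsingleton.elim _ _
    have hker := hh_finrank_le_mul_finrank_ker N (s + 1) hs
    have hm1 : 1 ≤ finrank K (LinearMap.ker N) := by
      by_contra hcon
      have h0 : finrank K (LinearMap.ker N) = 0 := by omega
      rw [h0] at hker
      omega
    set r := finrank K (LinearMap.range N) with hr
    set m := finrank K (LinearMap.ker N) with hm
    set c' := finrank K (commSub (N.restrict hW)) with hc'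
    set c := finrank K (commSub N) with hc
    have hd : finrank K V = r + m := by omega
    have hdr : finrank K V - r = m := by omega
    rw [hdr] at step
    have hmm : m ≤ m ^ 2 := by nlinarith
    refine ⟨by omega, by omega, ?_⟩
    rw [hd]
    calc (r + m) ^ 2 ≤ (s + 1) * (m ^ 2 + c') := hh_arith_step s r m c' i3
      _ ≤ (s + 1) * c := Nat.mul_le_mul_left _ step

end HHNil

end Cfsg.Agent.Lib.helper75
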