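import Mathlib
import Cfsg.Agent.Lib.helper66.ExtraRepA
import Cfsg.Agent.Lib.helper66.ExtraRepB
import Cfsg.Agent.Lib.helper66.ExtraRepC
import Cfsg.Agent.Lib.helper75.HHNil

set_option autoImplicit false

namespace Cfsg.Agent.Lib.helper75

open Module Cfsg.Agent.Lib.helper66

section HHOrth

variable {K : Type*} [Field K] [IsAlgClosed K] {V : Type*} [AddCommGroup V] [Module K V]
  [FiniteDimensional K V] [Nontrivial V] {H : Type*} [Group H] [Fintype H]

theorem hh_avg_scalar (R : H →* Module.End K V)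
    (hirr : ∀ U : Submodule K V, (∀ u, ∀ w ∈ U, R u w ∈ U) → U = ⊥ ∨ U = ⊤)
    (A : Module.End K V) :
    ∃ κ : K, ∑ t : H, R t * A * R t⁻¹ = κ • (1 : Module.End K V) ∧
      (finrank K V : K) * κ = (Fintype.card H : K) * LinearMap.trace K V A := by
  have hcomm : ∀ B ∈ Set.range R,
      (∑ t : H, R t * A * R t⁻¹) * B = B * ∑ t : H, R t * A * R t⁻¹ := by
    rintro _ ⟨u, rfl⟩
    rw [Finset.sum_mul, Finset.mul_sum]
    have h1 : ∑ t, R t * A * R t⁻¹ * R u = ∑ t, R (u * t) * A * R (u * t)⁻¹ * R u :=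
      (Equiv.sum_comp (Equiv.mulLeft u) (fun t => R t * A * R t⁻¹ * R u)).symm
    rw [h1]
    apply Finset.sum_congr rfl
    intro t _
    calc R (u * t) * A * R (u * t)⁻¹ * R u
        = R u * R t * A * (R t⁻¹ * (R u⁻¹ * R u)) := by
          rw [mul_inv_rev, map_mul, map_mul]
          simp only [mul_assoc]
      _ = R u * (R t * A * R t⁻¹) := by
          rw [← map_mul R u⁻¹ u, inv_mul_cancel, map_one, mul_one]
          simp only [mul_assoc]
  obtain ⟨κ, hκ⟩ := schur_set (Set.range R)
    (fun U hU => hirr U (fun u w hw => hU (R u) ⟨u, rfl⟩ w hw)) _ hcomm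
  refine ⟨κ, hκ, ?_⟩
  have htr := congrArg (LinearMap.trace K V) hκ
  rw [map_sum, map_smul, LinearMap.trace_one, smul_eq_mul] at htr
  have h2 : ∀ t : H, LinearMap.trace K V (R t * A * R t⁻¹) = LinearMap.trace K V A := by
    intro t
    rw [mul_assoc, LinearMap.trace_mul_comm, mul_assoc, ← map_mul, inv_mul_cancel, map_one,
      mul_one]
  rw [Finset.sum_congr rfl (fun t _ => h2 t), Finset.sum_const, Finset.card_univ,
    nsmul_eq_mul] at htr
  rw [htr, mul_comm]

theorem hh_finrank_ne_zero (R : H →* Module.End K V)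
    (hirr : ∀ U : Submodule K V, (∀ u, ∀ w ∈ U, R u w ∈ U) → U = ⊥ ∨ U = ⊤)
    (hH : (Fintype.card H : K) ≠ 0) : (finrank K V : K) ≠ 0 := by
  intro h0
  have hpos : 0 < finrank K V := Module.finrank_pos
  let b := Module.finBasis K V
  let i : Fin (finrank K V) := ⟨0, hpos⟩
  obtain ⟨κ, _, hκ⟩ := hh_avg_scalar R hirr ((b.coord i).smulRight (b i))
  rw [h0, zero_mul, LinearMap.trace_smulRight, Module.Basis.coord_apply, Module.Basis.repr_self,
    Finsupp.single_eq_same, mul_one] at hκ
  exact hH hκ.symm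

theorem hh_orth_rank_one (R : H →* Module.End K V)
    (hirr : ∀ U : Submodule K V, (∀ u, ∀ w ∈ U, R u w ∈ U) → U = ⊥ ∨ U = ⊤)
    (hd : (finrank K V : K) ≠ 0) (φ : V →ₗ[K] K) (u : V) :
    ∑ t : H, LinearMap.trace K V (R t * φ.smulRight u) • R t⁻¹
      = ((Fintype.card H : K) / (finrank K V : K)) • φ.smulRight u := by
  have htr : ∀ t : H, LinearMap.trace K V (R t * φ.smulRight u) = φ (R t u) := by
    intro t
    have h1 : R t * φ.smulRight u = φ.smulRight (R t u) := by
      ext x
      simp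
    rw [h1, LinearMap.trace_smulRight]
  ext w
  rw [LinearMap.sum_apply]
  simp only [LinearMap.smul_apply, LinearMap.smulRight_apply, htr]
  obtain ⟨κ, hκ1, hκ2⟩ := hh_avg_scalar R hirr (φ.smulRight w)
  have h2 := congrArg (fun F : Module.End K V => F u) hκ1
  simp only [LinearMap.sum_apply, Module.End.mul_apply, LinearMap.smulRight_apply,
    LinearMap.smul_apply, Module.End.one_apply, map_smul] at h2
  have h3 : ∑ t : H, φ (R t u) • R t⁻¹ w = ∑ t : H, φ (R t⁻¹ u) • R t w := by
    rw [← Equiv.sum_comp (Equiv.inv H)]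
    simp
  rw [h3, h2]
  rw [LinearMap.trace_smulRight] at hκ2
  have h4 : κ = (Fintype.card H : K) / (finrank K V : K) * φ w := by
    field_simp
    rw [← hκ2]
    ring
  rw [h4, mul_smul]

theorem hh_orth (R : H →* Module.End K V)
    (hirr : ∀ U : Submodule K V, (∀ u, ∀ w ∈ U, R u w ∈ U) → U = ⊥ ∨ U = ⊤)
    (hd : (finrank K V : K) ≠ 0) (T : Module.End K V) :
    ∑ t : H, LinearMap.trace K V (R t * T) • R t⁻¹
      = ((Fintype.card H : K) / (finrank K V : K)) • T := by
  let b := Module.finBasis K V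
  have hT : T = ∑ i, (b.coord i).smulRight (T (b i)) := by
    ext v
    rw [LinearMap.sum_apply]
    simp only [LinearMap.smulRight_apply, Module.Basis.coord_apply]
    conv_lhs => rw [← b.sum_repr v]
    rw [map_sum]
    simp
  have h1 : ∀ t : H, LinearMap.trace K V (R t * T) • R t⁻¹
      = ∑ i, LinearMap.trace K V (R t * (b.coord i).smulRight (T (b i))) • R t⁻¹ := by
    intro t
    conv_lhs => rw [hT]
    rw [Finset.mul_sum, map_sum, Finset.sum_smul]
  rw [Finset.sum_congr rfl (fun t _ => h1 t), Finset.sum_comm]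
  rw [Finset.sum_congr rfl (fun i _ => hh_orth_rank_one R hirr hd (b.coord i) (T (b i)))]
  rw [← Finset.smul_sum, ← hT]

theorem hh_smul_one_inj {c c' : K} (h : c • (1 : Module.End K V) = c' • (1 : Module.End K V)) :
    c = c' := by
  obtain ⟨v, hv⟩ := exists_ne (0 : V)
  have h1 := congrArg (fun F : Module.End K V => F v) h
  simp only [LinearMap.smul_apply, Module.End.one_apply] at h1
  have h2 : (c - c') • v = 0 := by rw [sub_smul, h1, sub_self]
  rcases smul_eq_zero.mp h2 with h3 | h3
  · exact sub_eq_zero.mp h3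
  · exact absurd h3 hv

/-- The scalar by which `R u` acts, when it is a scalar (and `0` otherwise). -/
noncomputable def hhSc (R : H →* Module.End K V) (u : H) : K :=
  open Classical in
  if h : ∃ c : K, R u = c • (1 : Module.End K V) then Classical.choose h else 0

theorem hhSc_spec (R : H →* Module.End K V)
    (hirr : ∀ U : Submodule K V, (∀ u, ∀ w ∈ U, R u w ∈ U) → U = ⊥ ∨ U = ⊤)
    {z : H} (hz : z ∈ Subgroup.center H) : R z = hhSc R z • (1 : Module.End K V) := by
  have hcomm : ∀ B ∈ Set.range R, R z * B = B * R z := by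
    rintro _ ⟨u, rfl⟩
    rw [← map_mul, ← map_mul, (Subgroup.mem_center_iff.mp hz u)]
  have h := schur_set (Set.range R)
    (fun U hU => hirr U (fun u w hw => hU (R u) ⟨u, rfl⟩ w hw)) _ hcomm
  unfold hhSc
  rw [dif_pos h]
  exact Classical.choose_spec h

theorem hhSc_of_eq (R : H →* Module.End K V)
    (hirr : ∀ U : Submodule K V, (∀ u, ∀ w ∈ U, R u w ∈ U) → U = ⊥ ∨ U = ⊤)
    {z : H} (hz : z ∈ Subgroup.center H) {c : K} (h : R z = c • (1 : Module.End K V)) :
    hhSc R z = c :=
  hh_smul_one_inj ((hhSc_spec R hirr hz).symm.trans h)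

theorem hhSc_one (R : H →* Module.End K V)
    (hirr : ∀ U : Submodule K V, (∀ u, ∀ w ∈ U, R u w ∈ U) → U = ⊥ ∨ U = ⊤) :
    hhSc R 1 = 1 :=
  hhSc_of_eq R hirr (Subgroup.one_mem _) (by rw [map_one, one_smul])

theorem hhSc_mul (R : H →* Module.End K V)
    (hirr : ∀ U : Submodule K V, (∀ u, ∀ w ∈ U, R u w ∈ U) → U = ⊥ ∨ U = ⊤)
    {z z' : H} (hz : z ∈ Subgroup.center H) (hz' : z' ∈ Subgroup.center H) :
    hhSc R (z * z') = hhSc R z * hhSc R z' :=
  hhSc_of_eq R hirr (Subgroup.mul_mem _ hz hz') (by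
    rw [map_mul, hhSc_spec R hirr hz, hhSc_spec R hirr hz', smul_mul_smul_comm, mul_one])

theorem hhSc_ne_zero (R : H →* Module.End K V)
    (hirr : ∀ U : Submodule K V, (∀ u, ∀ w ∈ U, R u w ∈ U) → U = ⊥ ∨ U = ⊤)
    {z : H} (hz : z ∈ Subgroup.center H) : hhSc R z ≠ 0 := by
  intro h0
  have h1 := hhSc_mul R hirr hz (Subgroup.inv_mem _ hz)
  rw [mul_inv_cancel, hhSc_one R hirr, h0, zero_mul] at h1
  exact one_ne_zero h1

/-- Functions on `H` that transform under the centre by the central character of `R`. -/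
noncomputable def hhF (R : H →* Module.End K V) : Submodule K (H → K) where
  carrier := {f | ∀ t z, z ∈ Subgroup.center H → f (t * z) = hhSc R z * f t}
  add_mem' := by
    intro f g hf hg t z hz
    simp only [Pi.add_apply]
    rw [hf t z hz, hg t z hz]
    ring
  zero_mem' := by
    intro t z _
    simp
  smul_mem' := by
    intro c f hf t z hz
    simp only [Pi.smul_apply, smul_eq_mul]
    rw [hf t z hz]
    ring

theorem mem_hhF (R : H →* Module.End K V) (f : H → K) :
    f ∈ hhF R ↔ ∀ t z, z ∈ Subgroup.center H → f (t * z) = hhSc R z * f t := Iff.rfl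

/-- Matrix-coefficient map. -/
noncomputable def hhAlpha (R : H →* Module.End K V) : Module.End K V →ₗ[K] (H → K) where
  toFun T t := LinearMap.trace K V (R t * T)
  map_add' := by
    intro a b
    ext t
    simp [mul_add]
  map_smul' := by
    intro c a
    ext t
    simp

theorem hhAlpha_apply (R : H →* Module.End K V) (T : Module.End K V) (t : H) :
    hhAlpha R T t = LinearMap.trace K V (R t * T) := rfl

/-- Fourier-type map back. -/
noncomputable def hhBeta (R : H →* Module.End K V) : (H → K) →ₗ[K] Module.End K V where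
  toFun f := ∑ t, f t • R t⁻¹
  map_add' := by
    intro a b
    simp [add_smul, Finset.sum_add_distrib]
  map_smul' := by
    intro c a
    simp [Finset.smul_sum, mul_smul]

theorem hhBeta_apply (R : H →* Module.End K V) (f : H → K) :
    hhBeta R f = ∑ t, f t • R t⁻¹ := rfl

theorem hhBeta_alpha (R : H →* Module.End K V)
    (hirr : ∀ U : Submodule K V, (∀ u, ∀ w ∈ U, R u w ∈ U) → U = ⊥ ∨ U = ⊤)
    (hd : (finrank K V : K) ≠ 0) (T : Module.End K V) :
    hhBeta R (hhAlpha R T) = ((Fintype.card H : K) / (finrank K V : K)) • T :=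
  hh_orth R hirr hd T

theorem hhAlpha_mem_F (R : H →* Module.End K V)
    (hirr : ∀ U : Submodule K V, (∀ u, ∀ w ∈ U, R u w ∈ U) → U = ⊥ ∨ U = ⊤)
    (T : Module.End K V) : hhAlpha R T ∈ hhF R := by
  intro t z hz
  rw [hhAlpha_apply, hhAlpha_apply, map_mul R t z, hhSc_spec R hirr hz, mul_smul_comm, mul_one,
    smul_mul_assoc, map_smul, smul_eq_mul]

/-- `|H : Z(H)| ≤ dim F`. -/
theorem hh_card_le_finrank_F (R : H →* Module.End K V)
    (hirr : ∀ U : Submodule K V, (∀ u, ∀ w ∈ U, R u w ∈ U) → U = ⊥ ∨ U = ⊤) :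
    Nat.card (H ⧸ Subgroup.center H) ≤ finrank K (hhF R) := by
  classical
  let _ : Fintype (H ⧸ Subgroup.center H) := Fintype.ofFinite _
  have hout : ∀ t : H, (Quotient.out (QuotientGroup.mk t : H ⧸ Subgroup.center H))⁻¹ * t
      ∈ Subgroup.center H := by
    intro t
    apply QuotientGroup.eq.mp
    exact QuotientGroup.out_eq' _
  let ι : (H ⧸ Subgroup.center H → K) →ₗ[K] (H → K) :=
    { toFun := fun g t =>
        hhSc R ((Quotient.out (QuotientGroup.mk t : H ⧸ Subgroup.center H))⁻¹ * t)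
          * g (QuotientGroup.mk t)
      map_add' := by
        intro a b
        ext t
        simp [mul_add]
      map_smul' := by
        intro c a
        ext t
        simp only [Pi.smul_apply, smul_eq_mul, RingHom.id_apply]
        ring }
  have hι : ∀ g t, ι g t
      = hhSc R ((Quotient.out (QuotientGroup.mk t : H ⧸ Subgroup.center H))⁻¹ * t)
          * g (QuotientGroup.mk t) := fun g t => rfl
  have hrange : LinearMap.range ι ≤ hhF R := by
    rintro _ ⟨g, rfl⟩
    intro t z hz
    rw [hι, hι]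
    have h1 : (QuotientGroup.mk (t * z) : H ⧸ Subgroup.center H) = QuotientGroup.mk t :=
      QuotientGroup.mk_mul_of_mem t hz
    rw [h1, ← mul_assoc, hhSc_mul R hirr (hout t) hz]
    ring
  have hinj : Function.Injective ι := by
    rw [← LinearMap.ker_eq_bot, LinearMap.ker_eq_bot']
    intro g hg
    ext ω
    have h1 := congrFun hg (Quotient.out ω)
    rw [hι] at h1
    have h2 : (QuotientGroup.mk (Quotient.out ω) : H ⧸ Subgroup.center H) = ω :=
      QuotientGroup.out_eq' ω
    rw [h2, inv_mul_cancel, hhSc_one R hirr, one_mul] at h1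
    simpa using h1
  calc Nat.card (H ⧸ Subgroup.center H) = Fintype.card (H ⧸ Subgroup.center H) :=
        Nat.card_eq_fintype_card
    _ = finrank K (H ⧸ Subgroup.center H → K) := (Module.finrank_fintype_fun_eq_card K).symm
    _ = finrank K (LinearMap.range ι) := (LinearMap.finrank_range_of_inj hinj).symm
    _ ≤ finrank K (hhF R) := Submodule.finrank_mono hrange

/-- Orbit count for an automorphism acting fixed-point-freely modulo the centre. -/
theorem hh_orbit_count (σ : MulAut H) (P : ℕ) (hP : 0 < P) (hσP : σ ^ P = 1)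
    (hfpf : ∀ i, 0 < i → i < P → ∀ u, (σ ^ i) u * u⁻¹ ∈ Subgroup.center H →
      u ∈ Subgroup.center H) :
    P * Nat.card (MulAction.orbitRel.Quotient
        (Subgroup.zpowers ((sigmaBar σ).toEquiv : Equiv.Perm (H ⧸ Subgroup.center H)))
        (H ⧸ Subgroup.center H)) + 1
      = Nat.card (H ⧸ Subgroup.center H) + P := by
  classical
  let _ : Fintype (H ⧸ Subgroup.center H) := Fintype.ofFinite _
  by_cases hnt : ∃ ω : H ⧸ Subgroup.center H, ω ≠ 1
  · have hτP : ((sigmaBar σ).toEquiv : Equiv.Perm (H ⧸ Subgroup.center H)) ^ P = 1 := by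
      ext ω
      obtain ⟨u, rfl⟩ := QuotientGroup.mk_surjective ω
      rw [sigmaBar_pow_mk, hσP]
      rfl
    have hfix0 : ((sigmaBar σ).toEquiv : Equiv.Perm (H ⧸ Subgroup.center H)) 1 = 1 :=
      map_one (sigmaBar σ)
    have hfpf' : ∀ i, 0 < i → i < P → ∀ ω,
        (((sigmaBar σ).toEquiv : Equiv.Perm (H ⧸ Subgroup.center H)) ^ i) ω = ω → ω = 1 := by
      intro i hi0 hiP ω hω
      obtain ⟨u, rfl⟩ := QuotientGroup.mk_surjective ω
      rw [sigmaBar_pow_mk] at hω
      have h1 : (σ ^ i) u * u⁻¹ ∈ Subgroup.center H := by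
        rw [← QuotientGroup.eq_one_iff, QuotientGroup.mk_mul, hω, QuotientGroup.mk_inv,
          mul_inv_cancel]
      exact (QuotientGroup.eq_one_iff u).mpr (hfpf i hi0 hiP u h1)
    exact orbit_count _ P hP hτP 1 hfix0 hfpf' hnt
  · have hall : ∀ ω : H ⧸ Subgroup.center H, ω = 1 := fun ω => by
      by_contra h
      exact hnt ⟨ω, h⟩
    have h1 : Nat.card (H ⧸ Subgroup.center H) = 1 := by
      rw [Nat.card_eq_one_iff_unique]
      exact ⟨⟨fun a b => by rw [hall a, hall b]⟩, ⟨1⟩⟩
    have h2 : Nat.card (MulAction.orbitRel.Quotient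
        (Subgroup.zpowers ((sigmaBar σ).toEquiv : Equiv.Perm (H ⧸ Subgroup.center H)))
        (H ⧸ Subgroup.center H)) = 1 := by
      rw [Nat.card_eq_one_iff_unique]
      refine ⟨⟨fun a b => ?_⟩, ⟨Quotient.mk'' 1⟩⟩
      induction a using Quotient.inductionOn with
      | _ a =>
        induction b using Quotient.inductionOn with
        | _ b => rw [hall a, hall b]
    rw [h1, h2]
    omega

/-- The σ-invariant twisted functions have dimension at most the number of orbits. -/
theorem hh_finrank_C_le (R : H →* Module.End K V)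
    (hirr : ∀ U : Submodule K V, (∀ u, ∀ w ∈ U, R u w ∈ U) → U = ⊥ ∨ U = ⊤) (σ : MulAut H) :
    finrank K (hhF R ⊓ LinearMap.ker (LinearMap.funLeft K K σ - 1) : Submodule K (H → K))
      ≤ Nat.card (MulAction.orbitRel.Quotient
        (Subgroup.zpowers ((sigmaBar σ).toEquiv : Equiv.Perm (H ⧸ Subgroup.center H)))
        (H ⧸ Subgroup.center H)) := by
  classical
  let _ : Fintype (H ⧸ Subgroup.center H) := Fintype.ofFinite _
  let ev : (H → K) →ₗ[K] (H ⧸ Subgroup.center H → K) :=
    LinearMap.funLeft K K (Quotient.out : H ⧸ Subgroup.center H → H)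
  have hev : ∀ f ω, ev f ω = f (Quotient.out ω) := fun f ω => rfl
  have hout : ∀ t : H, (Quotient.out (QuotientGroup.mk t : H ⧸ Subgroup.center H))⁻¹ * t
      ∈ Subgroup.center H := by
    intro t
    apply QuotientGroup.eq.mp
    exact QuotientGroup.out_eq' _
  have hCF : ∀ f ∈ (hhF R ⊓ LinearMap.ker (LinearMap.funLeft K K σ - 1) : Submodule K (H → K)),
      ∀ t z, z ∈ Subgroup.center H → f (t * z) = hhSc R z * f t :=
    fun f hf => (Submodule.mem_inf.mp hf).1
  have hCσ : ∀ f ∈ (hhF R ⊓ LinearMap.ker (LinearMap.funLeft K K σ - 1) : Submodule K (H → K)),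
      ∀ t, f (σ t) = f t := by
    intro f hf t
    have h1 := (Submodule.mem_inf.mp hf).2
    rw [LinearMap.mem_ker, LinearMap.sub_apply, sub_eq_zero] at h1
    exact congrFun h1 t
  have hinj : ∀ f ∈ (hhF R ⊓ LinearMap.ker (LinearMap.funLeft K K σ - 1) : Submodule K (H → K)),
      ev f = 0 → f = 0 := by
    intro f hf h0
    funext t
    have h1 := hCF f hf (Quotient.out (QuotientGroup.mk t : H ⧸ Subgroup.center H)) _ (hout t)
    rw [mul_inv_cancel_left] at h1
    have h2 := congrFun h0 (QuotientGroup.mk t)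
    rw [hev] at h2
    rw [h1, h2]
    simp
  have hC' : ∀ g ∈ (hhF R ⊓ LinearMap.ker (LinearMap.funLeft K K σ - 1) :
      Submodule K (H → K)).map ev, ∀ ω,
      (Pi.basisFun K (H ⧸ Subgroup.center H)).repr g
          (((sigmaBar σ).toEquiv : Equiv.Perm (H ⧸ Subgroup.center H)) ω) = 0
        ↔ (Pi.basisFun K (H ⧸ Subgroup.center H)).repr g ω = 0 := by
    rintro _ ⟨f, hf, rfl⟩ ω
    simp only [Pi.basisFun_repr, hev]
    have h1 : ((sigmaBar σ).toEquiv : Equiv.Perm (H ⧸ Subgroup.center H)) ω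
        = QuotientGroup.mk (σ (Quotient.out ω)) := by
      conv_lhs => rw [← QuotientGroup.out_eq' ω]
      exact sigmaBar_mk σ _
    have h2 : (σ (Quotient.out ω))⁻¹ * Quotient.out
        (((sigmaBar σ).toEquiv : Equiv.Perm (H ⧸ Subgroup.center H)) ω) ∈ Subgroup.center H := by
      apply QuotientGroup.eq.mp
      rw [QuotientGroup.out_eq', h1]
    have h3 := hCF f hf (σ (Quotient.out ω)) _ h2
    rw [mul_inv_cancel_left, hCσ f hf] at h3
    rw [h3]
    constructor
    · intro h
      exact (mul_eq_zero.mp h).resolve_left (hhSc_ne_zero R hirr h2)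
    · intro h
      rw [h, mul_zero]
  have hle := finrank_le_orbits (Pi.basisFun K (H ⧸ Subgroup.center H))
    ((sigmaBar σ).toEquiv : Equiv.Perm (H ⧸ Subgroup.center H)) _ hC'
  have h4 : finrank K (hhF R ⊓ LinearMap.ker (LinearMap.funLeft K K σ - 1) : Submodule K (H → K))
      ≤ finrank K ((hhF R ⊓ LinearMap.ker (LinearMap.funLeft K K σ - 1) :
        Submodule K (H → K)).map ev) := by
    have he : Function.Injective (ev.domRestrict
        (hhF R ⊓ LinearMap.ker (LinearMap.funLeft K K σ - 1) : Submodule K (H → K))) := by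
      rw [← LinearMap.ker_eq_bot, LinearMap.ker_eq_bot']
      intro x hx
      apply Subtype.ext
      exact hinj x.1 x.2 hx
    rw [← LinearMap.finrank_range_of_inj he]
    apply Submodule.finrank_mono
    rintro _ ⟨x, rfl⟩
    exact ⟨x.1, x.2, rfl⟩
  exact h4.trans hle

/-- Main fixed-point bound: if `X` (of `p`-power order `p^n` in characteristic `p`) normalises
the irreducible `R(H)` inducing an automorphism acting fixed-point-freely modulo the centre, then
`p^n · dim C(X) ≤ (dim V)² + p^n - 1`. -/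
theorem hh_fix_bound (p : ℕ) [Fact p.Prime] [CharP K p] (n : ℕ)
    (R : H →* Module.End K V)
    (hirr : ∀ U : Submodule K V, (∀ u, ∀ w ∈ U, R u w ∈ U) → U = ⊥ ∨ U = ⊤)
    (hH : (Fintype.card H : K) ≠ 0)
    (X : Module.End K V) (σ : MulAut H)
    (hX : ∀ u, X * R u = R (σ u) * X) (hXP : X ^ (p ^ n) = 1) (hσP : σ ^ (p ^ n) = 1)
    (hfpf : ∀ i, 0 < i → i < p ^ n → ∀ u, (σ ^ i) u * u⁻¹ ∈ Subgroup.center H →
      u ∈ Subgroup.center H) :
    p ^ n * finrank K (commSub X) + 1 ≤ finrank K V ^ 2 + p ^ n := by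
  classical
  have hP : 0 < p ^ n := pow_pos (Fact.out : p.Prime).pos n
  obtain ⟨Xi, hXi1, hXi2⟩ : ∃ Xi : Module.End K V, Xi * X = 1 ∧ X * Xi = 1 := by
    refine ⟨X ^ (p ^ n - 1), ?_, ?_⟩
    · rw [← pow_succ, Nat.sub_add_cancel hP, hXP]
    · rw [← pow_succ', Nat.sub_add_cancel hP, hXP]
  have hconj : ∀ u, R (σ u) = X * R u * Xi := by
    intro u
    rw [hX u, mul_assoc, hXi2, mul_one]
  have hd := hh_finrank_ne_zero R hirr hH
  have hscσ : ∀ z ∈ Subgroup.center H, hhSc R (σ z) = hhSc R z := by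
    intro z hz
    apply hhSc_of_eq R hirr (sigma_center σ hz)
    rw [hconj, hhSc_spec R hirr hz, mul_smul_comm, mul_one, smul_mul_assoc, hXi2]
  have hXtk : ∀ k : ℕ, (LinearMap.funLeft K K σ : Module.End K (H → K)) ^ k
      = LinearMap.funLeft K K ((σ ^ k : MulAut H)) := by
    intro k
    induction k with
    | zero =>
      refine LinearMap.ext fun f => funext fun t => ?_
      simp [LinearMap.funLeft_apply]
    | succ k ih =>
      rw [pow_succ, ih]
      refine LinearMap.ext fun f => funext fun t => ?_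
      rw [Module.End.mul_apply, LinearMap.funLeft_apply, LinearMap.funLeft_apply,
        LinearMap.funLeft_apply, pow_succ', MulAut.mul_apply]
  have hA1 : ((LinearMap.funLeft K K σ : Module.End K (H → K)) - 1) ^ (p ^ n) = 0 := by
    haveI : CharP (Module.End K (H → K)) p :=
      charP_of_injective_algebraMap (algebraMap K _).injective p
    rw [sub_pow_char_pow_of_commute p n (Commute.one_right _), one_pow, hXtk, hσP]
    refine LinearMap.ext fun f => funext fun t => ?_
    simp [LinearMap.funLeft_apply]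
  have hαinj : Function.Injective (hhAlpha R) := by
    rw [← LinearMap.ker_eq_bot, LinearMap.ker_eq_bot']
    intro T hT
    have h1 := hhBeta_alpha R hirr hd T
    rw [hT, map_zero] at h1
    exact (smul_eq_zero.mp h1.symm).resolve_left (div_ne_zero hH hd)
  have hA'C : (commSub X).map (hhAlpha R)
      ≤ (hhF R ⊓ LinearMap.ker (LinearMap.funLeft K K σ - 1) : Submodule K (H → K)) := by
    rintro _ ⟨T, hT, rfl⟩
    refine Submodule.mem_inf.mpr ⟨hhAlpha_mem_F R hirr T, ?_⟩
    rw [LinearMap.mem_ker, LinearMap.sub_apply, sub_eq_zero]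
    funext t
    show hhAlpha R T (σ t) = hhAlpha R T t
    rw [hhAlpha_apply, hhAlpha_apply, hconj, mul_assoc, mul_assoc, LinearMap.trace_mul_comm]
    have h1 : R t * (Xi * T) * X = R t * T := by
      rw [mul_assoc, mul_assoc, ← (mem_commSub X T).mp hT, ← mul_assoc Xi, hXi1, one_mul]
    rw [h1]
  have hK2σC : ((hhF R ⊓ LinearMap.ker (hhBeta R)) ⊓ LinearMap.ker (LinearMap.funLeft K K σ - 1)
      : Submodule K (H → K))
      ≤ (hhF R ⊓ LinearMap.ker (LinearMap.funLeft K K σ - 1) : Submodule K (H → K)) :=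
    fun f hf => Submodule.mem_inf.mpr
      ⟨(Submodule.mem_inf.mp (Submodule.mem_inf.mp hf).1).1, (Submodule.mem_inf.mp hf).2⟩
  have hdisj : (commSub X).map (hhAlpha R)
      ⊓ ((hhF R ⊓ LinearMap.ker (hhBeta R)) ⊓ LinearMap.ker (LinearMap.funLeft K K σ - 1)
      : Submodule K (H → K)) = ⊥ := by
    rw [eq_bot_iff]
    rintro f ⟨⟨T, hT, rfl⟩, hf2⟩
    have h1 : hhBeta R (hhAlpha R T) = 0 :=
      LinearMap.mem_ker.mp (Submodule.mem_inf.mp (Submodule.mem_inf.mp hf2).1).2
    rw [hhBeta_alpha R hirr hd T] at h1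
    have h2 : T = 0 := (smul_eq_zero.mp h1).resolve_left (div_ne_zero hH hd)
    rw [h2, map_zero]
    exact Submodule.zero_mem _
  have hfA' : finrank K ((commSub X).map (hhAlpha R)) = finrank K (commSub X) :=
    (Submodule.equivMapOfInjective (hhAlpha R) hαinj (commSub X)).finrank_eq.symm
  have hsum : finrank K (commSub X)
      + finrank K ((hhF R ⊓ LinearMap.ker (hhBeta R)) ⊓ LinearMap.ker (LinearMap.funLeft K K σ - 1)
        : Submodule K (H → K))
      ≤ finrank K (hhF R ⊓ LinearMap.ker (LinearMap.funLeft K K σ - 1) : Submodule K (H → K)) := by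
    have h1 := Submodule.finrank_sup_add_finrank_inf_eq ((commSub X).map (hhAlpha R))
      ((hhF R ⊓ LinearMap.ker (hhBeta R)) ⊓ LinearMap.ker (LinearMap.funLeft K K σ - 1)
        : Submodule K (H → K))
    rw [hdisj, finrank_bot, add_zero, hfA'] at h1
    rw [← h1]
    exact Submodule.finrank_mono (sup_le hA'C hK2σC)
  have hXtF : ∀ f ∈ hhF R, (LinearMap.funLeft K K σ : Module.End K (H → K)) f ∈ hhF R := by
    intro f hf t z hz
    show f (σ (t * z)) = hhSc R z * f (σ t)
    rw [map_mul, hf (σ t) (σ z) (sigma_center σ hz), hscσ z hz]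
  have hXtβ : ∀ f : H → K, hhBeta R ((LinearMap.funLeft K K σ : Module.End K (H → K)) f)
      = Xi * hhBeta R f * X := by
    intro f
    rw [hhBeta_apply, hhBeta_apply, Finset.mul_sum, Finset.sum_mul]
    rw [← Equiv.sum_comp σ.toEquiv (fun s => Xi * f s • R s⁻¹ * X)]
    apply Finset.sum_congr rfl
    intro t _
    show f (σ t) • R t⁻¹ = Xi * f (σ t) • R (σ t)⁻¹ * X
    rw [← map_inv σ t, hconj, mul_smul_comm, smul_mul_assoc]
    congr 1
    rw [mul_assoc, mul_assoc, hXi1, mul_one, ← mul_assoc, hXi1, one_mul]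
  have hK2inv : ∀ f ∈ (hhF R ⊓ LinearMap.ker (hhBeta R) : Submodule K (H → K)),
      ((LinearMap.funLeft K K σ : Module.End K (H → K)) - 1) f
        ∈ (hhF R ⊓ LinearMap.ker (hhBeta R) : Submodule K (H → K)) := by
    intro f hf
    rw [LinearMap.sub_apply, Module.End.one_apply]
    apply Submodule.sub_mem _ _ hf
    refine Submodule.mem_inf.mpr ⟨hXtF f (Submodule.mem_inf.mp hf).1, ?_⟩
    rw [LinearMap.mem_ker, hXtβ, LinearMap.mem_ker.mp (Submodule.mem_inf.mp hf).2, mul_zero,
      zero_mul]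
  have hK2 := hh_finrank_le_mul_fix _ (p ^ n) hA1 _ hK2inv
  have hFK2 : finrank K (hhF R)
      ≤ finrank K (hhF R ⊓ LinearMap.ker (hhBeta R) : Submodule K (H → K)) + finrank K V ^ 2 := by
    have h1 := LinearMap.finrank_range_add_finrank_ker ((hhBeta R).domRestrict (hhF R))
    have h2 : finrank K (LinearMap.range ((hhBeta R).domRestrict (hhF R))) ≤ finrank K V ^ 2 := by
      have h3 := Submodule.finrank_le (LinearMap.range ((hhBeta R).domRestrict (hhF R)))
      have h4 : finrank K (Module.End K V) = finrank K V * finrank K V :=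
        Module.finrank_linearMap K K V V
      rw [h4] at h3
      rw [sq]
      exact h3
    have h3 : finrank K (LinearMap.ker ((hhBeta R).domRestrict (hhF R)))
        = finrank K (hhF R ⊓ LinearMap.ker (hhBeta R) : Submodule K (H → K)) := by
      rw [LinearMap.ker_domRestrict, ← Submodule.finrank_map_subtype_eq,
        Submodule.map_comap_subtype]
    omega
  have hΩ := hh_card_le_finrank_F R hirr
  have hCle := hh_finrank_C_le R hirr σ
  have horb := hh_orbit_count σ (p ^ n) hP hσP hfpf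
  have h5 := Nat.mul_le_mul_left (p ^ n) hsum
  have h6 := Nat.mul_le_mul_left (p ^ n) hCle
  rw [mul_add] at h5
  omega

end HHOrth

end Cfsg.Agent.Lib.helper75
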