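import Mathlib
import Cfsg.Agent.Lib.helper75.HHNil
import Cfsg.Agent.Lib.helper75.HHOrth
import Cfsg.Agent.Lib.helper75.HHDeg

set_option autoImplicit false

namespace Cfsg.Agent.Lib.helper75

open Module Cfsg.Agent.Lib.helper66

open scoped Pointwise

section HHMain

theorem hh_pow_coprime_mem {G : Type*} [Group G] (S : Subgroup G) {u : G} {m N : ℕ}
    (hcop : Nat.Coprime m N) (hN : u ^ N = 1) (hm : u ^ m ∈ S) : u ∈ S := by
  have h1 : (1 : ℤ) = m * Nat.gcdA m N + N * Nat.gcdB m N := by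
    have h := Nat.gcd_eq_gcd_ab m N
    rw [hcop] at h
    exact_mod_cast h
  have h2 : u = (u ^ m) ^ (Nat.gcdA m N) * (u ^ N) ^ (Nat.gcdB m N) := by
    rw [← zpow_natCast, ← zpow_natCast, ← zpow_mul, ← zpow_mul, ← zpow_add, ← h1, zpow_one]
  rw [h2, hN, one_zpow, mul_one]
  exact Subgroup.zpow_mem _ hm _

/-- The arithmetic at the end of the Hall–Higman critical case. -/
theorem hh_arith_final (P s d c : ℕ) (b1 : s ≤ d) (b2 : d ≤ c) (b3 : d ^ 2 ≤ s * c)
    (hfix : P * c + 1 ≤ d ^ 2 + P) (hs1 : 1 ≤ s) (hx1 : s = 1 → P = 1) :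
    P - 1 ≤ s ∧ (s = P - 1 → d = s) := by
  have h1 : P * c + 1 ≤ s * c + P := by omega
  have hcs : s ≤ c := le_trans b1 b2
  constructor
  · by_contra hcon
    have hP : s + 2 ≤ P := by omega
    rcases Nat.lt_or_ge s 2 with h2 | h2
    · have hs : s = 1 := by omega
      have := hx1 hs
      omega
    · have hz1 : (P : ℤ) * c + 1 ≤ (s : ℤ) * c + P := by exact_mod_cast h1
      have hz2 : (s : ℤ) ≤ c := by exact_mod_cast hcs
      have hz3 : (2 : ℤ) ≤ s := by exact_mod_cast h2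
      have hz4 : (s : ℤ) + 2 ≤ P := by exact_mod_cast hP
      have e1 : ((P : ℤ) - s) * s ≤ ((P : ℤ) - s) * c :=
        mul_le_mul_of_nonneg_left hz2 (by linarith)
      have e2 : (0 : ℤ) ≤ ((s : ℤ) - 2) * ((P : ℤ) - s - 2) :=
        mul_nonneg (by linarith) (by linarith)
      nlinarith
  · intro hs
    have hP : P = s + 1 := by omega
    have h2 : P * c = s * c + c := by rw [hP]; ring
    omega

theorem hh_critical {G : Type*} [Group G] [Finite G] (p q : ℕ) [Fact p.Prime] [Fact q.Prime]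
    (hpq : p ≠ q) (Q : Subgroup G) [hQn : Q.Normal] (hQ : IsPGroup q Q) (x : G)
    (hx : IsPGroup p (Subgroup.zpowers x))
    (hC : ∀ y ∈ Subgroup.zpowers x, y ≠ 1 →
      Subgroup.centralizer ({y} : Set G) = Subgroup.zpowers x ⊔ Subgroup.center G)
    {K : Type*} [Field K] [IsAlgClosed K] [CharP K p] {V : Type*} [AddCommGroup V] [Module K V]
    [FiniteDimensional K V] [Nontrivial V] (ρ : G →* Module.End K V)
    (hfaith : Function.Injective ρ)
    (hirr : ∀ W : Submodule K V, (∀ g ∈ Q, Submodule.map (ρ g) W ≤ W) → W = ⊥ ∨ W = ⊤)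
    (s : ℕ) (hs : (ρ x - 1) ^ s = 0) (hmin : ∀ k < s, (ρ x - 1) ^ k ≠ 0) :
    Nat.card (Subgroup.zpowers x) - 1 ≤ s ∧ s ≤ Nat.card (Subgroup.zpowers x) ∧
      (s = Nat.card (Subgroup.zpowers x) - 1 →
        (∃ b : ℕ, Nat.card (Subgroup.zpowers x) - 1 = q ^ b) ∧ ¬ IsMulCommutative Q) := by
  classical
  let _ : Fintype Q := Fintype.ofFinite _
  have hpp : p.Prime := Fact.out
  have hqp : q.Prime := Fact.out
  obtain ⟨n, hn⟩ := IsPGroup.iff_card.mp hx
  have hord : orderOf x = p ^ n := by rw [← Nat.card_zpowers, hn]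
  have hxP : x ^ (p ^ n) = 1 := by
    rw [← hord]
    exact pow_orderOf_eq_one x
  rw [hn]
  let R : Q →* Module.End K V := ρ.comp Q.subtype
  have hR : ∀ u : Q, R u = ρ (u : G) := fun u => rfl
  have hirrR : ∀ U : Submodule K V, (∀ u : Q, ∀ w ∈ U, R u w ∈ U) → U = ⊥ ∨ U = ⊤ := by
    intro U hU
    apply hirr U
    intro g hg
    rintro _ ⟨w, hw, rfl⟩
    exact hU ⟨g, hg⟩ w hw
  have hQK : (Fintype.card Q : K) ≠ 0 := by
    obtain ⟨a, ha⟩ := IsPGroup.iff_card.mp hQ
    rw [← Nat.card_eq_fintype_card, ha]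
    intro h0
    rw [CharP.cast_eq_zero_iff K p] at h0
    exact hpq ((Nat.prime_dvd_prime_iff_eq hpp hqp).mp (hpp.dvd_of_dvd_pow h0))
  have hσ : ∀ u : Q, (((MulAut.conjNormal x : MulAut Q) u : Q) : G) = x * u * x⁻¹ :=
    fun u => MulAut.conjNormal_apply x u
  have hσk : ∀ (k : ℕ) (u : Q),
      ((((MulAut.conjNormal x : MulAut Q) ^ k) u : Q) : G) = x ^ k * u * (x ^ k)⁻¹ := by
    intro k u
    have h1 : (MulAut.conjNormal x : MulAut Q) ^ k = MulAut.conjNormal (x ^ k) :=
      (map_pow MulAut.conjNormal x k).symm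
    rw [h1]
    exact MulAut.conjNormal_apply _ _
  have hX : ∀ u : Q, ρ x * R u = R ((MulAut.conjNormal x : MulAut Q) u) * ρ x := by
    intro u
    rw [hR, hR, hσ, ← map_mul, ← map_mul]
    congr 1
    group
  have hXP : ρ x ^ (p ^ n) = 1 := by rw [← map_pow, hxP, map_one]
  have hσP : (MulAut.conjNormal x : MulAut Q) ^ (p ^ n) = 1 := by
    refine MulEquiv.ext fun u => ?_
    apply Subtype.ext
    rw [hσk, hxP]
    simp
  have hZQ : ∀ z : Q, z ∈ Subgroup.center Q → (z : G) ∈ Subgroup.center G := by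
    intro z hz
    rw [Subgroup.mem_center_iff]
    intro g
    apply hfaith
    rw [map_mul, map_mul, ← hR z, hhSc_spec R hirrR hz, mul_smul_comm, smul_mul_assoc, mul_one,
      one_mul]
  have hcopq : Nat.Coprime p q := (Nat.coprime_primes hpp hqp).mpr hpq
  have hfpf : ∀ i, 0 < i → i < p ^ n → ∀ u : Q,
      ((MulAut.conjNormal x : MulAut Q) ^ i) u * u⁻¹ ∈ Subgroup.center Q →
      u ∈ Subgroup.center Q := by
    intro i hi0 hiP u hz
    have hy1 : x ^ i ≠ 1 := pow_ne_one_of_lt_orderOf hi0.ne' (by rw [hord]; exact hiP)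
    have hymem : x ^ i ∈ Subgroup.zpowers x := Subgroup.pow_mem _ (Subgroup.mem_zpowers x) i
    have hzG := hZQ _ hz
    have hzval : ((((MulAut.conjNormal x : MulAut Q) ^ i) u * u⁻¹ : Q) : G)
        = x ^ i * u * (x ^ i)⁻¹ * (u : G)⁻¹ := by
      rw [Subgroup.coe_mul, hσk, Subgroup.coe_inv]
    rw [hzval] at hzG
    have hpow : ∀ k : ℕ, (x ^ i) ^ k * u * ((x ^ i) ^ k)⁻¹
        = (x ^ i * u * (x ^ i)⁻¹ * (u : G)⁻¹) ^ k * u := by
      intro k
      induction k with
      | zero => simp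
      | succ k ih =>
        have hzc : ∀ g : G, g * (x ^ i * u * (x ^ i)⁻¹ * (u : G)⁻¹) ^ k
            = (x ^ i * u * (x ^ i)⁻¹ * (u : G)⁻¹) ^ k * g :=
          fun g => Subgroup.mem_center_iff.mp (Subgroup.pow_mem _ hzG k) g
        calc (x ^ i) ^ (k + 1) * u * ((x ^ i) ^ (k + 1))⁻¹
            = x ^ i * ((x ^ i) ^ k * u * ((x ^ i) ^ k)⁻¹) * (x ^ i)⁻¹ := by
              rw [pow_succ']
              group
          _ = x ^ i * ((x ^ i * u * (x ^ i)⁻¹ * (u : G)⁻¹) ^ k * u) * (x ^ i)⁻¹ := by rw [ih]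
          _ = (x ^ i * u * (x ^ i)⁻¹ * (u : G)⁻¹) ^ k
                * (x ^ i * u * (x ^ i)⁻¹ * (u : G)⁻¹) * u := by
              rw [← mul_assoc (x ^ i), hzc (x ^ i)]
              group
          _ = (x ^ i * u * (x ^ i)⁻¹ * (u : G)⁻¹) ^ (k + 1) * u := by rw [← pow_succ]
    have hzm : (x ^ i * u * (x ^ i)⁻¹ * (u : G)⁻¹) ^ (orderOf (x ^ i)) = 1 := by
      have h1 := hpow (orderOf (x ^ i))
      rw [pow_orderOf_eq_one, one_mul, inv_one, mul_one] at h1
      exact (mul_eq_right.mp h1.symm)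
    have hzQ : x ^ i * u * (x ^ i)⁻¹ * (u : G)⁻¹ ∈ Q :=
      Q.mul_mem (hQn.conj_mem _ u.2 (x ^ i)) (Q.inv_mem u.2)
    obtain ⟨k, hk⟩ := hQ ⟨_, hzQ⟩
    have hk' : (x ^ i * u * (x ^ i)⁻¹ * (u : G)⁻¹) ^ (q ^ k) = 1 := by
      have h1 := congrArg Subtype.val hk
      simpa using h1
    obtain ⟨j, hj⟩ := hx ⟨x ^ i, hymem⟩
    have hyj : (x ^ i) ^ (p ^ j) = 1 := by
      have h1 := congrArg Subtype.val hj
      simpa using h1
    have hdvd : orderOf (x ^ i) ∣ p ^ j := orderOf_dvd_of_pow_eq_one hyj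
    have hcop : Nat.Coprime (orderOf (x ^ i)) (q ^ k) :=
      Nat.Coprime.coprime_dvd_left hdvd (Nat.Coprime.pow _ _ hcopq)
    have hz1 : x ^ i * u * (x ^ i)⁻¹ * (u : G)⁻¹ = 1 := by
      have h1 := hh_pow_coprime_mem (⊥ : Subgroup G) hcop hk'
        (by rw [hzm]; exact Subgroup.one_mem _)
      exact Subgroup.mem_bot.mp h1
    have hyu : x ^ i * u = u * x ^ i := by
      have h2 : x ^ i * u * (x ^ i)⁻¹ = u := mul_inv_eq_one.mp hz1
      calc x ^ i * u = x ^ i * u * (x ^ i)⁻¹ * x ^ i := by group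
        _ = u * x ^ i := by rw [h2]
    have hucent : (u : G) ∈ Subgroup.centralizer ({x ^ i} : Set G) := by
      rw [Subgroup.mem_centralizer_iff]
      intro h hh
      rw [Set.mem_singleton_iff] at hh
      rw [hh]
      exact hyu
    rw [hC (x ^ i) hymem hy1] at hucent
    have hu' : (u : G) ∈ (Subgroup.zpowers x : Set G) * (Subgroup.center G : Set G) := by
      rw [← Subgroup.mul_normal]
      exact hucent
    obtain ⟨a, ha, c, hc, hac⟩ := Set.mem_mul.mp hu'
    obtain ⟨j', hj'⟩ := hx ⟨a, ha⟩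
    have haj : a ^ (p ^ j') = 1 := by
      have h1 := congrArg Subtype.val hj'
      simpa using h1
    have hupow : (u : G) ^ (p ^ j') ∈ Subgroup.center G := by
      have hcomm : Commute a c := Subgroup.mem_center_iff.mp hc a
      rw [← hac, hcomm.mul_pow, haj, one_mul]
      exact Subgroup.pow_mem _ hc _
    obtain ⟨k', hk''⟩ := hQ u
    have huk : (u : G) ^ (q ^ k') = 1 := by
      have h1 := congrArg Subtype.val hk''
      simpa using h1
    have hucG : (u : G) ∈ Subgroup.center G :=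
      hh_pow_coprime_mem _ (Nat.Coprime.pow _ _ hcopq) huk hupow
    rw [Subgroup.mem_center_iff]
    intro g
    apply Subtype.ext
    rw [Subgroup.coe_mul, Subgroup.coe_mul]
    exact Subgroup.mem_center_iff.mp hucG g
  have hfix := hh_fix_bound p n R hirrR hQK (ρ x) (MulAut.conjNormal x) hX hXP hσP hfpf
  have hcomm_eq : commSub (ρ x - 1) = commSub (ρ x) := by
    ext M
    rw [mem_commSub, mem_commSub, sub_mul, mul_sub, one_mul, mul_one, sub_left_inj]
  obtain ⟨b1, b2, b3⟩ := hh_commSub_bounds s (ρ x - 1) hs hmin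
  rw [hcomm_eq] at b2 b3
  have h10 : (1 : Module.End K V) ≠ 0 := by
    obtain ⟨v, hv⟩ := exists_ne (0 : V)
    intro h
    have h1 := congrArg (fun F : Module.End K V => F v) h
    exact hv (by simpa using h1)
  have hs1 : 1 ≤ s := by
    by_contra h
    have h0 : s = 0 := by omega
    rw [h0, pow_zero] at hs
    exact h10 hs
  have hsP : s ≤ p ^ n := by
    by_contra h
    have h1 : p ^ n < s := by omega
    apply hmin (p ^ n) h1
    haveI : CharP (Module.End K V) p :=
      charP_of_injective_algebraMap (algebraMap K _).injective p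
    rw [sub_pow_char_pow_of_commute p n (Commute.one_right _), one_pow, hXP, sub_self]
  have hx1 : s = 1 → p ^ n = 1 := by
    intro h1
    rw [h1, pow_one, sub_eq_zero] at hs
    have h2 : x = 1 := hfaith (by rw [map_one]; exact hs)
    rw [← hord, h2, orderOf_one]
  obtain ⟨c1, c2⟩ := hh_arith_final (p ^ n) s (finrank K V) (finrank K (commSub (ρ x)))
    b1 b2 b3 hfix hs1 hx1
  refine ⟨c1, hsP, ?_⟩
  intro hsP1
  have hds := c2 hsP1
  constructor
  · obtain ⟨b, hb⟩ := hh_pgroup_finrank q R hQ hirrR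
    exact ⟨b, by rw [← hsP1, ← hds, hb]⟩
  · intro hab
    have hsc : ∀ u : Q, ∃ c : K, R u = c • (1 : Module.End K V) := by
      intro u
      have hu : u ∈ Subgroup.center Q := by
        rw [Subgroup.mem_center_iff]
        intro g
        exact hab.is_comm.comm g u
      exact ⟨_, hhSc_spec R hirrR hu⟩
    have hd1 := hh_finrank_eq_one_of_scalar R hirrR hsc
    have h1 : s = 1 := by omega
    have h2 := hx1 h1
    omega

end HHMain

end Cfsg.Agent.Lib.helper75
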