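import Mathlib
import Cfsg.Agent.Lib.helper74.QODefs

/-!
# S1935 split project, piece L2: `lim_card`
-/

set_option autoImplicit false

namespace Cfsg.Agent.Lib.helper75.QO

open Cfsg.Agent.Lib.helper74.QO

variable {R : Type*} [Ring R]

/-- The triples `(a, b, c)` parametrising `lim W ξ`. -/
def h75S (W : AddSubgroup R) (ξ : R) : AddSubgroup (R × R × R) where
  carrier := {t | t.1 ∈ W ∧ t.2.1 ∈ W ∧ t.2.2 ∈ W ∧ ξ * t.1 * ξ ∈ W ∧
    t.1 * ξ - ξ * t.1 - ξ * t.2.1 * ξ ∈ W}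
  zero_mem' := by
    refine ⟨W.zero_mem, W.zero_mem, W.zero_mem, ?_, ?_⟩ <;> simp
  add_mem' := by
    rintro s t ⟨h1, h2, h3, h4, h5⟩ ⟨h1', h2', h3', h4', h5'⟩
    refine ⟨W.add_mem h1 h1', W.add_mem h2 h2', W.add_mem h3 h3', ?_, ?_⟩
    · have e : ξ * (s + t).1 * ξ = ξ * s.1 * ξ + ξ * t.1 * ξ := by
        simp only [Prod.fst_add]; noncomm_ring
      rw [e]; exact W.add_mem h4 h4'
    · have e : (s + t).1 * ξ - ξ * (s + t).1 - ξ * (s + t).2.1 * ξ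
          = (s.1 * ξ - ξ * s.1 - ξ * s.2.1 * ξ) + (t.1 * ξ - ξ * t.1 - ξ * t.2.1 * ξ) := by
        simp only [Prod.fst_add, Prod.snd_add]; noncomm_ring
      rw [e]; exact W.add_mem h5 h5'
  neg_mem' := by
    rintro s ⟨h1, h2, h3, h4, h5⟩
    refine ⟨W.neg_mem h1, W.neg_mem h2, W.neg_mem h3, ?_, ?_⟩
    · have e : ξ * (-s).1 * ξ = -(ξ * s.1 * ξ) := by
        simp only [Prod.fst_neg]; noncomm_ring
      rw [e]; exact W.neg_mem h4
    · have e : (-s).1 * ξ - ξ * (-s).1 - ξ * (-s).2.1 * ξ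
          = -(s.1 * ξ - ξ * s.1 - ξ * s.2.1 * ξ) := by
        simp only [Prod.fst_neg, Prod.snd_neg]; noncomm_ring
      rw [e]; exact W.neg_mem h5

/-- The parametrisation map. -/
def h75Psi (ξ : R) : R × R × R →+ R where
  toFun t := t.1 + t.2.1 * ξ - ξ * t.2.1 - ξ * t.2.2 * ξ
  map_zero' := by simp
  map_add' := by
    intro s t
    simp only [Prod.fst_add, Prod.snd_add]; noncomm_ring

/-- The shift map. -/
def h75Theta (ξ : R) : R × R × R →+ R × R × R where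
  toFun t := (-(t.1 * ξ - ξ * t.1 - ξ * t.2.1 * ξ), t.1, t.2.1)
  map_zero' := by simp
  map_add' := by
    intro s t
    refine Prod.ext ?_ (Prod.ext ?_ ?_)
    · simp only [Prod.fst_add, Prod.snd_add]; noncomm_ring
    · simp
    · simp

/-- PIECE L2 -/
theorem lim_card [Finite R] (W : AddSubgroup R) (ξ : R) (hξ : ξ * ξ = 0) :
    Nat.card ↥(lim W ξ) = Nat.card ↥W := by
  classical
  have hθmem : ∀ x : h75S W ξ, (h75Theta ξ).comp (h75S W ξ).subtype x ∈ h75S W ξ := by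
    rintro ⟨t, h1, h2, h3, h4, h5⟩
    refine ⟨W.neg_mem h5, h1, h2, ?_, ?_⟩
    · have e : ξ * (-(t.1 * ξ - ξ * t.1 - ξ * t.2.1 * ξ)) * ξ
          = -(ξ * t.1 * (ξ * ξ)) + (ξ * ξ) * t.1 * ξ + (ξ * ξ) * t.2.1 * (ξ * ξ) := by
        noncomm_ring
      have e' : ξ * (-(t.1 * ξ - ξ * t.1 - ξ * t.2.1 * ξ)) * ξ = 0 := by
        rw [e, hξ]; simp
      show ξ * (-(t.1 * ξ - ξ * t.1 - ξ * t.2.1 * ξ)) * ξ ∈ W
      rw [e']; exact W.zero_mem
    · have e : (-(t.1 * ξ - ξ * t.1 - ξ * t.2.1 * ξ)) * ξ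
            - ξ * (-(t.1 * ξ - ξ * t.1 - ξ * t.2.1 * ξ)) - ξ * t.1 * ξ
          = ξ * t.1 * ξ - t.1 * (ξ * ξ) + ξ * t.2.1 * (ξ * ξ) - (ξ * ξ) * t.1
            - (ξ * ξ) * t.2.1 * ξ := by
        noncomm_ring
      have e' : (-(t.1 * ξ - ξ * t.1 - ξ * t.2.1 * ξ)) * ξ
            - ξ * (-(t.1 * ξ - ξ * t.1 - ξ * t.2.1 * ξ)) - ξ * t.1 * ξ = ξ * t.1 * ξ := by
        rw [e, hξ]; simp
      show (-(t.1 * ξ - ξ * t.1 - ξ * t.2.1 * ξ)) * ξ
            - ξ * (-(t.1 * ξ - ξ * t.1 - ξ * t.2.1 * ξ)) - ξ * t.1 * ξ ∈ W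
      rw [e']; exact h4
  let Ψ : h75S W ξ →+ R := (h75Psi ξ).comp (h75S W ξ).subtype
  let θ : h75S W ξ →+ h75S W ξ :=
    ((h75Theta ξ).comp (h75S W ξ).subtype).codRestrict (h75S W ξ) hθmem
  have hrange : Ψ.range = lim W ξ := by
    apply SetLike.coe_injective
    ext l
    constructor
    · rintro ⟨⟨t, h1, h2, h3, h4, h5⟩, rfl⟩
      exact ⟨t.1, h1, t.2.1, h2, t.2.2, h3, h4, h5, rfl⟩
    · rintro ⟨a, ha, b, hb, c, hc, h4, h5, rfl⟩
      exact ⟨⟨(a, b, c), ha, hb, hc, h4, h5⟩, rfl⟩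
  have hker : Ψ.ker = θ.range := by
    ext x
    constructor
    · intro hx
      rw [AddMonoidHom.mem_ker] at hx
      obtain ⟨t, h1, h2, h3, h4, h5⟩ := x
      have hx' : t.1 + t.2.1 * ξ - ξ * t.2.1 - ξ * t.2.2 * ξ = 0 := hx
      have ha : t.1 = -(t.2.1 * ξ - ξ * t.2.1 - ξ * t.2.2 * ξ) := by
        have e : t.1 = (t.1 + t.2.1 * ξ - ξ * t.2.1 - ξ * t.2.2 * ξ)
            - (t.2.1 * ξ - ξ * t.2.1 - ξ * t.2.2 * ξ) := by abel
        rw [hx', zero_sub] at e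
        exact e
      have hv : t.1 * ξ - ξ * t.1 - ξ * t.2.1 * ξ = ξ * t.2.1 * ξ := by
        have e : -(t.2.1 * ξ - ξ * t.2.1 - ξ * t.2.2 * ξ) * ξ
              - ξ * -(t.2.1 * ξ - ξ * t.2.1 - ξ * t.2.2 * ξ) - ξ * t.2.1 * ξ
            = ξ * t.2.1 * ξ - t.2.1 * (ξ * ξ) + ξ * t.2.2 * (ξ * ξ) - (ξ * ξ) * t.2.1
              - (ξ * ξ) * t.2.2 * ξ := by
          noncomm_ring
        rw [hξ] at e
        rw [ha, e]; simp
      have hmem : ((t.2.1, t.2.2, (0 : R)) : R × R × R) ∈ h75S W ξ := by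
        refine ⟨h2, h3, W.zero_mem, ?_, ?_⟩
        · show ξ * t.2.1 * ξ ∈ W
          rw [← hv]; exact h5
        · show t.2.1 * ξ - ξ * t.2.1 - ξ * t.2.2 * ξ ∈ W
          have e : t.2.1 * ξ - ξ * t.2.1 - ξ * t.2.2 * ξ = -t.1 := by rw [ha]; simp
          rw [e]; exact W.neg_mem h1
      refine ⟨⟨(t.2.1, t.2.2, 0), hmem⟩, ?_⟩
      apply Subtype.ext
      show h75Theta ξ (t.2.1, t.2.2, 0) = t
      refine Prod.ext ?_ (Prod.ext rfl rfl)
      show -(t.2.1 * ξ - ξ * t.2.1 - ξ * t.2.2 * ξ) = t.1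
      exact ha.symm
    · rintro ⟨⟨t, h1, h2, h3, h4, h5⟩, rfl⟩
      rw [AddMonoidHom.mem_ker]
      show -(t.1 * ξ - ξ * t.1 - ξ * t.2.1 * ξ) + t.1 * ξ - ξ * t.1 - ξ * t.2.1 * ξ = 0
      abel
  have hkerθ : Nat.card θ.ker = Nat.card W := by
    apply Nat.card_congr
    refine Equiv.ofBijective
      (fun x => (⟨(x : h75S W ξ).1.2.2, (x : h75S W ξ).2.2.2.1⟩ : W)) ⟨?_, ?_⟩
    · rintro ⟨⟨s, hs⟩, hs0⟩ ⟨⟨t, ht⟩, ht0⟩ hst
      have hs1 : h75Theta ξ s = 0 := congrArg Subtype.val (AddMonoidHom.mem_ker.mp hs0)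
      have ht1 : h75Theta ξ t = 0 := congrArg Subtype.val (AddMonoidHom.mem_ker.mp ht0)
      have hs2 : s.1 = 0 := congrArg (fun u : R × R × R => u.2.1) hs1
      have hs3 : s.2.1 = 0 := congrArg (fun u : R × R × R => u.2.2) hs1
      have ht2 : t.1 = 0 := congrArg (fun u : R × R × R => u.2.1) ht1
      have ht3 : t.2.1 = 0 := congrArg (fun u : R × R × R => u.2.2) ht1
      have h3 : s.2.2 = t.2.2 := congrArg Subtype.val hst
      apply Subtype.ext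
      apply Subtype.ext
      show s = t
      exact Prod.ext (hs2.trans ht2.symm) (Prod.ext (hs3.trans ht3.symm) h3)
    · rintro ⟨c, hc⟩
      have hmem : ((0, 0, c) : R × R × R) ∈ h75S W ξ := by
        refine ⟨W.zero_mem, W.zero_mem, hc, ?_, ?_⟩
        · show ξ * 0 * ξ ∈ W
          simp
        · show (0 : R) * ξ - ξ * 0 - ξ * 0 * ξ ∈ W
          simp
      have hk : (⟨(0, 0, c), hmem⟩ : h75S W ξ) ∈ θ.ker := by
        rw [AddMonoidHom.mem_ker]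
        apply Subtype.ext
        show h75Theta ξ (0, 0, c) = 0
        refine Prod.ext ?_ (Prod.ext rfl rfl)
        show -((0 : R) * ξ - ξ * 0 - ξ * 0 * ξ) = 0
        simp
      exact ⟨⟨⟨(0, 0, c), hmem⟩, hk⟩, rfl⟩
  have c1 : Nat.card Ψ.ker * Nat.card Ψ.range = Nat.card (h75S W ξ) := by
    rw [← AddSubgroup.index_ker]; exact AddSubgroup.card_mul_index _
  have c2 : Nat.card θ.ker * Nat.card θ.range = Nat.card (h75S W ξ) := by
    rw [← AddSubgroup.index_ker]; exact AddSubgroup.card_mul_index _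
  rw [hker, hrange] at c1
  rw [hkerθ] at c2
  have hpos : 0 < Nat.card θ.range := Nat.card_pos
  have h3 : Nat.card θ.range * Nat.card ↥(lim W ξ) = Nat.card θ.range * Nat.card W := by
    rw [c1, ← c2, mul_comm]
  exact Nat.eq_of_mul_eq_mul_left hpos h3

end Cfsg.Agent.Lib.helper75.QO
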