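import Mathlib
import Cfsg.Agent.Lib.helper74.QODefs

/-!
# S1935 split project, piece L5b: `lim_strict`
-/

set_option autoImplicit false

namespace Cfsg.Agent.Lib.helper75.QO

open Cfsg.Agent.Lib.helper74.QO

variable {R : Type*} [Ring R]

/-- PIECE L5b -/
theorem lim_strict [Finite R] (W : AddSubgroup R) (ξ : R)
    (E : ℕ → AddSubgroup R) (n : ℕ) (hn : E n = ⊥) (hmono : ∀ i, E (i + 1) ≤ E i)
    (h0 : W ≤ E 0) (hE : ∀ i, ∀ e ∈ E i, ξ * e ∈ E (i + 1) ∧ e * ξ ∈ E (i + 1))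
    (hc : Nat.card ↥(lim W ξ) = Nat.card ↥W)
    (hcard : ∀ i, Nat.card ↥(lim W ξ ⊓ E i) ≤ Nat.card ↥(W ⊓ E i)) :
    ∀ w ∈ W, (1 - ξ) * w * (1 + ξ) ∈ W := by
  have m1 : ∀ w ∈ W, -(ξ * w * ξ) ∈ lim W ξ := by
    intro w hw
    refine mem_lim.mpr ⟨0, W.zero_mem, 0, W.zero_mem, w, hw, ?_, ?_, ?_⟩
    · simp
    · simp
    · noncomm_ring
  have m2 : ∀ w ∈ W, ξ * w * ξ ∈ W → w * ξ - ξ * w ∈ lim W ξ := by
    intro w hw h
    refine mem_lim.mpr ⟨0, W.zero_mem, w, hw, 0, W.zero_mem, ?_, ?_, ?_⟩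
    · simp
    · have h1 : (0 : R) * ξ - ξ * 0 - ξ * w * ξ = -(ξ * w * ξ) := by noncomm_ring
      rw [h1]; exact W.neg_mem h
    · noncomm_ring
  have m3 : ∀ w ∈ W, ξ * w * ξ ∈ W → w * ξ - ξ * w ∈ W → w ∈ lim W ξ := by
    intro w hw h h'
    refine mem_lim.mpr ⟨w, hw, 0, W.zero_mem, 0, W.zero_mem, h, ?_, ?_⟩
    · have h1 : w * ξ - ξ * w - ξ * 0 * ξ = w * ξ - ξ * w := by noncomm_ring
      rw [h1]; exact h'
    · noncomm_ring
  have key : ∀ (A B : AddSubgroup R), A ≤ B → Nat.card B ≤ Nat.card A → B ≤ A := by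
    intro A B hAB hcd
    have h1 : A = B := AddSubgroup.eq_of_le_of_card_ge hAB hcd
    rw [h1]
  have C : ∀ k, k ≤ n → W ⊓ E (n - k) ≤ lim W ξ := by
    intro k
    induction k with
    | zero =>
      intro _
      rw [Nat.sub_zero, hn]
      simp
    | succ k ih =>
      intro hk
      have ih' := ih (by omega)
      obtain ⟨i, hi⟩ : ∃ i, n - (k + 1) = i := ⟨_, rfl⟩
      have hi' : n - k = i + 1 := by omega
      rw [hi]
      rw [hi'] at ih'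
      have hle : lim W ξ ⊓ E (i + 1) ≤ W ⊓ E (i + 1) :=
        key _ _ (le_inf ih' inf_le_right) (hcard (i + 1))
      intro w hw
      have hwW : w ∈ W := (AddSubgroup.mem_inf.mp hw).1
      have hwE : w ∈ E i := (AddSubgroup.mem_inf.mp hw).2
      have e1 : ξ * w * ξ ∈ E (i + 1) := hmono (i + 1) ((hE (i + 1) _ (hE i w hwE).1).2)
      have e2 : ξ * w * ξ ∈ W := by
        have h1 : -(ξ * w * ξ) ∈ W :=
          (AddSubgroup.mem_inf.mp (hle (AddSubgroup.mem_inf.mpr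
            ⟨m1 w hwW, (E (i + 1)).neg_mem e1⟩))).1
        simpa using W.neg_mem h1
      have e3 : w * ξ - ξ * w ∈ E (i + 1) :=
        (E (i + 1)).sub_mem (hE i w hwE).2 (hE i w hwE).1
      have e4 : w * ξ - ξ * w ∈ W :=
        (AddSubgroup.mem_inf.mp (hle (AddSubgroup.mem_inf.mpr ⟨m2 w hwW e2, e3⟩))).1
      exact m3 w hwW e2 e4
  have hWle : W ≤ lim W ξ := by
    have h1 := C n le_rfl
    rw [Nat.sub_self] at h1
    exact fun w hw => h1 (AddSubgroup.mem_inf.mpr ⟨hw, h0 hw⟩)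
  have hlimle : lim W ξ ≤ W := key _ _ hWle hc.le
  intro w hw
  have e2 : ξ * w * ξ ∈ W := by
    have h1 : -(ξ * w * ξ) ∈ W := hlimle (m1 w hw)
    simpa using W.neg_mem h1
  have e4 : w * ξ - ξ * w ∈ W := hlimle (m2 w hw e2)
  have h2 : (1 - ξ) * w * (1 + ξ) = w + (w * ξ - ξ * w) - ξ * w * ξ := by noncomm_ring
  rw [h2]
  exact W.sub_mem (W.add_mem hw e4) e2

end Cfsg.Agent.Lib.helper75.QO
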