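import Mathlib
import Cfsg.Agent.Lib.helper75.PQDefs

/-!
# The tower theorem follows from the non-existence of minimal towers
-/

set_option autoImplicit false

namespace Cfsg.Agent.Lib.helper75.PQ

variable {Γ : Type*} [Group Γ] {F : Type*} [Field F] {W : Type*} [AddCommGroup W] [Module F W]

theorem Cz_mono_left {X X' Y : Subgroup Γ} (h : X' ≤ X) (hc : Cz X Y) : Cz X' Y :=
  fun x hx y hy => hc x (h hx) y hy

theorem Cz_mono_right {X Y Y' : Subgroup Γ} (h : Y' ≤ Y) (hc : Cz X Y) : Cz X Y' :=
  fun x hx y hy => hc x hx y (h hy)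

/-- Restricting a tower to smaller invariant subgroups. -/
theorem Tower.restrict {ρ : Γ →* Module.End F W} {K H S R : Subgroup Γ} {p q s r : ℕ}
    (T : Tower ρ K H S R p q s r) (S' R' : Subgroup Γ) (hS : S' ≤ S) (hR : R' ≤ R)
    (hKS : K ≤ Subgroup.normalizer (S' : Set Γ)) (hHS : H ≤ Subgroup.normalizer (S' : Set Γ))
    (hKR : K ≤ Subgroup.normalizer (R' : Set Γ)) (hHR : H ≤ Subgroup.normalizer (R' : Set Γ))
    (hSR : S' ≤ Subgroup.normalizer (R' : Set Γ)) : Tower ρ K H S' R' p q s r :=
  { T with
    Sgrp := T.Sgrp.to_le hS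
    Rgrp := T.Rgrp.to_le hR
    KS := hKS
    HS := hHS
    KR := hKR
    HR := hHR
    SR := hSR
    fpfS := fun x hx => T.fpfS x (hS hx)
    fpfR := fun x hx => T.fpfR x (hR hx)
    faith := fun x hx => T.faith x (hR hx) }

/-- If there is no minimal tower, then in every tower `S` centralizes `R`. -/
theorem tower_of_min [Finite Γ] {ρ : Γ →* Module.End F W} {K H : Subgroup Γ} {p q s r : ℕ}
    (hmin : ∀ S R : Subgroup Γ, MinTower ρ K H S R p q s r → False) :
    ∀ S R : Subgroup Γ, Tower ρ K H S R p q s r → Cz S R := by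
  have key : ∀ n : ℕ, ∀ S R : Subgroup Γ, Nat.card S + Nat.card R = n →
      Tower ρ K H S R p q s r → Cz S R := by
    intro n
    induction n using Nat.strong_induction_on with
    | _ n ih =>
      intro S R hn T
      by_contra hcz
      apply hmin S R
      refine { T with ncz := hcz, minS := ?_, minR := ?_ }
      · intro S' hS' hne hK hH
        have hlt : Nat.card S' < Nat.card S := by
          have h1 := Set.ncard_lt_ncard (SetLike.coe_ssubset_coe.mpr (lt_of_le_of_ne hS' hne))
            (Set.toFinite _)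
          rwa [← Nat.card_coe_set_eq, ← Nat.card_coe_set_eq] at h1
        exact ih (Nat.card S' + Nat.card R) (by omega) S' R rfl
          (T.restrict S' R hS' le_rfl hK hH T.KR T.HR (hS'.trans T.SR))
      · intro R' hR' hne hS hK hH
        have hlt : Nat.card R' < Nat.card R := by
          have h1 := Set.ncard_lt_ncard (SetLike.coe_ssubset_coe.mpr (lt_of_le_of_ne hR' hne))
            (Set.toFinite _)
          rwa [← Nat.card_coe_set_eq, ← Nat.card_coe_set_eq] at h1
        exact ih (Nat.card S + Nat.card R') (by omega) S R' rfl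
          (T.restrict S R' le_rfl hR' T.KS T.HS hK hH hS)
  intro S R T
  exact key _ S R rfl T

end Cfsg.Agent.Lib.helper75.PQ
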