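import Mathlib
import Cfsg.Agent.Lib.helper54.MetaIdxDefs

/-!
# S4245 split project, piece QUOT: `q_quot`
-/

set_option autoImplicit false

namespace Cfsg.Agent.Lib.helper75.MetaIdx

open Cfsg.Agent.Lib.helper54.MetaIdx

universe u

/-- **QUOT** (medium; pure Mathlib). `Q` passes to quotients. -/
theorem q_quot {G : Type u} [Group G] [Finite G] (p : ℕ) (hp : p.Prime) (N : Subgroup G)
    [N.Normal] (h : Q p G) : Q p (G ⧸ N) := by
  obtain ⟨A, B, hBn, hBc, hABc, ⟨s, hs⟩, ⟨r, hr⟩⟩ := h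
  have hπ : Function.Surjective (QuotientGroup.mk' N) := QuotientGroup.mk'_surjective N
  have hφ : Function.Surjective ((QuotientGroup.mk' N).subgroupMap A) :=
    (QuotientGroup.mk' N).subgroupMap_surjective A
  haveI hB'n : (B.map ((QuotientGroup.mk' N).subgroupMap A)).Normal :=
    hBn.map _ hφ
  have hle : B ≤ (B.map ((QuotientGroup.mk' N).subgroupMap A)).comap
      ((QuotientGroup.mk' N).subgroupMap A) := Subgroup.le_comap_map _ B
  have hψ : Function.Surjective (QuotientGroup.map B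
      (B.map ((QuotientGroup.mk' N).subgroupMap A)) ((QuotientGroup.mk' N).subgroupMap A) hle) := by
    intro y
    obtain ⟨a', rfl⟩ := QuotientGroup.mk_surjective y
    obtain ⟨a, rfl⟩ := hφ a'
    exact ⟨(a : A ⧸ B), rfl⟩
  refine ⟨A.map (QuotientGroup.mk' N), B.map ((QuotientGroup.mk' N).subgroupMap A), hB'n,
    ?_, ?_, ?_, ?_⟩
  · haveI := hBc
    exact isCyclic_of_surjective (((QuotientGroup.mk' N).subgroupMap A).subgroupMap B)
      (((QuotientGroup.mk' N).subgroupMap A).subgroupMap_surjective B)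
  · haveI := hABc
    exact isCyclic_of_surjective _ hψ
  · have hdvd : (A.map (QuotientGroup.mk' N)).index ∣ A.index := Subgroup.index_map_dvd A hπ
    rw [hs] at hdvd
    obtain ⟨k, -, hk⟩ := (Nat.dvd_prime_pow hp).mp hdvd
    exact ⟨k, hk⟩
  · have hdvd := Subgroup.card_dvd_of_surjective _ hψ
    rw [hr] at hdvd
    obtain ⟨k, -, hk⟩ := (Nat.dvd_prime_pow Nat.prime_two).mp hdvd
    exact ⟨k, hk⟩

end Cfsg.Agent.Lib.helper75.MetaIdx
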