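import Mathlib
import Cfsg.Prelude.Def_OddOrderLocal
import Cfsg.Prelude.Def_Solvable

/-!
# S4118 split project, piece A1: `card_sSup_coprime`
-/

set_option autoImplicit false

namespace Cfsg.Agent.Lib.helper75.TIH

open Cfsg

/-- **A1** (pure, Mathlib only).  The join of the normal subgroups of order prime to `m` has order
prime to `m` (finite group: a product of two normal subgroups of orders prime to `m` has order
dividing the product of the orders; induct, or take one of largest order). -/
theorem card_sSup_coprime {G : Type*} [Group G] [Finite G] (m : ℕ) :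
    (Nat.card ↥(sSup {K : Subgroup G | K.Normal ∧ (Nat.card K).Coprime m})).Coprime m := by
  classical
  set S : Set (Subgroup G) := {K : Subgroup G | K.Normal ∧ (Nat.card K).Coprime m} with hS
  have hfin : S.Finite := Set.toFinite S
  have hne : S.Nonempty := ⟨⊥, by
    refine ⟨inferInstance, ?_⟩
    simp⟩
  obtain ⟨K₀, hK₀, hmax⟩ := Set.exists_max_image S (fun K => Nat.card K) hfin hne
  have hle : ∀ K ∈ S, K ≤ K₀ := by
    intro K hK
    haveI : K.Normal := hK.1
    haveI : K₀.Normal := hK₀.1
    have h1 : Nat.card ↥(K ⊔ K₀) = Nat.card K₀ * K₀.relIndex K := by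
      have h2 := Subgroup.relIndex_mul_relIndex (H := (⊥ : Subgroup G)) (K := K₀) (L := K ⊔ K₀)
        bot_le le_sup_right
      rw [Subgroup.relIndex_bot_left, Subgroup.relIndex_bot_left, Subgroup.relIndex_sup_right] at h2
      exact h2.symm
    have h3 : (Nat.card ↥(K ⊔ K₀)).Coprime m := by
      rw [h1]
      exact Nat.Coprime.mul_left hK₀.2 (Nat.Coprime.coprime_dvd_left (Subgroup.relIndex_dvd_card K₀ K) hK.2)
    have h4 : K ⊔ K₀ ∈ S := ⟨inferInstance, h3⟩
    have h5 : Nat.card ↥(K ⊔ K₀) ≤ Nat.card K₀ := hmax _ h4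
    have h6 : K₀ = K ⊔ K₀ := Subgroup.eq_of_le_of_card_ge le_sup_right h5
    rw [h6]
    exact le_sup_left
  have heq : sSup S = K₀ := le_antisymm (sSup_le hle) (le_sSup hK₀)
  rw [heq]
  exact hK₀.2

end Cfsg.Agent.Lib.helper75.TIH
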