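import Mathlib
import Cfsg.Prelude.Def_Classical
import Cfsg.Prelude.Def_GeometricClasses
import Cfsg.Agent.Lib.helper49.WittIso
import Cfsg.Agent.Lib.helper53.SfoBINREP

/-! S5977A split (helper59), piece ROTJ: `sfk_rot_neg`. -/

set_option autoImplicit false

namespace Cfsg.Agent.Lib.helper59.Sfk

open Matrix Cfsg.Geo
open Cfsg.Agent.Lib.helper49 (detHom spinorSign)

/-- ROTJ (L): a rotation of the plane `<e, x e>`: commutes with `x`, determinant `1`, spinor sign `-1`. -/
theorem sfk_rot_neg {F : Type*} [Field F] [Fintype F] {ι : Type} [Fintype ι] [DecidableEq ι]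
    (h2 : (2 : F) ≠ 0) (Q : QuadraticForm F (ι → F))
    (hQ : (QuadraticMap.polarBilin Q).Nondegenerate)
    (x : GL ι F) (hx : x ∈ Cfsg.isometryGroup F (⇑Q))
    (hxx : (x : Matrix ι ι F) * (x : Matrix ι ι F) = -1) (e : ι → F) (he : Q e ≠ 0) :
    ∃ r : ↥(Cfsg.isometryGroup F (⇑Q)),
      ((r : GL ι F) : Matrix ι ι F) * (x : Matrix ι ι F) =
        (x : Matrix ι ι F) * ((r : GL ι F) : Matrix ι ι F) ∧
      detHom (⇑Q) r = 1 ∧ spinorSign (⇑Q) r = -1 := by
  classical
  have hxQ : ∀ v, Q ((x : Matrix ι ι F) *ᵥ v) = Q v :=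
    (Cfsg.Agent.Lib.helper49.mem_isometryGroup_iff _ _).mp hx
  have hxP : ∀ u v, QuadraticMap.polar Q ((x : Matrix ι ι F) *ᵥ u) ((x : Matrix ι ι F) *ᵥ v) =
      QuadraticMap.polar Q u v := by
    intro u v
    unfold QuadraticMap.polar
    rw [← Matrix.mulVec_add, hxQ, hxQ, hxQ]
  have hxxv : ∀ v, (x : Matrix ι ι F) *ᵥ ((x : Matrix ι ι F) *ᵥ v) = -v := by
    intro v
    rw [Matrix.mulVec_mulVec, hxx, Matrix.neg_mulVec, Matrix.one_mulVec]
  obtain ⟨f, hf⟩ : ∃ f : ι → F, f = (x : Matrix ι ι F) *ᵥ e := ⟨_, rfl⟩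
  have hQf : Q f = Q e := by rw [hf]; exact hxQ e
  have hxf : (x : Matrix ι ι F) *ᵥ f = -e := by rw [hf]; exact hxxv e
  have hef : QuadraticMap.polar Q e f = 0 := by
    have h1 := hxP e f
    rw [hxf, ← hf, QuadraticMap.polar_neg_right, QuadraticMap.polar_comm] at h1
    have h3 : (2 : F) * QuadraticMap.polar Q e f = 0 := by linear_combination -h1
    rcases mul_eq_zero.mp h3 with h | h
    · exact absurd h h2
    · exact h
  have hpe : ∀ v, QuadraticMap.polar Q e ((x : Matrix ι ι F) *ᵥ v) = - QuadraticMap.polar Q f v := by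
    intro v
    have h1 := hxP e ((x : Matrix ι ι F) *ᵥ v)
    rw [hxxv, ← hf, QuadraticMap.polar_neg_right] at h1
    exact h1.symm
  have hpf : ∀ v, QuadraticMap.polar Q f ((x : Matrix ι ι F) *ᵥ v) = QuadraticMap.polar Q e v := by
    intro v; rw [hf]; exact hxP e v
  have hchar : ringChar F ≠ 2 := by
    intro h
    apply h2
    have h1 := CharP.cast_eq_zero F (ringChar F)
    rw [h] at h1
    exact_mod_cast h1
  obtain ⟨ν, hν⟩ := FiniteField.exists_nonsquare hchar
  obtain ⟨s, t, hst⟩ := Cfsg.Agent.Lib.helper24.sfo_bin_rep h2 1 1 ν one_ne_zero one_ne_zero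
  have hst' : s ^ 2 + t ^ 2 = ν := by rw [← hst]; ring
  have hν0 : s ^ 2 + t ^ 2 ≠ 0 := by
    rw [hst']; rintro rfl; exact hν ⟨0, by ring⟩
  obtain ⟨u', hu'⟩ : ∃ u' : ι → F, u' = s • e + t • f := ⟨_, rfl⟩
  have hQu' : Q u' = (s ^ 2 + t ^ 2) * Q e := by
    rw [hu', QuadraticMap.map_add Q, QuadraticMap.map_smul, QuadraticMap.map_smul,
      QuadraticMap.polar_smul_left, QuadraticMap.polar_smul_right, hef, hQf]
    simp only [smul_eq_mul]; ring
  have hu'0 : Q u' ≠ 0 := by rw [hQu']; exact mul_ne_zero hν0 he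
  have hPu : ∀ y, QuadraticMap.polar Q u' y =
      s * QuadraticMap.polar Q e y + t * QuadraticMap.polar Q f y := by
    intro y
    rw [hu', QuadraticMap.polar_add_left, QuadraticMap.polar_smul_left,
      QuadraticMap.polar_smul_left]
    simp only [smul_eq_mul]
  have hPeu : QuadraticMap.polar Q e u' = 2 * s * Q e := by
    rw [hu', QuadraticMap.polar_add_right, QuadraticMap.polar_smul_right,
      QuadraticMap.polar_smul_right, hef, QuadraticMap.polar_self]
    simp only [smul_eq_mul]; ring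
  have hPe : ∀ (y : ι → F) (c : F), QuadraticMap.polar Q e (y - c • u') =
      QuadraticMap.polar Q e y - c * (2 * s * Q e) := by
    intro y c
    rw [QuadraticMap.polar_sub_right, QuadraticMap.polar_smul_right, hPeu]
    simp only [smul_eq_mul]
  have hxu : (x : Matrix ι ι F) *ᵥ u' = s • f - t • e := by
    rw [hu', Matrix.mulVec_add, Matrix.mulVec_smul, Matrix.mulVec_smul, hxf, ← hf, smul_neg,
      sub_eq_add_neg]
  refine ⟨Cfsg.Agent.Lib.helper49.reflG Q e he * Cfsg.Agent.Lib.helper49.reflG Q u' hu'0,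
    ?_, ?_, ?_⟩
  · rw [Subgroup.coe_mul, Units.val_mul, Cfsg.Agent.Lib.helper49.reflG_val,
      Cfsg.Agent.Lib.helper49.reflG_val]
    apply Matrix.toLin'.injective
    apply LinearMap.ext
    intro v
    rw [Matrix.toLin'_apply, Matrix.toLin'_apply]
    simp only [← Matrix.mulVec_mulVec]
    simp only [Cfsg.Agent.Lib.helper49.refl_mulVec]
    simp only [hPe, hPu, hpe, hpf]
    simp only [Matrix.mulVec_sub, Matrix.mulVec_smul, hxu, ← hf]
    rw [hQu', hu']
    ext i
    simp only [Pi.sub_apply, Pi.add_apply, Pi.smul_apply, smul_eq_mul]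
    field_simp
    ring
  · rw [map_mul, Cfsg.Agent.Lib.helper49.detHom_reflG, Cfsg.Agent.Lib.helper49.detHom_reflG]
    simp
  · rw [map_mul]
    have h1 := Cfsg.Agent.Lib.helper49.spinorSign_refl h2 Q e he
    have h2' := Cfsg.Agent.Lib.helper49.spinorSign_refl h2 Q u' hu'0
    have hq1 : quadraticChar F ν = -1 := quadraticChar_neg_one_iff_not_isSquare.mpr hν
    have hνe : ν * Q e ≠ 0 := by rw [← hst']; exact mul_ne_zero hν0 he
    by_cases hsq : IsSquare (Q e)
    · have hq2 : quadraticChar F (Q e) = 1 := (quadraticChar_one_iff_isSquare he).mpr hsq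
      have hnsq : ¬ IsSquare (Q u') := by
        rw [hQu', hst']
        apply quadraticChar_neg_one_iff_not_isSquare.mp
        rw [map_mul, hq1, hq2]; norm_num
      rw [h1.1 hsq, h2'.2 hnsq]; rfl
    · have hq2 : quadraticChar F (Q e) = -1 := quadraticChar_neg_one_iff_not_isSquare.mpr hsq
      have hsq' : IsSquare (Q u') := by
        rw [hQu', hst']
        apply (quadraticChar_one_iff_isSquare hνe).mp
        rw [map_mul, hq1, hq2]; norm_num
      rw [h1.2 hsq, h2'.1 hsq']; rfl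

end Cfsg.Agent.Lib.helper59.Sfk
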