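import Mathlib
import Cfsg.Agent.Lib.helper1.ThompsonFpf

set_option autoImplicit false

namespace Cfsg.Agent.Lib.helper75

open Cfsg.Agent.Lib.helper1

section SGAut

/-- In a monoid, if `a ^ (p ^ n) = 1` and `0 < m < p ^ n`, then some power of `a ^ m` equals
`a ^ (p ^ (n - 1))`. -/
theorem sg_exists_pow_eq {M : Type*} [Monoid M] (a : M) (p n m : ℕ) (hp : p.Prime)
    (ha : a ^ (p ^ n) = 1) (hm0 : 0 < m) (hm : m < p ^ n) :
    ∃ k, (a ^ m) ^ k = a ^ (p ^ (n - 1)) := by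
  have hg : Nat.gcd m (p ^ n) < p ^ n := lt_of_le_of_lt (Nat.gcd_le_left _ hm0) hm
  obtain ⟨x, -, hx⟩ := Nat.exists_mul_mod_eq_gcd hg
  obtain ⟨e, he, hge⟩ := (Nat.dvd_prime_pow hp).mp (Nat.gcd_dvd_right m (p ^ n))
  have hen : e < n := by
    by_contra hcon
    have h1 : e = n := by omega
    rw [hge, h1] at hg
    exact lt_irrefl _ hg
  refine ⟨x * p ^ (n - 1 - e), ?_⟩
  have h1 : a ^ (m * x) = a ^ (p ^ e) := by
    rw [pow_eq_pow_mod (m * x) ha, hx, hge]
  rw [← pow_mul, ← mul_assoc, pow_mul, h1, ← pow_mul, ← pow_add]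
  congr 2
  omega

/-- A fixed-point-free endomorphism of a finite group: if `x⁻¹ θ(x)` lies in a `θ`-invariant
subgroup `U`, then `x ∈ U`. -/
theorem sg_fpf_mem {A : Type*} [Group A] [Finite A] (θ : A →* A) (hfix : ∀ x, θ x = x → x = 1)
    (U : Subgroup A) (hU : ∀ x ∈ U, θ x ∈ U) (x : A) (hx : x⁻¹ * θ x ∈ U) : x ∈ U := by
  have hinj : ∀ u v : A, u⁻¹ * θ u = v⁻¹ * θ v → u = v := by
    intro u v h
    have h1 : θ (u * v⁻¹) = u * v⁻¹ := by
      have hu : θ u = u * (v⁻¹ * θ v) := by rw [← h, mul_inv_cancel_left]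
      rw [map_mul, map_inv, hu]
      group
    exact mul_inv_eq_one.mp (hfix _ h1)
  let f : U → U := fun u => ⟨(u : A)⁻¹ * θ u, U.mul_mem (U.inv_mem u.2) (hU u u.2)⟩
  have hf : Function.Injective f := by
    intro u v huv
    exact Subtype.ext (hinj u v (congrArg Subtype.val huv))
  obtain ⟨u, hu⟩ := (Finite.injective_iff_surjective.mp hf) ⟨x⁻¹ * θ x, hx⟩
  have h3 : (u : A) = x := hinj u x (congrArg Subtype.val hu)
  rw [← h3]
  exact u.2

theorem sg_pow_mem {G : Type*} [Group G] (φ : MulAut G) (L : Subgroup G)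
    (hL : ∀ h ∈ L, φ h ∈ L) (k : ℕ) : ∀ h ∈ L, (φ ^ k) h ∈ L := by
  induction k with
  | zero =>
    intro h hh
    simpa using hh
  | succ k ih =>
    intro h hh
    rw [pow_succ, MulAut.mul_apply]
    exact ih _ (hL h hh)

theorem sg_restrict_pow {G : Type*} [Group G] [Finite G] (φ : MulAut G) (L : Subgroup G)
    (hL : ∀ h ∈ L, φ h ∈ L) (k : ℕ) (x : L) :
    ((((restrictAut φ L hL : MulAut L) ^ k) x : L) : G) = (φ ^ k) (x : G) := by
  induction k generalizing x with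
  | zero => simp
  | succ k ih =>
    rw [pow_succ, MulAut.mul_apply, ih, restrictAut_apply, pow_succ, MulAut.mul_apply]

theorem sg_quot_pow_mk {G : Type*} [Group G] [Finite G] (φ : MulAut G) (N : Subgroup G)
    [N.Normal] (hN : ∀ n ∈ N, φ n ∈ N) (k : ℕ) (x : G) :
    ((quotAut φ N hN : MulAut (G ⧸ N)) ^ k) (QuotientGroup.mk x : G ⧸ N)
      = (QuotientGroup.mk ((φ ^ k) x) : G ⧸ N) := by
  induction k generalizing x with
  | zero => simp
  | succ k ih =>
    rw [pow_succ, MulAut.mul_apply, quotAut_mk, ih, pow_succ, MulAut.mul_apply]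

/-- A fixed-point-free automorphism of `p`-power order: the group order is `≡ 1 (mod p)`. -/
theorem sg_card_modEq_one {G : Type*} [Group G] [Finite G] (φ : MulAut G) (p n : ℕ)
    (hp : p.Prime) (hφ : φ ^ (p ^ n) = 1) (hfix : ∀ g, φ g = g → g = 1) :
    Nat.card G ≡ 1 [MOD p] := by
  classical
  haveI : Fact p.Prime := ⟨hp⟩
  let _ : Fintype G := Fintype.ofFinite G
  let f : Function.End G := fun g => φ g
  have hf : ∀ k : ℕ, ∀ g : G, (f ^ k) g = (φ ^ k) g := by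
    intro k
    induction k with
    | zero =>
      intro g
      rfl
    | succ k ih =>
      intro g
      rw [pow_succ, pow_succ, MulAut.mul_apply, ← ih]
      rfl
  have h1 : f ^ (p ^ n) = 1 := by
    funext g
    rw [hf, hφ]
    rfl
  have h2 := Equiv.Perm.card_fixedPoints_modEq (f := f) h1
  have h3 : Fintype.card (Function.fixedPoints f) = 1 := by
    rw [Fintype.card_eq_one_iff]
    refine ⟨⟨1, map_one φ⟩, ?_⟩
    rintro ⟨g, hg⟩
    exact Subtype.ext (hfix g hg)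
  rw [Nat.card_eq_fintype_card]
  rw [h3] at h2
  exact h2

theorem sg_not_dvd_card {G : Type*} [Group G] [Finite G] (φ : MulAut G) (p n : ℕ)
    (hp : p.Prime) (hφ : φ ^ (p ^ n) = 1) (hfix : ∀ g, φ g = g → g = 1) :
    ¬ p ∣ Nat.card G := by
  intro h
  have h1 := sg_card_modEq_one φ p n hp hφ hfix
  have h2 : Nat.card G ≡ 0 [MOD p] := (Nat.modEq_zero_iff_dvd).mpr h
  have h3 : 1 ≡ 0 [MOD p] := h1.symm.trans h2
  have h4 : p ∣ 1 := (Nat.modEq_zero_iff_dvd).mp h3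
  exact hp.one_lt.ne' (Nat.dvd_one.mp h4)

theorem sg_quot_perm_pow_mk {G : Type*} [Group G] [Finite G] (φ : MulAut G) (N : Subgroup G)
    [N.Normal] (hN : ∀ n ∈ N, φ n ∈ N) (k : ℕ) (x : G) :
    (((quotAut φ N hN : MulAut (G ⧸ N)).toEquiv : Equiv.Perm (G ⧸ N)) ^ k)
        (QuotientGroup.mk x : G ⧸ N)
      = (QuotientGroup.mk ((φ ^ k) x) : G ⧸ N) := by
  induction k generalizing x with
  | zero => simp
  | succ k ih =>
    rw [pow_succ, Equiv.Perm.mul_apply, pow_succ, MulAut.mul_apply, ← ih (φ x)]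
    rfl

theorem sg_pow_comm {G : Type*} [Group G] (φ : MulAut G) (k : ℕ) (x : G) :
    (φ ^ k) (φ x) = φ ((φ ^ k) x) := by
  rw [← MulAut.mul_apply, ← MulAut.mul_apply, ← pow_succ, ← pow_succ']

theorem sg_inv_eq_pow {G : Type*} [Group G] (φ : MulAut G) (P : ℕ) (hP : 0 < P)
    (hφ : φ ^ P = 1) : φ⁻¹ = φ ^ (P - 1) := by
  apply inv_eq_of_mul_eq_one_right
  rw [← pow_succ', Nat.sub_add_cancel hP, hφ]

theorem sg_inv_mem {G : Type*} [Group G] (φ : MulAut G) (P : ℕ) (hP : 0 < P)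
    (hφ : φ ^ P = 1) (L : Subgroup G) (hL : ∀ x ∈ L, φ x ∈ L) : ∀ x ∈ L, φ⁻¹ x ∈ L := by
  rw [sg_inv_eq_pow φ P hP hφ]
  exact sg_pow_mem φ L hL (P - 1)

end SGAut

end Cfsg.Agent.Lib.helper75
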