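import Mathlib
import Cfsg.Agent.Lib.helper66.ExtraRepA
import Cfsg.Agent.Lib.helper75.HHDeg

set_option autoImplicit false

namespace Cfsg.Agent.Lib.helper75

open Module Cfsg.Agent.Lib.helper66

section SGBlock

variable {K : Type*} [Field K] {W : Type*} [AddCommGroup W] [Module K W] {H : Type*} [Group H]

/-- Restriction of a representation to an invariant subspace. -/
def sgRes (R : H →* Module.End K W) (Y : Submodule K W) (hY : ∀ h, ∀ y ∈ Y, R h y ∈ Y) :
    H →* Module.End K Y where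
  toFun h := (R h).restrict (hY h)
  map_one' := by
    ext y
    simp
  map_mul' := by
    intro a b
    ext y
    simp

theorem sgRes_apply (R : H →* Module.End K W) (Y : Submodule K W)
    (hY : ∀ h, ∀ y ∈ Y, R h y ∈ Y) (h : H) (y : Y) :
    ((sgRes R Y hY h) y : W) = R h (y : W) := rfl

theorem sg_restrict_pow_apply (f : Module.End K W) (Y : Submodule K W) (hf : ∀ y ∈ Y, f y ∈ Y)
    (k : ℕ) (y : Y) : (((f.restrict hf : Module.End K Y) ^ k) y : W) = (f ^ k) (y : W) := by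
  induction k generalizing y with
  | zero => simp
  | succ k ih =>
    rw [pow_succ, Module.End.mul_apply, ih, pow_succ, Module.End.mul_apply]
    rfl

theorem sg_Xpow_R (R : H →* Module.End K W) (X : Module.End K W) (α : MulAut H)
    (hXR : ∀ h, X * R h = R (α h) * X) (k : ℕ) (h : H) :
    X ^ k * R h = R ((α ^ k) h) * X ^ k := by
  induction k generalizing h with
  | zero => simp
  | succ k ih =>
    rw [pow_succ, mul_assoc, hXR, ← mul_assoc, ih, mul_assoc, pow_succ, MulAut.mul_apply]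

theorem sg_Xpow_R_apply (R : H →* Module.End K W) (X : Module.End K W) (α : MulAut H)
    (hXR : ∀ h, X * R h = R (α h) * X) (k : ℕ) (h : H) (w : W) :
    (X ^ k) (R h w) = R ((α ^ k) h) ((X ^ k) w) := by
  have h1 := congrArg (fun F : Module.End K W => F w) (sg_Xpow_R R X α hXR k h)
  simpa using h1

theorem sg_R_Xpow_apply (R : H →* Module.End K W) (X : Module.End K W) (α : MulAut H)
    (hXR : ∀ h, X * R h = R (α h) * X) (k : ℕ) (h : H) (w : W) :
    R h ((X ^ k) w) = (X ^ k) (R ((α ^ k)⁻¹ h) w) := by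
  rw [sg_Xpow_R_apply R X α hXR k, MulAut.apply_inv_self]

/-- A system of imprimitivity for `(R, X)`: the subspace `Y` is `R`-invariant, stable under
`X ^ (p ^ a)`, and `W` is the direct sum of the `p ^ a` translates of `Y`. -/
structure SGBlock (p n : ℕ) (R : H →* Module.End K W) (X : Module.End K W)
    (Y : Submodule K W) (a : ℕ) : Prop where
  ha : a ≤ n
  hR : ∀ h, ∀ y ∈ Y, R h y ∈ Y
  hS : ∀ y ∈ Y, (X ^ (p ^ a)) y ∈ Y
  hsup : ⨆ j : Fin (p ^ a), Y.map (X ^ (j : ℕ)) = ⊤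
  hdim : p ^ a * finrank K Y = finrank K W

/-- The map `(y_j) ↦ ∑ X^j y_j`. -/
noncomputable def sgSum (X : Module.End K W) (t : ℕ) (Y : Submodule K W) :
    (Fin t → Y) →ₗ[K] W :=
  ∑ j : Fin t, (X ^ (j : ℕ)) ∘ₗ Y.subtype ∘ₗ LinearMap.proj j

theorem sgSum_apply (X : Module.End K W) (t : ℕ) (Y : Submodule K W) (y : Fin t → Y) :
    sgSum X t Y y = ∑ j : Fin t, (X ^ (j : ℕ)) (y j : W) := by
  simp [sgSum, LinearMap.sum_apply]

theorem sgSum_surjective (X : Module.End K W) (t : ℕ) (Y : Submodule K W)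
    (hsup : ⨆ j : Fin t, Y.map (X ^ (j : ℕ)) = ⊤) : Function.Surjective (sgSum X t Y) := by
  classical
  rw [← LinearMap.range_eq_top, eq_top_iff, ← hsup]
  apply iSup_le
  intro j
  rintro _ ⟨y, hy, rfl⟩
  refine ⟨Pi.single j ⟨y, hy⟩, ?_⟩
  rw [sgSum_apply, Finset.sum_eq_single j]
  · simp
  · intro i _ hij
    simp [Pi.single_eq_of_ne hij]
  · intro h
    exact absurd (Finset.mem_univ j) h

theorem sgSum_injective [FiniteDimensional K W] (X : Module.End K W) (t : ℕ)
    (Y : Submodule K W) (hsup : ⨆ j : Fin t, Y.map (X ^ (j : ℕ)) = ⊤)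
    (hdim : t * finrank K Y = finrank K W) : Function.Injective (sgSum X t Y) := by
  have hfr : finrank K (Fin t → Y) = finrank K W := by
    rw [Module.finrank_pi_fintype]
    simp [hdim]
  exact (LinearMap.injective_iff_surjective_of_finrank_eq_finrank hfr).mpr
    (sgSum_surjective X t Y hsup)

theorem SGBlock.fix_eq_zero [FiniteDimensional K W] {p n : ℕ} {R : H →* Module.End K W}
    {X : Module.End K W} {Y : Submodule K W} {a : ℕ} (hB : SGBlock p n R X Y a) (hp : 0 < p)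
    (hfix : ∀ w, X w = w → w = 0) : ∀ y ∈ Y, (X ^ (p ^ a)) y = y → y = 0 := by
  intro y hy hSy
  have ht : 0 < p ^ a := pow_pos hp a
  have hw : X (∑ j ∈ Finset.range (p ^ a), (X ^ j) y) = ∑ j ∈ Finset.range (p ^ a), (X ^ j) y := by
    rw [map_sum]
    have h1 : ∀ j, X ((X ^ j) y) = (X ^ (j + 1)) y := fun j => by
      rw [pow_succ', Module.End.mul_apply]
    simp only [h1]
    have h2 := Finset.sum_range_succ (fun j => (X ^ j) y) (p ^ a)
    have h3 := Finset.sum_range_succ' (fun j => (X ^ j) y) (p ^ a)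
    rw [h2] at h3
    simp only [pow_zero, Module.End.one_apply] at h3
    rw [hSy] at h3
    exact (add_right_cancel h3).symm
  have hw0 := hfix _ hw
  have hinj := sgSum_injective X (p ^ a) Y hB.hsup hB.hdim
  have h4 : sgSum X (p ^ a) Y (fun _ => ⟨y, hy⟩) = 0 := by
    rw [sgSum_apply, ← hw0]
    exact Fin.sum_univ_eq_sum_range (fun j => (X ^ j) y) (p ^ a)
  have h5 := hinj (h4.trans (map_zero _).symm)
  have h6 := congrFun h5 ⟨0, ht⟩
  exact congrArg Subtype.val h6

/-- The sum of the translates of an `(R, X^t)`-invariant subspace is `(R, X)`-invariant. -/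
theorem sg_iSup_inv (R : H →* Module.End K W) (X : Module.End K W) (α : MulAut H)
    (hXR : ∀ h, X * R h = R (α h) * X) (t : ℕ) (ht : 0 < t) (U : Submodule K W)
    (hUR : ∀ h, ∀ w ∈ U, R h w ∈ U) (hUS : ∀ w ∈ U, (X ^ t) w ∈ U) :
    (∀ h, ∀ w ∈ ⨆ j : Fin t, U.map (X ^ (j : ℕ)),
      R h w ∈ ⨆ j : Fin t, U.map (X ^ (j : ℕ))) ∧
    (∀ w ∈ ⨆ j : Fin t, U.map (X ^ (j : ℕ)), X w ∈ ⨆ j : Fin t, U.map (X ^ (j : ℕ))) := by
  constructor
  · intro h w hw
    have h1 : (⨆ j : Fin t, U.map (X ^ (j : ℕ))).map (R h)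
        ≤ ⨆ j : Fin t, U.map (X ^ (j : ℕ)) := by
      rw [Submodule.map_iSup]
      apply iSup_le
      intro j
      rintro _ ⟨_, ⟨u, hu, rfl⟩, rfl⟩
      rw [sg_R_Xpow_apply R X α hXR]
      exact Submodule.mem_iSup_of_mem j ⟨_, hUR _ u hu, rfl⟩
    exact h1 ⟨w, hw, rfl⟩
  · intro w hw
    have h1 : (⨆ j : Fin t, U.map (X ^ (j : ℕ))).map X
        ≤ ⨆ j : Fin t, U.map (X ^ (j : ℕ)) := by
      rw [Submodule.map_iSup]
      apply iSup_le
      intro j
      rintro _ ⟨_, ⟨u, hu, rfl⟩, rfl⟩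
      have h2 : X ((X ^ (j : ℕ)) u) = (X ^ ((j : ℕ) + 1)) u := by
        rw [pow_succ', Module.End.mul_apply]
      rw [h2]
      by_cases hj : (j : ℕ) + 1 < t
      · exact Submodule.mem_iSup_of_mem ⟨(j : ℕ) + 1, hj⟩ ⟨u, hu, rfl⟩
      · have hjt : (j : ℕ) + 1 = t := by
          have := j.2
          omega
        rw [hjt]
        refine Submodule.mem_iSup_of_mem ⟨0, ht⟩ ⟨(X ^ t) u, hUS u hu, ?_⟩
        simp
    exact h1 ⟨w, hw, rfl⟩

/-- The block of a system of imprimitivity of an irreducible system is irreducible under the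
restricted system. -/
theorem SGBlock.irr [FiniteDimensional K W] {p n : ℕ} {R : H →* Module.End K W}
    {X : Module.End K W} {Y : Submodule K W} {a : ℕ} (hB : SGBlock p n R X Y a) (hp : 0 < p)
    (α : MulAut H) (hXR : ∀ h, X * R h = R (α h) * X)
    (hirr : ∀ U : Submodule K W, (∀ h, ∀ w ∈ U, R h w ∈ U) → (∀ w ∈ U, X w ∈ U) →
      U = ⊥ ∨ U = ⊤)
    (U : Submodule K Y) (hUR : ∀ h, ∀ y ∈ U, sgRes R Y hB.hR h y ∈ U)
    (hUS : ∀ y ∈ U, ((X ^ (p ^ a)).restrict hB.hS) y ∈ U) : U = ⊥ ∨ U = ⊤ := by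
  have ht : 0 < p ^ a := pow_pos hp a
  have hU₀R : ∀ h, ∀ w ∈ U.map Y.subtype, R h w ∈ U.map Y.subtype := by
    rintro h _ ⟨y, hy, rfl⟩
    exact ⟨sgRes R Y hB.hR h y, hUR h y hy, rfl⟩
  have hU₀S : ∀ w ∈ U.map Y.subtype, (X ^ (p ^ a)) w ∈ U.map Y.subtype := by
    rintro _ ⟨y, hy, rfl⟩
    exact ⟨((X ^ (p ^ a)).restrict hB.hS) y, hUS y hy, rfl⟩
  obtain ⟨h1, h2⟩ := sg_iSup_inv R X α hXR (p ^ a) ht (U.map Y.subtype) hU₀R hU₀S
  rcases hirr _ h1 h2 with h | h
  · left
    have h3 : U.map Y.subtype ≤ ⨆ j : Fin (p ^ a), (U.map Y.subtype).map (X ^ (j : ℕ)) := by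
      intro w hw
      exact Submodule.mem_iSup_of_mem ⟨0, ht⟩ ⟨w, hw, by simp⟩
    rw [h] at h3
    rw [eq_bot_iff]
    intro y hy
    have h4 : (y : W) ∈ U.map Y.subtype := ⟨y, hy, rfl⟩
    have h5 := h3 h4
    rw [Submodule.mem_bot] at h5 ⊢
    exact Subtype.ext h5
  · right
    have hsurj := sgSum_surjective X (p ^ a) (U.map Y.subtype) h
    have h3 : finrank K W ≤ finrank K (Fin (p ^ a) → (U.map Y.subtype : Submodule K W)) :=
      LinearMap.finrank_le_finrank_of_surjective hsurj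
    have h4 : finrank K (Fin (p ^ a) → (U.map Y.subtype : Submodule K W))
        = p ^ a * finrank K (U.map Y.subtype : Submodule K W) := by
      rw [Module.finrank_pi_fintype]
      simp
    have h5 : finrank K (U.map Y.subtype : Submodule K W) = finrank K U :=
      Submodule.finrank_map_subtype_eq Y U
    have h6 := hB.hdim
    have h7 : p ^ a * finrank K Y ≤ p ^ a * finrank K U := by
      rw [h6, ← h5, ← h4]
      exact h3
    have h8 : finrank K Y ≤ finrank K U := Nat.le_of_mul_le_mul_left h7 ht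
    exact Submodule.eq_top_of_finrank_eq (le_antisymm (Submodule.finrank_le U) h8)

/-- Refinement step: a non-scalar operator commuting with the representation and normalised
by `S` up to a scalar yields a nontrivial system of imprimitivity. -/
theorem sg_refine [IsAlgClosed K] {V : Type*} [AddCommGroup V] [Module K V]
    [FiniteDimensional K V] [Nontrivial V] (p m : ℕ) (hp : p.Prime)
    (𝓡 : H →* Module.End K V) (S : Module.End K V) (β : MulAut H)
    (hS𝓡 : ∀ h, S * 𝓡 h = 𝓡 (β h) * S) (hSM : S ^ (p ^ m) = 1)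
    (hirr : ∀ U : Submodule K V, (∀ h, ∀ w ∈ U, 𝓡 h w ∈ U) → (∀ w ∈ U, S w ∈ U) →
      U = ⊥ ∨ U = ⊤)
    (A : Module.End K V) (hA : ∀ h, A * 𝓡 h = 𝓡 h * A) (ζ : K) (hAS : S * A = ζ • (A * S))
    (hns : ¬ ∃ c : K, A = c • (1 : Module.End K V)) :
    ∃ (E : Submodule K V) (a' : ℕ), 1 ≤ a' ∧ SGBlock p m 𝓡 S E a' := by
  have hP : 0 < p ^ m := pow_pos hp.pos m
  obtain ⟨S', hS'1, -⟩ : ∃ S' : Module.End K V, S' * S = 1 ∧ S * S' = 1 := by
    refine ⟨S ^ (p ^ m - 1), ?_, ?_⟩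
    · rw [← pow_succ, Nat.sub_add_cancel hP, hSM]
    · rw [← pow_succ', Nat.sub_add_cancel hP, hSM]
  have hSunit : IsUnit S := IsUnit.of_pow_eq_one hSM hP.ne'
  have hζ : ζ ≠ 0 := by
    intro h0
    rw [h0, zero_smul] at hAS
    apply hns
    refine ⟨0, ?_⟩
    rw [zero_smul]
    have h1 : S' * (S * A) = 0 := by rw [hAS, mul_zero]
    rwa [← mul_assoc, hS'1, one_mul] at h1
  have hAS' : A * S = ζ⁻¹ • (S * A) := by
    rw [hAS, smul_smul, inv_mul_cancel₀ hζ, one_smul]
  have hstep : ∀ ν : K, ∀ w ∈ A.eigenspace ν, S w ∈ A.eigenspace (ζ⁻¹ * ν) := by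
    intro ν w hw
    rw [Module.End.mem_eigenspace_iff] at hw ⊢
    have h1 := congrArg (fun F : Module.End K V => F w) hAS'
    simp only [Module.End.mul_apply, LinearMap.smul_apply] at h1
    rw [h1, hw, map_smul, smul_smul]
  have hpow : ∀ (i : ℕ) (ν : K), ∀ w ∈ A.eigenspace ν,
      (S ^ i) w ∈ A.eigenspace ((ζ⁻¹) ^ i * ν) := by
    intro i
    induction i with
    | zero =>
      intro ν w hw
      simpa using hw
    | succ i ih =>
      intro ν w hw
      have h1 : (S ^ (i + 1)) w = S ((S ^ i) w) := by rw [pow_succ', Module.End.mul_apply]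
      have h2 : (ζ⁻¹) ^ (i + 1) * ν = ζ⁻¹ * ((ζ⁻¹) ^ i * ν) := by rw [pow_succ', mul_assoc]
      rw [h1, h2]
      exact hstep _ _ (ih ν w hw)
  obtain ⟨μ, hμ⟩ := Module.End.exists_eigenvalue A
  obtain ⟨w0, hw0⟩ := hμ.exists_hasEigenvector
  have hE0 : A.eigenspace μ ≠ ⊥ := (Submodule.ne_bot_iff _).mpr ⟨w0, hw0.1, hw0.2⟩
  have hER : ∀ h, ∀ w ∈ A.eigenspace μ, 𝓡 h w ∈ A.eigenspace μ := by
    intro h w hw
    rw [Module.End.mem_eigenspace_iff] at hw ⊢
    have h1 := congrArg (fun F : Module.End K V => F w) (hA h)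
    simp only [Module.End.mul_apply] at h1
    rw [h1, hw, map_smul]
  have hkey : (∀ w ∈ A.eigenspace μ, S w ∈ A.eigenspace μ) → False := by
    intro hES
    rcases hirr _ hER hES with h | h
    · exact hE0 h
    · apply hns
      refine ⟨μ, ?_⟩
      ext w
      have h3 : w ∈ A.eigenspace μ := by
        rw [h]
        trivial
      simpa using Module.End.mem_eigenspace_iff.mp h3
  have hμ0 : μ ≠ 0 := by
    intro h0
    apply hkey
    intro w hw
    have h1 := hstep μ w hw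
    rwa [h0, mul_zero, ← h0] at h1
  have hζP : ζ ^ (p ^ m) = 1 := by
    have h1 := hpow (p ^ m) μ w0 hw0.1
    rw [hSM, Module.End.one_apply, Module.End.mem_eigenspace_iff] at h1
    have h2 := Module.End.mem_eigenspace_iff.mp hw0.1
    rw [h2] at h1
    have h3 : (μ - (ζ⁻¹) ^ (p ^ m) * μ) • w0 = 0 := by rw [sub_smul, h1, sub_self]
    rcases smul_eq_zero.mp h3 with h4 | h4
    · have h5 : (ζ⁻¹) ^ (p ^ m) = 1 := by
        have h6 : (1 - (ζ⁻¹) ^ (p ^ m)) * μ = 0 := by
          rw [sub_mul, one_mul]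
          exact h4
        rcases mul_eq_zero.mp h6 with h7 | h7
        · exact (sub_eq_zero.mp h7).symm
        · exact absurd h7 hμ0
      rw [inv_pow] at h5
      exact inv_eq_one.mp h5
    · exact absurd h4 hw0.2
  obtain ⟨a', ha', hord⟩ := (Nat.dvd_prime_pow hp).mp (orderOf_dvd_of_pow_eq_one hζP)
  have hζt : ζ ^ (p ^ a') = 1 := by
    rw [← hord]
    exact pow_orderOf_eq_one ζ
  have hSE : ∀ w ∈ A.eigenspace μ, (S ^ (p ^ a')) w ∈ A.eigenspace μ := by
    intro w hw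
    have h1 := hpow (p ^ a') μ w hw
    rwa [inv_pow, hζt, inv_one, one_mul] at h1
  have ha'1 : 1 ≤ a' := by
    by_contra hcon
    have h0 : a' = 0 := by omega
    apply hkey
    intro w hw
    have h1 := hSE w hw
    rwa [h0, pow_zero, pow_one] at h1
  have ht' : 0 < p ^ a' := pow_pos hp.pos a'
  obtain ⟨i1, i2⟩ := sg_iSup_inv 𝓡 S β hS𝓡 (p ^ a') ht' (A.eigenspace μ) hER hSE
  have hsup : ⨆ j : Fin (p ^ a'), (A.eigenspace μ).map (S ^ (j : ℕ)) = ⊤ := by
    rcases hirr _ i1 i2 with h | h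
    · exfalso
      have h3 : A.eigenspace μ ≤ ⨆ j : Fin (p ^ a'), (A.eigenspace μ).map (S ^ (j : ℕ)) := by
        intro w hw
        exact Submodule.mem_iSup_of_mem ⟨0, ht'⟩ ⟨w, hw, by simp⟩
      rw [h] at h3
      exact hE0 (eq_bot_iff.mpr h3)
    · exact h
  refine ⟨A.eigenspace μ, a', ha'1, ⟨ha', hER, hSE, hsup, ?_⟩⟩
  have hle : (fun j : Fin (p ^ a') => (A.eigenspace μ).map (S ^ (j : ℕ)))
      ≤ fun j : Fin (p ^ a') => A.eigenspace ((ζ⁻¹) ^ (j : ℕ) * μ) := by
    intro j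
    rintro _ ⟨w, hw, rfl⟩
    exact hpow j μ w hw
  have hinj : Function.Injective (fun j : Fin (p ^ a') => (ζ⁻¹) ^ (j : ℕ) * μ) := by
    intro i j hij
    have h1 : (ζ⁻¹) ^ (i : ℕ) = (ζ⁻¹) ^ (j : ℕ) := mul_right_cancel₀ hμ0 hij
    rw [inv_pow, inv_pow] at h1
    have h2 : ζ ^ (i : ℕ) = ζ ^ (j : ℕ) := inv_injective h1
    apply Fin.ext
    exact pow_injOn_Iio_orderOf (by rw [Set.mem_Iio, hord]; exact i.2)
      (by rw [Set.mem_Iio, hord]; exact j.2) h2
  have hind : iSupIndep (fun j : Fin (p ^ a') => (A.eigenspace μ).map (S ^ (j : ℕ))) :=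
    ((Module.End.eigenspaces_iSupIndep A).comp hinj).mono hle
  have hsum := hh_finrank_of_indep _ hind hsup
  have hfr : ∀ j : Fin (p ^ a'),
      finrank K ((A.eigenspace μ).map (S ^ (j : ℕ))) = finrank K (A.eigenspace μ) := by
    intro j
    have hinjj : Function.Injective (S ^ (j : ℕ)) :=
      ((Module.End.isUnit_iff _).mp (hSunit.pow (j : ℕ))).1
    exact (Submodule.equivMapOfInjective (S ^ (j : ℕ)) hinjj _).finrank_eq.symm
  rw [hsum, Finset.sum_congr rfl (fun j _ => hfr j), Finset.sum_const, Finset.card_univ,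
    Fintype.card_fin, smul_eq_mul]

/-- Composition of systems of imprimitivity. -/
theorem SGBlock.comp {p n : ℕ} {R : H →* Module.End K W} {X : Module.End K W}
    {Y : Submodule K W} {a : ℕ} (hB : SGBlock p n R X Y a) (hp : 0 < p)
    {E : Submodule K Y} {a' : ℕ}
    (hE : SGBlock p (n - a) (sgRes R Y hB.hR) ((X ^ (p ^ a)).restrict hB.hS) E a') :
    SGBlock p n R X (E.map Y.subtype) (a + a') := by
  have h1 := hE.ha
  have h2 := hB.ha
  refine ⟨by omega, ?_, ?_, ?_, ?_⟩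
  · rintro h _ ⟨e, he, rfl⟩
    exact ⟨sgRes R Y hB.hR h e, hE.hR h e he, rfl⟩
  · rintro _ ⟨e, he, rfl⟩
    refine ⟨(((X ^ (p ^ a)).restrict hB.hS : Module.End K Y) ^ (p ^ a')) e, hE.hS e he, ?_⟩
    rw [Submodule.subtype_apply, sg_restrict_pow_apply, ← pow_mul, ← pow_add]
    rfl
  · rw [eq_top_iff, ← hB.hsup]
    apply iSup_le
    intro j
    rintro _ ⟨y, hy, rfl⟩
    have key : ∀ y' : Y, (X ^ (j : ℕ)) (y' : W)
        ∈ ⨆ k : Fin (p ^ (a + a')), (E.map Y.subtype).map (X ^ (k : ℕ)) := by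
      intro y'
      have hy' : y' ∈ ⨆ i : Fin (p ^ a'),
          E.map (((X ^ (p ^ a)).restrict hB.hS : Module.End K Y) ^ (i : ℕ)) := by
        rw [hE.hsup]
        trivial
      refine Submodule.iSup_induction
        (p := fun i : Fin (p ^ a') =>
          E.map (((X ^ (p ^ a)).restrict hB.hS : Module.End K Y) ^ (i : ℕ)))
        (motive := fun y' : Y => (X ^ (j : ℕ)) (y' : W)
          ∈ ⨆ k : Fin (p ^ (a + a')), (E.map Y.subtype).map (X ^ (k : ℕ))) hy' ?_ ?_ ?_
      · rintro i _ ⟨e, he, rfl⟩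
        have h3 : (X ^ (j : ℕ)) (((((X ^ (p ^ a)).restrict hB.hS : Module.End K Y) ^ (i : ℕ)) e
            : Y) : W) = (X ^ ((j : ℕ) + p ^ a * (i : ℕ))) (e : W) := by
          rw [sg_restrict_pow_apply, pow_add, Module.End.mul_apply, pow_mul]
        rw [h3]
        have hlt : (j : ℕ) + p ^ a * (i : ℕ) < p ^ (a + a') := by
          have hj := j.2
          have hi := i.2
          calc (j : ℕ) + p ^ a * (i : ℕ) < p ^ a + p ^ a * (i : ℕ) := by omega
            _ = p ^ a * ((i : ℕ) + 1) := by ring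
            _ ≤ p ^ a * p ^ a' := Nat.mul_le_mul_left _ hi
            _ = p ^ (a + a') := (pow_add p a a').symm
        exact Submodule.mem_iSup_of_mem ⟨(j : ℕ) + p ^ a * (i : ℕ), hlt⟩
          ⟨(e : W), ⟨e, he, rfl⟩, rfl⟩
      · simp
      · intro x y hx hy
        simp only [Submodule.coe_add, map_add]
        exact Submodule.add_mem _ hx hy
    exact key ⟨y, hy⟩
  · have h3 : finrank K (E.map Y.subtype : Submodule K W) = finrank K E :=
      Submodule.finrank_map_subtype_eq Y E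
    rw [h3, pow_add, mul_assoc, hE.hdim, hB.hdim]

/-- Existence of a primitive system of imprimitivity. -/
theorem sg_exists_block [IsAlgClosed K] [FiniteDimensional K W] [Nontrivial W] (p n : ℕ)
    (hp : p.Prime) (R : H →* Module.End K W) (X : Module.End K W) (α : MulAut H)
    (hXR : ∀ h, X * R h = R (α h) * X) (hXP : X ^ (p ^ n) = 1)
    (hirr : ∀ U : Submodule K W, (∀ h, ∀ w ∈ U, R h w ∈ U) → (∀ w ∈ U, X w ∈ U) →
      U = ⊥ ∨ U = ⊤) :
    ∃ (Y : Submodule K W) (a : ℕ) (hB : SGBlock p n R X Y a),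
      ∀ A : Module.End K Y, (∀ h, A * sgRes R Y hB.hR h = sgRes R Y hB.hR h * A) →
        (∃ ζ : K, (X ^ (p ^ a)).restrict hB.hS * A = ζ • (A * (X ^ (p ^ a)).restrict hB.hS)) →
        ∃ c : K, A = c • (1 : Module.End K Y) := by
  classical
  have hex : ∃ d : ℕ, ∃ (Y : Submodule K W) (a : ℕ), SGBlock p n R X Y a ∧ finrank K Y = d := by
    refine ⟨finrank K W, ⊤, 0, ⟨Nat.zero_le n, fun h y _ => trivial, fun y _ => trivial, ?_, ?_⟩,
      finrank_top K W⟩
    · rw [eq_top_iff]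
      intro w _
      exact Submodule.mem_iSup_of_mem ⟨0, by simp⟩ ⟨w, trivial, by simp⟩
    · rw [pow_zero, one_mul, finrank_top]
  obtain ⟨Y, a, hB, hd⟩ := Nat.find_spec hex
  have hmin : ∀ (Y' : Submodule K W) (a' : ℕ), SGBlock p n R X Y' a' →
      finrank K Y ≤ finrank K Y' := by
    intro Y' a' hB'
    rw [hd]
    exact Nat.find_min' hex ⟨Y', a', hB', rfl⟩
  refine ⟨Y, a, hB, ?_⟩
  intro A hA hAS
  by_contra hns
  obtain ⟨ζ, hζ⟩ := hAS
  have hWpos : 0 < finrank K W := Module.finrank_pos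
  have hYpos : 0 < finrank K Y := by
    have h1 := hB.hdim
    rcases Nat.eq_zero_or_pos (finrank K Y) with h0 | h0
    · rw [h0, mul_zero] at h1
      omega
    · exact h0
  haveI : Nontrivial Y := Module.finrank_pos_iff.mp hYpos
  have hSM : ((X ^ (p ^ a)).restrict hB.hS : Module.End K Y) ^ (p ^ (n - a)) = 1 := by
    ext y
    rw [sg_restrict_pow_apply, ← pow_mul, ← pow_add, Nat.add_sub_cancel' hB.ha, hXP]
    rfl
  have hS𝓡 : ∀ h, ((X ^ (p ^ a)).restrict hB.hS : Module.End K Y) * sgRes R Y hB.hR h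
      = sgRes R Y hB.hR ((α ^ (p ^ a)) h) * ((X ^ (p ^ a)).restrict hB.hS : Module.End K Y) := by
    intro h
    ext y
    exact sg_Xpow_R_apply R X α hXR (p ^ a) h (y : W)
  obtain ⟨E, a', ha', hE⟩ := sg_refine p (n - a) hp (sgRes R Y hB.hR)
    ((X ^ (p ^ a)).restrict hB.hS) (α ^ (p ^ a)) hS𝓡 hSM
    (fun U hU1 hU2 => hB.irr hp.pos α hXR hirr U hU1 hU2) A hA ζ hζ hns
  have hcomp := hB.comp hp.pos hE
  have h1 := hmin _ _ hcomp
  have h2 : finrank K (E.map Y.subtype : Submodule K W) = finrank K E :=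
    Submodule.finrank_map_subtype_eq Y E
  have h3 := hE.hdim
  have h4 : 2 ≤ p ^ a' := by
    calc 2 ≤ p := hp.two_le
      _ = p ^ 1 := (pow_one p).symm
      _ ≤ p ^ a' := Nat.pow_le_pow_right hp.pos ha'
  have h5 : 2 * finrank K E ≤ p ^ a' * finrank K E := Nat.mul_le_mul_right _ h4
  rw [h2] at h1
  omega

/-- In a primitive system every operator commuting with the representation is scalar. -/
theorem sg_commutant_scalar [IsAlgClosed K] {V : Type*} [AddCommGroup V] [Module K V]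
    [FiniteDimensional K V] (M : ℕ) (hM0 : 0 < M) (hM : (M : K) ≠ 0)
    (𝓡 : H →* Module.End K V) (S : Module.End K V) (β : MulAut H)
    (hS𝓡 : ∀ h, S * 𝓡 h = 𝓡 (β h) * S) (hSM : S ^ M = 1)
    (hprim : ∀ A : Module.End K V, (∀ h, A * 𝓡 h = 𝓡 h * A) →
      (∃ ζ : K, S * A = ζ • (A * S)) → ∃ c : K, A = c • (1 : Module.End K V))
    (A : Module.End K V) (hA : ∀ h, A * 𝓡 h = 𝓡 h * A) :
    ∃ c : K, A = c • (1 : Module.End K V) := by
  obtain ⟨S', hS'1, hS'2⟩ : ∃ S' : Module.End K V, S' * S = 1 ∧ S * S' = 1 := by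
    refine ⟨S ^ (M - 1), ?_, ?_⟩
    · rw [← pow_succ, Nat.sub_add_cancel hM0, hSM]
    · rw [← pow_succ', Nat.sub_add_cancel hM0, hSM]
  have hS'𝓡 : ∀ h, S' * 𝓡 h = 𝓡 (β⁻¹ h) * S' := by
    intro h
    have h1 := hS𝓡 (β⁻¹ h)
    rw [MulAut.apply_inv_self] at h1
    calc S' * 𝓡 h = S' * (𝓡 h * S) * S' := by rw [mul_assoc, mul_assoc, hS'2, mul_one]
      _ = S' * (S * 𝓡 (β⁻¹ h)) * S' := by rw [h1]
      _ = 𝓡 (β⁻¹ h) * S' := by rw [← mul_assoc, hS'1, one_mul]
  let Z : Submodule K (Module.End K V) :=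
    { carrier := {B | ∀ h, B * 𝓡 h = 𝓡 h * B}
      add_mem' := by
        intro B C hB hC h
        rw [add_mul, mul_add, hB h, hC h]
      zero_mem' := by
        intro h
        simp
      smul_mem' := by
        intro c B hB h
        rw [smul_mul_assoc, mul_smul_comm, hB h] }
  let conj : Module.End K (Module.End K V) :=
    (LinearMap.mulLeft K S).comp (LinearMap.mulRight K S')
  have hconj : ∀ B, conj B = S * (B * S') := fun B => rfl
  have hconjZ : ∀ B ∈ Z, conj B ∈ Z := by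
    intro B hB h
    rw [hconj]
    have hB' : ∀ h, B * 𝓡 h = 𝓡 h * B := hB
    calc S * (B * S') * 𝓡 h = S * (B * (S' * 𝓡 h)) := by simp only [mul_assoc]
      _ = S * (B * (𝓡 (β⁻¹ h) * S')) := by rw [hS'𝓡]
      _ = S * (𝓡 (β⁻¹ h) * B * S') := by rw [← mul_assoc B, hB']
      _ = (S * 𝓡 (β⁻¹ h)) * (B * S') := by simp only [mul_assoc]
      _ = 𝓡 h * (S * (B * S')) := by
          rw [hS𝓡, MulAut.apply_inv_self]
          simp only [mul_assoc]
  have hconjpow : ∀ (k : ℕ) (B : Module.End K V), (conj ^ k) B = S ^ k * (B * S' ^ k) := by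
    intro k
    induction k with
    | zero =>
      intro B
      simp
    | succ k ih =>
      intro B
      rw [pow_succ, Module.End.mul_apply, ih, hconj, pow_succ, pow_succ']
      simp only [mul_assoc]
  have hS'M : S' ^ M = 1 := by
    have h1 : S' ^ M * S ^ M = 1 := by
      have hc : Commute S' S := by
        show S' * S = S * S'
        rw [hS'1, hS'2]
      rw [← hc.mul_pow, hS'1, one_pow]
    rwa [hSM, mul_one] at h1
  let cZ : Module.End K Z := conj.restrict hconjZ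
  have hcM : cZ ^ M = 1 := by
    ext B
    rw [sg_restrict_pow_apply, hconjpow, hSM, hS'M, one_mul, mul_one]
    rfl
  have hss : cZ.IsSemisimple := by
    apply Module.End.isSemisimple_of_squarefree_aeval_eq_zero
      (p := Polynomial.X ^ M - Polynomial.C 1)
    · exact (Polynomial.separable_X_pow_sub_C (1 : K) hM one_ne_zero).squarefree
    · simp [hcM]
  have htop := hss.iSup_eigenspace_eq_top
  have hAZ : (⟨A, hA⟩ : Z) ∈ ⨆ μ : K, cZ.eigenspace μ := by
    rw [htop]
    trivial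
  refine Submodule.iSup_induction
    (p := fun μ : K => cZ.eigenspace μ)
    (motive := fun B : Z => ∃ c : K, (B : Module.End K V) = c • (1 : Module.End K V))
    hAZ ?_ ?_ ?_
  · intro ζ B hB
    rw [Module.End.mem_eigenspace_iff] at hB
    have h1 : S * ((B : Module.End K V) * S') = ζ • (B : Module.End K V) := by
      have h2 := congrArg Subtype.val hB
      exact h2
    apply hprim _ B.2
    refine ⟨ζ, ?_⟩
    calc S * (B : Module.End K V) = S * ((B : Module.End K V) * S') * S := by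
          rw [mul_assoc, mul_assoc, hS'1, mul_one]
      _ = ζ • ((B : Module.End K V) * S) := by rw [h1, smul_mul_assoc]
  · exact ⟨0, by simp⟩
  · rintro B C ⟨c, hc⟩ ⟨c', hc'⟩
    exact ⟨c + c', by rw [Submodule.coe_add, hc, hc', add_smul]⟩

end SGBlock

end Cfsg.Agent.Lib.helper75
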