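import Mathlib
import Cfsg.Agent.Lib.helper66.ExtraRepA
import Cfsg.Agent.Lib.helper66.ExtraRepC
import Cfsg.Agent.Lib.helper1.ThompsonFpf
import Cfsg.Agent.Lib.helper75.SGAut
import Cfsg.Agent.Lib.helper75.SGBlock

set_option autoImplicit false

namespace Cfsg.Agent.Lib.helper75

open Module Cfsg.Agent.Lib.helper66 Cfsg.Agent.Lib.helper1

section SGCrit

variable {K : Type*} [Field K] {W : Type*} [AddCommGroup W] [Module K W] {H : Type*} [Group H]

theorem sg_R_inv_mul_cancel_left (R : H →* Module.End K W) (a : H) (Z : Module.End K W) :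
    R a⁻¹ * (R a * Z) = Z := by
  rw [← mul_assoc, R_inv_mul, one_mul]

theorem sg_R_mul_inv_cancel_right (R : H →* Module.End K W) (a : H) (Z : Module.End K W) :
    Z * R a * R a⁻¹ = Z := by
  rw [mul_assoc, R_mul_inv, mul_one]

/-- The subgroup of elements `h` with `R (τ h) = R h`. -/
def sgT0 (τ : MulAut H) (R : H →* Module.End K W) : Subgroup H where
  carrier := {h | R (τ h) = R h}
  mul_mem' := by
    intro a b ha hb
    show R (τ (a * b)) = R (a * b)
    rw [map_mul, map_mul, map_mul, (ha : R (τ a) = R a), (hb : R (τ b) = R b)]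
  one_mem' := by
    show R (τ 1) = R 1
    rw [map_one]
  inv_mem' := by
    intro a ha
    show R (τ a⁻¹) = R a⁻¹
    have h1 : R (τ a⁻¹) * R a = 1 := by
      rw [← (ha : R (τ a) = R a), ← map_mul, ← map_mul, inv_mul_cancel, map_one, map_one]
    calc R (τ a⁻¹) = R (τ a⁻¹) * (R a * R a⁻¹) := by rw [R_mul_inv, mul_one]
      _ = R a⁻¹ := by rw [← mul_assoc, h1, one_mul]

theorem mem_sgT0 (τ : MulAut H) (R : H →* Module.End K W) (h : H) :
    h ∈ sgT0 τ R ↔ R (τ h) = R h := Iff.rfl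

/-- The critical configuration in the proof of the Shult–Gross module theorem. -/
structure SGCrit (p n : ℕ) (α τ : MulAut H) (R : H →* Module.End K W) (X : Module.End K W) :
    Prop where
  hτ : τ = α ^ (p ^ (n - 1))
  hα : α ^ (p ^ n) = 1
  hX : X ^ (p ^ n) = 1
  hXR : ∀ h, X * R h = R (α h) * X
  hmin : ∀ L : Subgroup H, (∀ x ∈ L, α x ∈ L) → L ≠ ⊤ → L ≤ sgT0 τ R
  hne : sgT0 τ R ≠ ⊤

variable {p n : ℕ} {α τ : MulAut H} {R : H →* Module.End K W} {X : Module.End K W}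

theorem SGCrit.isUnit (hc : SGCrit p n α τ R X) (hp : 0 < p) : IsUnit X :=
  IsUnit.of_pow_eq_one hc.hX (pow_pos hp n).ne'

theorem SGCrit.tau_comm (hc : SGCrit p n α τ R X) (x : H) : τ (α x) = α (τ x) := by
  rw [hc.hτ]
  exact sg_pow_comm α _ x

theorem SGCrit.tau_pow (hc : SGCrit p n α τ R X) (hn : 1 ≤ n) : τ ^ p = 1 := by
  rw [hc.hτ, ← pow_mul, ← pow_succ, Nat.sub_add_cancel hn, hc.hα]

theorem SGCrit.exists_not_mem (hc : SGCrit p n α τ R X) : ∃ x, x ∉ sgT0 τ R := by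
  by_contra hcon
  apply hc.hne
  rw [eq_top_iff]
  intro x _
  by_contra hx
  exact hcon ⟨x, hx⟩

theorem SGCrit.R_alpha_eq (hc : SGCrit p n α τ R X) (hp : 0 < p) {x y : H} (h : R x = R y) :
    R (α x) = R (α y) := by
  have e : R (α x) * X = R (α y) * X := by rw [← hc.hXR, ← hc.hXR, h]
  exact (hc.isUnit hp).mul_left_inj.mp e

theorem SGCrit.R_alpha_comm (hc : SGCrit p n α τ R X) (hp : 0 < p) {c h : H}
    (hcomm : R c * R h = R h * R c) : R (α c) * R (α h) = R (α h) * R (α c) := by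
  have e : R (α c) * R (α h) * X = R (α h) * R (α c) * X := by
    calc R (α c) * R (α h) * X = R (α c) * (R (α h) * X) := mul_assoc _ _ _
      _ = R (α c) * (X * R h) := by rw [hc.hXR h]
      _ = R (α c) * X * R h := (mul_assoc _ _ _).symm
      _ = X * R c * R h := by rw [hc.hXR c]
      _ = X * (R c * R h) := mul_assoc _ _ _
      _ = X * (R h * R c) := by rw [hcomm]
      _ = X * R h * R c := (mul_assoc _ _ _).symm
      _ = R (α h) * X * R c := by rw [hc.hXR h]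
      _ = R (α h) * (X * R c) := mul_assoc _ _ _
      _ = R (α h) * (R (α c) * X) := by rw [hc.hXR c]
      _ = R (α h) * R (α c) * X := (mul_assoc _ _ _).symm
  exact (hc.isUnit hp).mul_left_inj.mp e

theorem SGCrit.T0_inv (hc : SGCrit p n α τ R X) (hp : 0 < p) :
    ∀ x ∈ sgT0 τ R, α x ∈ sgT0 τ R := by
  intro x hx
  rw [mem_sgT0] at hx ⊢
  rw [hc.tau_comm]
  exact hc.R_alpha_eq hp hx

theorem SGCrit.T0_tau (hc : SGCrit p n α τ R X) (hp : 0 < p) :
    ∀ x ∈ sgT0 τ R, τ x ∈ sgT0 τ R := by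
  have h1 := sg_pow_mem α _ (hc.T0_inv hp) (p ^ (n - 1))
  rw [← hc.hτ] at h1
  exact h1

/-- An `α`-invariant subgroup containing all `h⁻¹ τ(h)` is everything. -/
theorem SGCrit.top_of_mem (hc : SGCrit p n α τ R X) (hp : p.Prime) (hn : 1 ≤ n)
    (q : ℕ) (hq : q.Prime) (hpq : p ≠ q) (hH : IsPGroup q H) (L : Subgroup H)
    (hL : ∀ x ∈ L, α x ∈ L) (hmem : ∀ h, h⁻¹ * τ h ∈ L) : L = ⊤ := by
  by_contra hLtop
  have hLT := hc.hmin L hL hLtop
  apply hc.hne
  rw [eq_top_iff]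
  intro h _
  have hτp := hc.tau_pow hn
  have hTτ := hc.T0_tau hp.pos
  have hcT : h⁻¹ * τ h ∈ sgT0 τ R := hLT (hmem h)
  have h1 : ∀ k : ℕ, R ((τ ^ k) (h⁻¹ * τ h)) = R (h⁻¹ * τ h) := by
    intro k
    induction k with
    | zero => simp
    | succ k ih =>
      rw [pow_succ', MulAut.mul_apply]
      have h2 : (τ ^ k) (h⁻¹ * τ h) ∈ sgT0 τ R := sg_pow_mem τ _ hTτ k _ hcT
      rw [(mem_sgT0 τ R _).mp h2, ih]
  have h2 : ∀ k : ℕ, R ((τ ^ k) h) = R h * R (h⁻¹ * τ h) ^ k := by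
    intro k
    induction k with
    | zero => simp
    | succ k ih =>
      have h3 : (τ ^ (k + 1)) h = (τ ^ k) h * (τ ^ k) (h⁻¹ * τ h) := by
        rw [← map_mul, mul_inv_cancel_left, pow_succ, MulAut.mul_apply]
      rw [h3, map_mul, ih, h1, pow_succ, mul_assoc]
  have h3 := h2 p
  rw [hτp, MulAut.one_apply] at h3
  have h4 : R (h⁻¹ * τ h) ^ p = 1 := by
    have h5 : R h⁻¹ * R h = R h⁻¹ * (R h * R (h⁻¹ * τ h) ^ p) := by rw [← h3]
    rw [sg_R_inv_mul_cancel_left, R_inv_mul] at h5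
    exact h5.symm
  obtain ⟨m, hm⟩ := hH (h⁻¹ * τ h)
  have h5 : R (h⁻¹ * τ h) ^ (q ^ m) = 1 := by rw [← map_pow, hm, map_one]
  have hcop : Nat.Coprime p (q ^ m) :=
    Nat.Coprime.pow_right _ ((Nat.coprime_primes hp hq).mpr hpq)
  have h6 : R (h⁻¹ * τ h) = 1 := (pow_eq_one_iff_of_coprime hcop).mp ⟨h4, h5⟩
  rw [mem_sgT0]
  have h7 : R (τ h) = R h * R (h⁻¹ * τ h) := by rw [← map_mul, mul_inv_cancel_left]
  rw [h7, h6, mul_one]

theorem SGCrit.T0_normal [Finite H] (hc : SGCrit p n α τ R X) (hp : p.Prime) (q : ℕ)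
    [Fact q.Prime] (hH : IsPGroup q H) : (sgT0 τ R).Normal := by
  haveI : Group.IsNilpotent H := hH.isNilpotent
  have hP : 0 < p ^ n := pow_pos hp.pos n
  have hTi := hc.T0_inv hp.pos
  have hTi' := sg_inv_mem α (p ^ n) hP hc.hα _ hTi
  rw [← Subgroup.normalizer_eq_top_iff]
  by_contra hN
  have hNinv : ∀ g ∈ Subgroup.normalizer (sgT0 τ R : Set H),
      α g ∈ Subgroup.normalizer (sgT0 τ R : Set H) := by
    intro g hg
    rw [Subgroup.mem_normalizer_iff] at hg ⊢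
    intro x
    have h1 := hg (α⁻¹ x)
    constructor
    · intro hx
      have h2 := h1.mp (hTi' x hx)
      have h3 := hTi _ h2
      rwa [map_mul, map_mul, MulAut.apply_inv_self, map_inv] at h3
    · intro hx
      have h2 : g * α⁻¹ x * g⁻¹ ∈ sgT0 τ R := by
        have h3 := hTi' _ hx
        rwa [map_mul, map_mul, MulAut.inv_apply_self, map_inv, MulAut.inv_apply_self] at h3
      have h4 := hTi _ (h1.mpr h2)
      rwa [MulAut.apply_inv_self] at h4
  have h1 := hc.hmin _ hNinv hN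
  have h2 := Group.normalizerCondition_of_isNilpotent (sgT0 τ R) (lt_top_iff_ne_top.mpr hc.hne)
  exact lt_irrefl _ (lt_of_lt_of_le h2 h1)

theorem SGCrit.T0_central [Finite H] (hc : SGCrit p n α τ R X) (hp : p.Prime) (hn : 1 ≤ n)
    (q : ℕ) [Fact q.Prime] (hpq : p ≠ q) (hH : IsPGroup q H) :
    ∀ c ∈ sgT0 τ R, ∀ h, R c * R h = R h * R c := by
  haveI hN := hc.T0_normal hp q hH
  have hP : 0 < p ^ n := pow_pos hp.pos n
  have hTi := hc.T0_inv hp.pos
  have hTi' := sg_inv_mem α (p ^ n) hP hc.hα _ hTi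
  let Cent : Subgroup H :=
    { carrier := {h | ∀ c ∈ sgT0 τ R, R c * R h = R h * R c}
      mul_mem' := by
        intro a b ha hb c hcT
        rw [map_mul, ← mul_assoc, ha c hcT, mul_assoc, hb c hcT, mul_assoc]
      one_mem' := by
        intro c _
        rw [map_one, mul_one, one_mul]
      inv_mem' := by
        intro a ha c hcT
        calc R c * R a⁻¹ = R a⁻¹ * (R a * (R c * R a⁻¹)) := by rw [sg_R_inv_mul_cancel_left]
          _ = R a⁻¹ * (R c * R a * R a⁻¹) := by rw [← mul_assoc (R a), ← ha c hcT]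
          _ = R a⁻¹ * R c := by rw [sg_R_mul_inv_cancel_right] }
  have hCentα : ∀ x ∈ Cent, α x ∈ Cent := by
    intro x hx c hcT
    have h1 := hx (α⁻¹ c) (hTi' c hcT)
    have h2 := hc.R_alpha_comm hp.pos h1
    rwa [MulAut.apply_inv_self] at h2
  have hCentmem : ∀ h, h⁻¹ * τ h ∈ Cent := by
    intro h c hcT
    have hconj : h * c * h⁻¹ ∈ sgT0 τ R := hN.conj_mem c hcT h
    have e1 : R (τ h) * R c * R (τ h⁻¹) = R h * R c * R h⁻¹ := by
      have h1 := (mem_sgT0 τ R _).mp hconj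
      simp only [map_mul] at h1
      rw [(mem_sgT0 τ R c).mp hcT] at h1
      exact h1
    have e2 : R (τ h⁻¹) * R (τ h) = 1 := by
      rw [← map_mul, ← map_mul, inv_mul_cancel, map_one, map_one]
    calc R c * R (h⁻¹ * τ h) = R h⁻¹ * (R h * (R c * R h⁻¹ * R (τ h))) := by
          rw [sg_R_inv_mul_cancel_left, map_mul, mul_assoc]
      _ = R h⁻¹ * (R h * R c * R h⁻¹ * R (τ h)) := by simp only [mul_assoc]
      _ = R h⁻¹ * (R (τ h) * R c * R (τ h⁻¹) * R (τ h)) := by rw [e1]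
      _ = R h⁻¹ * (R (τ h) * R c * (R (τ h⁻¹) * R (τ h))) := by simp only [mul_assoc]
      _ = R (h⁻¹ * τ h) * R c := by rw [e2, mul_one, map_mul, mul_assoc]
  have hCtop := hc.top_of_mem hp hn q Fact.out hpq hH Cent hCentα hCentmem
  intro c hcT h
  have hh : h ∈ Cent := by
    rw [hCtop]
    trivial
  exact hh c hcT

theorem SGCrit.comm_mem [Finite H] (hc : SGCrit p n α τ R X) (hp : p.Prime) (q : ℕ)
    [Fact q.Prime] (hH : IsPGroup q H) (u v : H) : u * v * u⁻¹ * v⁻¹ ∈ sgT0 τ R := by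
  haveI hN := hc.T0_normal hp q hH
  haveI : Group.IsNilpotent H := hH.isNilpotent
  have hTi := hc.T0_inv hp.pos
  have hLα : ∀ x ∈ sgT0 τ R ⊔ commutator H, α x ∈ sgT0 τ R ⊔ commutator H := by
    intro x hx
    have h1 : (sgT0 τ R ⊔ commutator H).map α.toMonoidHom ≤ sgT0 τ R ⊔ commutator H := by
      rw [Subgroup.map_sup]
      apply sup_le_sup
      · rintro _ ⟨y, hy, rfl⟩
        exact hTi y hy
      · exact le_of_eq (Subgroup.characteristic_iff_map_eq.mp inferInstance α)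
    exact h1 ⟨x, hx, rfl⟩
  have hLne : sgT0 τ R ⊔ commutator H ≠ ⊤ := by
    intro htop
    obtain ⟨x, hx⟩ := hc.exists_not_mem
    haveI : Nontrivial (H ⧸ sgT0 τ R) :=
      nontrivial_of_ne (QuotientGroup.mk x) 1 (fun h => hx ((QuotientGroup.eq_one_iff x).mp h))
    have h1 := Group.IsSolvable.commutator_lt_top_of_nontrivial (H ⧸ sgT0 τ R)
    have h2 : (sgT0 τ R ⊔ commutator H).map (QuotientGroup.mk' (sgT0 τ R))
        ≤ commutator (H ⧸ sgT0 τ R) := by
      rw [Subgroup.map_sup]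
      apply sup_le
      · rintro _ ⟨y, hy, rfl⟩
        rw [QuotientGroup.mk'_apply, (QuotientGroup.eq_one_iff y).mpr hy]
        exact Subgroup.one_mem _
      · rw [commutator_def, Subgroup.map_commutator, commutator_def]
        exact Subgroup.commutator_mono le_top le_top
    rw [htop, ← MonoidHom.range_eq_map,
      MonoidHom.range_eq_top.mpr (QuotientGroup.mk'_surjective _)] at h2
    exact lt_irrefl _ (lt_of_lt_of_le h1 h2)
  have hle := hc.hmin _ hLα hLne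
  apply hle
  apply Subgroup.mem_sup_right
  rw [commutator_def]
  have h3 := Subgroup.commutator_mem_commutator (Subgroup.mem_top u) (Subgroup.mem_top v)
  rwa [commutatorElement_def] at h3

theorem SGCrit.dagger [Finite H] (hc : SGCrit p n α τ R X) (hp : p.Prime) (hn : 1 ≤ n)
    (q : ℕ) [Fact q.Prime] (hpq : p ≠ q) (hH : IsPGroup q H) (h : H)
    (hh : h⁻¹ * τ h ∈ sgT0 τ R) : h ∈ sgT0 τ R := by
  haveI hN := hc.T0_normal hp q hH
  let E : Subgroup H :=
    { carrier := {h | h⁻¹ * τ h ∈ sgT0 τ R}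
      mul_mem' := by
        intro a b ha hb
        show (a * b)⁻¹ * τ (a * b) ∈ sgT0 τ R
        have h1 : (a * b)⁻¹ * τ (a * b) = b⁻¹ * (a⁻¹ * τ a) * b⁻¹⁻¹ * (b⁻¹ * τ b) := by
          rw [map_mul]
          group
        rw [h1]
        exact Subgroup.mul_mem _ (hN.conj_mem _ ha b⁻¹) hb
      one_mem' := by
        show (1 : H)⁻¹ * τ 1 ∈ sgT0 τ R
        rw [map_one, inv_one, one_mul]
        exact Subgroup.one_mem _
      inv_mem' := by
        intro a ha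
        show (a⁻¹)⁻¹ * τ a⁻¹ ∈ sgT0 τ R
        have h1 : (a⁻¹)⁻¹ * τ a⁻¹ = a * (a⁻¹ * τ a)⁻¹ * a⁻¹ := by
          rw [map_inv]
          group
        rw [h1]
        exact hN.conj_mem _ (Subgroup.inv_mem _ ha) a }
  have hEα : ∀ x ∈ E, α x ∈ E := by
    intro x hx
    show (α x)⁻¹ * τ (α x) ∈ sgT0 τ R
    have h1 : (α x)⁻¹ * τ (α x) = α (x⁻¹ * τ x) := by rw [hc.tau_comm, map_mul, map_inv]
    rw [h1]
    exact hc.T0_inv hp.pos _ hx
  have hEne : E ≠ ⊤ := by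
    intro htop
    apply hc.hne
    apply hc.top_of_mem hp hn q Fact.out hpq hH _ (hc.T0_inv hp.pos)
    intro g
    have hg : g ∈ E := by
      rw [htop]
      trivial
    exact hg
  exact hc.hmin E hEα hEne hh

theorem SGCrit.central_mem (hc : SGCrit p n α τ R X) (hp : p.Prime)
    (hnc : ∃ u v, R u * R v ≠ R v * R u) (u : H) (hu : ∀ h, R u * R h = R h * R u) :
    u ∈ sgT0 τ R := by
  let Z1 : Subgroup H :=
    { carrier := {u | ∀ h, R u * R h = R h * R u}
      mul_mem' := by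
        intro a b ha hb h
        rw [map_mul, mul_assoc, hb h, ← mul_assoc, ha h, mul_assoc]
      one_mem' := by
        intro h
        rw [map_one, one_mul, mul_one]
      inv_mem' := by
        intro a ha h
        calc R a⁻¹ * R h = R a⁻¹ * (R h * R a * R a⁻¹) := by rw [sg_R_mul_inv_cancel_right]
          _ = R a⁻¹ * (R a * (R h * R a⁻¹)) := by rw [← ha h, mul_assoc]
          _ = R h * R a⁻¹ := by rw [sg_R_inv_mul_cancel_left] }
  have hZα : ∀ x ∈ Z1, α x ∈ Z1 := by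
    intro x hx h
    have h1 := hc.R_alpha_comm hp.pos (hx (α⁻¹ h))
    rwa [MulAut.apply_inv_self] at h1
  have hZne : Z1 ≠ ⊤ := by
    intro htop
    obtain ⟨a, b, hab⟩ := hnc
    have ha : a ∈ Z1 := by
      rw [htop]
      trivial
    exact hab (ha b)
  exact hc.hmin Z1 hZα hZne hu

theorem SGCrit.semireg [Finite H] (hc : SGCrit p n α τ R X) (hp : p.Prime) (hn : 1 ≤ n)
    (q : ℕ) [Fact q.Prime] (hpq : p ≠ q) (hH : IsPGroup q H) (m : ℕ) (hm0 : 0 < m)
    (hm : m < p ^ n) (h : H) (hh : h⁻¹ * (α ^ m) h ∈ sgT0 τ R) : h ∈ sgT0 τ R := by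
  obtain ⟨k, hk⟩ := sg_exists_pow_eq α p n m hp hc.hα hm0 hm
  have hTm : ∀ x ∈ sgT0 τ R, (α ^ m) x ∈ sgT0 τ R := sg_pow_mem α _ (hc.T0_inv hp.pos) m
  have h1 : ∀ j : ℕ, h⁻¹ * ((α ^ m) ^ j) h ∈ sgT0 τ R := by
    intro j
    induction j with
    | zero =>
      rw [pow_zero, MulAut.one_apply, inv_mul_cancel]
      exact Subgroup.one_mem _
    | succ j ih =>
      have h2 : h⁻¹ * ((α ^ m) ^ (j + 1)) h
          = (h⁻¹ * ((α ^ m) ^ j) h) * ((α ^ m) ^ j) (h⁻¹ * (α ^ m) h) := by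
        rw [pow_succ, MulAut.mul_apply, map_mul, map_inv]
        group
      rw [h2]
      exact Subgroup.mul_mem _ ih (sg_pow_mem (α ^ m) _ hTm j _ hh)
  have h3 := h1 k
  rw [hk, ← hc.hτ] at h3
  exact hc.dagger hp hn q hpq hH h h3

theorem SGCrit.index_dvd [Finite H] (hc : SGCrit p n α τ R X) (hp : p.Prime) (hn : 1 ≤ n)
    (q : ℕ) [Fact q.Prime] (hpq : p ≠ q) (hH : IsPGroup q H) :
    p ^ n ∣ (sgT0 τ R).index - 1 := by
  classical
  haveI hN := hc.T0_normal hp q hH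
  let _ : Fintype (H ⧸ sgT0 τ R) := Fintype.ofFinite _
  have hTi := hc.T0_inv hp.pos
  have hP : 0 < p ^ n := pow_pos hp.pos n
  have hπP : ((quotAut α (sgT0 τ R) hTi : MulAut (H ⧸ sgT0 τ R)).toEquiv :
      Equiv.Perm (H ⧸ sgT0 τ R)) ^ (p ^ n) = 1 := by
    ext ω
    obtain ⟨u, rfl⟩ := QuotientGroup.mk_surjective ω
    rw [sg_quot_perm_pow_mk, hc.hα]
    rfl
  have hπ1 : ((quotAut α (sgT0 τ R) hTi : MulAut (H ⧸ sgT0 τ R)).toEquiv :
      Equiv.Perm (H ⧸ sgT0 τ R)) 1 = 1 := map_one (quotAut α (sgT0 τ R) hTi)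
  have hπfpf : ∀ i, 0 < i → i < p ^ n → ∀ ω,
      (((quotAut α (sgT0 τ R) hTi : MulAut (H ⧸ sgT0 τ R)).toEquiv :
        Equiv.Perm (H ⧸ sgT0 τ R)) ^ i) ω = ω → ω = 1 := by
    intro i hi0 hi ω hω
    obtain ⟨u, rfl⟩ := QuotientGroup.mk_surjective ω
    rw [sg_quot_perm_pow_mk] at hω
    have h1 : ((α ^ i) u)⁻¹ * u ∈ sgT0 τ R := QuotientGroup.eq.mp hω
    have h2 : u⁻¹ * (α ^ i) u ∈ sgT0 τ R := by
      have h3 := Subgroup.inv_mem _ h1
      rwa [mul_inv_rev, inv_inv] at h3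
    exact (QuotientGroup.eq_one_iff u).mpr (hc.semireg hp hn q hpq hH i hi0 hi u h2)
  have hnt : ∃ ω : H ⧸ sgT0 τ R, ω ≠ 1 := by
    obtain ⟨x, hx⟩ := hc.exists_not_mem
    exact ⟨QuotientGroup.mk x, fun h => hx ((QuotientGroup.eq_one_iff x).mp h)⟩
  have horb := orbit_count _ (p ^ n) hP hπP 1 hπ1 hπfpf hnt
  rw [← Subgroup.index_eq_card] at horb
  obtain ⟨o, ho⟩ : ∃ o, o = Nat.card (MulAction.orbitRel.Quotient (Subgroup.zpowers
    ((quotAut α (sgT0 τ R) hTi : MulAut (H ⧸ sgT0 τ R)).toEquiv :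
      Equiv.Perm (H ⧸ sgT0 τ R))) (H ⧸ sgT0 τ R)) := ⟨_, rfl⟩
  rw [← ho] at horb
  refine ⟨o - 1, ?_⟩
  rw [Nat.mul_sub_one]
  generalize p ^ n * o = x at *
  omega

end SGCrit

end Cfsg.Agent.Lib.helper75
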