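import Mathlib

set_option autoImplicit false

namespace Cfsg.Agent.Lib.helper75

/-- Number theory for the exceptional case of the Shult–Gross theorem: if `p ^ n1 = 2 ^ b + 1`
with `p` odd and `p ^ (n1 + a)` divides `2 ^ f - 1` (`f ≥ 1`), then `2 * b * p ^ a ≤ f`. -/
theorem sg_nt (p : ℕ) (hp : p.Prime) (hp2 : p ≠ 2) (b n1 a f : ℕ)
    (h1 : p ^ n1 = 2 ^ b + 1) (hf : 1 ≤ f) (hdiv : p ^ (n1 + a) ∣ 2 ^ f - 1) :
    2 * b * p ^ a ≤ f := by
  haveI : Fact p.Prime := ⟨hp⟩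
  have hodd : Odd p := hp.odd_of_ne_two hp2
  have hn1 : n1 ≠ 0 := by
    intro h0
    rw [h0, pow_zero] at h1
    have : 0 < 2 ^ b := by positivity
    omega
  have hb : 1 ≤ b := by
    by_contra hb0
    have hb0' : b = 0 := by omega
    rw [hb0', pow_zero] at h1
    have h2 : p ∣ 2 := by
      have h3 : p ∣ p ^ n1 := dvd_pow_self p hn1
      rw [h1] at h3
      exact h3
    exact hp2 ((Nat.prime_dvd_prime_iff_eq hp Nat.prime_two).mp h2)
  have h2b : 1 ≤ 2 ^ b := Nat.one_le_two_pow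
  have hfac : 2 ^ (2 * b) - 1 = (2 ^ b - 1) * (2 ^ b + 1) := by
    have h3 : 2 ^ (2 * b) = 2 ^ b * 2 ^ b := by rw [two_mul, pow_add]
    rw [h3]
    zify [h2b, Nat.one_le_iff_ne_zero.mpr (mul_ne_zero (by positivity : (2 : ℕ) ^ b ≠ 0)
      (by positivity : (2 : ℕ) ^ b ≠ 0))]
    ring
  have hd1 : p ^ n1 ∣ 2 ^ f - 1 := dvd_trans (pow_dvd_pow p (Nat.le_add_right n1 a)) hdiv
  have hd2 : p ^ n1 ∣ 2 ^ (2 * b) - 1 := by
    rw [hfac, h1]
    exact dvd_mul_left _ _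
  have hd3 : p ^ n1 ∣ 2 ^ Nat.gcd f (2 * b) - 1 := by
    rw [← Nat.pow_sub_one_gcd_pow_sub_one]
    exact Nat.dvd_gcd hd1 hd2
  have hgpos : 0 < Nat.gcd f (2 * b) := Nat.gcd_pos_of_pos_left _ hf
  have hg1 : b < Nat.gcd f (2 * b) := by
    by_contra hcon
    have hle : Nat.gcd f (2 * b) ≤ b := by omega
    have h3 : 2 ^ Nat.gcd f (2 * b) ≤ 2 ^ b := Nat.pow_le_pow_right (by norm_num) hle
    have h4 : 0 < 2 ^ Nat.gcd f (2 * b) - 1 := by
      have : 2 ^ 1 ≤ 2 ^ Nat.gcd f (2 * b) := Nat.pow_le_pow_right (by norm_num) hgpos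
      omega
    have h5 := Nat.le_of_dvd h4 hd3
    omega
  have hg2 : Nat.gcd f (2 * b) = 2 * b := by
    obtain ⟨k, hk⟩ := Nat.gcd_dvd_right f (2 * b)
    rcases Nat.lt_or_ge k 2 with hk2 | hk2
    · have hk1 : k = 1 := by
        rcases Nat.eq_zero_or_pos k with h0 | h0
        · rw [h0, mul_zero] at hk
          omega
        · omega
      rw [hk1, mul_one] at hk
      exact hk.symm
    · exfalso
      have : Nat.gcd f (2 * b) * 2 ≤ Nat.gcd f (2 * b) * k := Nat.mul_le_mul_left _ hk2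
      omega
  obtain ⟨j, hj⟩ : 2 * b ∣ f := by
    rw [← hg2]
    exact Nat.gcd_dvd_left _ _
  have hj0 : j ≠ 0 := by
    intro h0
    rw [h0, mul_zero] at hj
    omega
  -- lifting the exponent
  have hx1 : (1 : ℕ) < 2 ^ (2 * b) := by
    have : 2 ^ 1 ≤ 2 ^ (2 * b) := Nat.pow_le_pow_right (by norm_num) (by omega)
    omega
  have hpd : p ∣ 2 ^ (2 * b) - 1 := dvd_trans (dvd_pow_self p hn1) hd2
  have hpnd : ¬ p ∣ 2 ^ (2 * b) := by
    intro h
    have h3 : p ∣ 2 := hp.dvd_of_dvd_pow h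
    exact hp2 ((Nat.prime_dvd_prime_iff_eq hp Nat.prime_two).mp h3)
  have hlte := padicValNat.pow_sub_pow hodd hx1 hpd hpnd hj0
  rw [one_pow, ← pow_mul, ← hj] at hlte
  -- valuation of 2^(2b) - 1 is n1
  have hv1 : padicValNat p (2 ^ (2 * b) - 1) = n1 := by
    rw [hfac, ← h1]
    have hcop : ¬ p ∣ 2 ^ b - 1 := by
      intro h
      have h3 : p ∣ p ^ n1 := dvd_pow_self p hn1
      rw [h1] at h3
      have h4 : p ∣ (2 ^ b + 1) - (2 ^ b - 1) := Nat.dvd_sub h3 h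
      have h5 : (2 ^ b + 1) - (2 ^ b - 1) = 2 := by omega
      rw [h5] at h4
      exact hp2 ((Nat.prime_dvd_prime_iff_eq hp Nat.prime_two).mp h4)
    have hne1 : 2 ^ b - 1 ≠ 0 := by
      intro h0
      rw [h0] at hcop
      exact hcop (dvd_zero p)
    rw [padicValNat.mul hne1 (pow_ne_zero _ hp.ne_zero), padicValNat.prime_pow,
      padicValNat.eq_zero_of_not_dvd hcop, zero_add]
  have hfpos : 2 ^ f - 1 ≠ 0 := by
    have : 2 ^ 1 ≤ 2 ^ f := Nat.pow_le_pow_right (by norm_num) hf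
    omega
  have hv2 : n1 + a ≤ padicValNat p (2 ^ f - 1) :=
    (padicValNat_dvd_iff_le hfpos).mp hdiv
  rw [hlte, hv1] at hv2
  have hv3 : a ≤ padicValNat p j := by omega
  have hpj : p ^ a ∣ j := (padicValNat_dvd_iff_le hj0).mpr hv3
  have hle : p ^ a ≤ j := Nat.le_of_dvd (Nat.pos_of_ne_zero hj0) hpj
  rw [hj]
  exact Nat.mul_le_mul_left _ hle

end Cfsg.Agent.Lib.helper75
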