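import Mathlib
import Cfsg.Agent.Lib.helper66.ExtraRepA
import Cfsg.Agent.Lib.helper66.ExtraRepC
import Cfsg.Agent.Lib.helper1.ThompsonFpf
import Cfsg.Agent.Lib.helper75.SGAut
import Cfsg.Agent.Lib.helper75.SGBlock

set_option autoImplicit false

namespace Cfsg.Agent.Lib.helper75

open Module Cfsg.Agent.Lib.helper66 Cfsg.Agent.Lib.helper1

section SGFinal

/-- Dimension count for a primitive irreducible system of class two (via `extra_core`). -/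
theorem sg_final {K : Type*} [Field K] [IsAlgClosed K] {V : Type*} [AddCommGroup V]
    [Module K V] [FiniteDimensional K V] [Nontrivial V] {H : Type*} [Group H] [Finite H]
    (q : ℕ) [Fact q.Prime] (hH : IsPGroup q H) (hqK : (q : K) ≠ 0)
    (𝓡 : H →* Module.End K V) (S : Module.End K V) (β : MulAut H) (M : ℕ) (hM0 : 0 < M)
    (hMK : (M : K) ≠ 0) (hS𝓡 : ∀ h, S * 𝓡 h = 𝓡 (β h) * S) (hSM : S ^ M = 1)
    (hβM : β ^ M = 1)
    (hirr : ∀ U : Submodule K V, (∀ h, ∀ w ∈ U, 𝓡 h w ∈ U) → (∀ w ∈ U, S w ∈ U) →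
      U = ⊥ ∨ U = ⊤)
    (hcomm : ∀ A : Module.End K V, (∀ h, A * 𝓡 h = 𝓡 h * A) →
      ∃ c : K, A = c • (1 : Module.End K V))
    (hcl2 : ∀ u v h : H, 𝓡 (u * v * u⁻¹ * v⁻¹) * 𝓡 h = 𝓡 h * 𝓡 (u * v * u⁻¹ * v⁻¹))
    (hfpf : ∀ i, 0 < i → i < M → ∀ u, (∃ c : K, 𝓡 ((β ^ i) u) = c • 𝓡 u) →
      ∃ c : K, 𝓡 u = c • (1 : Module.End K V))
    (hfix : ∀ w, S w = w → w = 0) :
    (finrank K V = 1 ∨ finrank K V + 1 = M) ∧
    (∀ U : Submodule K V, (∀ h, ∀ w ∈ U, 𝓡 h w ∈ U) → U = ⊥ ∨ U = ⊤) ∧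
    ∃ Z : Subgroup H, (∀ u, u ∈ Z ↔ ∃ c : K, 𝓡 u = c • (1 : Module.End K V)) ∧
      Z.index = finrank K V ^ 2 := by
  classical
  obtain ⟨S', -, hS'2⟩ : ∃ S' : Module.End K V, S' * S = 1 ∧ S * S' = 1 := by
    refine ⟨S ^ (M - 1), ?_, ?_⟩
    · rw [← pow_succ, Nat.sub_add_cancel hM0, hSM]
    · rw [← pow_succ', Nat.sub_add_cancel hM0, hSM]
  have hker : ∀ x ∈ 𝓡.ker, β x ∈ 𝓡.ker := by
    intro x hx
    rw [MonoidHom.mem_ker] at hx ⊢
    have h1 := hS𝓡 x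
    rw [hx, mul_one] at h1
    have h2 : 𝓡 (β x) = 𝓡 (β x) * S * S' := by rw [mul_assoc, hS'2, mul_one]
    rw [h2, ← h1, hS'2]
  let _ : Fintype (H ⧸ 𝓡.ker) := Fintype.ofFinite _
  obtain ⟨Rq, hRq⟩ : ∃ Rq : H ⧸ 𝓡.ker →* Module.End K V,
      ∀ u : H, Rq (QuotientGroup.mk u) = 𝓡 u :=
    ⟨QuotientGroup.lift 𝓡.ker 𝓡 le_rfl, fun u => rfl⟩
  have hRqinj : Function.Injective Rq := by
    intro g g' hgg
    obtain ⟨u, rfl⟩ := QuotientGroup.mk_surjective g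
    obtain ⟨v, rfl⟩ := QuotientGroup.mk_surjective g'
    rw [hRq, hRq] at hgg
    apply QuotientGroup.eq.mpr
    rw [MonoidHom.mem_ker, map_mul, ← hgg, ← map_mul, inv_mul_cancel, map_one]
  have hcen : ∀ u : H, (QuotientGroup.mk u : H ⧸ 𝓡.ker) ∈ Subgroup.center (H ⧸ 𝓡.ker)
      ↔ ∃ c : K, 𝓡 u = c • (1 : Module.End K V) := by
    intro u
    constructor
    · intro hu
      apply hcomm
      intro h
      have h1 := Subgroup.mem_center_iff.mp hu (QuotientGroup.mk h)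
      have h2 := congrArg Rq h1
      rw [map_mul, map_mul, hRq, hRq] at h2
      exact h2.symm
    · rintro ⟨c, hc⟩
      rw [Subgroup.mem_center_iff]
      intro g
      obtain ⟨h, rfl⟩ := QuotientGroup.mk_surjective g
      apply hRqinj
      rw [map_mul, map_mul, hRq, hRq, hc, smul_mul_assoc, one_mul, mul_smul_comm, mul_one]
  have hd : ExtraData Rq := by
    refine ⟨?_, ?_, ?_⟩
    · intro g hg
      obtain ⟨u, rfl⟩ := QuotientGroup.mk_surjective g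
      rw [hRq]
      exact (hcen u).mp hg
    · intro g _ hg1
      exact hRqinj (by rw [hg1, map_one])
    · intro g g'
      obtain ⟨u, rfl⟩ := QuotientGroup.mk_surjective g
      obtain ⟨v, rfl⟩ := QuotientGroup.mk_surjective g'
      rw [Subgroup.mem_center_iff]
      intro k
      obtain ⟨h, rfl⟩ := QuotientGroup.mk_surjective k
      apply hRqinj
      have h1 : ((QuotientGroup.mk u : H ⧸ 𝓡.ker) * QuotientGroup.mk v * (QuotientGroup.mk u)⁻¹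
          * (QuotientGroup.mk v)⁻¹) = QuotientGroup.mk (u * v * u⁻¹ * v⁻¹) := rfl
      rw [h1, map_mul, map_mul, hRq, hRq]
      exact (hcl2 u v h).symm
  have hX : ∀ g : H ⧸ 𝓡.ker, S * Rq g
      = Rq ((quotAut β 𝓡.ker hker : MulAut (H ⧸ 𝓡.ker)) g) * S := by
    intro g
    obtain ⟨u, rfl⟩ := QuotientGroup.mk_surjective g
    rw [quotAut_mk, hRq, hRq]
    exact hS𝓡 u
  have hσh : (quotAut β 𝓡.ker hker : MulAut (H ⧸ 𝓡.ker)) ^ M = 1 := by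
    refine MulEquiv.ext fun g => ?_
    obtain ⟨u, rfl⟩ := QuotientGroup.mk_surjective g
    rw [sg_quot_pow_mk, hβM]
    rfl
  have hfpf' : ∀ i, 0 < i → i < M → ∀ g : H ⧸ 𝓡.ker,
      ((quotAut β 𝓡.ker hker : MulAut (H ⧸ 𝓡.ker)) ^ i) g * g⁻¹
        ∈ Subgroup.center (H ⧸ 𝓡.ker) → g ∈ Subgroup.center (H ⧸ 𝓡.ker) := by
    intro i hi0 hiM g hg
    obtain ⟨u, rfl⟩ := QuotientGroup.mk_surjective g
    rw [sg_quot_pow_mk] at hg
    have h1 : ((QuotientGroup.mk ((β ^ i) u) : H ⧸ 𝓡.ker) * (QuotientGroup.mk u)⁻¹)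
        = QuotientGroup.mk ((β ^ i) u * u⁻¹) := rfl
    rw [h1, hcen] at hg
    obtain ⟨c, hc⟩ := hg
    rw [hcen]
    apply hfpf i hi0 hiM u
    refine ⟨c, ?_⟩
    have h2 : 𝓡 ((β ^ i) u) = 𝓡 ((β ^ i) u * u⁻¹) * 𝓡 u := by
      rw [← map_mul, inv_mul_cancel_right]
    rw [h2, hc, smul_mul_assoc, one_mul]
  have hirr' : ∀ U : Submodule K V, (∀ g : H ⧸ 𝓡.ker, ∀ w ∈ U, Rq g w ∈ U) →
      (∀ w ∈ U, S w ∈ U) → U = ⊥ ∨ U = ⊤ :=
    fun U hU hS => hirr U (fun h w hw => by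
      have h1 := hU (QuotientGroup.mk h) w hw
      rwa [hRq] at h1) hS
  have hQK : (Fintype.card (H ⧸ 𝓡.ker) : K) ≠ 0 := by
    have h1 : IsPGroup q (H ⧸ 𝓡.ker) := hH.to_quotient 𝓡.ker
    obtain ⟨k, hk⟩ := IsPGroup.iff_card.mp h1
    rw [← Nat.card_eq_fintype_card, hk, Nat.cast_pow]
    exact pow_ne_zero _ hqK
  obtain ⟨c1, -, c3⟩ := extra_core Rq S
    (quotAut β 𝓡.ker hker : MulAut (H ⧸ 𝓡.ker)) M hM0 hd hX hSM hσh hfpf' hirr' hQK hMK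
  refine ⟨c3 hfix, ?_, ?_⟩
  · intro U hU
    have hUS := X_invariant hd S (quotAut β 𝓡.ker hker : MulAut (H ⧸ 𝓡.ker)) M hM0 hX hSM
      (fun h1 g hg => hfpf' 1 one_pos h1 g (by simpa using hg)) hirr' hQK U
      (fun g w hw => by
        obtain ⟨u, rfl⟩ := QuotientGroup.mk_surjective g
        rw [hRq]
        exact hU u w hw)
    exact hirr U hU hUS
  · refine ⟨(Subgroup.center (H ⧸ 𝓡.ker)).comap (QuotientGroup.mk' 𝓡.ker), fun u => ?_, ?_⟩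
    · rw [Subgroup.mem_comap]
      exact hcen u
    · rw [Subgroup.index_comap_of_surjective _ (QuotientGroup.mk'_surjective _), c1]

end SGFinal

end Cfsg.Agent.Lib.helper75
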