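import Mathlib
import Cfsg.Agent.Lib.helper66.ExtraRepA
import Cfsg.Agent.Lib.helper66.ExtraRepC
import Cfsg.Agent.Lib.helper1.ThompsonFpf
import Cfsg.Agent.Lib.helper75.HHDeg
import Cfsg.Agent.Lib.helper75.SGArith
import Cfsg.Agent.Lib.helper75.SGAut
import Cfsg.Agent.Lib.helper75.SGBlock
import Cfsg.Agent.Lib.helper75.SGCrit
import Cfsg.Agent.Lib.helper75.SGFinal

set_option autoImplicit false

namespace Cfsg.Agent.Lib.helper75

open Module Cfsg.Agent.Lib.helper66 Cfsg.Agent.Lib.helper1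

section SGIrr

variable {K : Type*} [Field K] {W : Type*} [AddCommGroup W] [Module K W] {H : Type*} [Group H]

theorem sg_smul_one_inj {V : Type*} [AddCommGroup V] [Module K V] [Nontrivial V] {c c' : K}
    (h : c • (1 : Module.End K V) = c' • (1 : Module.End K V)) : c = c' := by
  obtain ⟨v, hv⟩ := exists_ne (0 : V)
  have h1 := congrArg (fun F : Module.End K V => F v) h
  simp only [LinearMap.smul_apply, Module.End.one_apply] at h1
  have h2 : (c - c') • v = 0 := by rw [sub_smul, h1, sub_self]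
  rcases smul_eq_zero.mp h2 with h3 | h3
  · exact sub_eq_zero.mp h3
  · exact absurd h3 hv

theorem sg_scalar_of_finrank_one {V : Type*} [AddCommGroup V] [Module K V]
    (h1 : finrank K V = 1) (A : Module.End K V) : ∃ c : K, A = c • (1 : Module.End K V) := by
  obtain ⟨v, -, hv⟩ := finrank_eq_one_iff'.mp h1
  obtain ⟨c, hcv⟩ := hv (A v)
  refine ⟨c, ?_⟩
  ext w
  obtain ⟨d, rfl⟩ := hv w
  rw [map_smul, ← hcv, LinearMap.smul_apply, Module.End.one_apply, smul_comm]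

theorem sg_res_congr (R : H →* Module.End K W) (Y : Submodule K W)
    (hY : ∀ h, ∀ y ∈ Y, R h y ∈ Y) {x y : H} (h : R x = R y) :
    sgRes R Y hY x = sgRes R Y hY y := by
  ext w
  rw [sgRes_apply, sgRes_apply, h]

theorem SGBlock.S_R {p n : ℕ} {R : H →* Module.End K W} {X : Module.End K W}
    {Y : Submodule K W} {a : ℕ} (hB : SGBlock p n R X Y a) (α : MulAut H)
    (hXR : ∀ h, X * R h = R (α h) * X) (h : H) :
    ((X ^ (p ^ a)).restrict hB.hS : Module.End K Y) * sgRes R Y hB.hR h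
      = sgRes R Y hB.hR ((α ^ (p ^ a)) h) * ((X ^ (p ^ a)).restrict hB.hS : Module.End K Y) := by
  ext y
  exact sg_Xpow_R_apply R X α hXR (p ^ a) h (y : W)

theorem SGBlock.S_pow {p n : ℕ} {R : H →* Module.End K W} {X : Module.End K W}
    {Y : Submodule K W} {a : ℕ} (hB : SGBlock p n R X Y a) (hXP : X ^ (p ^ n) = 1) :
    ((X ^ (p ^ a)).restrict hB.hS : Module.End K Y) ^ (p ^ (n - a)) = 1 := by
  ext y
  rw [sg_restrict_pow_apply, ← pow_mul, ← pow_add, Nat.add_sub_cancel' hB.ha, hXP]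
  rfl

theorem sg_conj_scalar {V : Type*} [AddCommGroup V] [Module K V] (𝓡 : H →* Module.End K V)
    (S : Module.End K V) (β : MulAut H) (hS𝓡 : ∀ h, S * 𝓡 h = 𝓡 (β h) * S) (hS : IsUnit S)
    (k : ℕ) (x : H) (c : K) (hx : 𝓡 x = c • (1 : Module.End K V)) :
    𝓡 ((β ^ k) x) = c • (1 : Module.End K V) := by
  induction k generalizing x with
  | zero => simpa using hx
  | succ k ih =>
    rw [pow_succ, MulAut.mul_apply]
    apply ih
    have h1 := hS𝓡 x
    rw [hx] at h1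
    have h2 : (c • (1 : Module.End K V)) * S = 𝓡 (β x) * S := by
      rw [← h1, smul_mul_assoc, one_mul, mul_smul_comm, mul_one]
    exact (hS.mul_left_inj.mp h2).symm

theorem sg_comm_scalar_one {V : Type*} [AddCommGroup V] [Module K V] (𝓡 : H →* Module.End K V)
    (u v : H) (κ : K) (hκ : 𝓡 u = κ • (1 : Module.End K V)) :
    𝓡 (u * v * u⁻¹ * v⁻¹) = 1 := by
  have h1 : 𝓡 u * 𝓡 v = 𝓡 v * 𝓡 u := by
    rw [hκ, smul_mul_assoc, one_mul, mul_smul_comm, mul_one]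
  rw [map_mul, map_mul, map_mul, h1, mul_assoc (𝓡 v), R_mul_inv, mul_one, R_mul_inv]

/-- The subgroup of elements acting as scalars. -/
def sgScal {V : Type*} [AddCommGroup V] [Module K V] (𝓡 : H →* Module.End K V) : Subgroup H where
  carrier := {u | ∃ c : K, 𝓡 u = c • (1 : Module.End K V)}
  mul_mem' := by
    rintro a b ⟨c, hc⟩ ⟨d, hd⟩
    exact ⟨c * d, by rw [map_mul, hc, hd, smul_mul_smul_comm, mul_one]⟩
  one_mem' := ⟨1, by rw [map_one, one_smul]⟩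
  inv_mem' := by
    rintro a ⟨c, hc⟩
    refine ⟨c⁻¹, ?_⟩
    by_cases hc0 : c = 0
    · have h1 : (1 : Module.End K V) = 0 := by
        rw [← R_inv_mul 𝓡 a, hc, hc0, zero_smul, mul_zero]
      rw [hc0, inv_zero, zero_smul]
      calc 𝓡 a⁻¹ = 𝓡 a⁻¹ * 1 := (mul_one _).symm
        _ = 0 := by rw [h1, mul_zero]
    · calc 𝓡 a⁻¹ = c⁻¹ • (𝓡 a⁻¹ * (c • (1 : Module.End K V))) := by
            rw [mul_smul_comm, mul_one, smul_smul, inv_mul_cancel₀ hc0, one_smul]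
        _ = c⁻¹ • (1 : Module.End K V) := by rw [← hc, R_inv_mul]

theorem mem_sgScal {V : Type*} [AddCommGroup V] [Module K V] (𝓡 : H →* Module.End K V) (u : H) :
    u ∈ sgScal 𝓡 ↔ ∃ c : K, 𝓡 u = c • (1 : Module.End K V) := Iff.rfl

/-- Step C: the fixed-point-freeness hypothesis of `sg_final` modulo scalars. -/
theorem sg_stepC [Finite H] {p n : ℕ} {α τ : MulAut H} {R : H →* Module.End K W}
    {X : Module.End K W} (hc : SGCrit p n α τ R X) (hp : p.Prime) (hn : 1 ≤ n)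
    (q : ℕ) [Fact q.Prime] (hpq : p ≠ q) (hH : IsPGroup q H)
    {V : Type*} [AddCommGroup V] [Module K V]
    (𝓡 : H →* Module.End K V) (S : Module.End K V) (a : ℕ) (ha : a < n)
    (hS𝓡 : ∀ h, S * 𝓡 h = 𝓡 ((α ^ (p ^ a)) h) * S) (hS : IsUnit S)
    (hT0Z : ∀ c ∈ sgT0 τ R, ∃ κ : K, 𝓡 c = κ • (1 : Module.End K V)) :
    ∀ i, 0 < i → i < p ^ (n - a) → ∀ u, (∃ c : K, 𝓡 (((α ^ (p ^ a)) ^ i) u) = c • 𝓡 u) →
      ∃ c : K, 𝓡 u = c • (1 : Module.End K V) := by
  intro i hi0 hiM u hu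
  obtain ⟨c, hcu⟩ := hu
  have hN : (sgT0 τ R).Normal := hc.T0_normal hp q hH
  have hTτ := hc.T0_tau hp.pos
  have hγ : ∀ (x y : H) (d : K), 𝓡 x = d • 𝓡 y →
      𝓡 (((α ^ (p ^ a)) ^ i) x) = d • 𝓡 (((α ^ (p ^ a)) ^ i) y) := by
    intro x y d hxy
    have e : 𝓡 (((α ^ (p ^ a)) ^ i) x) * S ^ i = (d • 𝓡 (((α ^ (p ^ a)) ^ i) y)) * S ^ i := by
      rw [← sg_Xpow_R 𝓡 S (α ^ (p ^ a)) hS𝓡 i x, hxy, mul_smul_comm,
        sg_Xpow_R 𝓡 S (α ^ (p ^ a)) hS𝓡 i y, smul_mul_assoc]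
    exact (hS.pow i).mul_left_inj.mp e
  have hiter : ∀ j : ℕ, 𝓡 ((((α ^ (p ^ a)) ^ i) ^ j) u) = c ^ j • 𝓡 u := by
    intro j
    induction j with
    | zero => simp
    | succ j ih =>
      rw [pow_succ', MulAut.mul_apply, hγ _ _ _ ih, hcu, smul_smul, ← pow_succ]
  have hm0 : 0 < p ^ a * i := Nat.mul_pos (pow_pos hp.pos a) hi0
  have hm : p ^ a * i < p ^ n := by
    have h1 : p ^ n = p ^ a * p ^ (n - a) := by
      rw [← pow_add, Nat.add_sub_cancel' (le_of_lt ha)]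
    rw [h1]
    exact Nat.mul_lt_mul_of_pos_left hiM (pow_pos hp.pos a)
  obtain ⟨k, hk⟩ := sg_exists_pow_eq α p n (p ^ a * i) hp hc.hα hm0 hm
  rw [pow_mul, ← hc.hτ] at hk
  have hτu : 𝓡 (τ u) = c ^ k • 𝓡 u := by
    rw [← hk]
    exact hiter k
  have hmem : u⁻¹ * τ u ∈ sgScal 𝓡 := by
    refine ⟨c ^ k, ?_⟩
    rw [map_mul, hτu, mul_smul_comm, R_inv_mul]
  have hT0le : sgT0 τ R ≤ sgScal 𝓡 := fun x hx => hT0Z x hx
  have hτScal : ∀ z ∈ sgScal 𝓡, τ z ∈ sgScal 𝓡 := by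
    rintro z ⟨κ, hκ⟩
    refine ⟨κ, ?_⟩
    have hτeq : τ = (α ^ (p ^ a)) ^ (p ^ (n - 1 - a)) := by
      rw [hc.hτ, ← pow_mul, ← pow_add]
      congr 2
      omega
    rw [hτeq]
    exact sg_conj_scalar 𝓡 S (α ^ (p ^ a)) hS𝓡 hS _ z κ hκ
  have hfix : ∀ x : H ⧸ sgT0 τ R,
      (quotAut τ (sgT0 τ R) hTτ : MulAut (H ⧸ sgT0 τ R)).toMonoidHom x = x → x = 1 := by
    intro x hx
    obtain ⟨w, rfl⟩ := QuotientGroup.mk_surjective x
    have h1 : (QuotientGroup.mk (τ w) : H ⧸ sgT0 τ R) = QuotientGroup.mk w := hx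
    have h2 : (τ w)⁻¹ * w ∈ sgT0 τ R := QuotientGroup.eq.mp h1
    have h3 : w⁻¹ * τ w ∈ sgT0 τ R := by
      have h4 := Subgroup.inv_mem _ h2
      rwa [mul_inv_rev, inv_inv] at h4
    exact (QuotientGroup.eq_one_iff w).mpr (hc.dagger hp hn q hpq hH w h3)
  have hU : ∀ x ∈ (sgScal 𝓡).map (QuotientGroup.mk' (sgT0 τ R)),
      (quotAut τ (sgT0 τ R) hTτ : MulAut (H ⧸ sgT0 τ R)).toMonoidHom x
        ∈ (sgScal 𝓡).map (QuotientGroup.mk' (sgT0 τ R)) := by
    rintro _ ⟨z, hz, rfl⟩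
    exact ⟨τ z, hτScal z hz, rfl⟩
  have hx : (QuotientGroup.mk u : H ⧸ sgT0 τ R)⁻¹
      * (quotAut τ (sgT0 τ R) hTτ : MulAut (H ⧸ sgT0 τ R)).toMonoidHom (QuotientGroup.mk u)
        ∈ (sgScal 𝓡).map (QuotientGroup.mk' (sgT0 τ R)) :=
    ⟨u⁻¹ * τ u, hmem, rfl⟩
  obtain ⟨z, hz, hzu⟩ := sg_fpf_mem _ hfix _ hU _ hx
  have h1 : z⁻¹ * u ∈ sgT0 τ R := QuotientGroup.eq.mp hzu
  have h2 : u = z * (z⁻¹ * u) := by group
  have h3 := (sgScal 𝓡).mul_mem hz (hT0le h1)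
  rw [← h2] at h3
  exact h3

/-- If `R (α^m x)` and `R x` agree on the block `Y` for all `x`, they agree everywhere. -/
theorem sg_lift {p n : ℕ} {R : H →* Module.End K W} {X : Module.End K W} {Y : Submodule K W}
    {a : ℕ} (hB : SGBlock p n R X Y a) (α : MulAut H) (hXR : ∀ h, X * R h = R (α h) * X)
    (m : ℕ) (hm : ∀ x, ∀ y ∈ Y, R ((α ^ m) x) y = R x y) : ∀ u, R ((α ^ m) u) = R u := by
  intro u
  have hle : (⊤ : Submodule K W) ≤ LinearMap.eqLocus (R ((α ^ m) u)) (R u) := by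
    rw [← hB.hsup]
    apply iSup_le
    intro j
    rintro _ ⟨y, hy, rfl⟩
    rw [LinearMap.mem_eqLocus, sg_R_Xpow_apply R X α hXR, sg_R_Xpow_apply R X α hXR]
    have e : (α ^ (j : ℕ))⁻¹ ((α ^ m) u) = (α ^ m) ((α ^ (j : ℕ))⁻¹ u) := by
      have h1 := ((Commute.pow_pow (Commute.refl α) (j : ℕ) m).inv_left).eq
      rw [← MulAut.mul_apply, ← MulAut.mul_apply, h1]
    rw [e, hm _ y hy]
  ext w
  exact hle (Submodule.mem_top : w ∈ ⊤)

/-- An element all of whose `α`-translates (up to `p ^ a`) act as scalars on the block lies in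
`T0`. -/
theorem sg_T0_of_scal {p n : ℕ} {α τ : MulAut H} {R : H →* Module.End K W}
    {X : Module.End K W} {Y : Submodule K W} {a : ℕ} (hc : SGCrit p n α τ R X) (hp : p.Prime)
    (hB : SGBlock p n R X Y a) (hnc : ∃ u v, R u * R v ≠ R v * R u) (u : H)
    (hu : ∀ j, j < p ^ a → (α ^ j) u ∈ sgScal (sgRes R Y hB.hR)) : u ∈ sgT0 τ R := by
  have hXu := hc.isUnit hp.pos
  have hinj : ∀ j : ℕ, Function.Injective (X ^ j) := fun j =>
    ((Module.End.isUnit_iff _).mp (hXu.pow j)).injective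
  have hcomap : ⨆ j : Fin (p ^ a), Y.comap (X ^ (j : ℕ)) = ⊤ := by
    rw [eq_top_iff, ← hB.hsup]
    apply iSup_le
    intro i
    by_cases hi : (i : ℕ) = 0
    · refine le_trans ?_ (le_iSup _ i)
      rintro _ ⟨y, hy, rfl⟩
      rw [Submodule.mem_comap, hi]
      simpa using hy
    · have hlt : p ^ a - (i : ℕ) < p ^ a := by
        have := i.2
        omega
      refine le_trans ?_ (le_iSup _ ⟨p ^ a - (i : ℕ), hlt⟩)
      rintro _ ⟨y, hy, rfl⟩
      rw [Submodule.mem_comap]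
      show (X ^ (p ^ a - (i : ℕ))) ((X ^ (i : ℕ)) y) ∈ Y
      rw [← Module.End.mul_apply, ← pow_add, Nat.sub_add_cancel (le_of_lt i.2)]
      exact hB.hS y hy
  apply hc.central_mem hp hnc u
  intro h
  have hact : ∀ j : Fin (p ^ a), ∃ c : K, ∀ w ∈ Y.comap (X ^ (j : ℕ)), R u w = c • w := by
    intro j
    obtain ⟨c, hcj⟩ := hu j j.2
    refine ⟨c, fun w hw => ?_⟩
    apply hinj j
    rw [sg_Xpow_R_apply R X α hc.hXR, map_smul]
    have h1 := congrArg (fun F : Module.End K Y => (F ⟨(X ^ (j : ℕ)) w, hw⟩ : W)) hcj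
    simpa [sgRes_apply] using h1
  have hle : (⊤ : Submodule K W) ≤ LinearMap.eqLocus (R u * R h) (R h * R u) := by
    rw [← hcomap]
    apply iSup_le
    intro j w hw
    obtain ⟨c, hcj⟩ := hact j
    rw [LinearMap.mem_eqLocus, Module.End.mul_apply, Module.End.mul_apply]
    have hhw : R h w ∈ Y.comap (X ^ (j : ℕ)) := by
      rw [Submodule.mem_comap, sg_Xpow_R_apply R X α hc.hXR]
      exact hB.hR _ _ hw
    rw [hcj _ hhw, hcj w hw, map_smul]
  ext w
  exact hle (Submodule.mem_top : w ∈ ⊤)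

/-- Partial norms `c * α(c) * ... * α^(k-1)(c)`. -/
def sgNrm (α : MulAut H) (c : H) : ℕ → H
  | 0 => 1
  | k + 1 => sgNrm α c k * (α ^ k) c

theorem sgNrm_zero (α : MulAut H) (c : H) : sgNrm α c 0 = 1 := rfl

theorem sgNrm_succ (α : MulAut H) (c : H) (k : ℕ) :
    sgNrm α c (k + 1) = sgNrm α c k * (α ^ k) c := rfl

theorem sgNrm_alpha (α : MulAut H) (c : H) (k : ℕ) :
    α (sgNrm α c k) = c⁻¹ * sgNrm α c (k + 1) := by
  induction k with
  | zero => simp [sgNrm_succ, sgNrm_zero]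
  | succ k ih =>
    rw [sgNrm_succ α c k, map_mul, ih, sgNrm_succ α c (k + 1), ← mul_assoc,
      ← MulAut.mul_apply, ← pow_succ']

theorem SGCrit.norm_one [Finite H] {p n : ℕ} {α τ : MulAut H} {R : H →* Module.End K W}
    {X : Module.End K W} (hc : SGCrit p n α τ R X) (hp : p.Prime) (hn : 1 ≤ n)
    (q : ℕ) [Fact q.Prime] (hpq : p ≠ q) (hH : IsPGroup q H) (hfpf : ∀ g, α g = g → g = 1)
    (c : H) (hcT : c ∈ sgT0 τ R) : R (sgNrm α c (p ^ n)) = 1 := by
  have hcen := hc.T0_central hp hn q hpq hH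
  have hker : ∀ x ∈ R.ker, α.toMonoidHom x ∈ R.ker := by
    intro x hx
    rw [MonoidHom.mem_ker] at hx ⊢
    have h1 : R x = R 1 := by rw [hx, map_one]
    have h2 := hc.R_alpha_eq hp.pos h1
    rw [map_one, map_one] at h2
    exact h2
  have hx : (sgNrm α c (p ^ n))⁻¹ * α.toMonoidHom (sgNrm α c (p ^ n)) ∈ R.ker := by
    have h1 : α.toMonoidHom (sgNrm α c (p ^ n)) = c⁻¹ * sgNrm α c (p ^ n) * c := by
      show α (sgNrm α c (p ^ n)) = _
      rw [sgNrm_alpha, sgNrm_succ, hc.hα, MulAut.one_apply, mul_assoc]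
    rw [h1, MonoidHom.mem_ker, map_mul, map_mul, map_mul,
      hcen c⁻¹ (Subgroup.inv_mem _ hcT) (sgNrm α c (p ^ n)), ← mul_assoc, ← mul_assoc,
      R_inv_mul, one_mul, R_inv_mul]
  have h := sg_fpf_mem α.toMonoidHom hfpf R.ker hker _ hx
  exact MonoidHom.mem_ker.mp h

theorem sg_nrm_block {V : Type*} [AddCommGroup V] [Module K V] (𝓡 : H →* Module.End K V)
    (α : MulAut H) (c : H) (μ : K) (t : ℕ) (ht : 0 < t)
    (h1 : ∀ k, t ∣ k → 𝓡 ((α ^ k) c) = μ • (1 : Module.End K V))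
    (h2 : ∀ k, ¬ t ∣ k → 𝓡 ((α ^ k) c) = 1) (s : ℕ) :
    𝓡 (sgNrm α c (t * s)) = μ ^ s • (1 : Module.End K V) := by
  induction s with
  | zero => rw [mul_zero, pow_zero, one_smul, sgNrm_zero, map_one]
  | succ s ih =>
    have hB : ∀ r, 1 ≤ r → r ≤ t →
        𝓡 (sgNrm α c (t * s + r)) = μ ^ (s + 1) • (1 : Module.End K V) := by
      intro r hr1
      induction r, hr1 using Nat.le_induction with
      | base =>
        intro _
        rw [sgNrm_succ, map_mul, ih, h1 _ (dvd_mul_right t s), smul_mul_smul_comm, mul_one,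
          pow_succ]
      | succ r hr ihr =>
        intro hrt
        have hnd : ¬ t ∣ t * s + r := by
          rw [Nat.dvd_add_right (dvd_mul_right t s)]
          exact Nat.not_dvd_of_pos_of_lt (by omega) (by omega)
        rw [← add_assoc, sgNrm_succ, map_mul, ihr (by omega), h2 _ hnd, mul_one]
    have h3 := hB t ht le_rfl
    rwa [← Nat.mul_succ] at h3

/-- Step E: the exceptional case `dim Y + 1 = p ^ (n - a)` is impossible. -/
theorem sg_stepE [IsAlgClosed K] [FiniteDimensional K W] [Finite H] {p n : ℕ}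
    {α τ : MulAut H} {R : H →* Module.End K W} {X : Module.End K W} {Y : Submodule K W} {a : ℕ}
    (hc : SGCrit p n α τ R X) (hp : p.Prime) (hp2 : p ≠ 2) (hn : 1 ≤ n) (q : ℕ)
    [Fact q.Prime] (hpq : p ≠ q) (hH : IsPGroup q H) (hfpf : ∀ g, α g = g → g = 1)
    (hB : SGBlock p n R X Y a) [Nontrivial Y]
    (hirrY : ∀ U : Submodule K Y, (∀ h, ∀ w ∈ U, sgRes R Y hB.hR h w ∈ U) → U = ⊥ ∨ U = ⊤)
    (hcomm : ∀ A : Module.End K Y, (∀ h, A * sgRes R Y hB.hR h = sgRes R Y hB.hR h * A) →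
      ∃ c : K, A = c • (1 : Module.End K Y))
    (hidx : (sgScal (sgRes R Y hB.hR)).index = finrank K Y ^ 2)
    (hd : finrank K Y + 1 = p ^ (n - a)) : False := by
  classical
  have hq : q.Prime := Fact.out
  have hS𝓡 := hB.S_R α hc.hXR
  have hSM := hB.S_pow hc.hX
  have hM0 : 0 < p ^ (n - a) := pow_pos hp.pos _
  have hSu : IsUnit ((X ^ (p ^ a)).restrict hB.hS : Module.End K Y) :=
    IsUnit.of_pow_eq_one hSM hM0.ne'
  have ht : 0 < p ^ a := pow_pos hp.pos a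
  obtain ⟨b, hb⟩ := hh_pgroup_finrank q (sgRes R Y hB.hR) hH hirrY
  obtain ⟨k0, hk0⟩ : ∃ k0, p ^ (n - a) = 2 * k0 + 1 := (hp.odd_of_ne_two hp2).pow
  have hdk : finrank K Y = 2 * k0 := by omega
  have hq2 : q = 2 := by
    have h1 : 2 ∣ q ^ b := ⟨k0, by rw [← hb, hdk]⟩
    have h2 : 2 ∣ q := Nat.Prime.dvd_of_dvd_pow Nat.prime_two h1
    exact ((Nat.prime_dvd_prime_iff_eq Nat.prime_two hq).mp h2).symm
  have hd2 : 2 ≤ finrank K Y := by
    have h1 : 0 < finrank K Y := Module.finrank_pos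
    omega
  have hnc : ∃ u v, R u * R v ≠ R v * R u := by
    by_contra hcon
    have hall : ∀ u v, R u * R v = R v * R u := by
      intro u v
      by_contra h
      exact hcon ⟨u, v, h⟩
    have hsc : ∀ u, ∃ c : K, sgRes R Y hB.hR u = c • (1 : Module.End K Y) := by
      intro u
      apply hcomm
      intro h
      rw [← map_mul, ← map_mul]
      apply sg_res_congr
      exact (map_mul R u h).trans ((hall u h).trans (map_mul R h u).symm)
    have h1 := hh_finrank_eq_one_of_scalar (sgRes R Y hB.hR) hirrY hsc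
    omega
  obtain ⟨f, hf⟩ := IsPGroup.index hH (sgT0 τ R)
  have hf1 : 1 ≤ f := by
    by_contra hcon
    have hf0 : f = 0 := by omega
    rw [hf0, pow_zero] at hf
    exact hc.hne (Subgroup.index_eq_one.mp hf)
  have hdiv := hc.index_dvd hp hn q hpq hH
  rw [hf, hq2] at hdiv
  have hna : n - a + a = n := Nat.sub_add_cancel hB.ha
  have hnt := sg_nt p hp hp2 b (n - a) a f (by rw [← hd, hb, hq2]) hf1
    (by rw [hna]; exact hdiv)
  have hidxT : (finrank K Y ^ 2) ^ (p ^ a) ≤ (sgT0 τ R).index := by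
    have e : ((2 ^ b) ^ 2) ^ (p ^ a) = 2 ^ (2 * b * p ^ a) := by
      rw [← pow_mul, ← pow_mul]
      congr 1
      ring
    rw [hf, hb, hq2, e]
    exact Nat.pow_le_pow_right (by norm_num) hnt
  have hex : ∃ u, u ∉ sgScal (sgRes R Y hB.hR) ∧
      ∀ j, 0 < j → j < p ^ a → (α ^ j) u ∈ sgScal (sgRes R Y hB.hR) := by
    by_contra hcon
    have hall : ∀ u, (∀ j, 0 < j → j < p ^ a → (α ^ j) u ∈ sgScal (sgRes R Y hB.hR)) →
        u ∈ sgScal (sgRes R Y hB.hR) := by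
      intro u hu
      by_contra h
      exact hcon ⟨u, h, hu⟩
    have hle : (⨅ j : Fin (p ^ a - 1),
        (sgScal (sgRes R Y hB.hR)).comap ((α ^ ((j : ℕ) + 1)).toMonoidHom)) ≤ sgT0 τ R := by
      intro u hu
      rw [Subgroup.mem_iInf] at hu
      have hu' : ∀ j, 0 < j → j < p ^ a → (α ^ j) u ∈ sgScal (sgRes R Y hB.hR) := by
        intro j hj0 hjt
        have h1 := hu ⟨j - 1, by omega⟩
        rw [Subgroup.mem_comap] at h1
        have e : j - 1 + 1 = j := by omega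
        simp only [e] at h1
        exact h1
      apply sg_T0_of_scal hc hp hB hnc u
      intro j hjt
      rcases Nat.eq_zero_or_pos j with rfl | hj0
      · simpa using hall u hu'
      · exact hu' j hj0 hjt
    have h1 : (sgT0 τ R).index ≤ (⨅ j : Fin (p ^ a - 1),
        (sgScal (sgRes R Y hB.hR)).comap ((α ^ ((j : ℕ) + 1)).toMonoidHom)).index :=
      Subgroup.index_antitone hle
    have h2 := Subgroup.index_iInf_le (fun j : Fin (p ^ a - 1) =>
      (sgScal (sgRes R Y hB.hR)).comap ((α ^ ((j : ℕ) + 1)).toMonoidHom))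
    have h3 : ∀ j : Fin (p ^ a - 1),
        ((sgScal (sgRes R Y hB.hR)).comap ((α ^ ((j : ℕ) + 1)).toMonoidHom)).index
          = finrank K Y ^ 2 := by
      intro j
      rw [Subgroup.index_comap_of_surjective _ (MulEquiv.surjective _), hidx]
    rw [Finset.prod_congr rfl (fun j _ => h3 j), Finset.prod_const, Finset.card_univ,
      Fintype.card_fin] at h2
    have h4 : (finrank K Y ^ 2) ^ (p ^ a) ≤ (finrank K Y ^ 2) ^ (p ^ a - 1) :=
      le_trans hidxT (le_trans h1 h2)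
    have h5 : (finrank K Y ^ 2) ^ (p ^ a - 1) < (finrank K Y ^ 2) ^ (p ^ a) := by
      apply Nat.pow_lt_pow_right
      · nlinarith
      · omega
    exact absurd h4 (not_le.mpr h5)
  obtain ⟨u, huZ, huj⟩ := hex
  have hexv : ∃ v, sgRes R Y hB.hR u * sgRes R Y hB.hR v
      ≠ sgRes R Y hB.hR v * sgRes R Y hB.hR u := by
    by_contra hcon
    apply huZ
    apply hcomm
    intro h
    by_contra hne
    exact hcon ⟨h, hne⟩
  obtain ⟨v, hv⟩ := hexv
  have hcT : u * v * u⁻¹ * v⁻¹ ∈ sgT0 τ R := hc.comm_mem hp q hH u v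
  obtain ⟨μ, hμ⟩ : ∃ μ : K, sgRes R Y hB.hR (u * v * u⁻¹ * v⁻¹) = μ • (1 : Module.End K Y) := by
    apply hcomm
    intro h
    rw [← map_mul, ← map_mul]
    apply sg_res_congr
    exact (map_mul R _ h).trans ((hc.T0_central hp hn q hpq hH _ hcT h).trans
      (map_mul R h _).symm)
  have hμ1 : μ ≠ 1 := by
    intro h1
    apply hv
    rw [h1, one_smul] at hμ
    have h2 : u * v = (u * v * u⁻¹ * v⁻¹) * (v * u) := by group
    calc sgRes R Y hB.hR u * sgRes R Y hB.hR v = sgRes R Y hB.hR (u * v) := (map_mul _ _ _).symm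
      _ = sgRes R Y hB.hR ((u * v * u⁻¹ * v⁻¹) * (v * u)) := by rw [← h2]
      _ = sgRes R Y hB.hR v * sgRes R Y hB.hR u := by rw [map_mul, hμ, one_mul, map_mul]
  have hk1 : ∀ k, p ^ a ∣ k →
      sgRes R Y hB.hR ((α ^ k) (u * v * u⁻¹ * v⁻¹)) = μ • (1 : Module.End K Y) := by
    rintro k ⟨s, rfl⟩
    rw [pow_mul]
    exact sg_conj_scalar (sgRes R Y hB.hR) _ (α ^ (p ^ a)) hS𝓡 hSu s _ μ hμ
  have hk2 : ∀ k, ¬ p ^ a ∣ k → sgRes R Y hB.hR ((α ^ k) (u * v * u⁻¹ * v⁻¹)) = 1 := by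
    intro k hk
    have hr0 : 0 < k % p ^ a := Nat.pos_of_ne_zero (fun h => hk (Nat.dvd_of_mod_eq_zero h))
    have hrt : k % p ^ a < p ^ a := Nat.mod_lt _ ht
    obtain ⟨κ, hκ⟩ := huj (k % p ^ a) hr0 hrt
    have hκ' : sgRes R Y hB.hR ((α ^ k) u) = κ • (1 : Module.End K Y) := by
      have e : α ^ k = (α ^ (p ^ a)) ^ (k / p ^ a) * α ^ (k % p ^ a) := by
        rw [← pow_mul, ← pow_add, Nat.div_add_mod]
      rw [e, MulAut.mul_apply]
      exact sg_conj_scalar (sgRes R Y hB.hR) _ (α ^ (p ^ a)) hS𝓡 hSu _ _ κ hκ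
    have e2 : (α ^ k) (u * v * u⁻¹ * v⁻¹)
        = (α ^ k) u * (α ^ k) v * ((α ^ k) u)⁻¹ * ((α ^ k) v)⁻¹ := by
      simp only [map_mul, map_inv]
    rw [e2]
    exact sg_comm_scalar_one (sgRes R Y hB.hR) _ _ κ hκ'
  have hnorm := hc.norm_one hp hn q hpq hH hfpf _ hcT
  have hnorm' : sgRes R Y hB.hR (sgNrm α (u * v * u⁻¹ * v⁻¹) (p ^ n)) = 1 := by
    rw [← map_one (sgRes R Y hB.hR)]
    apply sg_res_congr
    rw [hnorm, map_one]
  have hpn : p ^ n = p ^ a * p ^ (n - a) := by rw [← pow_add, Nat.add_sub_cancel' hB.ha]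
  rw [hpn, sg_nrm_block (sgRes R Y hB.hR) α _ μ (p ^ a) ht hk1 hk2] at hnorm'
  have hμM : μ ^ (p ^ (n - a)) = 1 := sg_smul_one_inj (V := Y) (by rw [hnorm', one_smul])
  obtain ⟨m, hm⟩ := hH (u * v * u⁻¹ * v⁻¹)
  have hμq : μ ^ (q ^ m) = 1 := by
    have h1 : sgRes R Y hB.hR (u * v * u⁻¹ * v⁻¹) ^ (q ^ m) = 1 := by
      rw [← map_pow, hm, map_one]
    rw [hμ, smul_pow, one_pow] at h1
    exact sg_smul_one_inj (V := Y) (by rw [h1, one_smul])
  have hcop : Nat.Coprime (p ^ (n - a)) (q ^ m) :=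
    Nat.Coprime.pow _ _ ((Nat.coprime_primes hp hq).mpr hpq)
  exact hμ1 ((pow_eq_one_iff_of_coprime hcop).mp ⟨hμM, hμq⟩)

/-- The irreducible critical configuration is impossible. -/
theorem sg_irr_false [IsAlgClosed K] [FiniteDimensional K W] [Nontrivial W] [Finite H]
    {p n : ℕ} {α τ : MulAut H} {R : H →* Module.End K W} {X : Module.End K W}
    (hc : SGCrit p n α τ R X) (hp : p.Prime) (hp2 : p ≠ 2) (hn : 1 ≤ n) (q : ℕ)
    [Fact q.Prime] (hpq : p ≠ q) (hH : IsPGroup q H) (hpK : (p : K) ≠ 0) (hqK : (q : K) ≠ 0)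
    (hfpf : ∀ g, α g = g → g = 1)
    (hirr : ∀ U : Submodule K W, (∀ h, ∀ w ∈ U, R h w ∈ U) → (∀ w ∈ U, X w ∈ U) →
      U = ⊥ ∨ U = ⊤)
    (hfix : ∀ w, X w = w → w = 0) : False := by
  classical
  obtain ⟨Y, a, hB, hprim⟩ := sg_exists_block p n hp R X α hc.hXR hc.hX hirr
  have hWpos : 0 < finrank K W := Module.finrank_pos
  have hYpos : 0 < finrank K Y := by
    have h1 := hB.hdim
    rcases Nat.eq_zero_or_pos (finrank K Y) with h0 | h0
    · rw [h0, mul_zero] at h1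
      omega
    · exact h0
  haveI : Nontrivial Y := Module.finrank_pos_iff.mp hYpos
  have hSM := hB.S_pow hc.hX
  have hS𝓡 := hB.S_R α hc.hXR
  have hfixY : ∀ y : Y, ((X ^ (p ^ a)).restrict hB.hS : Module.End K Y) y = y → y = 0 := by
    intro y hy
    exact Subtype.ext (hB.fix_eq_zero hp.pos hfix (y : W) y.2 (congrArg Subtype.val hy))
  have han : a < n := by
    by_contra hcon
    have han : a = n := le_antisymm hB.ha (not_lt.mp hcon)
    have h1 : ((X ^ (p ^ a)).restrict hB.hS : Module.End K Y) = 1 := by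
      have h2 := hSM
      have h0 : n - a = 0 := by omega
      rw [h0, pow_zero, pow_one] at h2
      exact h2
    obtain ⟨y, hy⟩ := exists_ne (0 : Y)
    exact hy (hfixY y (by rw [h1]; rfl))
  have hM0 : 0 < p ^ (n - a) := pow_pos hp.pos _
  have hMK : ((p ^ (n - a) : ℕ) : K) ≠ 0 := by
    rw [Nat.cast_pow]
    exact pow_ne_zero _ hpK
  have hβM : (α ^ (p ^ a)) ^ (p ^ (n - a)) = 1 := by
    rw [← pow_mul, ← pow_add, Nat.add_sub_cancel' hB.ha, hc.hα]
  have hirrY : ∀ U : Submodule K Y, (∀ h, ∀ w ∈ U, sgRes R Y hB.hR h w ∈ U) →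
      (∀ w ∈ U, ((X ^ (p ^ a)).restrict hB.hS : Module.End K Y) w ∈ U) → U = ⊥ ∨ U = ⊤ :=
    fun U hU1 hU2 => hB.irr hp.pos α hc.hXR hirr U hU1 hU2
  have hcomm : ∀ A : Module.End K Y,
      (∀ h, A * sgRes R Y hB.hR h = sgRes R Y hB.hR h * A) →
      ∃ c : K, A = c • (1 : Module.End K Y) :=
    fun A hA => sg_commutant_scalar (p ^ (n - a)) hM0 hMK (sgRes R Y hB.hR)
      ((X ^ (p ^ a)).restrict hB.hS) (α ^ (p ^ a)) hS𝓡 hSM hprim A hA
  have hcl2 : ∀ u v h, sgRes R Y hB.hR (u * v * u⁻¹ * v⁻¹) * sgRes R Y hB.hR h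
      = sgRes R Y hB.hR h * sgRes R Y hB.hR (u * v * u⁻¹ * v⁻¹) := by
    intro u v h
    rw [← map_mul, ← map_mul]
    apply sg_res_congr
    exact (map_mul R _ h).trans ((hc.T0_central hp hn q hpq hH _ (hc.comm_mem hp q hH u v) h).trans
      (map_mul R h _).symm)
  have hT0Z : ∀ c ∈ sgT0 τ R, ∃ κ : K, sgRes R Y hB.hR c = κ • (1 : Module.End K Y) := by
    intro c hcT
    apply hcomm
    intro h
    rw [← map_mul, ← map_mul]
    apply sg_res_congr
    exact (map_mul R _ h).trans ((hc.T0_central hp hn q hpq hH c hcT h).trans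
      (map_mul R h _).symm)
  have hSu : IsUnit ((X ^ (p ^ a)).restrict hB.hS : Module.End K Y) :=
    IsUnit.of_pow_eq_one hSM hM0.ne'
  have hfpfC := sg_stepC hc hp hn q hpq hH (sgRes R Y hB.hR)
    ((X ^ (p ^ a)).restrict hB.hS) a han hS𝓡 hSu hT0Z
  obtain ⟨hdim, hirrR, Z, hZmem, hZidx⟩ := sg_final q hH hqK (sgRes R Y hB.hR)
    ((X ^ (p ^ a)).restrict hB.hS) (α ^ (p ^ a)) (p ^ (n - a)) hM0 hMK hS𝓡 hSM hβM hirrY hcomm
    hcl2 hfpfC hfixY
  rcases hdim with h1 | h1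
  · have hτ𝓡 : ∀ x, sgRes R Y hB.hR (τ x) = sgRes R Y hB.hR x := by
      intro x
      obtain ⟨c, hcx⟩ := sg_scalar_of_finrank_one h1 (sgRes R Y hB.hR x)
      rw [hcx]
      have hτeq : τ = (α ^ (p ^ a)) ^ (p ^ (n - 1 - a)) := by
        rw [hc.hτ, ← pow_mul, ← pow_add]
        congr 2
        omega
      rw [hτeq]
      exact sg_conj_scalar (sgRes R Y hB.hR) _ (α ^ (p ^ a)) hS𝓡 hSu _ x c hcx
    have hall2 : ∀ u, R ((α ^ (p ^ (n - 1))) u) = R u := by
      apply sg_lift hB α hc.hXR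
      intro x y hy
      have h5 := congrArg (fun F : Module.End K Y => (F ⟨y, hy⟩ : W)) (hτ𝓡 x)
      rw [hc.hτ] at h5
      exact h5
    apply hc.hne
    rw [eq_top_iff]
    intro x _
    rw [mem_sgT0, hc.hτ]
    exact hall2 x
  · have hZ : Z = sgScal (sgRes R Y hB.hR) := by
      ext u
      rw [hZmem]
      rfl
    rw [hZ] at hZidx
    exact sg_stepE hc hp hp2 hn q hpq hH hfpf hB hirrR hcomm hZidx h1

end SGIrr

end Cfsg.Agent.Lib.helper75
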