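import Mathlib
import Cfsg.Agent.Lib.helper66.ExtraRepA
import Cfsg.Agent.Lib.helper1.ThompsonFpf
import Cfsg.Agent.Lib.helper75.SGAut
import Cfsg.Agent.Lib.helper75.SGBlock
import Cfsg.Agent.Lib.helper75.SGCrit
import Cfsg.Agent.Lib.helper75.SGIrr

set_option autoImplicit false

namespace Cfsg.Agent.Lib.helper75

open Module Cfsg.Agent.Lib.helper66 Cfsg.Agent.Lib.helper1

universe u v w

section SGCore

variable {K : Type*} [Field K] {W : Type*} [AddCommGroup W] [Module K W] {H : Type*} [Group H]

/-- Quotient of a representation by an invariant subspace. -/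
def sgQuot (R : H →* Module.End K W) (U : Submodule K W) (hU : ∀ h, ∀ w ∈ U, R h w ∈ U) :
    H →* Module.End K (W ⧸ U) where
  toFun h := U.mapQ U (R h) (fun w hw => hU h w hw)
  map_one' := by
    apply LinearMap.ext
    intro x
    obtain ⟨w, rfl⟩ := Submodule.Quotient.mk_surjective U x
    rw [Submodule.mapQ_apply, map_one]
    rfl
  map_mul' := by
    intro a b
    apply LinearMap.ext
    intro x
    obtain ⟨w, rfl⟩ := Submodule.Quotient.mk_surjective U x
    rw [Submodule.mapQ_apply, map_mul]
    rfl

theorem sgQuot_mk (R : H →* Module.End K W) (U : Submodule K W)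
    (hU : ∀ h, ∀ w ∈ U, R h w ∈ U) (h : H) (w : W) :
    sgQuot R U hU h (Submodule.Quotient.mk w) = Submodule.Quotient.mk (R h w) := rfl

theorem sg_mapQ_pow_mk (X : Module.End K W) (U : Submodule K W) (hU : ∀ w ∈ U, X w ∈ U)
    (k : ℕ) (w : W) :
    ((U.mapQ U X (fun w hw => hU w hw) : Module.End K (W ⧸ U)) ^ k) (Submodule.Quotient.mk w)
      = Submodule.Quotient.mk ((X ^ k) w) := by
  induction k generalizing w with
  | zero => simp
  | succ k ih =>
    rw [pow_succ, Module.End.mul_apply, Submodule.mapQ_apply, ih, pow_succ, Module.End.mul_apply]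

theorem sg_quot_fix (X : Module.End K W) (P : ℕ) (hP : (P : K) ≠ 0) (hXP : X ^ P = 1)
    (hfix : ∀ w, X w = w → w = 0) (U : Submodule K W) (hU : ∀ w ∈ U, X w ∈ U) :
    ∀ x : W ⧸ U, (U.mapQ U X (fun w hw => hU w hw)) x = x → x = 0 := by
  intro x hx
  obtain ⟨w, rfl⟩ := Submodule.Quotient.mk_surjective U x
  have hs : X (∑ j ∈ Finset.range P, (X ^ j) w) = ∑ j ∈ Finset.range P, (X ^ j) w := by
    rw [map_sum]
    have h1 : ∀ j, X ((X ^ j) w) = (X ^ (j + 1)) w := fun j => by
      rw [pow_succ', Module.End.mul_apply]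
    simp only [h1]
    have h2 := Finset.sum_range_succ (fun j => (X ^ j) w) P
    have h3 := Finset.sum_range_succ' (fun j => (X ^ j) w) P
    rw [h2] at h3
    simp only [pow_zero, Module.End.one_apply] at h3
    rw [hXP, Module.End.one_apply] at h3
    exact (add_right_cancel h3).symm
  have hs0 := hfix _ hs
  have hpow : ∀ j : ℕ, (Submodule.Quotient.mk ((X ^ j) w) : W ⧸ U) = Submodule.Quotient.mk w := by
    intro j
    induction j with
    | zero => simp
    | succ j ih =>
      rw [pow_succ', Module.End.mul_apply]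
      have h1 : (Submodule.Quotient.mk (X ((X ^ j) w)) : W ⧸ U)
          = (U.mapQ U X (fun w hw => hU w hw)) (Submodule.Quotient.mk ((X ^ j) w)) := rfl
      rw [h1, ih, hx]
  have h4 : (Submodule.Quotient.mk (∑ j ∈ Finset.range P, (X ^ j) w) : W ⧸ U)
      = (P : K) • (Submodule.Quotient.mk w : W ⧸ U) := by
    have h5 : (Submodule.Quotient.mk (∑ j ∈ Finset.range P, (X ^ j) w) : W ⧸ U)
        = ∑ j ∈ Finset.range P, (Submodule.Quotient.mk ((X ^ j) w) : W ⧸ U) :=
      map_sum (Submodule.mkQ U) _ _
    rw [h5, Finset.sum_congr rfl (fun j _ => hpow j), Finset.sum_const, Finset.card_range,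
      Nat.cast_smul_eq_nsmul]
  rw [hs0] at h4
  have h6 : (P : K) • (Submodule.Quotient.mk w : W ⧸ U) = 0 := by
    rw [← h4]
    rfl
  rcases smul_eq_zero.mp h6 with h7 | h7
  · exact absurd h7 hP
  · exact h7

theorem sg_unipotent_one {V : Type*} [AddCommGroup V] [Module K V] (q : ℕ) (hqK : (q : K) ≠ 0)
    (A : Module.End K V) (U : Submodule K V) (h1 : ∀ u ∈ U, A u = u) (h2 : ∀ w, A w - w ∈ U)
    (m : ℕ) (hm : A ^ (q ^ m) = 1) : A = 1 := by
  have hB : (A - 1) * (A - 1) = 0 := by
    apply LinearMap.ext
    intro w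
    have h3 : ((A - 1) * (A - 1)) w = A (A w - w) - (A w - w) := rfl
    rw [h3, h1 _ (h2 w), sub_self]
    rfl
  have hpow : ∀ k : ℕ, A ^ k = 1 + k • (A - 1) := by
    intro k
    induction k with
    | zero => simp
    | succ k ih =>
      have e : A = 1 + (A - 1) := by abel
      calc A ^ (k + 1) = A ^ k * A := pow_succ _ _
        _ = (1 + k • (A - 1)) * (1 + (A - 1)) := by rw [ih, ← e]
        _ = 1 + (k + 1) • (A - 1) + k • ((A - 1) * (A - 1)) := by
            rw [mul_add, mul_one, add_mul, one_mul, smul_mul_assoc, add_smul, one_smul]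
            abel
        _ = 1 + (k + 1) • (A - 1) := by rw [hB, smul_zero, add_zero]
  have h3 := hpow (q ^ m)
  rw [hm] at h3
  have h4 : (1 : Module.End K V) + (q ^ m) • (A - 1) = 1 + 0 := by rw [← h3, add_zero]
  have h5 : (q ^ m) • (A - 1) = 0 := add_left_cancel h4
  rw [← Nat.cast_smul_eq_nsmul K] at h5
  rcases smul_eq_zero.mp h5 with h6 | h6
  · exfalso
    rw [Nat.cast_pow] at h6
    exact pow_ne_zero _ hqK h6
  · exact sub_eq_zero.mp h6

theorem sg_core_red (q : ℕ) (hqK : (q : K) ≠ 0) (hH : IsPGroup q H)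
    (R : H →* Module.End K W) (τ : MulAut H) (U : Submodule K W)
    (hUR : ∀ h, ∀ w ∈ U, R h w ∈ U) (h1 : ∀ h, ∀ u ∈ U, R (τ h) u = R h u)
    (h2 : ∀ h w, R (τ h) w - R h w ∈ U) (h : H) : R (τ h) = R h := by
  obtain ⟨m, hm⟩ := hH (h⁻¹ * τ h)
  have hA : R (h⁻¹ * τ h) = 1 := by
    apply sg_unipotent_one q hqK (R (h⁻¹ * τ h)) U ?_ ?_ m (by rw [← map_pow, hm, map_one])
    · intro u hu
      rw [map_mul, Module.End.mul_apply, h1 h u hu, ← Module.End.mul_apply, R_inv_mul,
        Module.End.one_apply]
    · intro w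
      have e : R (h⁻¹ * τ h) w - w = R h⁻¹ (R (τ h) w - R h w) := by
        rw [map_sub, ← Module.End.mul_apply, ← Module.End.mul_apply, ← map_mul, R_inv_mul,
          Module.End.one_apply]
      rw [e]
      exact hUR _ _ (h2 h w)
  calc R (τ h) = R h * R (h⁻¹ * τ h) := by rw [← map_mul, mul_inv_cancel_left]
    _ = R h := by rw [hA, mul_one]

end SGCore

/-- The Shult–Gross module theorem (inductive form). -/
theorem sg_core_aux {K : Type u} [Field K] [IsAlgClosed K] (p : ℕ) (hp : p.Prime) (hp2 : p ≠ 2)
    (q : ℕ) [Fact q.Prime] (hpq : p ≠ q) (hpK : (p : K) ≠ 0) (hqK : (q : K) ≠ 0) (N : ℕ) :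
    ∀ {H : Type v} [Group H] [Finite H], Nat.card H ≤ N → IsPGroup q H →
    ∀ (D : ℕ) {W : Type w} [AddCommGroup W] [Module K W] [FiniteDimensional K W],
      finrank K W ≤ D →
    ∀ (n : ℕ) (α : MulAut H) (R : H →* Module.End K W) (X : Module.End K W),
      α ^ (p ^ n) = 1 → (∀ g, α g = g → g = 1) → X ^ (p ^ n) = 1 →
      (∀ h, X * R h = R (α h) * X) → (∀ w, X w = w → w = 0) →
      ∀ h, R ((α ^ (p ^ (n - 1))) h) = R h := by
  induction N with
  | zero =>
    intro H _ _ hcard
    have := Nat.card_pos (α := H)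
    omega
  | succ N ihN =>
    intro H _ _ hcard hH D
    induction D with
    | zero =>
      intro W _ _ _ hdim n α R X hα hfpf hXP hXR hfix h
      have hsub : Subsingleton W := (Module.finrank_zero_iff (R := K)).mp (Nat.le_zero.mp hdim)
      apply LinearMap.ext
      intro w
      exact Subsingleton.elim _ _
    | succ D ihD =>
      intro W _ _ _ hdim n α R X hα hfpf hXP hXR hfix
      rcases Nat.eq_zero_or_pos n with hn0 | hn
      · subst hn0
        intro h
        have h1 : α = 1 := by simpa using hα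
        rw [h1]
        simp
      rcases subsingleton_or_nontrivial W with hsub | hnt
      · intro h
        apply LinearMap.ext
        intro w
        exact Subsingleton.elim _ _
      have hPK : ((p ^ n : ℕ) : K) ≠ 0 := by
        rw [Nat.cast_pow]
        exact pow_ne_zero _ hpK
      by_cases hred : ∃ U : Submodule K W, (∀ h, ∀ w ∈ U, R h w ∈ U) ∧ (∀ w ∈ U, X w ∈ U) ∧
          U ≠ ⊥ ∧ U ≠ ⊤
      · obtain ⟨U, hUR, hUX, hU0, hU1⟩ := hred
        have hdU : finrank K U ≤ D := by
          have h1 := Submodule.finrank_lt hU1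
          omega
        have hdQ : finrank K (W ⧸ U) ≤ D := by
          have h1 := Submodule.finrank_quotient_add_finrank U
          have h2 : 0 < finrank K U := by
            rw [Module.finrank_pos_iff]
            exact (Submodule.nontrivial_iff_ne_bot).mpr hU0
          omega
        have hXPU : (X.restrict hUX : Module.End K U) ^ (p ^ n) = 1 := by
          apply LinearMap.ext
          intro y
          apply Subtype.ext
          rw [sg_restrict_pow_apply, hXP]
          rfl
        have hXRU : ∀ h, (X.restrict hUX : Module.End K U) * sgRes R U hUR h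
            = sgRes R U hUR (α h) * (X.restrict hUX : Module.End K U) := by
          intro h
          apply LinearMap.ext
          intro y
          apply Subtype.ext
          exact congrArg (fun F : Module.End K W => F (y : W)) (hXR h)
        have hfixU : ∀ y : U, (X.restrict hUX : Module.End K U) y = y → y = 0 := by
          intro y hy
          exact Subtype.ext (hfix y (congrArg Subtype.val hy))
        have c1 := ihD (W := U) hdU n α (sgRes R U hUR) (X.restrict hUX) hα hfpf hXPU hXRU hfixU
        have hXPQ : (U.mapQ U X (fun w hw => hUX w hw) : Module.End K (W ⧸ U)) ^ (p ^ n) = 1 := by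
          apply LinearMap.ext
          intro x
          obtain ⟨w, rfl⟩ := Submodule.Quotient.mk_surjective U x
          rw [sg_mapQ_pow_mk, hXP]
          rfl
        have hXRQ : ∀ h, (U.mapQ U X (fun w hw => hUX w hw) : Module.End K (W ⧸ U))
              * sgQuot R U hUR h
            = sgQuot R U hUR (α h) * (U.mapQ U X (fun w hw => hUX w hw) : Module.End K (W ⧸ U)) := by
          intro h
          apply LinearMap.ext
          intro x
          obtain ⟨w, rfl⟩ := Submodule.Quotient.mk_surjective U x
          exact congrArg (fun F : Module.End K W => (Submodule.Quotient.mk (F w) : W ⧸ U)) (hXR h)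
        have hfixQ := sg_quot_fix X (p ^ n) hPK hXP hfix U hUX
        have c2 := ihD (W := W ⧸ U) hdQ n α (sgQuot R U hUR) (U.mapQ U X (fun w hw => hUX w hw))
          hα hfpf hXPQ hXRQ hfixQ
        intro h
        apply sg_core_red q hqK hH R (α ^ (p ^ (n - 1))) U hUR ?_ ?_ h
        · intro h u hu
          exact congrArg (fun F : Module.End K U => (F ⟨u, hu⟩ : W)) (c1 h)
        · intro h w
          have h3 := congrArg (fun F : Module.End K (W ⧸ U) => F (Submodule.Quotient.mk w)) (c2 h)
          exact (Submodule.Quotient.eq U).mp h3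
      · have hirr : ∀ U : Submodule K W, (∀ h, ∀ w ∈ U, R h w ∈ U) → (∀ w ∈ U, X w ∈ U) →
            U = ⊥ ∨ U = ⊤ := by
          intro U h1 h2
          by_contra hcon
          rw [not_or] at hcon
          exact hred ⟨U, h1, h2, hcon.1, hcon.2⟩
        by_contra hcon
        have hne : sgT0 (α ^ (p ^ (n - 1))) R ≠ ⊤ := by
          intro htop
          apply hcon
          intro h
          have h1 : h ∈ sgT0 (α ^ (p ^ (n - 1))) R := by
            rw [htop]
            trivial
          exact h1
        have hmin : ∀ L : Subgroup H, (∀ x ∈ L, α x ∈ L) → L ≠ ⊤ →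
            L ≤ sgT0 (α ^ (p ^ (n - 1))) R := by
          intro L hL hLtop x hx
          have hcardL : Nat.card L ≤ N := by
            have h1 : Nat.card L < Nat.card H :=
              lt_of_le_of_ne (Subgroup.card_le_card_group L)
                (fun h => hLtop ((Subgroup.card_eq_iff_eq_top L).mp h))
            omega
          have hαL : (restrictAut α L hL : MulAut L) ^ (p ^ n) = 1 := by
            refine MulEquiv.ext fun y => Subtype.ext ?_
            rw [sg_restrict_pow, hα]
            rfl
          have hfpfL : ∀ g : L, (restrictAut α L hL : MulAut L) g = g → g = 1 :=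
            fun g hg => Subtype.ext (hfpf g (congrArg Subtype.val hg))
          have hXRL : ∀ y : L, X * (R.comp L.subtype) y
              = (R.comp L.subtype) ((restrictAut α L hL : MulAut L) y) * X := fun y => hXR (y : H)
          have h2 := ihN (H := L) hcardL (hH.to_subgroup L) (finrank K W) (W := W) le_rfl n
            (restrictAut α L hL) (R.comp L.subtype) X hαL hfpfL hXP hXRL hfix ⟨x, hx⟩
          have h3 := sg_restrict_pow α L hL (p ^ (n - 1)) ⟨x, hx⟩
          rw [mem_sgT0, ← h3]
          exact h2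
        have hc : SGCrit p n α (α ^ (p ^ (n - 1))) R X := ⟨rfl, hα, hXP, hXR, hmin, hne⟩
        exact sg_irr_false hc hp hp2 hn q hpq hH hpK hqK hfpf hirr hfix

/-- The Shult–Gross module theorem. -/
theorem sg_core {K : Type*} [Field K] [IsAlgClosed K] {H : Type*} [Group H] [Finite H]
    {W : Type*} [AddCommGroup W] [Module K W] [FiniteDimensional K W]
    (p : ℕ) (hp : p.Prime) (hp2 : p ≠ 2) (q : ℕ) [Fact q.Prime] (hpq : p ≠ q)
    (hpK : (p : K) ≠ 0) (hqK : (q : K) ≠ 0) (hH : IsPGroup q H) (n : ℕ) (α : MulAut H)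
    (R : H →* Module.End K W) (X : Module.End K W) (hα : α ^ (p ^ n) = 1)
    (hfpf : ∀ g, α g = g → g = 1) (hXP : X ^ (p ^ n) = 1) (hXR : ∀ h, X * R h = R (α h) * X)
    (hfix : ∀ w, X w = w → w = 0) : ∀ h, R ((α ^ (p ^ (n - 1))) h) = R h :=
  sg_core_aux p hp hp2 q hpq hpK hqK (Nat.card H) le_rfl hH (finrank K W) le_rfl n α R X hα hfpf
    hXP hXR hfix

end Cfsg.Agent.Lib.helper75
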