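import Mathlib
import Cfsg.Agent.Lib.helper75.SGAut
import Cfsg.Agent.Lib.helper75.SGCore

set_option autoImplicit false

namespace Cfsg.Agent.Lib.helper75

open Module

section SGModule

/-- Extension of scalars of endomorphisms (via matrices): an injective ring homomorphism. -/
theorem sg_baseChange (F : Type*) [Field F] (V : Type*) [AddCommGroup V] [Module F V]
    [FiniteDimensional F V] (K : Type*) [Field K] [Algebra F K] :
    ∃ Φ : Module.End F V →+* Module.End K (Fin (Module.finrank F V) → K),
      Function.Injective Φ := by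
  classical
  let e1 : Module.End F V →+* Matrix (Fin (Module.finrank F V)) (Fin (Module.finrank F V)) F :=
    (LinearMap.toMatrixAlgEquiv (Module.finBasis F V)).toRingEquiv.toRingHom
  let e2 : Matrix (Fin (Module.finrank F V)) (Fin (Module.finrank F V)) F →+*
      Matrix (Fin (Module.finrank F V)) (Fin (Module.finrank F V)) K := (algebraMap F K).mapMatrix
  let e3 : Matrix (Fin (Module.finrank F V)) (Fin (Module.finrank F V)) K →+*
      Module.End K (Fin (Module.finrank F V) → K) :=
    (Matrix.toLinAlgEquiv' (R := K) (n := Fin (Module.finrank F V))).toRingEquiv.toRingHom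
  refine ⟨(e3.comp e2).comp e1, ?_⟩
  have h1 : Function.Injective e1 :=
    (LinearMap.toMatrixAlgEquiv (Module.finBasis F V)).injective
  have h2 : Function.Injective e2 := Matrix.map_injective (algebraMap F K).injective
  have h3 : Function.Injective e3 :=
    (Matrix.toLinAlgEquiv' (R := K) (n := Fin (Module.finrank F V))).injective
  exact (h3.comp h2).comp h1

/-- Linearization of automorphisms of an abelian group of prime exponent. -/
def sgLin (r : ℕ) {M : Type*} [CommGroup M] [Module (ZMod r) (Additive M)] :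
    MulAut M →* Module.End (ZMod r) (Additive M) where
  toFun f := (MonoidHom.toAdditive f.toMonoidHom).toZModLinearMap r
  map_one' := LinearMap.ext fun _ => rfl
  map_mul' _ _ := LinearMap.ext fun _ => rfl

theorem sgLin_apply (r : ℕ) {M : Type*} [CommGroup M] [Module (ZMod r) (Additive M)]
    (f : MulAut M) (u : Additive M) :
    sgLin r f u = Additive.ofMul (f (Additive.toMul u)) := rfl

theorem sgLin_injective (r : ℕ) {M : Type*} [CommGroup M] [Module (ZMod r) (Additive M)] :
    Function.Injective (sgLin r : MulAut M →* Module.End (ZMod r) (Additive M)) := by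
  intro f g hfg
  refine MulEquiv.ext fun x => ?_
  exact congrArg (fun F : Module.End (ZMod r) (Additive M) =>
    Additive.toMul (F (Additive.ofMul x))) hfg

/-- The Shult–Gross module theorem for actions on elementary abelian groups (linear form). -/
theorem sg_core_lin {M : Type*} [CommGroup M] [Finite M] {H : Type*} [Group H] [Finite H]
    (p : ℕ) (hp : p.Prime) (hp2 : p ≠ 2) (q : ℕ) [Fact q.Prime] (hpq : p ≠ q)
    (r : ℕ) [Fact r.Prime] (hrq : r ≠ q) (hrp : r ≠ p) [Module (ZMod r) (Additive M)]
    (hH : IsPGroup q H) (n : ℕ) (α : MulAut H) (hα : α ^ (p ^ n) = 1)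
    (hfpf : ∀ g, α g = g → g = 1)
    (φ : H →* MulAut M) (β : MulAut M) (hβ : β ^ (p ^ n) = 1) (hβfpf : ∀ x, β x = x → x = 1)
    (hβφ : ∀ h x, β (φ h x) = φ (α h) (β x)) :
    ∀ h, φ ((α ^ (p ^ (n - 1))) h) = φ h := by
  classical
  have hr : r.Prime := Fact.out
  have hq : q.Prime := Fact.out
  haveI : Finite (Additive M) := inferInstanceAs (Finite M)
  haveI : Module.Finite (ZMod r) (Additive M) := Module.Finite.of_finite
  obtain ⟨Φ, hΦ⟩ := sg_baseChange (ZMod r) (Additive M) (AlgebraicClosure (ZMod r))
  haveI hchar : CharP (AlgebraicClosure (ZMod r)) r :=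
    charP_of_injective_algebraMap (algebraMap (ZMod r) (AlgebraicClosure (ZMod r))).injective r
  have hpK : (p : AlgebraicClosure (ZMod r)) ≠ 0 := by
    intro h
    have h1 := (CharP.cast_eq_zero_iff (AlgebraicClosure (ZMod r)) r p).mp h
    exact hrp ((Nat.prime_dvd_prime_iff_eq hr hp).mp h1)
  have hqK : (q : AlgebraicClosure (ZMod r)) ≠ 0 := by
    intro h
    have h1 := (CharP.cast_eq_zero_iff (AlgebraicClosure (ZMod r)) r q).mp h
    exact hrq ((Nat.prime_dvd_prime_iff_eq hr hq).mp h1)
  obtain ⟨Rk, hRk⟩ : ∃ Rk : H →* Module.End (AlgebraicClosure (ZMod r))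
      (Fin (Module.finrank (ZMod r) (Additive M)) → AlgebraicClosure (ZMod r)),
      ∀ h, Rk h = Φ (sgLin r (φ h)) :=
    ⟨(Φ.toMonoidHom.comp (sgLin r)).comp φ, fun h => rfl⟩
  have hXP : Φ (sgLin r β) ^ (p ^ n) = 1 := by
    rw [← map_pow, ← map_pow, hβ, map_one, map_one]
  have hXR : ∀ h, Φ (sgLin r β) * Rk h = Rk (α h) * Φ (sgLin r β) := by
    intro h
    rw [hRk, hRk, ← map_mul, ← map_mul, ← map_mul, ← map_mul]
    congr 2
    refine MulEquiv.ext fun x => ?_
    exact hβφ h x
  have hfix : ∀ w, Φ (sgLin r β) w = w → w = 0 := by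
    have hinj : Function.Injective (sgLin r β - 1 : Module.End (ZMod r) (Additive M)) := by
      rw [injective_iff_map_eq_zero]
      intro u hu
      have h1 : sgLin r β u = u := sub_eq_zero.mp hu
      have h2 := hβfpf (Additive.toMul u) (congrArg Additive.toMul h1)
      exact congrArg Additive.ofMul h2
    have hunit : IsUnit (sgLin r β - 1 : Module.End (ZMod r) (Additive M)) :=
      (Module.End.isUnit_iff _).mpr ⟨hinj, LinearMap.injective_iff_surjective.mp hinj⟩
    have hunit2 : IsUnit (Φ (sgLin r β) - 1) := by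
      have h1 := hunit.map Φ
      rwa [map_sub, map_one] at h1
    intro w hw
    have h1 : (Φ (sgLin r β) - 1) w = 0 := by
      rw [LinearMap.sub_apply, hw, Module.End.one_apply, sub_self]
    exact ((Module.End.isUnit_iff _).mp hunit2).injective (h1.trans (map_zero _).symm)
  have key := sg_core p hp hp2 q hpq hpK hqK hH n α Rk (Φ (sgLin r β)) hα hfpf hXP hXR hfix
  intro h
  apply sgLin_injective r
  apply hΦ
  rw [← hRk, ← hRk]
  exact key h

/-- The Shult–Gross module theorem for actions on elementary abelian groups. -/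
theorem sg_core_grp {M : Type*} [CommGroup M] [Finite M] {H : Type*} [Group H] [Finite H]
    (p : ℕ) (hp : p.Prime) (hp2 : p ≠ 2) (q : ℕ) [Fact q.Prime] (hpq : p ≠ q)
    (r : ℕ) [Fact r.Prime] (hrq : r ≠ q) (hM : ∀ x : M, x ^ r = 1)
    (hH : IsPGroup q H) (n : ℕ) (α : MulAut H) (hα : α ^ (p ^ n) = 1)
    (hfpf : ∀ g, α g = g → g = 1)
    (φ : H →* MulAut M) (β : MulAut M) (hβ : β ^ (p ^ n) = 1) (hβfpf : ∀ x, β x = x → x = 1)
    (hβφ : ∀ h x, β (φ h x) = φ (α h) (β x)) :
    ∀ h, φ ((α ^ (p ^ (n - 1))) h) = φ h := by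
  classical
  have hr : r.Prime := Fact.out
  rcases subsingleton_or_nontrivial M with hsub | hnt
  · intro h
    refine MulEquiv.ext fun x => ?_
    exact Subsingleton.elim _ _
  have hrp : r ≠ p := by
    intro hrp
    obtain ⟨x, hx⟩ := exists_ne (1 : M)
    have h1 : orderOf x ∣ r := orderOf_dvd_of_pow_eq_one (hM x)
    have h2 : orderOf x = r := by
      rcases (Nat.dvd_prime hr).mp h1 with h | h
      · exact absurd (orderOf_eq_one_iff.mp h) hx
      · exact h
    have h3 : p ∣ Nat.card M := by
      rw [← hrp, ← h2]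
      exact orderOf_dvd_natCard x
    exact sg_not_dvd_card β p n hp hβ hβfpf h3
  have hexp : ∀ a : Additive M, r • a = 0 := by
    intro a
    apply Additive.toMul.injective
    rw [toMul_nsmul, hM]
    rfl
  letI : Module (ZMod r) (Additive M) := AddCommGroup.zmodModule hexp
  exact sg_core_lin p hp hp2 q hpq r hrq hrp hH n α hα hfpf φ β hβ hβfpf hβφ

end SGModule

end Cfsg.Agent.Lib.helper75
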