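import Mathlib
import Cfsg.Agent.S0031
import Cfsg.Agent.Lib.helper1.ThompsonFpf
import Cfsg.Agent.Lib.helper75.SGAut
import Cfsg.Agent.Lib.helper75.SGModule

set_option autoImplicit false

namespace Cfsg.Agent.Lib.helper75

open Cfsg.Agent.Lib.helper1

universe u

section SGWrap

variable {G : Type*} [Group G]

/-- The subgroup `[G, τ]` generated by the elements `g⁻¹ τ(g)`. -/
def sgK (τ : MulAut G) : Subgroup G := Subgroup.closure (Set.range fun g : G => g⁻¹ * τ g)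

theorem sgK_mem (τ : MulAut G) (g : G) : g⁻¹ * τ g ∈ sgK τ :=
  Subgroup.subset_closure ⟨g, rfl⟩

theorem sgK_le (τ : MulAut G) (N : Subgroup G) (h : ∀ g, g⁻¹ * τ g ∈ N) : sgK τ ≤ N := by
  rw [sgK, Subgroup.closure_le]
  rintro _ ⟨g, rfl⟩
  exact h g

theorem sgK_map {G' : Type*} [Group G'] (f : G →* G') (τ : MulAut G) (τ' : MulAut G')
    (hf : ∀ x, f (τ x) = τ' (f x)) : ∀ x ∈ sgK τ, f x ∈ sgK τ' := by
  intro x hx
  have h1 : sgK τ ≤ (sgK τ').comap f := by
    apply sgK_le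
    intro g
    rw [Subgroup.mem_comap, map_mul, map_inv, hf]
    exact sgK_mem τ' (f g)
  exact h1 hx

instance sgK_normal (τ : MulAut G) : (sgK τ).Normal := by
  constructor
  intro n hn g
  have h1 : sgK τ ≤ (sgK τ).comap (MulAut.conj g).toMonoidHom := by
    apply sgK_le
    intro h
    rw [Subgroup.mem_comap]
    have e : (MulAut.conj g).toMonoidHom (h⁻¹ * τ h)
        = ((h * g⁻¹)⁻¹ * τ (h * g⁻¹)) * ((g⁻¹)⁻¹ * τ g⁻¹)⁻¹ := by
      show g * (h⁻¹ * τ h) * g⁻¹ = _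
      rw [map_mul, map_inv]
      group
    rw [e]
    exact Subgroup.mul_mem _ (sgK_mem τ _) (Subgroup.inv_mem _ (sgK_mem τ _))
  exact h1 hn

theorem sgK_inv (σ τ : MulAut G) (hcomm : ∀ x, σ (τ x) = τ (σ x)) :
    ∀ x ∈ sgK τ, σ x ∈ sgK τ :=
  sgK_map σ.toMonoidHom τ τ hcomm

/-- Step 1 of the wrapper: a faithful irreducible action forces `τ` to be trivial. -/
theorem sg_tau_fix {A : Type*} [Group A] [Finite A] {M : Type*} [CommGroup M] [Finite M]
    [Nontrivial M] (p : ℕ) (hp : p.Prime) (hp2 : p ≠ 2) (r : ℕ) [Fact r.Prime]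
    (hM : ∀ x : M, x ^ r = 1) (n : ℕ) (hn : 1 ≤ n) (σ : MulAut A) (hσ : σ ^ (p ^ n) = 1)
    (hfpf : ∀ g, σ g = g → g = 1) (β : MulAut M) (hβ : β ^ (p ^ n) = 1)
    (hβfpf : ∀ x, β x = x → x = 1) (φ : A →* MulAut M) (hφ : Function.Injective φ)
    (hβφ : ∀ a x, β (φ a x) = φ (σ a) (β x))
    (hirr : ∀ F : Subgroup M, (∀ a, ∀ m ∈ F, φ a m ∈ F) → (∀ m ∈ F, β m ∈ F) → F = ⊥ ∨ F = ⊤)
    (hnil : Group.IsNilpotent ↥(sgK (σ ^ (p ^ (n - 1))))) :
    ∀ x, (σ ^ (p ^ (n - 1))) x = x := by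
  classical
  have hr : r.Prime := Fact.out
  obtain ⟨τ, hτ⟩ : ∃ τ : MulAut A, τ = σ ^ (p ^ (n - 1)) := ⟨_, rfl⟩
  rw [← hτ] at hnil ⊢
  have hτσ : ∀ x, σ (τ x) = τ (σ x) := fun x => by
    rw [hτ]
    exact (sg_pow_comm σ _ x).symm
  have hKσ : ∀ x ∈ sgK τ, σ x ∈ sgK τ := sgK_inv σ τ hτσ
  have hP0 : 0 < p ^ n := pow_pos hp.pos n
  have hnd := sg_not_dvd_card σ p n hp hσ hfpf
  have hrM : r ∣ Nat.card M := by
    obtain ⟨x, hx⟩ := exists_ne (1 : M)
    have h1 : orderOf x ∣ r := orderOf_dvd_of_pow_eq_one (hM x)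
    have h2 : orderOf x = r := by
      rcases (Nat.dvd_prime hr).mp h1 with h | h
      · exact absurd (orderOf_eq_one_iff.mp h) hx
      · exact h
    rw [← h2]
    exact orderOf_dvd_natCard x
  have hrK : ¬ r ∣ Nat.card (sgK τ) := by
    intro hdvd
    obtain ⟨P⟩ : Nonempty (Sylow r (sgK τ)) := inferInstance
    have hPn : (P : Subgroup (sgK τ)).Normal :=
      Sylow.normal_of_normalizerCondition Group.normalizerCondition_of_isNilpotent P
    haveI hPc : (P : Subgroup (sgK τ)).Characteristic := Sylow.characteristic_of_normal P hPn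
    have hPne : (P : Subgroup (sgK τ)) ≠ ⊥ := P.ne_bot_of_dvd_card hdvd
    obtain ⟨Q, hQ⟩ : ∃ Q : Subgroup A, Q = (P : Subgroup (sgK τ)).map (sgK τ).subtype := ⟨_, rfl⟩
    have hQn : Q.Normal := by
      rw [hQ]
      exact ConjAct.normal_of_characteristic_of_normal
    have hQr : IsPGroup r Q := by
      rw [hQ]
      exact P.isPGroup'.map (sgK τ).subtype
    have hQσ : ∀ x ∈ Q, σ x ∈ Q := by
      intro x hx
      rw [hQ] at hx ⊢
      obtain ⟨y, hy, rfl⟩ := hx
      refine ⟨restrictAut σ (sgK τ) hKσ y, ?_, rfl⟩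
      have h1 := hPc.fixed (restrictAut σ (sgK τ) hKσ)
      have h2 : y ∈ (P : Subgroup (sgK τ)).comap (restrictAut σ (sgK τ) hKσ).toMonoidHom := by
        rw [h1]
        exact hy
      exact h2
    have hQσ' : ∀ x ∈ Q, σ⁻¹ x ∈ Q := sg_inv_mem σ (p ^ n) hP0 hσ Q hQσ
    obtain ⟨F, hF⟩ : ∃ F : Subgroup M, ∀ m, m ∈ F ↔ ∀ x ∈ Q, φ x m = m :=
      ⟨{ carrier := {m | ∀ x ∈ Q, φ x m = m}
         mul_mem' := by
          intro a b ha hb x hx
          rw [map_mul, ha x hx, hb x hx]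
         one_mem' := by
          intro x hx
          exact map_one _
         inv_mem' := by
          intro a ha x hx
          rw [map_inv, ha x hx] }, fun m => Iff.rfl⟩
    have hFne : F ≠ ⊥ := by
      letI : MulAction Q M := MulAction.compHom M (φ.comp Q.subtype)
      have h1 : (1 : M) ∈ MulAction.fixedPoints Q M := by
        intro x
        show φ (x : A) 1 = 1
        exact map_one _
      obtain ⟨b, hb, hb1⟩ := hQr.exists_fixed_point_of_prime_dvd_card_of_fixed_point M hrM h1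
      intro hbot
      apply hb1
      have h2 : b ∈ F := (hF b).mpr (fun x hx => hb ⟨x, hx⟩)
      rw [hbot] at h2
      exact (Subgroup.mem_bot.mp h2).symm
    have hFφ : ∀ a, ∀ m ∈ F, φ a m ∈ F := by
      intro a m hm
      rw [hF] at hm ⊢
      intro x hx
      have h1 : a⁻¹ * x * a ∈ Q := by
        have h2 := hQn.conj_mem x hx a⁻¹
        rwa [inv_inv] at h2
      have h2 : x * a = a * (a⁻¹ * x * a) := by group
      rw [← MulAut.mul_apply, ← map_mul, h2, map_mul, MulAut.mul_apply, hm _ h1]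
    have hFβ : ∀ m ∈ F, β m ∈ F := by
      intro m hm
      rw [hF] at hm ⊢
      intro x hx
      have h1 := hβφ (σ⁻¹ x) m
      rw [MulAut.apply_inv_self, hm _ (hQσ' x hx)] at h1
      exact h1.symm
    rcases hirr F hFφ hFβ with h | h
    · exact hFne h
    · apply hPne
      rw [eq_bot_iff]
      intro y hy
      have hyQ : (y : A) ∈ Q := by
        rw [hQ]
        exact ⟨y, hy, rfl⟩
      have h1 : φ (y : A) = 1 := by
        refine MulEquiv.ext fun m => ?_
        have hm : m ∈ F := by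
          rw [h]
          trivial
        exact (hF m).mp hm _ hyQ
      have h2 : (y : A) = 1 := hφ (h1.trans (map_one φ).symm)
      exact Subgroup.mem_bot.mpr (Subtype.ext h2)
  have hfixK : ∀ y ∈ sgK τ, τ y = y := by
    obtain ⟨Fix, hFix⟩ : ∃ Fix : Subgroup (sgK τ), ∀ y, y ∈ Fix ↔ τ (y : A) = y :=
      ⟨{ carrier := {y | τ (y : A) = y}
         mul_mem' := by
          intro a b ha hb
          show τ ((a * b : sgK τ) : A) = _
          rw [Subgroup.coe_mul, map_mul, ha, hb]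
         one_mem' := by
          show τ ((1 : sgK τ) : A) = _
          rw [Subgroup.coe_one, map_one]
         inv_mem' := by
          intro a ha
          show τ ((a⁻¹ : sgK τ) : A) = _
          rw [Subgroup.coe_inv, map_inv, ha] }, fun y => Iff.rfl⟩
    have hFixtop : Fix = ⊤ := by
      by_contra hne
      have hidx : Fix.index ≠ 1 := fun h => hne (Subgroup.index_eq_one.mp h)
      obtain ⟨q, hq, hqd⟩ := Nat.exists_prime_and_dvd hidx
      haveI : Fact q.Prime := ⟨hq⟩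
      have hqK : q ∣ Nat.card (sgK τ) := dvd_trans hqd (Subgroup.index_dvd_card Fix)
      have hqr : r ≠ q := by
        rintro rfl
        exact hrK hqK
      have hpq : p ≠ q := by
        rintro rfl
        exact hnd (dvd_trans hqK (Subgroup.card_subgroup_dvd_card (sgK τ)))
      obtain ⟨P, hP⟩ := Cfsg.Agent.S0031.result (restrictAut σ (sgK τ) hKσ)
        (fun g hg => Subtype.ext (hfpf g (congrArg Subtype.val hg))) q
      have hPσ : ∀ y ∈ (P : Subgroup (sgK τ)),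
          restrictAut σ (sgK τ) hKσ y ∈ (P : Subgroup (sgK τ)) := by
        intro y hy
        have h1 : restrictAut σ (sgK τ) hKσ y ∈ (P : Subgroup (sgK τ)).map
            ((restrictAut σ (sgK τ) hKσ : (sgK τ) ≃* (sgK τ)) : (sgK τ) →* (sgK τ)) :=
          ⟨y, hy, rfl⟩
        rwa [hP] at h1
      have hPle : (P : Subgroup (sgK τ)) ≤ Fix := by
        intro y hy
        have hα : (restrictAut (restrictAut σ (sgK τ) hKσ) (P : Subgroup (sgK τ)) hPσ :
            MulAut (P : Subgroup (sgK τ))) ^ (p ^ n) = 1 := by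
          refine MulEquiv.ext fun z => Subtype.ext (Subtype.ext ?_)
          rw [sg_restrict_pow, sg_restrict_pow, hσ]
          rfl
        have key := sg_core_grp p hp hp2 q hpq r hqr hM P.isPGroup' n
          (restrictAut (restrictAut σ (sgK τ) hKσ) (P : Subgroup (sgK τ)) hPσ) hα
          (fun g hg => Subtype.ext (Subtype.ext
            (hfpf _ (congrArg (fun z : (P : Subgroup (sgK τ)) => ((z : sgK τ) : A)) hg))))
          (φ.comp ((sgK τ).subtype.comp (P : Subgroup (sgK τ)).subtype)) β hβ hβfpf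
          (fun h x => hβφ ((h : sgK τ) : A) x) ⟨y, hy⟩
        have h1 : ((((restrictAut (restrictAut σ (sgK τ) hKσ) (P : Subgroup (sgK τ)) hPσ :
            MulAut (P : Subgroup (sgK τ))) ^ (p ^ (n - 1))) ⟨y, hy⟩ : sgK τ) : A) = (y : A) :=
          hφ key
        rw [sg_restrict_pow, sg_restrict_pow, ← hτ] at h1
        exact (hFix y).mpr h1
      have h1 : Fix.index ∣ (P : Subgroup (sgK τ)).index := Subgroup.index_dvd_of_le hPle
      exact P.not_dvd_index (dvd_trans hqd h1)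
    intro y hy
    have h1 : (⟨y, hy⟩ : sgK τ) ∈ Fix := by
      rw [hFixtop]
      trivial
    exact (hFix _).mp h1
  intro x
  have hc := hfixK _ (sgK_mem τ x)
  have hck : ∀ j : ℕ, (τ ^ j) (x⁻¹ * τ x) = x⁻¹ * τ x := by
    intro j
    induction j with
    | zero => simp
    | succ j ihj => rw [pow_succ, MulAut.mul_apply, hc, ihj]
  have hiter : ∀ k : ℕ, (τ ^ k) x = x * (x⁻¹ * τ x) ^ k := by
    intro k
    induction k with
    | zero => simp
    | succ k ih =>
      have h3 : (τ ^ (k + 1)) x = (τ ^ k) x * (τ ^ k) (x⁻¹ * τ x) := by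
        rw [← map_mul, mul_inv_cancel_left, pow_succ, MulAut.mul_apply]
      rw [h3, ih, hck, pow_succ, mul_assoc]
  have hτp : τ ^ p = 1 := by
    rw [hτ, ← pow_mul, ← pow_succ, Nat.sub_add_cancel hn, hσ]
  have h1 := hiter p
  rw [hτp, MulAut.one_apply] at h1
  have hcp : (x⁻¹ * τ x) ^ p = 1 := by
    have h2 : x * 1 = x * (x⁻¹ * τ x) ^ p := by rw [mul_one, ← h1]
    exact (mul_left_cancel h2).symm
  have hc1 : x⁻¹ * τ x = 1 := by
    have h2 : orderOf (x⁻¹ * τ x) ∣ p := orderOf_dvd_of_pow_eq_one hcp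
    rcases (Nat.dvd_prime hp).mp h2 with h | h
    · exact orderOf_eq_one_iff.mp h
    · exfalso
      apply hnd
      rw [← h]
      exact orderOf_dvd_natCard _
  calc τ x = x * (x⁻¹ * τ x) := by group
    _ = x := by rw [hc1, mul_one]

theorem sg_exists_min [Finite G] [Nontrivial G] (σ : MulAut G) :
    ∃ M : Subgroup G, M.Normal ∧ (∀ x ∈ M, σ x ∈ M) ∧ M ≠ ⊥ ∧
      ∀ N : Subgroup G, N.Normal → (∀ x ∈ N, σ x ∈ N) → N ≤ M → N = ⊥ ∨ N = M := by
  classical
  have htop : (⊤ : Subgroup G) ≠ ⊥ := by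
    intro h
    obtain ⟨x, hx⟩ := exists_ne (1 : G)
    have h1 : x ∈ (⊤ : Subgroup G) := trivial
    rw [h] at h1
    exact hx (Subgroup.mem_bot.mp h1)
  have hex : ∃ k : ℕ, ∃ M : Subgroup G, M.Normal ∧ (∀ x ∈ M, σ x ∈ M) ∧ M ≠ ⊥ ∧
      Nat.card M = k :=
    ⟨Nat.card (⊤ : Subgroup G), ⊤, inferInstance, fun x _ => trivial, htop, rfl⟩
  obtain ⟨M, hMn, hMσ, hM0, hMk⟩ := Nat.find_spec hex
  refine ⟨M, hMn, hMσ, hM0, ?_⟩
  intro N hNn hNσ hNM
  by_cases hN0 : N = ⊥
  · exact Or.inl hN0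
  · right
    have h1 : Nat.find hex ≤ Nat.card N := Nat.find_min' hex ⟨N, hNn, hNσ, hN0, rfl⟩
    rw [← hMk] at h1
    exact Subgroup.eq_of_le_of_card_ge hNM h1

theorem sg_min_abelian [Finite G] (hG : Group.IsSolvable G) (σ : MulAut G) (M : Subgroup G)
    [hMn : M.Normal] (hMσ : ∀ x ∈ M, σ x ∈ M) (hM0 : M ≠ ⊥)
    (hmin : ∀ N : Subgroup G, N.Normal → (∀ x ∈ N, σ x ∈ N) → N ≤ M → N = ⊥ ∨ N = M) :
    ∀ a ∈ M, ∀ b ∈ M, a * b = b * a := by
  have hcn : (⁅M, M⁆ : Subgroup G).Normal := inferInstance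
  have hcσ : ∀ x ∈ (⁅M, M⁆ : Subgroup G), σ x ∈ (⁅M, M⁆ : Subgroup G) := by
    intro x hx
    have h0 : M.map σ.toMonoidHom ≤ M := by
      rintro _ ⟨y, hy, rfl⟩
      exact hMσ y hy
    have h1 : (⁅M, M⁆ : Subgroup G).map σ.toMonoidHom ≤ ⁅M, M⁆ := by
      rw [Subgroup.map_commutator]
      exact Subgroup.commutator_mono h0 h0
    exact h1 ⟨x, hx, rfl⟩
  have hle : (⁅M, M⁆ : Subgroup G) ≤ M := Subgroup.commutator_le_right M M
  rcases hmin _ hcn hcσ hle with h | h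
  · have h1 := Subgroup.commutator_eq_bot_iff_le_centralizer.mp h
    intro a ha b hb
    exact (Subgroup.mem_centralizer_iff.mp (h1 ha) b hb).symm
  · exfalso
    haveI : Nontrivial M := (Subgroup.nontrivial_iff_ne_bot M).mpr hM0
    haveI : Group.IsSolvable M := inferInstance
    have h1 := Group.IsSolvable.commutator_lt_top_of_nontrivial M
    have h2 := Subgroup.map_subtype_commutator M
    rw [h] at h2
    have h3 : (commutator M).map M.subtype = (⊤ : Subgroup M).map M.subtype := by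
      rw [h2, ← MonoidHom.range_eq_map, Subgroup.range_subtype]
    have h4 := Subgroup.map_injective M.subtype_injective h3
    exact ne_of_lt h1 h4

theorem sg_min_exp [Finite G] (σ : MulAut G) (M : Subgroup G) [hMn : M.Normal]
    (hMσ : ∀ x ∈ M, σ x ∈ M) (hM0 : M ≠ ⊥)
    (hmin : ∀ N : Subgroup G, N.Normal → (∀ x ∈ N, σ x ∈ N) → N ≤ M → N = ⊥ ∨ N = M)
    (hab : ∀ a ∈ M, ∀ b ∈ M, a * b = b * a) : ∃ r : ℕ, r.Prime ∧ ∀ x ∈ M, x ^ r = 1 := by
  classical
  haveI : Nontrivial M := (Subgroup.nontrivial_iff_ne_bot M).mpr hM0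
  have hcard : Nat.card M ≠ 1 := by
    have h1 : 1 < Nat.card M := Finite.one_lt_card
    omega
  obtain ⟨r, hr, hrd⟩ := Nat.exists_prime_and_dvd hcard
  haveI : Fact r.Prime := ⟨hr⟩
  obtain ⟨x, hx⟩ := exists_prime_orderOf_dvd_card' r hrd
  refine ⟨r, hr, ?_⟩
  obtain ⟨N, hN⟩ : ∃ N : Subgroup G, ∀ y, y ∈ N ↔ y ∈ M ∧ y ^ r = 1 :=
    ⟨{ carrier := {y | y ∈ M ∧ y ^ r = 1}
       mul_mem' := by
        rintro a b ⟨ha, ha'⟩ ⟨hb, hb'⟩
        refine ⟨M.mul_mem ha hb, ?_⟩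
        rw [(show Commute a b from hab a ha b hb).mul_pow, ha', hb', one_mul]
       one_mem' := ⟨M.one_mem, one_pow r⟩
       inv_mem' := by
        rintro a ⟨ha, ha'⟩
        exact ⟨M.inv_mem ha, by rw [inv_pow, ha', inv_one]⟩ }, fun y => Iff.rfl⟩
  have hNn : N.Normal := by
    constructor
    intro y hy g
    rw [hN] at hy ⊢
    exact ⟨hMn.conj_mem y hy.1 g, by rw [conj_pow, hy.2, mul_one, mul_inv_cancel]⟩
  have hNσ : ∀ y ∈ N, σ y ∈ N := by
    intro y hy
    rw [hN] at hy ⊢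
    exact ⟨hMσ y hy.1, by rw [← map_pow, hy.2, map_one]⟩
  have hNM : N ≤ M := fun y hy => ((hN y).mp hy).1
  rcases hmin N hNn hNσ hNM with h | h
  · exfalso
    have h1 : (x : G) ∈ N := by
      rw [hN]
      refine ⟨x.2, ?_⟩
      rw [← Subgroup.coe_pow, ← hx, pow_orderOf_eq_one]
      rfl
    rw [h, Subgroup.mem_bot] at h1
    have h2 : x = 1 := Subtype.ext h1
    rw [h2, orderOf_one] at hx
    exact hr.one_lt.ne hx
  · intro y hy
    have h1 : y ∈ N := by
      rw [h]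
      exact hy
    exact ((hN y).mp h1).2

/-- Step 1 in the group: `[G, τ]` centralizes a minimal invariant normal subgroup. -/
theorem sg_step1 [Finite G] (p : ℕ) (hp : p.Prime) (hp2 : p ≠ 2) (n : ℕ) (hn : 1 ≤ n)
    (σ : MulAut G) (hσ : σ ^ (p ^ n) = 1) (hfpf : ∀ g, σ g = g → g = 1)
    (M : Subgroup G) [hMn : M.Normal] (hMσ : ∀ x ∈ M, σ x ∈ M) (hM0 : M ≠ ⊥)
    (hmin : ∀ N : Subgroup G, N.Normal → (∀ x ∈ N, σ x ∈ N) → N ≤ M → N = ⊥ ∨ N = M)
    (hab : ∀ a ∈ M, ∀ b ∈ M, a * b = b * a) (r : ℕ) [Fact r.Prime]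
    (hexp : ∀ x ∈ M, x ^ r = 1)
    (IH : ∀ (C : Subgroup G) [C.Normal] (hC : ∀ x ∈ C, σ x ∈ C), C ≠ ⊥ →
      Group.IsNilpotent ↥(sgK ((quotAut σ C hC : MulAut (G ⧸ C)) ^ (p ^ (n - 1))))) :
    ∀ g : G, ∀ m ∈ M,
      (g⁻¹ * (σ ^ (p ^ (n - 1))) g) * m = m * (g⁻¹ * (σ ^ (p ^ (n - 1))) g) := by
  classical
  have hP0 : 0 < p ^ n := pow_pos hp.pos n
  have hMσ' : ∀ x ∈ M, σ⁻¹ x ∈ M := sg_inv_mem σ (p ^ n) hP0 hσ M hMσ
  obtain ⟨φ, hφ⟩ : ∃ φ : G →* MulAut M, ∀ (g : G) (m : M), ((φ g m : M) : G) = g * m * g⁻¹ :=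
    ⟨MulAut.conjNormal, fun g m => MulAut.conjNormal_apply g m⟩
  have hker : ∀ g, g ∈ φ.ker ↔ ∀ m ∈ M, g * m = m * g := by
    intro g
    rw [MonoidHom.mem_ker]
    constructor
    · intro h m hm
      have h1 : ((φ g ⟨m, hm⟩ : M) : G) = m := by rw [h]; rfl
      rw [hφ] at h1
      calc g * m = g * m * g⁻¹ * g := by group
        _ = m * g := by rw [h1]
    · intro h
      refine MulEquiv.ext fun m => Subtype.ext ?_
      rw [hφ, h m m.2]
      show (m : G) * g * g⁻¹ = m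
      group
  have hCσ : ∀ x ∈ φ.ker, σ x ∈ φ.ker := by
    intro x hx
    rw [hker] at hx ⊢
    intro m hm
    have h1 := hx (σ⁻¹ m) (hMσ' m hm)
    have h2 := congrArg σ h1
    rwa [map_mul, map_mul, MulAut.apply_inv_self] at h2
  have hMC : M ≤ φ.ker := by
    intro a ha
    rw [hker]
    intro m hm
    exact hab a ha m hm
  have hC0 : φ.ker ≠ ⊥ := by
    intro h
    apply hM0
    rw [eq_bot_iff, ← h]
    exact hMC
  have hnil := IH φ.ker hCσ hC0
  letI : CommGroup M :=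
    { (inferInstance : Group M) with mul_comm := fun a b => Subtype.ext (hab a a.2 b b.2) }
  haveI : Nontrivial M := (Subgroup.nontrivial_iff_ne_bot M).mpr hM0
  have hexpM : ∀ x : M, x ^ r = 1 := fun x => Subtype.ext (hexp x x.2)
  have hβ : (restrictAut σ M hMσ : MulAut M) ^ (p ^ n) = 1 := by
    refine MulEquiv.ext fun y => Subtype.ext ?_
    rw [sg_restrict_pow, hσ]
    rfl
  have hβfpf : ∀ x : M, (restrictAut σ M hMσ : MulAut M) x = x → x = 1 :=
    fun x hx => Subtype.ext (hfpf x (congrArg Subtype.val hx))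
  have hσq : (quotAut σ φ.ker hCσ : MulAut (G ⧸ φ.ker)) ^ (p ^ n) = 1 := by
    refine MulEquiv.ext fun g => ?_
    obtain ⟨u, rfl⟩ := QuotientGroup.mk_surjective g
    rw [sg_quot_pow_mk, hσ]
    rfl
  have hfpfq := quotAut_fpf σ hfpf φ.ker hCσ
  have hcompat : ∀ (a : G ⧸ φ.ker) (x : M),
      (restrictAut σ M hMσ : MulAut M) (QuotientGroup.kerLift φ a x)
        = QuotientGroup.kerLift φ ((quotAut σ φ.ker hCσ : MulAut (G ⧸ φ.ker)) a)
            ((restrictAut σ M hMσ : MulAut M) x) := by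
    intro a x
    obtain ⟨g, rfl⟩ := QuotientGroup.mk_surjective a
    apply Subtype.ext
    show σ ((φ g x : M) : G) = ((φ (σ g) (restrictAut σ M hMσ x) : M) : G)
    rw [hφ, hφ, map_mul, map_mul, map_inv]
    rfl
  have hirr : ∀ F : Subgroup M,
      (∀ a : G ⧸ φ.ker, ∀ m ∈ F, QuotientGroup.kerLift φ a m ∈ F) →
      (∀ m ∈ F, (restrictAut σ M hMσ : MulAut M) m ∈ F) → F = ⊥ ∨ F = ⊤ := by
    intro F hF1 hF2
    have hNn : (F.map M.subtype).Normal := by
      constructor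
      rintro _ ⟨m, hm, rfl⟩ g
      exact ⟨φ g m, hF1 (QuotientGroup.mk g) m hm, hφ g m⟩
    have hNσ : ∀ x ∈ F.map M.subtype, σ x ∈ F.map M.subtype := by
      rintro _ ⟨m, hm, rfl⟩
      exact ⟨restrictAut σ M hMσ m, hF2 m hm, rfl⟩
    have hNM : F.map M.subtype ≤ M := by
      rintro _ ⟨m, hm, rfl⟩
      exact m.2
    rcases hmin _ hNn hNσ hNM with h | h
    · left
      exact (Subgroup.map_eq_bot_iff_of_injective F M.subtype_injective).mp h
    · right
      rw [eq_top_iff]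
      intro m _
      have h1 : (m : G) ∈ F.map M.subtype := by
        rw [h]
        exact m.2
      obtain ⟨m', hm', hmm⟩ := h1
      have h2 : m' = m := Subtype.ext hmm
      rwa [← h2]
  have key := sg_tau_fix p hp hp2 r hexpM n hn (quotAut σ φ.ker hCσ) hσq hfpfq
    (restrictAut σ M hMσ) hβ hβfpf (QuotientGroup.kerLift φ) (QuotientGroup.kerLift_injective φ)
    hcompat hirr hnil
  intro g m hm
  have h1 := key (QuotientGroup.mk g)
  rw [sg_quot_pow_mk] at h1
  have h2 : ((σ ^ (p ^ (n - 1))) g)⁻¹ * g ∈ φ.ker := QuotientGroup.eq.mp h1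
  have h3 : g⁻¹ * (σ ^ (p ^ (n - 1))) g ∈ φ.ker := by
    have h4 := Subgroup.inv_mem _ h2
    rwa [mul_inv_rev, inv_inv] at h4
  exact (hker _).mp h3 m hm

end SGWrap

/-- `[G, τ]` is nilpotent, where `τ = σ ^ (p ^ (n - 1))`. -/
theorem sg_K_nil_aux (p : ℕ) (hp : p.Prime) (hp2 : p ≠ 2) (N : ℕ) :
    ∀ {G : Type u} [Group G] [Finite G], Nat.card G ≤ N → Group.IsSolvable G →
      ∀ (n : ℕ) (σ : MulAut G), 1 ≤ n → σ ^ (p ^ n) = 1 → (∀ g, σ g = g → g = 1) →
        Group.IsNilpotent ↥(sgK (σ ^ (p ^ (n - 1)))) := by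
  induction N with
  | zero =>
    intro G _ _ hcard
    have := Nat.card_pos (α := G)
    omega
  | succ N ih =>
    intro G _ _ hcard hG n σ hn hσ hfpf
    classical
    rcases subsingleton_or_nontrivial G with hsub | hnt
    · haveI : Subsingleton ↥(sgK (σ ^ (p ^ (n - 1)))) :=
        ⟨fun a b => Subtype.ext (Subsingleton.elim _ _)⟩
      infer_instance
    obtain ⟨τ, hτ⟩ : ∃ τ : MulAut G, τ = σ ^ (p ^ (n - 1)) := ⟨_, rfl⟩
    have IH : ∀ (C : Subgroup G) [C.Normal] (hC : ∀ x ∈ C, σ x ∈ C), C ≠ ⊥ →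
        Group.IsNilpotent ↥(sgK ((quotAut σ C hC : MulAut (G ⧸ C)) ^ (p ^ (n - 1)))) := by
      intro C _ hC hC0
      have hcardC : Nat.card (G ⧸ C) ≤ N := by
        have h1 := Subgroup.card_eq_card_quotient_mul_card_subgroup C
        haveI : Nontrivial C := (Subgroup.nontrivial_iff_ne_bot C).mpr hC0
        have h2 : 1 < Nat.card C := Finite.one_lt_card
        have h3 : 0 < Nat.card (G ⧸ C) := Nat.card_pos
        have h4 : Nat.card (G ⧸ C) * 2 ≤ Nat.card (G ⧸ C) * Nat.card C :=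
          Nat.mul_le_mul_left _ h2
        omega
      have hσq : (quotAut σ C hC : MulAut (G ⧸ C)) ^ (p ^ n) = 1 := by
        refine MulEquiv.ext fun g => ?_
        obtain ⟨u, rfl⟩ := QuotientGroup.mk_surjective g
        rw [sg_quot_pow_mk, hσ]
        rfl
      haveI := hG
      exact ih hcardC inferInstance n (quotAut σ C hC) hn hσq (quotAut_fpf σ hfpf C hC)
    obtain ⟨M, hMn, hMσ, hM0, hmin⟩ := sg_exists_min σ
    haveI := hMn
    have hab := sg_min_abelian hG σ M hMσ hM0 hmin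
    obtain ⟨r, hr, hexp⟩ := sg_min_exp σ M hMσ hM0 hmin hab
    haveI : Fact r.Prime := ⟨hr⟩
    have hstep1 := sg_step1 p hp hp2 n hn σ hσ hfpf M hMσ hM0 hmin hab r hexp IH
    rw [← hτ] at hstep1 ⊢
    have hKM : ∀ k ∈ sgK τ, ∀ m ∈ M, k * m = m * k := by
      intro k hk
      have h1 : sgK τ ≤ Subgroup.centralizer (M : Set G) := by
        apply sgK_le
        intro g
        rw [Subgroup.mem_centralizer_iff]
        intro m hm
        exact (hstep1 g m hm).symm
      intro m hm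
      exact (Subgroup.mem_centralizer_iff.mp (h1 hk) m hm).symm
    have hnilM := IH M hMσ hM0
    have hcompat : ∀ x, (QuotientGroup.mk' M) (τ x)
        = ((quotAut σ M hMσ : MulAut (G ⧸ M)) ^ (p ^ (n - 1))) (QuotientGroup.mk' M x) := by
      intro x
      rw [hτ]
      exact (sg_quot_pow_mk σ M hMσ (p ^ (n - 1)) x).symm
    have hker : (((QuotientGroup.mk' M).comp (sgK τ).subtype).codRestrict
        (sgK ((quotAut σ M hMσ : MulAut (G ⧸ M)) ^ (p ^ (n - 1))))
        (fun k => sgK_map (QuotientGroup.mk' M) τ _ hcompat k k.2)).ker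
        ≤ Subgroup.center ↥(sgK τ) := by
      intro k hk
      rw [MonoidHom.mem_ker] at hk
      have h1 : (QuotientGroup.mk (k : G) : G ⧸ M) = 1 := congrArg Subtype.val hk
      have h2 : (k : G) ∈ M := (QuotientGroup.eq_one_iff _).mp h1
      rw [Subgroup.mem_center_iff]
      intro k'
      apply Subtype.ext
      exact hKM k' k'.2 k h2
    exact Subgroup.isNilpotent_of_ker_le_center _ hker

section SGChain

variable {G : Type*} [Group G]

theorem sg_chain_step (N : Subgroup G) [N.Normal] (hN : ∃ k, N.lowerCentralSeries k = ⊥)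
    (m : ℕ) (F' : Fin (m + 1) → Subgroup (G ⧸ N)) (h0 : F' 0 = ⊥) (h1 : F' (Fin.last m) = ⊤)
    (hmono : Monotone F') (hnorm : ∀ i, (F' i).Normal)
    (hnil : ∀ i : Fin m, ∃ k : ℕ, (F' i.succ).lowerCentralSeries k ≤ F' i.castSucc) :
    ∃ F : Fin (m + 1 + 1) → Subgroup G, F 0 = ⊥ ∧ F (Fin.last (m + 1)) = ⊤ ∧ Monotone F ∧
      (∀ i, (F i).Normal) ∧
      ∀ i : Fin (m + 1), ∃ k : ℕ, (F i.succ).lowerCentralSeries k ≤ F i.castSucc := by
  refine ⟨Fin.cons ⊥ (fun i => (F' i).comap (QuotientGroup.mk' N)), ?_, ?_, ?_, ?_, ?_⟩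
  · rfl
  · have e : Fin.last (m + 1) = (Fin.last m).succ := rfl
    rw [e, Fin.cons_succ, h1, Subgroup.comap_top]
  · rw [Fin.monotone_iff_le_succ]
    intro i
    refine Fin.cases ?_ (fun j => ?_) i
    · rw [Fin.castSucc_zero, Fin.cons_zero]
      exact bot_le
    · rw [← Fin.succ_castSucc, Fin.cons_succ, Fin.cons_succ]
      exact Subgroup.comap_mono (hmono (Fin.castSucc_le_succ j))
  · intro i
    refine Fin.cases ?_ (fun j => ?_) i
    · rw [Fin.cons_zero]
      infer_instance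
    · rw [Fin.cons_succ]
      haveI := hnorm j
      infer_instance
  · intro i
    refine Fin.cases ?_ (fun j => ?_) i
    · obtain ⟨k, hk⟩ := hN
      refine ⟨k, ?_⟩
      have e : (⊥ : Subgroup (G ⧸ N)).comap (QuotientGroup.mk' N) = N :=
        QuotientGroup.ker_mk' N
      rw [Fin.castSucc_zero, Fin.cons_zero, Fin.cons_succ, h0, e, hk]
    · obtain ⟨k, hk⟩ := hnil j
      refine ⟨k, ?_⟩
      rw [← Fin.succ_castSucc, Fin.cons_succ, Fin.cons_succ, ← Subgroup.map_le_iff_le_comap,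
        Subgroup.map_lowerCentralSeries,
        Subgroup.map_comap_eq_self_of_surjective (QuotientGroup.mk'_surjective N)]
      exact hk

end SGChain

/-- The Shult–Gross theorem: a chain with nilpotent factors of length `n`. -/
theorem sg_chain (p : ℕ) (hp : p.Prime) (hp2 : p ≠ 2) (n : ℕ) :
    ∀ {G : Type u} [Group G] [Finite G], Group.IsSolvable G → ∀ σ : MulAut G,
      σ ^ (p ^ n) = 1 → (∀ g, σ g = g → g = 1) →
      ∃ F : Fin (n + 1) → Subgroup G, F 0 = ⊥ ∧ F (Fin.last n) = ⊤ ∧ Monotone F ∧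
        (∀ i, (F i).Normal) ∧
        ∀ i : Fin n, ∃ k : ℕ, (F i.succ).lowerCentralSeries k ≤ F i.castSucc := by
  induction n with
  | zero =>
    intro G _ _ hG σ hσ hfpf
    have h1 : σ = 1 := by simpa using hσ
    have hsub : ∀ g : G, g = 1 := fun g => hfpf g (by rw [h1]; rfl)
    refine ⟨fun _ => ⊥, rfl, ?_, fun _ _ _ => le_rfl, fun _ => inferInstance, fun i => i.elim0⟩
    rw [eq_comm, eq_bot_iff]
    intro g _
    rw [hsub g]
    exact Subgroup.one_mem _
  | succ n ih =>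
    intro G _ _ hG σ hσ hfpf
    have hnil := sg_K_nil_aux p hp hp2 (Nat.card G) le_rfl hG (n + 1) σ (by omega) hσ hfpf
    rw [Nat.add_sub_cancel] at hnil
    have hKσ : ∀ x ∈ sgK (σ ^ (p ^ n)), σ x ∈ sgK (σ ^ (p ^ n)) :=
      sgK_inv σ _ (fun x => (sg_pow_comm σ _ x).symm)
    have hσq : (quotAut σ _ hKσ : MulAut (G ⧸ sgK (σ ^ (p ^ n)))) ^ (p ^ n) = 1 := by
      refine MulEquiv.ext fun g => ?_
      obtain ⟨u, rfl⟩ := QuotientGroup.mk_surjective g
      rw [sg_quot_pow_mk]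
      show (QuotientGroup.mk ((σ ^ (p ^ n)) u) : G ⧸ sgK (σ ^ (p ^ n))) = QuotientGroup.mk u
      apply QuotientGroup.eq.mpr
      have h2 := Subgroup.inv_mem _ (sgK_mem (σ ^ (p ^ n)) u)
      rwa [mul_inv_rev, inv_inv] at h2
    haveI := hG
    obtain ⟨F', h0, h1, hmono, hnorm, hn'⟩ := ih (G := G ⧸ sgK (σ ^ (p ^ n))) inferInstance
      (quotAut σ _ hKσ) hσq (quotAut_fpf σ hfpf _ hKσ)
    exact sg_chain_step (sgK (σ ^ (p ^ n)))
      ((Subgroup.isNilpotent_iff_lowerCentralSeries _).mp hnil) n F' h0 h1 hmono hnorm hn'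

end Cfsg.Agent.Lib.helper75
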