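import Mathlib
import Cfsg.Agent.Lib.helper75.PQDefs
import Cfsg.Agent.Lib.helper66.S3B

/-!
# Weight spaces and small tools for the tower theorem
-/

set_option autoImplicit false

namespace Cfsg.Agent.Lib.helper75.PQ

open Cfsg.Agent.Lib.helper66 (WtV Fx cw)
open scoped commutatorElement

variable {Γ : Type*} [Group Γ] {F : Type*} [Field F] {W : Type*} [AddCommGroup W] [Module F W]

/-- The weight space of a weight `μ` of the subgroup `B`. -/
def wtSp (ρ : Γ →* Module.End F W) (B : Subgroup Γ) (μ : Γ → F) : Submodule F W where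
  carrier := {w | ∀ b ∈ B, ρ b w = μ b • w}
  add_mem' := by
    intro a b ha hb z hz
    rw [map_add, ha z hz, hb z hz, smul_add]
  zero_mem' := by
    intro z _
    rw [map_zero, smul_zero]
  smul_mem' := by
    intro c a ha z hz
    rw [map_smul, ha z hz, smul_comm]

theorem mem_wtSp (ρ : Γ →* Module.End F W) (B : Subgroup Γ) (μ : Γ → F) (w : W) :
    w ∈ wtSp ρ B μ ↔ ∀ b ∈ B, ρ b w = μ b • w := Iff.rfl

theorem wtV_iff (ρ : Γ →* Module.End F W) (B : Subgroup Γ) (μ : Γ → F) (w : W) :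
    WtV ρ ⊤ B μ w ↔ w ≠ 0 ∧ w ∈ wtSp ρ B μ :=
  ⟨fun h => ⟨h.2.1, h.2.2⟩, fun h => ⟨Submodule.mem_top, h.1, h.2⟩⟩

theorem rho_mul' (ρ : Γ →* Module.End F W) (g h : Γ) (x : W) : ρ (g * h) x = ρ g (ρ h x) := by
  rw [map_mul, Module.End.mul_apply]

theorem conj_inv_mem {B : Subgroup Γ} {g : Γ} (hg : g ∈ Subgroup.normalizer (B : Set Γ))
    {b : Γ} (hb : b ∈ B) : g⁻¹ * b * g ∈ B := by
  have h := (Subgroup.mem_normalizer_iff.mp (inv_mem hg) b).mp hb
  rwa [inv_inv] at h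

theorem conj_mem {B : Subgroup Γ} {g : Γ} (hg : g ∈ Subgroup.normalizer (B : Set Γ))
    {b : Γ} (hb : b ∈ B) : g * b * g⁻¹ ∈ B :=
  (Subgroup.mem_normalizer_iff.mp hg b).mp hb

/-- An element fixing the weight preserves the weight space. -/
theorem wtSp_map (ρ : Γ →* Module.End F W) (B : Subgroup Γ) (μ : Γ → F) (g : Γ)
    (hg : g ∈ Subgroup.normalizer (B : Set Γ)) (hfx : Fx B g μ) :
    ∀ w ∈ wtSp ρ B μ, ρ g w ∈ wtSp ρ B μ := by
  intro w hw b hb
  have e : b * g = g * (g⁻¹ * b * g) := by group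
  rw [← rho_mul', e, rho_mul', hw _ (conj_inv_mem hg hb), map_smul, hfx b hb]

/-- The stabilizer of a vector. -/
def fixG (ρ : Γ →* Module.End F W) (w : W) : Subgroup Γ where
  carrier := {g | ρ g w = w}
  one_mem' := by
    show ρ 1 w = w
    rw [map_one, Module.End.one_apply]
  mul_mem' := by
    intro a b ha hb
    show ρ (a * b) w = w
    rw [rho_mul', hb, ha]
  inv_mem' := by
    intro a ha
    show ρ a⁻¹ w = w
    have h : ρ a⁻¹ (ρ a w) = w := by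
      rw [← rho_mul', inv_mul_cancel, map_one, Module.End.one_apply]
    rwa [ha] at h

theorem mem_fixG (ρ : Γ →* Module.End F W) (w : W) (g : Γ) : g ∈ fixG ρ w ↔ ρ g w = w :=
  Iff.rfl

/-- The elements of `R` acting trivially on a subspace. -/
def kerOn (ρ : Γ →* Module.End F W) (R : Subgroup Γ) (M : Submodule F W) : Subgroup Γ where
  carrier := {g | g ∈ R ∧ ∀ w ∈ M, ρ g w = w}
  one_mem' := ⟨R.one_mem, fun w _ => by rw [map_one, Module.End.one_apply]⟩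
  mul_mem' := by
    rintro a b ⟨ha, ha'⟩ ⟨hb, hb'⟩
    exact ⟨R.mul_mem ha hb, fun w hw => by rw [rho_mul', hb' w hw, ha' w hw]⟩
  inv_mem' := by
    rintro a ⟨ha, ha'⟩
    refine ⟨R.inv_mem ha, fun w hw => ?_⟩
    have h : ρ a⁻¹ (ρ a w) = w := by
      rw [← rho_mul', inv_mul_cancel, map_one, Module.End.one_apply]
    rwa [ha' w hw] at h

theorem mem_kerOn (ρ : Γ →* Module.End F W) (R : Subgroup Γ) (M : Submodule F W) (g : Γ) :
    g ∈ kerOn ρ R M ↔ g ∈ R ∧ ∀ w ∈ M, ρ g w = w := Iff.rfl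

/-- The elements normalizing `R` and preserving a subspace (both ways). -/
def stabOn (ρ : Γ →* Module.End F W) (R : Subgroup Γ) (M : Submodule F W) : Subgroup Γ where
  carrier := {g | g ∈ Subgroup.normalizer (R : Set Γ) ∧ (∀ w ∈ M, ρ g w ∈ M) ∧
    (∀ w ∈ M, ρ g⁻¹ w ∈ M)}
  one_mem' := by
    refine ⟨Subgroup.one_mem _, fun w hw => ?_, fun w hw => ?_⟩
    · rwa [map_one, Module.End.one_apply]
    · rwa [inv_one, map_one, Module.End.one_apply]
  mul_mem' := by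
    rintro a b ⟨ha, ha1, ha2⟩ ⟨hb, hb1, hb2⟩
    refine ⟨Subgroup.mul_mem _ ha hb, fun w hw => ?_, fun w hw => ?_⟩
    · rw [rho_mul']
      exact ha1 _ (hb1 w hw)
    · rw [mul_inv_rev, rho_mul']
      exact hb2 _ (ha2 w hw)
  inv_mem' := by
    rintro a ⟨ha, ha1, ha2⟩
    refine ⟨Subgroup.inv_mem _ ha, ha2, ?_⟩
    rw [inv_inv]
    exact ha1

theorem mem_stabOn (ρ : Γ →* Module.End F W) (R : Subgroup Γ) (M : Submodule F W) (g : Γ) :
    g ∈ stabOn ρ R M ↔ g ∈ Subgroup.normalizer (R : Set Γ) ∧ (∀ w ∈ M, ρ g w ∈ M) ∧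
      (∀ w ∈ M, ρ g⁻¹ w ∈ M) := Iff.rfl

/-- The kernel on `M` is normalized by the stabilizer of `M`. -/
theorem kerOn_conj (ρ : Γ →* Module.End F W) (R : Subgroup Γ) (M : Submodule F W) (g : Γ)
    (hg : g ∈ stabOn ρ R M) (t : Γ) (ht : t ∈ kerOn ρ R M) : g * t * g⁻¹ ∈ kerOn ρ R M := by
  refine ⟨conj_mem hg.1 ht.1, fun w hw => ?_⟩
  rw [rho_mul', rho_mul', ht.2 _ (hg.2.2 w hw), ← rho_mul', mul_inv_cancel, map_one,
    Module.End.one_apply]

/-- The elements of the stabilizer acting trivially on `R` modulo the kernel on `M`. -/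
def centOn (ρ : Γ →* Module.End F W) (R : Subgroup Γ) (M : Submodule F W) : Subgroup Γ where
  carrier := {g | g ∈ stabOn ρ R M ∧ ∀ u ∈ R, ⁅g, u⁆ ∈ kerOn ρ R M}
  one_mem' := by
    refine ⟨Subgroup.one_mem _, fun u _ => ?_⟩
    rw [commutatorElement_def]
    have e : (1 : Γ) * u * 1⁻¹ * u⁻¹ = 1 := by group
    rw [e]
    exact Subgroup.one_mem _
  mul_mem' := by
    rintro a b ⟨ha, ha'⟩ ⟨hb, hb'⟩
    refine ⟨Subgroup.mul_mem _ ha hb, fun u hu => ?_⟩
    have e : ⁅a * b, u⁆ = a * ⁅b, u⁆ * a⁻¹ * ⁅a, u⁆ := by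
      simp only [commutatorElement_def]
      group
    rw [e]
    exact Subgroup.mul_mem _ (kerOn_conj ρ R M a ha _ (hb' u hu)) (ha' u hu)
  inv_mem' := by
    rintro a ⟨ha, ha'⟩
    refine ⟨Subgroup.inv_mem _ ha, fun u hu => ?_⟩
    have e : ⁅a⁻¹, u⁆ = a⁻¹ * (⁅a, u⁆)⁻¹ * a⁻¹⁻¹ := by
      simp only [commutatorElement_def]
      group
    rw [e]
    exact kerOn_conj ρ R M a⁻¹ (Subgroup.inv_mem _ ha) _ (Subgroup.inv_mem _ (ha' u hu))

theorem mem_centOn (ρ : Γ →* Module.End F W) (R : Subgroup Γ) (M : Submodule F W) (g : Γ) :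
    g ∈ centOn ρ R M ↔ g ∈ stabOn ρ R M ∧ ∀ u ∈ R, ⁅g, u⁆ ∈ kerOn ρ R M := Iff.rfl

/-- `centOn` is normalized by the stabilizer. -/
theorem centOn_conj (ρ : Γ →* Module.End F W) (R : Subgroup Γ) (M : Submodule F W) (g : Γ)
    (hg : g ∈ stabOn ρ R M) (e : Γ) (he : e ∈ centOn ρ R M) : g * e * g⁻¹ ∈ centOn ρ R M := by
  refine ⟨Subgroup.mul_mem _ (Subgroup.mul_mem _ hg he.1) (Subgroup.inv_mem _ hg),
    fun u hu => ?_⟩
  have e1 : ⁅g * e * g⁻¹, u⁆ = g * ⁅e, g⁻¹ * u * g⁆ * g⁻¹ := by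
    simp only [commutatorElement_def]
    group
  rw [e1]
  exact kerOn_conj ρ R M g hg _ (he.2 _ (conj_inv_mem hg.1 hu))

end Cfsg.Agent.Lib.helper75.PQ
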