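import Mathlib
import Cfsg.Agent.Lib.helper95.APDefs

/-! S2276 split (helper95), piece GREEDY -- prefixed racer copy by helper75. -/

set_option autoImplicit false

namespace Cfsg.Agent.Lib.helper95.AP

/-- prefix sums of a descending list of powers of `p` below `p^e` never jump over `p^e` -/
theorem h75_prefix (p : ℕ) (hp : p.Prime) (e : ℕ) (l : List ℕ) (hs : l.Pairwise (· ≥ ·))
    (hl : ∀ c ∈ l, ∃ j : ℕ, 1 ≤ j ∧ c = p ^ j ∧ c < p ^ e) :
    ∀ k : ℕ, k ≤ l.length → (l.take k).sum ≤ p ^ e ∨ ∃ k' < k, (l.take k').sum = p ^ e := by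
  intro k
  induction k with
  | zero => intro _; left; simp
  | succ k ih =>
    intro hk
    have hk' : k < l.length := hk
    rcases ih (le_of_lt hk') with h | ⟨k', hk'k, hk'e⟩
    · rcases Nat.lt_or_eq_of_le h with hlt | heq
      · left
        rw [List.sum_take_succ l k hk']
        obtain ⟨j, hj1, hj, hjlt⟩ := hl l[k] (List.getElem_mem hk')
        have hp1 : 1 < p := hp.one_lt
        have hje : j < e := by
          rw [hj] at hjlt
          exact (Nat.pow_lt_pow_iff_right hp1).mp hjlt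
        have hd1 : l[k] ∣ p ^ e := by
          rw [hj]; exact pow_dvd_pow p hje.le
        have hd2 : l[k] ∣ (l.take k).sum := by
          apply List.dvd_sum
          intro x hx
          obtain ⟨i, hi, rfl⟩ := List.getElem_of_mem hx
          rw [List.getElem_take]
          have hik : i < k := by
            rw [List.length_take] at hi; omega
          have hge : l[i] ≥ l[k] := (List.pairwise_iff_getElem.mp hs) i k (by omega) hk' hik
          obtain ⟨j', hj'1, hj', _⟩ := hl l[i] (List.getElem_mem _)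
          rw [hj, hj'] at hge ⊢
          have hjj : j ≤ j' := (Nat.pow_le_pow_iff_right hp1).mp hge
          exact pow_dvd_pow p hjj
        have hd3 : l[k] ∣ p ^ e - (l.take k).sum := Nat.dvd_sub hd1 hd2
        have hle := Nat.le_of_dvd (by omega) hd3
        omega
      · right; exact ⟨k, Nat.lt_succ_self k, heq⟩
    · right; exact ⟨k', by omega, hk'e⟩

/-- [GREEDY] a descending list of parts of `μ` filling `p^e` as far as possible -/
theorem h75_greedy (p : ℕ) (hp : p.Prime) (e n : ℕ) (μ : Multiset ℕ) (hμ0 : μ ≠ 0)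
    (hμ : ∀ c ∈ μ, ∃ j : ℕ, 1 ≤ j ∧ c = p ^ j ∧ c < p ^ e) (hn : p ^ e ≤ n) (hsum : μ.sum ≤ n) :
    ∃ L : List ℕ, L ≠ [] ∧ L.Pairwise (· ≥ ·) ∧ (L : Multiset ℕ) ≤ μ ∧ L.sum ≤ p ^ e ∧
      p ^ e - L.sum ≤ n - μ.sum := by
  have hlμ : ((μ.sort (· ≥ ·) : List ℕ) : Multiset ℕ) = μ := Multiset.sort_eq μ (· ≥ ·)
  have hls : (μ.sort (· ≥ ·)).Pairwise (· ≥ ·) := Multiset.pairwise_sort μ (· ≥ ·)
  generalize μ.sort (· ≥ ·) = l at hlμ hls
  have hlmem : ∀ c ∈ l, ∃ j : ℕ, 1 ≤ j ∧ c = p ^ j ∧ c < p ^ e := by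
    intro c hc
    apply hμ
    rw [← hlμ]; exact Multiset.mem_coe.mpr hc
  have hlsum : l.sum = μ.sum := by rw [← hlμ, Multiset.sum_coe]
  by_cases hle : μ.sum ≤ p ^ e
  · refine ⟨l, ?_, hls, hlμ.le, by rw [hlsum]; exact hle, by rw [hlsum]; omega⟩
    intro h0
    apply hμ0
    rw [← hlμ, h0]; rfl
  · rcases h75_prefix p hp e l hls hlmem l.length le_rfl with h | ⟨k', hk', hk'e⟩
    · rw [List.take_length, hlsum] at h; exact absurd h hle
    · refine ⟨l.take k', ?_, List.Pairwise.sublist (List.take_sublist k' l) hls, ?_, hk'e.le, ?_⟩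
      · intro h0
        rw [h0, List.sum_nil] at hk'e
        exact (pow_ne_zero e hp.ne_zero) hk'e.symm
      · rw [← hlμ, Multiset.coe_le]; exact (List.take_sublist k' l).subperm
      · rw [hk'e, Nat.sub_self]; exact Nat.zero_le _

end Cfsg.Agent.Lib.helper95.AP
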