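import Mathlib
import Cfsg.Agent.Lib.helper2.BFDefs
import Cfsg.Agent.S0138

/-!
# S4503 piece C1 (spare copy `helper75_good_of_norm`; the Skel-named `good_of_norm` is in helper72.BFC1)
-/

set_option autoImplicit false

open Cfsg
open scoped ComplexConjugate

namespace Cfsg.Agent.Lib.helper2.BF

theorem h75_smul_id_inj {n : ℕ} (hn : 0 < n) {c d : ℂ}
    (h : c • (LinearMap.id : (Fin n → ℂ) →ₗ[ℂ] (Fin n → ℂ)) = d • LinearMap.id) : c = d := by
  have h1 := congrArg (fun f : (Fin n → ℂ) →ₗ[ℂ] (Fin n → ℂ) => f (fun _ => (1 : ℂ)) ⟨0, hn⟩) h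
  simpa using h1

theorem h75_scalar_pow {G : Type*} [Group G] {n : ℕ} (ρ : Representation ℂ G (Fin n → ℂ))
    (g : G) (c : ℂ) (h : ρ g = c • LinearMap.id) (k : ℕ) :
    ρ (g ^ k) = c ^ k • LinearMap.id := by
  rw [map_pow, h, smul_pow, ← Module.End.one_eq_id, one_pow]

variable {G : Type*} [Group G] [Fintype G]

/-- C1. -/
theorem helper75_good_of_norm (p : ℕ) [Fact p.Prime] (x : G) (hxo : orderOf x = p) (ψ : G → ℂ)
    (hψ : IsCharacter G ψ) (hsc : ‖ψ x‖ = ‖ψ 1‖) : Good p G ψ := by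
  have hp : p.Prime := Fact.out
  obtain ⟨n, ρ, rfl⟩ := hψ
  have h1 : ρ.character 1 = (n : ℂ) := by
    rw [Representation.char_one]
    simp
  rcases Nat.eq_zero_or_pos n with hn | hn
  · subst hn
    refine ⟨⊤, inferInstance, ⟨x, Subgroup.mem_top x, hxo⟩, ?_⟩
    intro y _ _
    have hz : ∀ f : (Fin 0 → ℂ) →ₗ[ℂ] (Fin 0 → ℂ), f = 0 := by
      intro f
      ext v i
      exact i.elim0
    simp only [Representation.character]
    rw [hz (ρ y), hz (ρ 1)]
  · have hsc' : ‖ρ.character x‖ = (Module.finrank ℂ (Fin n → ℂ) : ℝ) := by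
      rw [hsc, h1]
      simp
    obtain ⟨ω, hω⟩ := (Cfsg.Agent.S0138.result ρ x).mp hsc'
    have hxp : x ^ p = 1 := by rw [← hxo]; exact pow_orderOf_eq_one x
    have hωp : ω ^ p = 1 := by
      have h2 := h75_scalar_pow ρ x ω hω p
      rw [hxp, map_one, Module.End.one_eq_id] at h2
      have h3 : (1 : ℂ) • (LinearMap.id : (Fin n → ℂ) →ₗ[ℂ] (Fin n → ℂ)) = ω ^ p • LinearMap.id := by
        rw [one_smul]; exact h2
      exact (h75_smul_id_inj hn h3).symm
    let N : Subgroup G :=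
      { carrier := {g | ∃ c : ℂ, c ^ p = 1 ∧ ρ g = c • LinearMap.id}
        one_mem' := ⟨1, one_pow p, by rw [map_one, one_smul, Module.End.one_eq_id]⟩
        mul_mem' := by
          rintro a b ⟨c, hc, hca⟩ ⟨d, hd, hdb⟩
          refine ⟨c * d, by rw [mul_pow, hc, hd, one_mul], ?_⟩
          rw [map_mul, hca, hdb, ← Module.End.one_eq_id, smul_mul_smul_comm, mul_one]
        inv_mem' := by
          rintro a ⟨c, hc, hca⟩
          refine ⟨c ^ (p - 1), by rw [← pow_mul, mul_comm, pow_mul, hc, one_pow], ?_⟩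
          have h2 : ρ a⁻¹ * ρ a = 1 := by rw [← map_mul, inv_mul_cancel, map_one]
          have h3 : c ^ (p - 1) * c = 1 := by
            rw [← pow_succ, Nat.sub_add_cancel hp.one_le, hc]
          calc ρ a⁻¹ = ρ a⁻¹ * ((c ^ (p - 1) * c) • (1 : Module.End ℂ (Fin n → ℂ))) := by
                rw [h3, one_smul, mul_one]
            _ = c ^ (p - 1) • (ρ a⁻¹ * (c • (1 : Module.End ℂ (Fin n → ℂ)))) := by
                rw [mul_smul, mul_smul_comm]
            _ = c ^ (p - 1) • (ρ a⁻¹ * ρ a) := by rw [hca, Module.End.one_eq_id]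
            _ = c ^ (p - 1) • LinearMap.id := by rw [h2, Module.End.one_eq_id] }
    have hN : N.Normal := by
      constructor
      rintro a ⟨c, hc, hca⟩ g
      refine ⟨c, hc, ?_⟩
      have h2 : ρ g * ρ g⁻¹ = 1 := by rw [← map_mul, mul_inv_cancel, map_one]
      calc ρ (g * a * g⁻¹) = ρ g * (c • (1 : Module.End ℂ (Fin n → ℂ))) * ρ g⁻¹ := by
            rw [map_mul, map_mul, hca, Module.End.one_eq_id]
        _ = c • (ρ g * ρ g⁻¹) := by rw [mul_smul_comm, mul_one, smul_mul_assoc]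
        _ = c • LinearMap.id := by rw [h2, Module.End.one_eq_id]
    refine ⟨N, hN, ⟨x, ⟨ω, hωp, hω⟩, hxo⟩, ?_⟩
    rintro y ⟨c, hc, hcy⟩ hy
    have hcm : c ^ orderOf y = 1 := by
      have h2 := h75_scalar_pow ρ y c hcy (orderOf y)
      rw [pow_orderOf_eq_one, map_one, Module.End.one_eq_id] at h2
      have h3 : (1 : ℂ) • (LinearMap.id : (Fin n → ℂ) →ₗ[ℂ] (Fin n → ℂ)) =
          c ^ orderOf y • LinearMap.id := by
        rw [one_smul]; exact h2
      exact (h75_smul_id_inj hn h3).symm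
    have hcop : Nat.Coprime p (orderOf y) := (Nat.Prime.coprime_iff_not_dvd hp).mpr hy
    have hc1 : c = 1 := by
      have h4 : c ^ Nat.gcd p (orderOf y) = 1 := pow_gcd_eq_one.mpr ⟨hc, hcm⟩
      rw [Nat.Coprime.gcd_eq_one hcop, pow_one] at h4
      exact h4
    simp only [Representation.character]
    rw [hcy, hc1, one_smul, map_one, Module.End.one_eq_id]

end Cfsg.Agent.Lib.helper2.BF
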