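import Mathlib
import Cfsg.Agent.Lib.helper2.BGDefs
import Cfsg.Agent.Lib.helper2.BFMain
import Cfsg.Agent.Lib.helper92.BFC5
import Cfsg.Agent.Lib.helper4.CharDecomp

/-!
# S4504 split project, piece R3: `R_res_irr`
-/

set_option autoImplicit false

open Cfsg

namespace Cfsg.Agent.Lib.helper2.BG

open Cfsg.Agent.Lib.helper2.BF Cfsg.Agent.Lib.helper92.BF

universe u

/-- Degrees of the members of a list of irreducible characters, compared with the degree of the
sum and the length of the list. -/
theorem helper75_list_degree {G : Type*} [Group G] [Fintype G] (l : List (IrrCharacter G)) :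
    ∃ N : ℕ, (l.map Subtype.val).sum 1 = (N : ℂ) ∧ l.length ≤ N ∧
      ∀ ψ ∈ l, charDegree (ψ : G → ℂ) + l.length ≤ N + 1 := by
  induction l with
  | nil => exact ⟨0, by simp, by simp, by simp⟩
  | cons a l ih =>
    obtain ⟨N, hN, hlen, hle⟩ := ih
    obtain ⟨n, hn0, hn⟩ := Cfsg.Agent.Lib.helper4.exists_pos_nat_degree a.2
    refine ⟨n + N, ?_, ?_, ?_⟩
    · rw [List.map_cons, List.sum_cons, Pi.add_apply, hN, hn, Nat.cast_add]
    · simp only [List.length_cons]
      omega
    · intro ψ hψ
      simp only [List.length_cons]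
      rcases List.mem_cons.mp hψ with rfl | hψ
      · have h1 : charDegree (ψ : G → ℂ) = n := by
          unfold charDegree
          rw [hn, Complex.natCast_re, Nat.floor_natCast]
        omega
      · have h1 := hle ψ hψ
        omega

/-- R3 (V1): the restriction of `χ` to the normal closure of `x` is irreducible. -/
theorem helper75_R_res_irr {G : Type u} [Group G] [Finite G] (p : ℕ) [Fact p.Prime]
    (hdiv : p ∣ Nat.card G) (hsq : ¬ p ^ 2 ∣ Nat.card G)
    (hnn : ∀ H : Subgroup G, H.Normal → Nat.card H ≠ p) (χ : G → ℂ)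
    (hχ : Cfsg.IsCharacter G χ) (hfaith : ∀ g : G, χ g = χ 1 → g = 1)
    (hdeg : 2 * Cfsg.charDegree χ + 1 = p) (x : G) (hx : orderOf x = p) :
    Cfsg.IsIrrCharacter ↥(Subgroup.normalClosure ({x} : Set G)) (fun g => χ (g : G)) := by
  classical
  have hp : p.Prime := Fact.out
  obtain ⟨Γ, hΓ⟩ : ∃ Γ : Subgroup G, Γ = Subgroup.normalClosure ({x} : Set G) := ⟨_, rfl⟩
  rw [← hΓ]
  haveI hΓn : Γ.Normal := by rw [hΓ]; exact Subgroup.normalClosure_normal
  haveI : Fintype Γ := Fintype.ofFinite Γ
  have hxΓ : x ∈ Γ := by rw [hΓ]; exact Subgroup.subset_normalClosure (Set.mem_singleton x)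
  have hχΓ : IsCharacter Γ (fun g : Γ => χ g) :=
    Cfsg.Agent.Lib.helper4.isCharacter_restrict Γ hχ
  obtain ⟨l, hl⟩ := Cfsg.Agent.Lib.helper4.exists_irr_list_of_isCharacter hχΓ
  obtain ⟨N, hN, hlen, hle⟩ := helper75_list_degree l
  have hχ1 : χ 1 = (N : ℂ) := by
    have e2 := congrFun hl 1
    simp only [OneMemClass.coe_one] at e2
    rw [e2, hN]
  have hdegχ : charDegree χ = N := by
    unfold charDegree
    rw [hχ1, Complex.natCast_re, Nat.floor_natCast]
  have hN1 : 1 ≤ N := by
    by_contra h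
    have h0 : N = 0 := by omega
    rw [hdegχ, h0] at hdeg
    exact hp.one_lt.ne hdeg
  by_cases hlen2 : l.length ≤ 1
  · -- the list is a singleton
    match l, hl, hN, hlen, hlen2 with
    | [], hl, hN, hlen, _ =>
      exfalso
      have h0 : (N : ℂ) = 0 := by rw [← hN]; simp
      have h0' : N = 0 := by exact_mod_cast h0
      omega
    | [ψ], hl, _, _, _ =>
      have h1 : (fun g : Γ => χ g) = ψ.1 := by
        rw [hl]
        simp
      rw [h1]
      exact ψ.2
    | _ :: _ :: _, _, _, _, h2 =>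
      exfalso
      simp at h2
  · exfalso
    have hlt : ∀ ψ ∈ l, 2 * charDegree (ψ : Γ → ℂ) + 1 < p := by
      intro ψ hψ
      have h1 := hle ψ hψ
      omega
    have hxo' : orderOf (⟨x, hxΓ⟩ : Γ) = p := by
      rw [Subgroup.orderOf_mk]
      exact hx
    have hdivΓ : p ∣ Nat.card Γ := by
      rw [← hxo']
      exact orderOf_dvd_natCard _
    have hsqΓ : ¬ p ^ 2 ∣ Nat.card Γ :=
      fun h => hsq (h.trans (Subgroup.card_subgroup_dvd_card Γ))
    have hgood : ∀ ψ ∈ l, Good p Γ (ψ : Γ → ℂ) := fun ψ hψ =>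
      Cfsg.Agent.Lib.helper2.BF.bf_irr (Nat.card Γ) Γ rfl p hp hdivΓ hsqΓ ψ.1 ψ.2 (hlt ψ hψ)
    obtain ⟨D, hD⟩ : ∃ D : Subgroup Γ, D = Subgroup.normalClosure {y : Γ | orderOf y = p} :=
      ⟨_, rfl⟩
    have hDn : D.Normal := by
      rw [hD]
      exact Subgroup.normalClosure_normal
    have hreg : ∀ y ∈ D, ¬ p ∣ orderOf y → y = 1 := by
      intro y hy hyp
      have h1 : χ (y : G) = χ 1 := by
        have e1 := congrFun hl y
        have e2 := congrFun hl 1
        simp only [OneMemClass.coe_one] at e2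
        rw [e1, e2]
        apply helper92_list_sum_eval
        intro ψ hψ
        obtain ⟨M, hMn, ⟨z, hzM, hzo⟩, hM⟩ := hgood ψ hψ
        have := hMn
        have hDM : D ≤ M := by
          rw [hD]
          apply Subgroup.normalClosure_le_normal
          intro w hw
          exact helper92_mem_of_order p hp hsqΓ M z hzM hzo w hw
        exact hM y (hDM hy) hyp
      exact Subtype.ext (hfaith _ h1)
    have hDp : IsPGroup p D := by
      intro g
      have ho : orderOf (g : Γ) ≠ 0 := (orderOf_pos (g : Γ)).ne'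
      obtain ⟨e, m, hm, hem⟩ := Nat.exists_eq_pow_mul_and_not_dvd ho p hp.ne_one
      refine ⟨e, ?_⟩
      have h1 : ((g : Γ) ^ p ^ e) = 1 := by
        apply hreg _ (D.pow_mem g.2 _)
        have hpe : p ^ e ≠ 0 := pow_ne_zero _ hp.pos.ne'
        rw [orderOf_pow_of_dvd hpe (by rw [hem]; exact dvd_mul_right _ _), hem,
          Nat.mul_div_cancel_left _ (Nat.pos_of_ne_zero hpe)]
        exact hm
      exact Subtype.ext (by simpa using h1)
    obtain ⟨n, hn⟩ := IsPGroup.iff_card.mp hDp
    have hxD : (⟨x, hxΓ⟩ : Γ) ∈ D := by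
      rw [hD]
      exact Subgroup.subset_normalClosure hxo'
    have hn1 : n = 1 := by
      have h1 : p ^ n ∣ Nat.card Γ := by
        rw [← hn]
        exact Subgroup.card_subgroup_dvd_card D
      have h2 : n ≤ 1 := by
        by_contra h
        push Not at h
        exact hsqΓ ((pow_dvd_pow p h).trans h1)
      have h3 : n ≠ 0 := by
        rintro rfl
        rw [pow_zero] at hn
        have hbot : D = ⊥ := Subgroup.card_eq_one.mp hn
        rw [hbot, Subgroup.mem_bot] at hxD
        rw [hxD, orderOf_one] at hxo'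
        exact hp.one_lt.ne hxo'
      omega
    rw [hn1, pow_one] at hn
    have hD'n : (D.map Γ.subtype).Normal := by
      constructor
      intro y hy g
      obtain ⟨y', hy'D, rfl⟩ := hy
      by_cases h1 : y' = 1
      · rw [h1]
        simp
      · have ho : orderOf y' = p := by
          have hdvd : orderOf y' ∣ p := by
            have h2 := Subgroup.orderOf_dvd_natCard D hy'D
            rwa [hn] at h2
          rcases (Nat.dvd_prime hp).mp hdvd with h | h
          · exact absurd (orderOf_eq_one_iff.mp h) h1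
          · exact h
        have hmemΓ : g * (y' : G) * g⁻¹ ∈ Γ := hΓn.conj_mem _ y'.2 g
        have ho' : orderOf (⟨g * (y' : G) * g⁻¹, hmemΓ⟩ : Γ) = p := by
          rw [Subgroup.orderOf_mk]
          have e1 : g * (y' : G) * g⁻¹ = MulAut.conj g (y' : G) := rfl
          rw [e1, MulEquiv.orderOf_eq, Subgroup.orderOf_coe]
          exact ho
        exact ⟨⟨_, hmemΓ⟩, helper92_mem_of_order p hp hsqΓ D ⟨x, hxΓ⟩ hxD hxo' _ ho', rfl⟩
    have hD'card : Nat.card (D.map Γ.subtype) = p :=
      (Nat.card_congr (D.equivMapOfInjective Γ.subtype (Subgroup.subtype_injective Γ)).toEquiv).symm.trans hn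
    exact hnn _ hD'n hD'card

end Cfsg.Agent.Lib.helper2.BG
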