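import Cfsg.Agent.Lib.helper42.FGDefs

/-! S1915 split (helper42), piece CARD -- prefixed racer copy by helper75. -/

set_option autoImplicit false

namespace Cfsg.Agent.Lib.helper42.FG

variable {G : Type*} [Group G] [Finite G]

/-- CARD -/
theorem h75_card_S_gt {A S U : Subgroup G} (h : Cfg A S U) : 4 < Nat.card S := by
  obtain ⟨E, hES, hEl, hE2⟩ := h.hc
  by_contra hcon
  have hS4 : Nat.card S ≤ 4 := by omega
  have hdvd : Nat.card E ∣ Nat.card S := Subgroup.card_dvd_of_le hES
  have hSpos : 0 < Nat.card S := Nat.card_pos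
  have hle : Nat.card E ≤ Nat.card S := Nat.le_of_dvd hSpos hdvd
  have hEq : Nat.card E = Nat.card S := by
    have hpow := h.hSyl
    generalize (Nat.card A).factorization 2 = k at hpow
    have hk : k ≤ 2 := by
      by_contra hk
      have h8 : 2 ^ 3 ≤ 2 ^ k := Nat.pow_le_pow_right (by norm_num) (by omega)
      omega
    interval_cases k
    · rw [pow_zero] at hpow; omega
    · rw [pow_one] at hpow; omega
    · have h4 : (2 : ℕ) ^ 2 = 4 := by norm_num
      rw [h4] at hpow
      have h3 : Nat.card E = 3 ∨ Nat.card E = 4 := by omega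
      rcases h3 with h3 | h3
      · rw [h3, hpow] at hdvd; norm_num at hdvd
      · omega
  have hES' : E = S := Subgroup.eq_of_le_of_card_ge hES hEq.ge
  have h2 := h.ha S le_rfl h.hUS (hES' ▸ hEl)
  omega

end Cfsg.Agent.Lib.helper42.FG
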