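import Cfsg.Agent.Lib.helper42.FGDefs

/-! S1915 split (helper42), piece K1C -- prefixed racer copy by helper75. -/

set_option autoImplicit false

namespace Cfsg.Agent.Lib.helper42.FG

variable {G : Type*} [Group G] [Finite G]

/-- K1C -/
theorem h75_k1_of_cyclic {S U B : Subgroup G} (hB : BData S U B) {z : G} (hzB : z ∈ B) (hz : ZData S z) :
    ∀ q ∈ B, q ^ 2 = 1 → q = 1 ∨ q = z := by
  intro q hq hq2
  classical
  haveI : IsCyclic ↥B := hB.hcyc
  haveI : Fintype ↥B := Fintype.ofFinite _
  by_contra hcon
  have hq1 : q ≠ 1 := fun h => hcon (Or.inl h)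
  have hqz : q ≠ z := fun h => hcon (Or.inr h)
  have hz1 : z ≠ 1 := by
    intro h
    have h2 := hz.hz2
    rw [h, orderOf_one] at h2
    omega
  have hz2 : z ^ 2 = 1 := by
    rw [← hz.hz2]; exact pow_orderOf_eq_one z
  have hsub : ({(1 : ↥B), ⟨z, hzB⟩, ⟨q, hq⟩} : Finset ↥B) ⊆
      Finset.univ.filter (fun a : ↥B => a ^ 2 = 1) := by
    intro a ha
    simp only [Finset.mem_insert, Finset.mem_singleton] at ha
    rw [Finset.mem_filter]
    refine ⟨Finset.mem_univ _, ?_⟩
    rcases ha with rfl | rfl | rfl
    · exact one_pow 2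
    · exact Subtype.ext hz2
    · exact Subtype.ext hq2
  have hcard : ({(1 : ↥B), ⟨z, hzB⟩, ⟨q, hq⟩} : Finset ↥B).card = 3 := by
    rw [Finset.card_insert_of_notMem, Finset.card_insert_of_notMem, Finset.card_singleton]
    · simp only [Finset.mem_singleton]
      intro h
      exact hqz (congrArg Subtype.val h).symm
    · simp only [Finset.mem_insert, Finset.mem_singleton]
      rintro (h | h)
      · apply hz1
        have hv := congrArg Subtype.val h
        simpa using hv.symm
      · apply hq1
        have hv := congrArg Subtype.val h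
        simpa using hv.symm
  have hle := Finset.card_le_card hsub
  have hle2 := IsCyclic.card_pow_eq_one_le (α := ↥B) (n := 2) (by norm_num)
  omega

end Cfsg.Agent.Lib.helper42.FG
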