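import Mathlib
import Cfsg.Prelude.Def_FusionSystem
import Cfsg.Agent.Lib.helper89.FusionSat
import Cfsg.Agent.Lib.helper36.FusCH

/-!
# S5213 piece F2 (`ext_to_S`)
-/

set_option autoImplicit false

open Cfsg Cfsg.FusionSystem

namespace Cfsg.Agent.Lib.helper75.FS13

section fusion

variable {Ω : Type*} [Group Ω] {S : Subgroup Ω}

/-- PIECE F2 (Case I): a map `zpowers t → zpowers t'` between central subgroups of `S` extends
to an automorphism of `S` (`zpowers t'` is receptive: `helper36.fusch_central_receptive`; the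
extender contains `C_S(t) = S`: `helper88.centralizerIn_le_extender` or
`Cfsg.Agent.Lib.helper89.exists_extension` with `N := S`). -/
theorem ext_to_S [Finite S] (hS : IsPGroup 2 S) (F : FusionSystem S) (hF : F.IsSaturated 2)
    (t : Ω) (htS : t ∈ S) (htc : ∀ s ∈ S, s * t = t * s)
    (φ : Subgroup.zpowers t →* Ω) (hφ : φ ∈ F.Hom (Subgroup.zpowers t))
    (hc : ∀ s ∈ S, s * φ ⟨t, Subgroup.mem_zpowers t⟩ = φ ⟨t, Subgroup.mem_zpowers t⟩ * s) :
    ∃ α : MulAut S, ((α ⟨t, htS⟩ : S) : Ω) = φ ⟨t, Subgroup.mem_zpowers t⟩ := by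
  -- every element of `zpowers t` is a power of `⟨t, _⟩`
  have hgen : ∀ x : Subgroup.zpowers t, ∃ k : ℤ,
      x = (⟨t, Subgroup.mem_zpowers t⟩ : Subgroup.zpowers t) ^ k := by
    intro x
    obtain ⟨k, hk⟩ := Subgroup.mem_zpowers_iff.mp x.2
    exact ⟨k, Subtype.ext (by simpa using hk.symm)⟩
  -- the range of `φ` is central in `S`
  have hRS : φ.range ≤ S := by
    rintro _ ⟨x, rfl⟩
    exact (F.le_of_mem hφ).2 x
  have hRc : ∀ z ∈ φ.range, ∀ s ∈ S, s * z = z * s := by
    rintro _ ⟨x, rfl⟩ s hs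
    obtain ⟨k, rfl⟩ := hgen x
    rw [map_zpow]
    exact ((Commute.zpow_right (hc s hs) k : Commute s _)).eq
  have hrec : F.IsReceptive φ.range :=
    Cfsg.Agent.Lib.helper36.fusch_central_receptive hS F hF hRS hRc
  -- elements of `zpowers t` are central in `S`
  have hcent : ∀ g ∈ S, ∀ x ∈ Subgroup.zpowers t, g * x * g⁻¹ = x := by
    intro g hg x hx
    obtain ⟨k, rfl⟩ := Subgroup.mem_zpowers_iff.mp hx
    have h1 : Commute g (t ^ k) := Commute.zpow_right (htc g hg) k
    rw [h1.eq, mul_inv_cancel_right]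
  obtain ⟨ψ, hψ, hψP⟩ := Cfsg.Agent.Lib.helper89.exists_extension F hrec hφ rfl S (by
    intro g hg
    refine ⟨hg, ?_, 1, S.one_mem, ?_⟩
    · rw [Subgroup.mem_normalizer_iff]
      intro x
      constructor
      · intro hx
        rw [hcent g hg x hx]; exact hx
      · intro hx
        have h2 : x = g⁻¹ * (g * x * g⁻¹) * g := by group
        have h3 : g⁻¹ * (g * x * g⁻¹) * (g⁻¹)⁻¹ = g * x * g⁻¹ :=
          hcent g⁻¹ (S.inv_mem hg) _ hx
        rw [inv_inv] at h3
        rw [h2, h3]; exact hx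
    · intro x hx
      have h4 : (⟨g * (x : Ω) * g⁻¹, hx⟩ : Subgroup.zpowers t) = x :=
        Subtype.ext (hcent g hg x x.2)
      rw [h4, one_mul, inv_one, mul_one])
  -- turn `ψ` into an automorphism of `S`
  have hψS : ∀ x : S, ψ x ∈ S := (F.le_of_mem hψ).2
  have hinj : Function.Injective (ψ.codRestrict S hψS) := by
    intro a b hab
    apply F.injective_of_mem hψ
    exact congrArg Subtype.val hab
  have hbij : Function.Bijective (ψ.codRestrict S hψS) :=
    Finite.injective_iff_bijective.mp hinj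
  refine ⟨MulEquiv.ofBijective (ψ.codRestrict S hψS) hbij, ?_⟩
  show ψ ⟨t, htS⟩ = _
  exact hψP t (Subgroup.mem_zpowers t) htS

end fusion

end Cfsg.Agent.Lib.helper75.FS13
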