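import Mathlib
import Cfsg.Prelude.Def_Classical
import Cfsg.Prelude.Def_GeometricClasses
import Cfsg.Agent.Lib.helper63.Elusive1
import Cfsg.Agent.Lib.helper85.FeBDIM

/-!
S5977B split (helper96), piece AKER -- prefixed racer copy by helper75 (field-free route:
simplicity of the module, cyclic vector, palindromic polynomial of odd degree).
-/

set_option autoImplicit false

namespace Cfsg.Agent.Lib.helper96.FE

open Polynomial

theorem h75_aeval_toLin {F : Type*} [Field F] {κ : Type} [Fintype κ] [DecidableEq κ]
    (N : Matrix κ κ F) (g : F[X]) :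
    aeval (Matrix.toLin' N) g = Matrix.toLin' (aeval N g) :=
  Polynomial.aeval_algHom_apply (Matrix.toLinAlgEquiv' (R := F) (n := κ)) N g

theorem h75_aeval_transpose {F : Type*} [Field F] {κ : Type} [Fintype κ] [DecidableEq κ]
    (P : Matrix κ κ F) (g : F[X]) : (aeval P g).transpose = aeval P.transpose g := by
  rw [Polynomial.aeval_eq_sum_range, Polynomial.aeval_eq_sum_range, Matrix.transpose_sum]
  refine Finset.sum_congr rfl (fun k _ => ?_)
  rw [Matrix.transpose_smul, Matrix.transpose_pow]

/-- a palindromic polynomial of odd degree vanishes at `-1` (honest pairing, any characteristic) -/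
theorem h75_palin {F : Type*} [Field F] (f : F[X]) (hodd : Odd f.natDegree)
    (hpal : ∀ j ≤ f.natDegree, f.coeff (f.natDegree - j) = f.coeff j) : f.eval (-1) = 0 := by
  obtain ⟨m, hm⟩ := hodd
  rw [Polynomial.eval_eq_sum_range]
  have hnm : f.natDegree + 1 = (m + 1) + (m + 1) := by omega
  rw [hnm, Finset.sum_range_add]
  rw [← Finset.sum_range_reflect (fun x => f.coeff (m + 1 + x) * (-1 : F) ^ (m + 1 + x)) (m + 1)]
  rw [← Finset.sum_add_distrib]
  apply Finset.sum_eq_zero
  intro x hx
  have hx' : x < m + 1 := Finset.mem_range.mp hx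
  have e1 : m + 1 + (m + 1 - 1 - x) = f.natDegree - x := by omega
  have e2 : f.natDegree - x = 2 * (m - x) + 1 + x := by omega
  simp only [e1]
  rw [hpal x (by omega), e2, pow_add, pow_succ, pow_mul, neg_one_sq, one_pow]
  ring

theorem h75_gl_poly_core {F : Type*} [Field F] [Fintype F] {κ : Type} [Fintype κ] [DecidableEq κ]
    (r : ℕ) [Fact r.Prime] (hr2 : r ≠ 2) (hrF : (r : F) ≠ 0)
    (hκ : Fintype.card κ = orderOf ((Fintype.card F : ℕ) : ZMod r)) (hi : Odd (Fintype.card κ))
    (A : GL κ F) (hA : orderOf A = r) :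
    ∃ f : F[X], aeval A.val f = 0 ∧ f.eval 1 ≠ 0 ∧ IsUnit (aeval ((A⁻¹).val.transpose) f) := by
  classical
  have hrp : r.Prime := Fact.out
  have hr1 : r ≠ 1 := hrp.ne_one
  have hAr : A ^ r = 1 := by rw [← hA]; exact pow_orderOf_eq_one A
  have hA1 : A ≠ 1 := by
    intro h; rw [h, orderOf_one] at hA; exact hr1 hA.symm
  have hΦT : aeval (Matrix.toLin' A.val) (cyclotomic r F) = 0 := fe_cyc_zero r hrF hκ A hA1 hAr
  have hΦM : aeval A.val (cyclotomic r F) = 0 := by
    have h1 := h75_aeval_toLin A.val (cyclotomic r F)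
    rw [hΦT] at h1
    exact (LinearEquiv.map_eq_zero_iff Matrix.toLin').mp h1.symm
  have hMr : A.val ^ r = 1 := by
    have h1 := congrArg Units.val hAr
    rwa [Units.val_pow_eq_pow_val, Units.val_one] at h1
  have hTr : (Matrix.toLin' A.val) ^ r = 1 := by
    have h1 : (Matrix.toLinAlgEquiv' A.val) ^ r = Matrix.toLinAlgEquiv' (A.val ^ r) :=
      (map_pow Matrix.toLinAlgEquiv' A.val r).symm
    rw [hMr, map_one] at h1
    exact h1
  -- no fixed vectors
  have hfix : ∀ v : κ → F, Matrix.toLin' A.val v = v → v = 0 := by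
    intro v hv
    by_contra hv0
    have hev : Module.End.HasEigenvector (Matrix.toLin' A.val) 1 v :=
      Module.End.hasEigenvector_iff.mpr
        ⟨Module.End.mem_eigenspace_iff.mpr (by rw [one_smul]; exact hv), hv0⟩
    have h1 := Module.End.aeval_apply_of_hasEigenvector (p := cyclotomic r F) hev
    rw [hΦT, LinearMap.zero_apply, eval_one_cyclotomic_prime] at h1
    rcases smul_eq_zero.mp h1.symm with h | h
    · exact hrF h
    · exact hv0 h
  have hpos : orderOf ((Fintype.card F : ℕ) : ZMod r) ≠ 0 := by
    rw [← hκ]; intro h; rw [h] at hi; exact (by decide : ¬ Odd 0) hi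
  have hq : ((Fintype.card F : ℕ) : ZMod r) ≠ 0 := by
    intro h0
    have h1 := pow_orderOf_eq_one ((Fintype.card F : ℕ) : ZMod r)
    rw [h0] at h1 hpos
    rw [zero_pow hpos] at h1
    exact zero_ne_one h1
  -- simplicity
  have hsimple : ∀ W : Submodule F (κ → F), (∀ w ∈ W, Matrix.toLin' A.val w ∈ W) →
      W = ⊥ ∨ W = ⊤ := by
    intro W hW
    have hT'r : ((Matrix.toLin' A.val).restrict hW) ^ r = 1 := by
      rw [Module.End.pow_restrict r hW]
      apply LinearMap.ext
      intro w
      apply Subtype.ext
      rw [LinearMap.restrict_apply]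
      simp [hTr]
    have hdvd := Cfsg.Agent.Lib.helper63.Elusive.orderOf_dvd_finrank_sub r hq
      ((Matrix.toLin' A.val).restrict hW) hT'r
    have hker : LinearMap.ker ((Matrix.toLin' A.val).restrict hW - 1) = ⊥ := by
      rw [LinearMap.ker_eq_bot']
      intro w hw
      rw [LinearMap.sub_apply, sub_eq_zero] at hw
      have h2 : Matrix.toLin' A.val (w : κ → F) = w := by
        have h3 := congrArg Subtype.val hw
        rw [LinearMap.restrict_apply] at h3
        exact h3
      exact Subtype.ext (hfix _ h2)
    rw [hker, finrank_bot, Nat.sub_zero] at hdvd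
    have hle : Module.finrank F W ≤ Module.finrank F (κ → F) := Submodule.finrank_le W
    rw [Module.finrank_fintype_fun_eq_card, hκ] at hle
    by_cases h0 : Module.finrank F W = 0
    · left; exact Submodule.finrank_eq_zero.mp h0
    · right
      apply Submodule.eq_top_of_finrank_eq
      rw [Module.finrank_fintype_fun_eq_card, hκ]
      exact le_antisymm hle (Nat.le_of_dvd (Nat.pos_of_ne_zero h0) hdvd)
  -- the minimal polynomial
  have hmonic : (minpoly F A.val).Monic := minpoly.monic (Matrix.isIntegral A.val)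
  have hfM : aeval A.val (minpoly F A.val) = 0 := minpoly.aeval F A.val
  have hfdvd : minpoly F A.val ∣ cyclotomic r F := minpoly.dvd F A.val hΦM
  have hf1 : (minpoly F A.val).eval 1 ≠ 0 := by
    intro h
    obtain ⟨h', hh'⟩ := hfdvd
    have h1 := congrArg (Polynomial.eval 1) hh'
    rw [eval_one_cyclotomic_prime, Polynomial.eval_mul, h, zero_mul] at h1
    exact hrF h1
  have hfT : aeval (Matrix.toLin' A.val) (minpoly F A.val) = 0 := by
    rw [h75_aeval_toLin, hfM, map_zero]
  have hf0 : minpoly F A.val ≠ 0 := hmonic.ne_zero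
  -- its degree
  have hdeg : (minpoly F A.val).natDegree = Fintype.card κ := by
    apply le_antisymm
    · have h1 := Polynomial.natDegree_le_of_dvd (Matrix.minpoly_dvd_charpoly A.val)
        (Matrix.charpoly_monic A.val).ne_zero
      rwa [Matrix.charpoly_natDegree_eq_dim] at h1
    · have hcpos : 0 < Fintype.card κ := by
        rcases hi with ⟨k, hk⟩; omega
      obtain ⟨k0⟩ : Nonempty κ := Fintype.card_pos_iff.mp hcpos
      have hv0 : (fun _ : κ => (1 : F)) ≠ 0 := fun h => one_ne_zero (congrFun h k0)
      let φ : F[X] →ₗ[F] (κ → F) :=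
        (LinearMap.applyₗ (fun _ : κ => (1 : F))).comp (aeval (Matrix.toLin' A.val)).toLinearMap
      have hφ : ∀ g, φ g = aeval (Matrix.toLin' A.val) g (fun _ : κ => (1 : F)) := fun g => rfl
      have hinv : ∀ w ∈ LinearMap.range φ, Matrix.toLin' A.val w ∈ LinearMap.range φ := by
        rintro w ⟨g, rfl⟩
        refine ⟨X * g, ?_⟩
        rw [hφ, hφ, map_mul, aeval_X, Module.End.mul_apply]
      have hvmem : (fun _ : κ => (1 : F)) ∈ LinearMap.range φ :=
        ⟨1, by rw [hφ, map_one, Module.End.one_apply]⟩
      have htop : LinearMap.range φ = ⊤ := by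
        rcases hsimple _ hinv with h | h
        · exfalso; rw [h, Submodule.mem_bot] at hvmem; exact hv0 hvmem
        · exact h
      have hmap : (Polynomial.degreeLT F (minpoly F A.val).natDegree).map φ = ⊤ := by
        rw [eq_top_iff, ← htop]
        rintro w ⟨g, rfl⟩
        refine ⟨g %ₘ minpoly F A.val, ?_, ?_⟩
        · rw [SetLike.mem_coe, Polynomial.mem_degreeLT]
          calc (g %ₘ minpoly F A.val).degree < (minpoly F A.val).degree :=
                Polynomial.degree_modByMonic_lt g hmonic
            _ = ((minpoly F A.val).natDegree : WithBot ℕ) := Polynomial.degree_eq_natDegree hf0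
        · have h1 := Polynomial.modByMonic_add_div g (minpoly F A.val)
          rw [hφ, hφ]
          conv_rhs => rw [← h1]
          rw [map_add, map_mul, hfT, zero_mul, add_zero]
      haveI : Module.Finite F ↥(Polynomial.degreeLT F (minpoly F A.val).natDegree) :=
        Module.Finite.equiv (Polynomial.degreeLTEquiv F (minpoly F A.val).natDegree).symm
      have h1 := Submodule.finrank_map_le φ (Polynomial.degreeLT F (minpoly F A.val).natDegree)
      rw [hmap, finrank_top, Module.finrank_fintype_fun_eq_card,
        LinearEquiv.finrank_eq (Polynomial.degreeLTEquiv F (minpoly F A.val).natDegree),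
        Module.finrank_fin_fun] at h1
      exact h1
  -- the inverse
  have hrpos : 1 ≤ r := hrp.one_lt.le
  have hAinv : A⁻¹ = A ^ (r - 1) := by
    apply inv_eq_of_mul_eq_one_right
    rw [← pow_succ', Nat.sub_add_cancel hrpos, hAr]
  have hMi : (A⁻¹).val = A.val ^ (r - 1) := by
    rw [hAinv, Units.val_pow_eq_pow_val]
  have hNg : aeval (A⁻¹).val (minpoly F A.val) =
      aeval A.val ((minpoly F A.val).comp (X ^ (r - 1))) := by
    rw [Polynomial.aeval_comp, map_pow, aeval_X, hMi]
  have hcomm : aeval (A⁻¹).val (minpoly F A.val) * A.val =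
      A.val * aeval (A⁻¹).val (minpoly F A.val) := by
    rw [hNg]
    have h1 : aeval A.val ((minpoly F A.val).comp (X ^ (r - 1)) * X) =
        aeval A.val (X * (minpoly F A.val).comp (X ^ (r - 1))) := by rw [mul_comm]
    rwa [map_mul, map_mul, aeval_X] at h1
  have hNcases : aeval (A⁻¹).val (minpoly F A.val) = 0 ∨
      IsUnit (aeval (A⁻¹).val (minpoly F A.val)) := by
    have hinvK : ∀ w ∈ LinearMap.ker (Matrix.toLin' (aeval (A⁻¹).val (minpoly F A.val))),
        Matrix.toLin' A.val w ∈ LinearMap.ker (Matrix.toLin' (aeval (A⁻¹).val (minpoly F A.val))) := by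
      intro w hw
      rw [LinearMap.mem_ker, Matrix.toLin'_apply] at hw ⊢
      rw [Matrix.toLin'_apply, Matrix.mulVec_mulVec, hcomm, ← Matrix.mulVec_mulVec, hw,
        Matrix.mulVec_zero]
    rcases hsimple _ hinvK with h | h
    · right
      rw [← Matrix.mulVec_injective_iff_isUnit]
      exact LinearMap.ker_eq_bot.mp h
    · left
      have h0 : Matrix.toLin' (aeval (A⁻¹).val (minpoly F A.val)) = 0 := LinearMap.ker_eq_top.mp h
      exact (LinearEquiv.map_eq_zero_iff Matrix.toLin').mp h0
  refine ⟨minpoly F A.val, hfM, hf1, ?_⟩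
  rw [← h75_aeval_transpose, Matrix.isUnit_transpose]
  rcases hNcases with hN0 | hNu
  · exfalso
    have hE1 : ∑ k ∈ Finset.range ((minpoly F A.val).natDegree + 1),
        (minpoly F A.val).coeff k • A.val ^ ((minpoly F A.val).natDegree - k) = 0 := by
      have h1 := hN0
      rw [Polynomial.aeval_eq_sum_range] at h1
      have h2 := congrArg (fun P => A.val ^ (minpoly F A.val).natDegree * P) h1
      simp only [Finset.mul_sum, mul_zero] at h2
      rw [← h2]
      refine Finset.sum_congr rfl (fun k hk => ?_)
      have hk' : k ≤ (minpoly F A.val).natDegree := Nat.lt_succ_iff.mp (Finset.mem_range.mp hk)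
      rw [mul_smul_comm]
      congr 1
      have h3 : A ^ ((minpoly F A.val).natDegree - k) =
          A ^ (minpoly F A.val).natDegree * (A⁻¹) ^ k := by
        rw [inv_pow, ← pow_sub A hk']
      have h4 := congrArg Units.val h3
      rwa [Units.val_pow_eq_pow_val, Units.val_mul, Units.val_pow_eq_pow_val,
        Units.val_pow_eq_pow_val] at h4
    have hrev : aeval A.val (minpoly F A.val).reverse = 0 := by
      rw [Polynomial.aeval_eq_sum_range' (n := (minpoly F A.val).natDegree + 1)
        (Nat.lt_succ_of_le (Polynomial.reverse_natDegree_le _))]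
      rw [← hE1, ← Finset.sum_range_reflect
        (fun k => (minpoly F A.val).coeff k • A.val ^ ((minpoly F A.val).natDegree - k))
        ((minpoly F A.val).natDegree + 1)]
      refine Finset.sum_congr rfl (fun j hj => ?_)
      have hj' : j ≤ (minpoly F A.val).natDegree := Nat.lt_succ_iff.mp (Finset.mem_range.mp hj)
      rw [Polynomial.coeff_reverse, Polynomial.revAt_le hj']
      have e1 : (minpoly F A.val).natDegree + 1 - 1 - j = (minpoly F A.val).natDegree - j := by
        omega
      have e2 : (minpoly F A.val).natDegree - ((minpoly F A.val).natDegree - j) = j := by omega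
      simp only [e1, e2]
    obtain ⟨h, hh⟩ := minpoly.dvd F A.val hrev
    have hrev0 : (minpoly F A.val).reverse ≠ 0 := fun h0 => hf0 (Polynomial.reverse_eq_zero.mp h0)
    have hh0 : h ≠ 0 := by
      rintro rfl; rw [mul_zero] at hh; exact hrev0 hh
    have hhdeg : h.natDegree = 0 := by
      have h1 := Polynomial.reverse_natDegree_le (minpoly F A.val)
      rw [hh, Polynomial.natDegree_mul hf0 hh0] at h1
      omega
    have hc : (minpoly F A.val).reverse = minpoly F A.val * C (h.coeff 0) := by
      rw [hh]; congr 1; exact Polynomial.eq_C_of_natDegree_eq_zero hhdeg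
    have hev1 : (minpoly F A.val).reverse.eval 1 = (minpoly F A.val).eval 1 := by
      haveI : Invertible (1 : F) := invertibleOne
      have h1 := Polynomial.eval₂_reverse_mul_pow (RingHom.id F) (1 : F) (minpoly F A.val)
      simpa [Polynomial.eval₂_id] using h1
    have hc1 : h.coeff 0 = 1 := by
      have h1 := congrArg (Polynomial.eval 1) hc
      rw [hev1, Polynomial.eval_mul, Polynomial.eval_C] at h1
      have h2 : (minpoly F A.val).eval 1 * (h.coeff 0 - 1) = 0 := by
        rw [mul_sub, mul_one, ← h1, sub_self]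
      rcases mul_eq_zero.mp h2 with h3 | h3
      · exact absurd h3 hf1
      · exact sub_eq_zero.mp h3
    have hpal : (minpoly F A.val).reverse = minpoly F A.val := by
      rw [hc, hc1, map_one, mul_one]
    have hpalc : ∀ j ≤ (minpoly F A.val).natDegree,
        (minpoly F A.val).coeff ((minpoly F A.val).natDegree - j) = (minpoly F A.val).coeff j := by
      intro j hj
      have h1 := Polynomial.coeff_reverse (minpoly F A.val) j
      rw [Polynomial.revAt_le hj, hpal] at h1
      exact h1.symm
    have hodd : Odd (minpoly F A.val).natDegree := by rw [hdeg]; exact hi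
    have hm1 : (minpoly F A.val).eval (-1) = 0 := h75_palin _ hodd hpalc
    have hΦm1 : (cyclotomic r F).eval (-1) = 0 := by
      obtain ⟨h', hh'⟩ := hfdvd
      rw [hh', Polynomial.eval_mul, hm1, zero_mul]
    have h2F : (1 : F) + 1 = 0 := by
      have h1 := congrArg (Polynomial.eval (-1)) (Polynomial.cyclotomic_prime_mul_X_sub_one F r)
      rw [Polynomial.eval_mul, hΦm1, zero_mul] at h1
      simp only [Polynomial.eval_sub, Polynomial.eval_pow, Polynomial.eval_X,
        Polynomial.eval_one] at h1
      have hrodd : Odd r := hrp.odd_of_ne_two hr2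
      rw [hrodd.neg_one_pow] at h1
      have h3 : (1 : F) + 1 = -(-1 - 1) := by ring
      rw [h3, ← h1, neg_zero]
    have hneg : (-1 : F) = 1 := neg_eq_of_add_eq_zero_left h2F
    rw [hneg] at hm1
    exact hf1 hm1
  · exact hNu

/-- AKER (L) -/
theorem h75_fe_gl_poly {F : Type*} [Field F] [Fintype F] (r : ℕ) [Fact r.Prime] (hr2 : r ≠ 2)
    (hrF : (r : F) ≠ 0) (hi : Odd (orderOf ((Fintype.card F : ℕ) : ZMod r)))
    (A : GL (Fin (orderOf ((Fintype.card F : ℕ) : ZMod r))) F) (hA : orderOf A = r) :
    ∃ f : F[X], aeval A.val f = 0 ∧ f.eval 1 ≠ 0 ∧ IsUnit (aeval ((A⁻¹).val.transpose) f) := by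
  exact h75_gl_poly_core r hr2 hrF (Fintype.card_fin _) (by rw [Fintype.card_fin]; exact hi) A hA

end Cfsg.Agent.Lib.helper96.FE
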