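import Mathlib
import Cfsg.Agent.Lib.helper66.ExtraRepA
import Cfsg.Agent.Lib.helper66.ExtraRepB
import Cfsg.Agent.Lib.helper66.ExtraRepC
import Cfsg.Agent.Lib.helper66.ExtraRepD
import Cfsg.Agent.Lib.helper75.HHNil
import Cfsg.Agent.Lib.helper75.HHOrth
import Cfsg.Agent.Lib.helper75.HHDeg
import Cfsg.Agent.Lib.helper75.HHMain

set_option autoImplicit false

namespace Cfsg.Agent.Lib.helper75

open Module Cfsg.Agent.Lib.helper66

section HHStar

/-- If `τ u ≡ u` modulo the centre, then `τ ^ j u ≡ u` modulo the centre. -/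
theorem hh_fix_pow {H : Type*} [Group H] (τ : MulAut H) (u : H)
    (h : τ u * u⁻¹ ∈ Subgroup.center H) (j : ℕ) : (τ ^ j) u * u⁻¹ ∈ Subgroup.center H := by
  induction j with
  | zero => simp
  | succ j ih =>
    have h1 : (τ ^ (j + 1)) u * u⁻¹ = τ ((τ ^ j) u * u⁻¹) * (τ u * u⁻¹) := by
      rw [pow_succ', MulAut.mul_apply, map_mul, map_inv]
      group
    rw [h1]
    exact Subgroup.mul_mem _ (sigma_center τ ih) h

/-- A power `i` with `0 < i < p ^ n` has a multiple congruent to `p ^ (n - 1)` mod `p ^ n`. -/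
theorem hh_exists_mul_mod {p : ℕ} (hp : p.Prime) (n i : ℕ) (hi0 : 0 < i) (hi : i < p ^ n) :
    ∃ j, (i * j) % p ^ n = p ^ (n - 1) % p ^ n := by
  have hg : Nat.gcd i (p ^ n) < p ^ n :=
    lt_of_le_of_lt (Nat.le_of_dvd hi0 (Nat.gcd_dvd_left _ _)) hi
  obtain ⟨m, -, hm⟩ := Nat.exists_mul_mod_eq_gcd hg
  obtain ⟨a, ha, hga⟩ := (Nat.dvd_prime_pow hp).mp (Nat.gcd_dvd_right i (p ^ n))
  have han : a < n := by
    rcases Nat.lt_or_ge a n with h | h
    · exact h
    · exfalso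
      have h1 : a = n := le_antisymm ha h
      rw [h1] at hga
      omega
  refine ⟨m * p ^ (n - 1 - a), ?_⟩
  have h1 : p ^ (n - 1) = p ^ a * p ^ (n - 1 - a) := by
    rw [← pow_add]
    congr 1
    omega
  have h2 : (i * (m * p ^ (n - 1 - a))) % p ^ n
      = ((i * m) % p ^ n * p ^ (n - 1 - a)) % p ^ n := by
    rw [← mul_assoc, Nat.mod_mul_mod]
  rw [h2, hm, hga, ← h1]

/-- Piece (S): the Hall–Higman critical computation for a class-two `q`-group `Q` with scalar
centre, normalised by an element `x` of order `p ^ n` with `(x - 1) ^ (p ^ n - 1) = 0` whose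
power of order `p` acts fixed-point-freely on `Q / Z(Q)`: then `|Q : Z(Q)| = (p ^ n - 1) ^ 2`. -/
theorem hh_star {p q : ℕ} [Fact p.Prime] [Fact q.Prime] (hpq : p ≠ q) {K : Type*} [Field K]
    [IsAlgClosed K] [CharP K p] {G : Type*} [Group G] [Finite G] {U : Type*} [AddCommGroup U]
    [Module K U] [FiniteDimensional K U] (ρ : G →* Module.End K U)
    (hinj : Function.Injective ρ) (Q : Subgroup G) (hQ : IsPGroup q Q) (x : G)
    (hxQ : ∀ u ∈ Q, x * u * x⁻¹ ∈ Q) (n : ℕ) (hn : 1 ≤ n) (hxn : x ^ p ^ n = 1)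
    (hsc : ∀ z ∈ Q, (∀ u ∈ Q, z * u = u * z) → ∃ c : K, ρ z = c • (1 : Module.End K U))
    (hcl : ∀ a ∈ Q, ∀ b ∈ Q, ∀ u ∈ Q, (a * b * a⁻¹ * b⁻¹) * u = u * (a * b * a⁻¹ * b⁻¹))
    (hfpf : ∀ u ∈ Q, (∀ v ∈ Q, (x ^ p ^ (n - 1) * u * (x ^ p ^ (n - 1))⁻¹ * u⁻¹) * v
      = v * (x ^ p ^ (n - 1) * u * (x ^ p ^ (n - 1))⁻¹ * u⁻¹)) → ∀ v ∈ Q, u * v = v * u)
    (hnab : ∃ a ∈ Q, ∃ b ∈ Q, a * b ≠ b * a)
    (hs : (ρ x - 1) ^ (p ^ n - 1) = 0) :
    Nat.card Q = (p ^ n - 1) ^ 2 * Nat.card ↥(Q ⊓ Subgroup.centralizer (Q : Set G)) := by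
  classical
  let _ : Fintype Q := Fintype.ofFinite _
  have hpp : p.Prime := Fact.out
  have hqp : q.Prime := Fact.out
  have hP : 0 < p ^ n := pow_pos hpp.pos n
  have hP2 : 1 < p ^ n := Nat.one_lt_pow (by omega) hpp.one_lt
  -- `x` normalises `Q`
  have hxk : ∀ (k : ℕ), ∀ u ∈ Q, x ^ k * u * (x ^ k)⁻¹ ∈ Q := by
    intro k
    induction k with
    | zero => intro u hu; simpa using hu
    | succ k ih =>
      intro u hu
      have h1 := hxQ _ (ih u hu)
      have h2 : x ^ (k + 1) * u * (x ^ (k + 1))⁻¹ = x * (x ^ k * u * (x ^ k)⁻¹) * x⁻¹ := by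
        rw [pow_succ']
        group
      rw [h2]
      exact h1
  have hxinv : x ^ (p ^ n - 1) = x⁻¹ := by
    have h1 : x ^ (p ^ n - 1) * x = 1 := by rw [← pow_succ, Nat.sub_add_cancel hP, hxn]
    exact eq_inv_of_mul_eq_one_left h1
  have hxQ' : ∀ u ∈ Q, x⁻¹ * u * x ∈ Q := by
    intro u hu
    have h1 := hxk (p ^ n - 1) u hu
    rw [hxinv, inv_inv] at h1
    exact h1
  have hxN : x ∈ Subgroup.normalizer (Q : Set G) := by
    rw [Subgroup.mem_normalizer_iff]
    intro h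
    constructor
    · exact hxQ h
    · intro hh
      have h1 := hxQ' _ hh
      have h2 : x⁻¹ * (x * h * x⁻¹) * x = h := by group
      rwa [h2] at h1
  -- a minimal invariant subspace
  let S : Set (Submodule K U) := {W | W ≠ ⊥ ∧ (∀ u ∈ Q, ∀ w ∈ W, ρ u w ∈ W) ∧
    (∀ w ∈ W, ρ x w ∈ W)}
  have hUne : (⊤ : Submodule K U) ≠ ⊥ := by
    intro h0
    obtain ⟨a, ha, b, hb, hab⟩ := hnab
    apply hab
    apply hinj
    apply LinearMap.ext
    intro w
    have hw : w ∈ (⊤ : Submodule K U) := trivial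
    rw [h0] at hw
    have hw0 : w = 0 := (Submodule.mem_bot K).mp hw
    rw [hw0, map_zero, map_zero]
  have hSne : S.Nonempty := ⟨⊤, hUne, fun _ _ _ _ => trivial, fun _ _ => trivial⟩
  obtain ⟨W, hWS, hWmin⟩ := (wellFounded_lt :
    WellFounded ((· < ·) : Submodule K U → Submodule K U → Prop)).has_min S hSne
  obtain ⟨hWne, hWQ, hWx⟩ := hWS
  have : Nontrivial W := Submodule.nontrivial_iff_ne_bot.mpr hWne
  obtain ⟨R', hR'⟩ : ∃ R' : Q →* Module.End K W, ∀ (u : Q) (w : W),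
      ((R' u w : W) : U) = ρ u w := ⟨restrictHom ρ Q W hWQ, fun u w => rfl⟩
  obtain ⟨X', hX'⟩ : ∃ X' : Module.End K W, ∀ w : W, ((X' w : W) : U) = ρ x w :=
    ⟨(ρ x).restrict hWx, fun w => rfl⟩
  obtain ⟨σ, hσ⟩ : ∃ σ : MulAut Q, ∀ (i : ℕ) (u : Q),
      (((σ ^ i) u : Q) : G) = x ^ i * u * x⁻¹ ^ i :=
    ⟨conjAut Q x hxN, conjAut_pow Q x hxN⟩
  have hσ1 : ∀ u : Q, ((σ u : Q) : G) = x * u * x⁻¹ := by
    intro u
    have h1 := hσ 1 u
    simpa using h1
  have hcenter : ∀ g : Q, g ∈ Subgroup.center Q ↔ ∀ v ∈ Q, (g : G) * v = v * g := by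
    intro g
    constructor
    · intro hg v hv
      have h1 := Subgroup.mem_center_iff.mp hg ⟨v, hv⟩
      exact (congrArg Subtype.val h1).symm
    · intro hg
      rw [Subgroup.mem_center_iff]
      intro v
      apply Subtype.ext
      exact (hg v v.2).symm
  have hd : ExtraData R' := by
    refine ⟨?_, ?_, ?_⟩
    · intro g hg
      obtain ⟨c, hc⟩ := hsc g g.2 ((hcenter g).mp hg)
      refine ⟨c, ?_⟩
      apply LinearMap.ext
      intro w
      apply Subtype.ext
      rw [hR', hc]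
      simp
    · intro g hg h1
      obtain ⟨c, hc⟩ := hsc g g.2 ((hcenter g).mp hg)
      obtain ⟨w, hw0⟩ := exists_ne (0 : W)
      have h2 : c • (w : U) = (w : U) := by
        have h3 := hR' g w
        rw [h1, hc] at h3
        simpa using h3.symm
      have h3 : c = 1 := by
        by_contra hne
        apply hw0
        have h4 : (c - 1) • (w : U) = 0 := by rw [sub_smul, one_smul, h2, sub_self]
        rcases smul_eq_zero.mp h4 with h5 | h5
        · exact absurd (sub_eq_zero.mp h5) hne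
        · exact Subtype.ext h5
      apply Subtype.ext
      apply hinj
      rw [hc, h3, one_smul, Subgroup.coe_one, map_one]
    · intro u v
      rw [hcenter]
      intro g hg
      have h1 := hcl u u.2 v v.2 g hg
      simpa using h1
  have hXR : ∀ u, X' * R' u = R' (σ u) * X' := by
    intro u
    apply LinearMap.ext
    intro w
    apply Subtype.ext
    rw [Module.End.mul_apply, Module.End.mul_apply, hX', hR', hR', hX', hσ1]
    have e2 : ρ x * ρ (u : G) = ρ (x * u * x⁻¹) * ρ x := by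
      rw [← map_mul, ← map_mul]
      congr 1
      group
    exact LinearMap.congr_fun e2 (w : U)
  have hX'pow : ∀ (k : ℕ) (w : W), (((X' ^ k) w : W) : U) = (ρ x ^ k) w := by
    intro k
    induction k with
    | zero => intro w; simp
    | succ k ih =>
      intro w
      rw [pow_succ, Module.End.mul_apply, ih, hX', pow_succ, Module.End.mul_apply]
  have hX'h : X' ^ (p ^ n) = 1 := by
    apply LinearMap.ext
    intro w
    apply Subtype.ext
    rw [hX'pow, ← map_pow, hxn, map_one]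
    rfl
  have hσh : σ ^ (p ^ n) = 1 := by
    apply MulEquiv.ext
    intro u
    apply Subtype.ext
    rw [hσ, inv_pow, hxn]
    simp
  have hfpf0 : ∀ u : Q, (σ ^ (p ^ (n - 1))) u * u⁻¹ ∈ Subgroup.center Q →
      u ∈ Subgroup.center Q := by
    intro u hu
    rw [hcenter] at hu ⊢
    have h1 : (((σ ^ (p ^ (n - 1))) u * u⁻¹ : Q) : G)
        = x ^ p ^ (n - 1) * u * (x ^ p ^ (n - 1))⁻¹ * (u : G)⁻¹ := by
      rw [Subgroup.coe_mul, hσ, Subgroup.coe_inv, inv_pow]
    rw [h1] at hu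
    exact hfpf u u.2 hu
  have hfpf' : ∀ i, 0 < i → i < p ^ n → ∀ u : Q, (σ ^ i) u * u⁻¹ ∈ Subgroup.center Q →
      u ∈ Subgroup.center Q := by
    intro i hi0 hi u hu
    obtain ⟨j, hj⟩ := hh_exists_mul_mod hpp n i hi0 hi
    have h1 := hh_fix_pow (σ ^ i) u hu j
    have h2 : (σ ^ i) ^ j = σ ^ (p ^ (n - 1)) := by
      rw [← pow_mul, pow_eq_pow_mod (i * j) hσh, hj, ← pow_eq_pow_mod _ hσh]
    rw [h2] at h1
    exact hfpf0 u h1
  have hfpf1 : ∀ u : Q, σ u * u⁻¹ ∈ Subgroup.center Q → u ∈ Subgroup.center Q := by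
    intro u hu
    apply hfpf' 1 Nat.one_pos hP2 u
    simpa using hu
  have hirr : ∀ U' : Submodule K W, (∀ u, ∀ w ∈ U', R' u w ∈ U') → (∀ w ∈ U', X' w ∈ U') →
      U' = ⊥ ∨ U' = ⊤ := by
    intro U' hUR hUX
    by_cases hU : U' = ⊥
    · exact Or.inl hU
    right
    have hU'S : U'.map W.subtype ∈ S := by
      refine ⟨?_, ?_, ?_⟩
      · intro h0
        apply hU
        rw [Submodule.eq_bot_iff]
        intro w hw
        have h1 : (w : U) ∈ U'.map W.subtype := ⟨w, hw, rfl⟩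
        rw [h0] at h1
        exact Subtype.ext ((Submodule.mem_bot K).mp h1)
      · rintro u hu _ ⟨w, hw, rfl⟩
        exact ⟨R' ⟨u, hu⟩ w, hUR ⟨u, hu⟩ w hw, hR' ⟨u, hu⟩ w⟩
      · rintro _ ⟨w, hw, rfl⟩
        exact ⟨X' w, hUX w hw, hX' w⟩
    have hle : U'.map W.subtype ≤ W := Submodule.map_subtype_le W U'
    have heq : U'.map W.subtype = W := by
      by_contra hne
      exact hWmin _ hU'S (lt_of_le_of_ne hle hne)
    rw [eq_top_iff]
    intro w _
    have h1 : (w : U) ∈ U'.map W.subtype := by rw [heq]; exact w.2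
    obtain ⟨w', hw', hww'⟩ := h1
    have h2 : w' = w := Subtype.ext hww'
    rwa [h2] at hw'
  have hQK : (Fintype.card Q : K) ≠ 0 := by
    obtain ⟨a, ha⟩ := IsPGroup.iff_card.mp hQ
    rw [← Nat.card_eq_fintype_card, ha]
    intro h0
    rw [CharP.cast_eq_zero_iff K p] at h0
    exact hpq ((Nat.prime_dvd_prime_iff_eq hpp hqp).mp (hpp.dvd_of_dvd_pow h0))
  have hirrQ : ∀ U' : Submodule K W, (∀ u, ∀ w ∈ U', R' u w ∈ U') → U' = ⊥ ∨ U' = ⊤ :=
    fun U' hU' => hirr U' hU'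
      (X_invariant hd X' σ (p ^ n) hP hXR hX'h (fun _ => hfpf1) hirr hQK U' hU')
  have hfix := hh_fix_bound p n R' hirrQ hQK X' σ hXR hX'h hσh hfpf'
  -- nilpotency index of `X' - 1`
  have hNpow : ∀ (k : ℕ) (w : W), ((((X' - 1) ^ k) w : W) : U) = ((ρ x - 1) ^ k) w := by
    intro k
    induction k with
    | zero => intro w; simp
    | succ k ih =>
      intro w
      rw [pow_succ, Module.End.mul_apply, ih, pow_succ, Module.End.mul_apply]
      congr 1
      simp [hX']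
  have hs' : (X' - 1) ^ (p ^ n - 1) = 0 := by
    apply LinearMap.ext
    intro w
    apply Subtype.ext
    rw [hNpow, hs]
    simp
  have hex : ∃ k, (X' - 1) ^ k = 0 := ⟨_, hs'⟩
  have hs0 : (X' - 1) ^ (Nat.find hex) = 0 := Nat.find_spec hex
  have hmin : ∀ k < Nat.find hex, (X' - 1) ^ k ≠ 0 := fun k hk => Nat.find_min hex hk
  have hsle : Nat.find hex ≤ p ^ n - 1 := Nat.find_min' hex hs'
  obtain ⟨b1, b2, b3⟩ := hh_commSub_bounds (Nat.find hex) (X' - 1) hs0 hmin
  have hcomm_eq : commSub (X' - 1) = commSub X' := by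
    ext M
    rw [mem_commSub, mem_commSub, sub_mul, mul_sub, one_mul, mul_one, sub_left_inj]
  rw [hcomm_eq] at b2 b3
  have h10 : (1 : Module.End K W) ≠ 0 := by
    obtain ⟨v, hv⟩ := exists_ne (0 : W)
    intro h
    have h1 := congrArg (fun F : Module.End K W => F v) h
    exact hv (by simpa using h1)
  have hs1 : 1 ≤ Nat.find hex := by
    by_contra h
    have h0 : Nat.find hex = 0 := by omega
    rw [h0, pow_zero] at hs0
    exact h10 hs0
  have hx1 : Nat.find hex = 1 → p ^ n = 1 := by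
    intro h1
    exfalso
    rw [h1, pow_one, sub_eq_zero] at hs0
    have hall : ∀ u : Q, u ∈ Subgroup.center Q := by
      intro u
      apply hfpf1
      have h2 : R' (σ u * u⁻¹) = 1 := by
        have h3 := hXR u
        rw [hs0, one_mul, mul_one] at h3
        rw [map_mul, ← h3, R_mul_inv]
      have h3 : ∀ v : Q, (σ u * u⁻¹) * v * (σ u * u⁻¹)⁻¹ * v⁻¹ = 1 := by
        intro v
        apply hd.faith _ (hd.cl2 _ _)
        have h2' : R' (σ u * u⁻¹)⁻¹ = 1 := by
          have h6 := R_mul_inv R' (σ u * u⁻¹)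
          rwa [h2, one_mul] at h6
        rw [map_mul, map_mul, map_mul, h2, h2', one_mul, mul_one, R_mul_inv]
      rw [Subgroup.mem_center_iff]
      intro v
      have h4 := h3 v
      have h5 : (σ u * u⁻¹) * v * (σ u * u⁻¹)⁻¹ = v := mul_inv_eq_one.mp h4
      calc v * (σ u * u⁻¹) = (σ u * u⁻¹) * v * (σ u * u⁻¹)⁻¹ * (σ u * u⁻¹) := by rw [h5]
        _ = (σ u * u⁻¹) * v := by group
    obtain ⟨a, ha, b, hb, hab⟩ := hnab
    apply hab
    exact ((hcenter ⟨a, ha⟩).mp (hall ⟨a, ha⟩) b hb)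
  obtain ⟨c1, c2⟩ := hh_arith_final (p ^ n) (Nat.find hex) (finrank K W)
    (finrank K (commSub X')) b1 b2 b3 hfix hs1 hx1
  have hseq : Nat.find hex = p ^ n - 1 := le_antisymm hsle c1
  have hdim : finrank K W = p ^ n - 1 := by rw [c2 hseq, hseq]
  have hsq := finrank_sq_eq hd hirrQ hQK
  have hmap : (Subgroup.center Q).map Q.subtype = Q ⊓ Subgroup.centralizer (Q : Set G) := by
    ext g
    rw [Subgroup.mem_inf, Subgroup.mem_map, Subgroup.mem_centralizer_iff]
    constructor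
    · rintro ⟨z, hz, rfl⟩
      refine ⟨z.2, ?_⟩
      intro h hh
      have h1 := Subgroup.mem_center_iff.mp hz ⟨h, hh⟩
      exact congrArg Subtype.val h1
    · rintro ⟨hgQ, hgc⟩
      refine ⟨⟨g, hgQ⟩, ?_, rfl⟩
      rw [Subgroup.mem_center_iff]
      intro h
      apply Subtype.ext
      exact hgc h h.2
  rw [← hmap, Subgroup.card_map_of_injective Q.subtype_injective,
    Subgroup.card_eq_card_quotient_mul_card_subgroup (Subgroup.center Q), ← hsq, hdim]

end HHStar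

end Cfsg.Agent.Lib.helper75
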