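import Mathlib
import Cfsg.Prelude.Def_OddOrderLocal
import Cfsg.Agent.Lib.helper21.FixedCosets
import Cfsg.Agent.Lib.helper4.KleinGT
import Cfsg.Agent.Lib.helper78.KleinBlock

/-!
# A counting argument for groups with an abelian TI Sylow 3-centralizer (helper75)

Setting (S4018): `G` finite simple, `P` an abelian Sylow `3`-subgroup of order `q`,
`|N(P)| = 4 q`, `|C(P)| = 2 q`, `C(P)` a TI-subset, and every proper subgroup of even order
has order dividing `4 q`.  Then:

* `C(P) = P × ⟨t⟩` for an involution `t`, and `C_G(t) = N(P)`;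
* the Sylow `2`-subgroups are four-groups, all involutions are conjugate;
* the elements of `N(P) ∖ C(P)` are involutions inverting `C(P)`;
* the number of involutions is `4 q² - 2 q + 1`, so `|G| = 4 q (4 q² - 2 q + 1)`;
* the centralizer of a Sylow `2`-subgroup has order `4`.

Main statement: `KC.main`.
-/

set_option autoImplicit false

namespace Cfsg.Agent.Lib.helper75.KC

open Cfsg

variable {G : Type*} [Group G]

/-- The normalizer of the Sylow `3`-subgroup. -/
abbrev NN (P : Sylow 3 G) : Subgroup G := Subgroup.normalizer ((P : Subgroup G) : Set G)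

/-- The centralizer of the Sylow `3`-subgroup. -/
abbrev CC (P : Sylow 3 G) : Subgroup G := Subgroup.centralizer ((P : Subgroup G) : Set G)

section Basic

variable [Finite G] (P : Sylow 3 G)

theorem card_P_pow : ∃ n : ℕ, Nat.card (P : Subgroup G) = 3 ^ n :=
  IsPGroup.iff_card.mp P.isPGroup'

theorem eq_one_of_mem_P_sq {x : G} (hx : x ∈ (P : Subgroup G)) (h2 : x * x = 1) : x = 1 := by
  obtain ⟨n, hn⟩ := card_P_pow P
  have h1 : orderOf x ∣ 2 := orderOf_dvd_of_pow_eq_one (by rw [pow_two]; exact h2)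
  have h3 : orderOf x ∣ 3 ^ n := by
    rw [← hn]
    have := orderOf_dvd_natCard (⟨x, hx⟩ : (P : Subgroup G))
    rwa [Subgroup.orderOf_mk] at this
  have h4 : orderOf x ∣ Nat.gcd 2 (3 ^ n) := Nat.dvd_gcd h1 h3
  have h5 : Nat.gcd 2 (3 ^ n) = 1 := Nat.Coprime.pow_right n (by norm_num)
  rw [h5] at h4
  exact orderOf_eq_one_iff.mp (Nat.dvd_one.mp h4)

theorem not_mem_P_of_order_two {t : G} (ht : orderOf t = 2) : t ∉ (P : Subgroup G) := by
  intro h
  have h2 : t * t = 1 := by
    have := pow_orderOf_eq_one t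
    rwa [ht, pow_two] at this
  have := eq_one_of_mem_P_sq P h h2
  rw [this, orderOf_one] at ht
  norm_num at ht

omit [Finite G] in
theorem conj_mem_CC {n c : G} (hn : n ∈ NN P) (hc : c ∈ CC P) : n * c * n⁻¹ ∈ CC P := by
  rw [Subgroup.mem_centralizer_iff]
  intro x hx
  have hx' : n⁻¹ * x * n ∈ ((P : Subgroup G) : Set G) :=
    (Subgroup.mem_set_normalizer_iff''.mp hn x).mp hx
  have h1 := (Subgroup.mem_centralizer_iff.mp hc) _ hx'
  calc x * (n * c * n⁻¹) = n * (n⁻¹ * x * n * c) * n⁻¹ := by group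
    _ = n * (c * (n⁻¹ * x * n)) * n⁻¹ := by rw [h1]
    _ = n * c * n⁻¹ * x := by group

/-- Basic data: `P` abelian, `|C(P)| = 2 |P|`, `t` an involution of `C(P)`. -/
structure Base (P : Sylow 3 G) (t : G) : Prop where
  ab : ∀ a ∈ (P : Subgroup G), ∀ b ∈ (P : Subgroup G), a * b = b * a
  cardC : Nat.card (CC P) = 2 * Nat.card (P : Subgroup G)
  ord : orderOf t = 2
  memC : t ∈ CC P

namespace Base

variable {P} {t : G} (h : Base P t)
include h

omit [Finite G] in
theorem tt : t * t = 1 := by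
  have := pow_orderOf_eq_one t
  rwa [h.ord, pow_two] at this

omit [Finite G] in
theorem t_ne_one : t ≠ 1 := by
  intro h1
  have := h.ord
  rw [h1, orderOf_one] at this
  norm_num at this

omit [Finite G] in
theorem t_inv : t⁻¹ = t := inv_eq_of_mul_eq_one_left h.tt

omit [Finite G] in
theorem P_le_CC : (P : Subgroup G) ≤ CC P := by
  intro x hx
  rw [Subgroup.mem_centralizer_iff]
  intro y hy
  exact h.ab y hy x hx

theorem index_two : ((P : Subgroup G).subgroupOf (CC P)).index = 2 := by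
  have hc1 : Nat.card ((P : Subgroup G).subgroupOf (CC P)) = Nat.card (P : Subgroup G) :=
    Nat.card_congr (Subgroup.subgroupOfEquivOfLe h.P_le_CC).toEquiv
  have hm := Subgroup.card_mul_index ((P : Subgroup G).subgroupOf (CC P))
  rw [hc1, h.cardC, mul_comm 2] at hm
  have hpos : 0 < Nat.card (P : Subgroup G) := Nat.card_pos
  exact Nat.eq_of_mul_eq_mul_left hpos hm

theorem cases {c : G} (hc : c ∈ CC P) : c ∈ (P : Subgroup G) ∨ c * t ∈ (P : Subgroup G) := by
  by_contra hcon
  rw [not_or] at hcon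
  obtain ⟨h1, h2⟩ := hcon
  have key := Subgroup.mul_mem_iff_of_index_two h.index_two (a := (⟨c, hc⟩ : CC P))
    (b := ⟨t, h.memC⟩)
  rw [Subgroup.mem_subgroupOf, Subgroup.mem_subgroupOf, Subgroup.mem_subgroupOf] at key
  exact h2 (key.mpr ⟨fun hh => absurd hh h1,
    fun hh => absurd hh (not_mem_P_of_order_two P h.ord)⟩)

theorem t_comm {b : G} (hb : b ∈ CC P) : b * t = t * b := by
  rcases h.cases hb with hbP | hbP
  · exact (Subgroup.mem_centralizer_iff.mp h.memC) b hbP
  · have h1 := (Subgroup.mem_centralizer_iff.mp h.memC) (b * t) hbP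
    have h2 : b * t * t = t * b * t := by rw [h1, mul_assoc]
    exact mul_right_cancel h2

theorem comm {a b : G} (ha : a ∈ CC P) (hb : b ∈ CC P) : a * b = b * a := by
  rcases h.cases ha with haP | haP
  · exact (Subgroup.mem_centralizer_iff.mp hb) a haP
  · have h1 := (Subgroup.mem_centralizer_iff.mp hb) (a * t) haP
    have h2 := h.t_comm hb
    have h3 : a * b * t = b * a * t := by
      calc a * b * t = a * (b * t) := by group
        _ = a * (t * b) := by rw [h2]
        _ = a * t * b := by group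
        _ = b * (a * t) := h1
        _ = b * a * t := by group
    exact mul_right_cancel h3

theorem sq {c : G} (hc : c ∈ CC P) (h2 : c * c = 1) : c = 1 ∨ c = t := by
  rcases h.cases hc with hcP | hcP
  · left
    exact eq_one_of_mem_P_sq P hcP h2
  · right
    have h3 : (c * t) * (c * t) = 1 := by
      have h4 := h.t_comm hc
      calc (c * t) * (c * t) = c * (t * c) * t := by group
        _ = c * (c * t) * t := by rw [← h4]
        _ = (c * c) * (t * t) := by group
        _ = 1 := by rw [h2, h.tt, mul_one]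
    have h5 := eq_one_of_mem_P_sq P hcP h3
    have h6 : c = t⁻¹ := eq_inv_of_mul_eq_one_left h5
    rw [h6, h.t_inv]

theorem NN_le : NN P ≤ Subgroup.centralizer {t} := by
  intro n hn
  rw [Subgroup.mem_centralizer_singleton_iff]
  have h1 : n * t * n⁻¹ ∈ CC P := conj_mem_CC P hn h.memC
  have h2 : (n * t * n⁻¹) * (n * t * n⁻¹) = 1 := by
    calc (n * t * n⁻¹) * (n * t * n⁻¹) = n * (t * t) * n⁻¹ := by group
      _ = 1 := by rw [h.tt]; group
  rcases h.sq h1 h2 with h3 | h3
  · exfalso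
    have h4 : t = n⁻¹ * (n * t * n⁻¹) * n := by group
    rw [h3] at h4
    apply h.t_ne_one
    rw [h4]
    group
  · calc n * t = (n * t * n⁻¹) * n := by group
      _ = t * n := by rw [h3]

/-- A `3`-element of `C(P)` lies in `P`. -/
theorem mem_P_of_pow {c : G} (hc : c ∈ CC P) (m : ℕ) (hm : Odd m) (hcm : c ^ m = 1) :
    c ∈ (P : Subgroup G) := by
  rcases h.cases hc with hcP | hcP
  · exact hcP
  · exfalso
    -- `(c t)^(m |P|) = 1` gives `t^(m |P|) = 1`
    obtain ⟨n, hn⟩ := card_P_pow P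
    have h1 : (c * t) ^ (3 ^ n) = 1 := by
      rw [← hn]
      have := pow_card_eq_one' (G := (P : Subgroup G)) (x := ⟨c * t, hcP⟩)
      exact congrArg Subtype.val this
    have hcomm : Commute c t := h.t_comm hc
    have h2 : (c * t) ^ (3 ^ n * m) = 1 := by rw [pow_mul, h1, one_pow]
    rw [hcomm.mul_pow, mul_comm (3 ^ n) m, pow_mul c, hcm, one_pow, one_mul] at h2
    have h3 : orderOf t ∣ m * 3 ^ n := orderOf_dvd_of_pow_eq_one h2
    rw [h.ord] at h3
    have h4 : Odd (m * 3 ^ n) := hm.mul (Odd.pow (by decide))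
    rcases h4 with ⟨k, hk⟩
    omega

end Base

end Basic

section Simple

variable [Finite G] (P : Sylow 3 G) {t : G}

theorem center_eq_bot [IsSimpleGroup G] (h : Base P t)
    (hN : Nat.card (NN P) = 4 * Nat.card (P : Subgroup G)) : Subgroup.center G = ⊥ := by
  rcases Subgroup.Normal.eq_bot_or_eq_top (inferInstance : (Subgroup.center G).Normal)
    with h1 | h1
  · exact h1
  · exfalso
    have hCtop : CC P = ⊤ := by
      rw [eq_top_iff]
      intro g _
      rw [Subgroup.mem_centralizer_iff]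
      intro x _
      have hg : g ∈ Subgroup.center G := by rw [h1]; trivial
      exact Subgroup.mem_center_iff.mp hg x
    have hNtop : NN P = ⊤ := by
      rw [eq_top_iff, ← hCtop]
      exact Subgroup.centralizer_le_normalizer _
    have e1 : Nat.card (NN P) = Nat.card (CC P) := by rw [hNtop, hCtop]
    rw [hN, h.cardC] at e1
    have hpos : 0 < Nat.card (P : Subgroup G) := Nat.card_pos
    omega

theorem cent_t_eq [IsSimpleGroup G] (h : Base P t)
    (hN : Nat.card (NN P) = 4 * Nat.card (P : Subgroup G))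
    (heven : ∀ H : Subgroup G, H ≠ ⊤ → 2 ∣ Nat.card H →
      Nat.card H ∣ 4 * Nat.card (P : Subgroup G)) :
    Subgroup.centralizer {t} = NN P := by
  have hcen := center_eq_bot P h hN
  have hne : Subgroup.centralizer ({t} : Set G) ≠ ⊤ := by
    intro htop
    apply h.t_ne_one
    have h1 : t ∈ Subgroup.center G := by
      rw [Subgroup.mem_center_iff]
      intro g
      have hg : g ∈ Subgroup.centralizer ({t} : Set G) := by rw [htop]; trivial
      exact Subgroup.mem_centralizer_singleton_iff.mp hg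
    rw [hcen] at h1
    exact Subgroup.mem_bot.mp h1
  have h2 : 2 ∣ Nat.card (Subgroup.centralizer ({t} : Set G)) := by
    have ht : t ∈ Subgroup.centralizer ({t} : Set G) :=
      Subgroup.mem_centralizer_singleton_iff.mpr rfl
    have h3 := orderOf_dvd_natCard (⟨t, ht⟩ : Subgroup.centralizer ({t} : Set G))
    rwa [Subgroup.orderOf_mk, h.ord] at h3
  have h3 := heven _ hne h2
  symm
  apply Subgroup.eq_of_le_of_card_ge h.NN_le
  rw [hN]
  have hpos : 0 < Nat.card (P : Subgroup G) := Nat.card_pos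
  exact Nat.le_of_dvd (by omega) h3

theorem sylow_two_ne_top [IsSimpleGroup G] (h : Base P t)
    (hN : Nat.card (NN P) = 4 * Nat.card (P : Subgroup G)) (S : Sylow 2 G) :
    (S : Subgroup G) ≠ ⊤ := by
  haveI : Fact (Nat.Prime 2) := ⟨Nat.prime_two⟩
  intro htop
  have hcen := center_eq_bot P h hN
  have h1 : IsPGroup 2 (⊤ : Subgroup G) := htop ▸ S.isPGroup'
  have h2 : IsPGroup 2 G := h1.of_equiv Subgroup.topEquiv
  haveI : Nontrivial G := IsSimpleGroup.toNontrivial
  have h3 := h2.center_nontrivial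
  rw [hcen] at h3
  exact not_nontrivial _ h3

theorem sylow_two_card [IsSimpleGroup G] (h : Base P t)
    (hN : Nat.card (NN P) = 4 * Nat.card (P : Subgroup G))
    (heven : ∀ H : Subgroup G, H ≠ ⊤ → 2 ∣ Nat.card H →
      Nat.card H ∣ 4 * Nat.card (P : Subgroup G)) (S : Sylow 2 G) :
    Nat.card (S : Subgroup G) = 4 := by
  haveI : Fact (Nat.Prime 2) := ⟨Nat.prime_two⟩
  obtain ⟨n, hn⟩ := card_P_pow P
  have hSne := sylow_two_ne_top P h hN S
  have h4 : 4 ∣ Nat.card G := by
    have h5 := Subgroup.card_subgroup_dvd_card (NN P)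
    rw [hN] at h5
    exact (Dvd.intro _ rfl).trans h5
  have hk := S.card_eq_multiplicity
  obtain ⟨k, hkdef⟩ : ∃ k : ℕ, k = (Nat.card G).factorization 2 := ⟨_, rfl⟩
  rw [← hkdef] at hk
  have hk2 : 2 ≤ k := by
    have h5 : 2 ^ 2 ∣ Nat.card G := h4
    rw [hkdef]
    exact (Nat.Prime.pow_dvd_iff_le_factorization Nat.prime_two Nat.card_pos.ne').mp h5
  have hdiv : Nat.card (S : Subgroup G) ∣ 4 * Nat.card (P : Subgroup G) :=
    heven _ hSne (by rw [hk]; exact dvd_pow_self 2 (by omega))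
  rw [hk, hn] at hdiv
  have hcop : Nat.Coprime (2 ^ k) (3 ^ n) := Nat.Coprime.pow k n (by norm_num)
  have h5 : 2 ^ k ∣ 2 ^ 2 := hcop.dvd_of_dvd_mul_right hdiv
  have h6 : k ≤ 2 := (Nat.pow_dvd_pow_iff_le_right (by norm_num)).mp h5
  have h7 : k = 2 := le_antisymm h6 hk2
  rw [hk, h7]
  norm_num

theorem stage_one [IsSimpleGroup G] (h : Base P t)
    (hN : Nat.card (NN P) = 4 * Nat.card (P : Subgroup G))
    (heven : ∀ H : Subgroup G, H ≠ ⊤ → 2 ∣ Nat.card H →
      Nat.card H ∣ 4 * Nat.card (P : Subgroup G)) (S : Sylow 2 G) :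
    Odd (S : Subgroup G).index ∧ Nat.card G = 4 * (S : Subgroup G).index ∧
      ¬ ∃ N' : Subgroup G, N'.Normal ∧ Nat.card N' = (S : Subgroup G).index := by
  haveI : Fact (Nat.Prime 2) := ⟨Nat.prime_two⟩
  have hS4 := sylow_two_card P h hN heven S
  have hmul := Subgroup.card_mul_index (S : Subgroup G)
  rw [hS4] at hmul
  have hodd : Odd (S : Subgroup G).index := by
    rw [← Nat.not_even_iff_odd, even_iff_two_dvd]
    exact S.not_dvd_index
  refine ⟨hodd, hmul.symm, ?_⟩
  rintro ⟨N', hN'n, hN'c⟩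
  rcases hN'n.eq_bot_or_eq_top with h1 | h1
  · rw [h1, Subgroup.card_bot] at hN'c
    exact sylow_two_ne_top P h hN S (Subgroup.index_eq_one.mp hN'c.symm)
  · rw [h1, Subgroup.card_top] at hN'c
    have hpos : 0 < Nat.card G := Nat.card_pos
    omega

end Simple

/-- The full configuration. -/
structure Cfg (P : Sylow 3 G) (t : G) : Prop extends Base P t where
  cardN : Nat.card (NN P) = 4 * Nat.card (P : Subgroup G)
  ti : IsTISubset ((CC P : Subgroup G) : Set G)
  centT : Subgroup.centralizer ({t} : Set G) = NN P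
  one : ∀ s u : G, orderOf s = 2 → orderOf u = 2 → IsConj s u
  exp2 : ∀ (g : G) (k : ℕ), orderOf g = 2 ^ k → g * g = 1
  even : ∀ H : Subgroup G, H ≠ ⊤ → 2 ∣ Nat.card H → Nat.card H ∣ 4 * Nat.card (P : Subgroup G)
  cyc : ∀ y : G, y ≠ 1 → Subgroup.normalizer ((Subgroup.zpowers y : Subgroup G) : Set G) ≠ ⊤

namespace Cfg

variable [Finite G] {P : Sylow 3 G} {t : G} (h : Cfg P t)
include h

theorem conj_mem_P_of_normalizer_CC {g x : G}
    (hg : g ∈ Subgroup.normalizer ((CC P : Subgroup G) : Set G)) (hx : x ∈ (P : Subgroup G)) :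
    g * x * g⁻¹ ∈ (P : Subgroup G) := by
  have hc : g * x * g⁻¹ ∈ CC P :=
    (Subgroup.mem_set_normalizer_iff.mp hg x).mp (h.toBase.P_le_CC hx)
  obtain ⟨n, hn⟩ := card_P_pow P
  apply h.toBase.mem_P_of_pow hc (3 ^ n) (Odd.pow (by decide))
  have hx1 : x ^ (3 ^ n) = 1 := by
    rw [← hn]
    exact congrArg Subtype.val (pow_card_eq_one' (G := (P : Subgroup G)) (x := ⟨x, hx⟩))
  rw [conj_pow, hx1]
  group

theorem normalizer_CC_le : Subgroup.normalizer ((CC P : Subgroup G) : Set G) ≤ NN P := by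
  intro g hg
  rw [Subgroup.mem_set_normalizer_iff]
  intro x
  constructor
  · exact fun hx => h.conj_mem_P_of_normalizer_CC hg hx
  · intro hx
    have h1 := h.conj_mem_P_of_normalizer_CC (inv_mem hg) hx
    have h2 : g⁻¹ * (g * x * g⁻¹) * g⁻¹⁻¹ = x := by group
    rw [h2] at h1
    exact h1

theorem ti_mem {c g : G} (hc : c ∈ CC P) (hc1 : c ≠ 1) (hg : g * c * g⁻¹ ∈ CC P) :
    g ∈ NN P := by
  by_contra hgN
  exact hc1 (h.ti g (fun hg' => hgN (h.normalizer_CC_le hg')) c hc hg)

theorem CC_le_NN : CC P ≤ NN P := Subgroup.centralizer_le_normalizer _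

theorem index_two_N : ((CC P).subgroupOf (NN P)).index = 2 := by
  have hc1 : Nat.card ((CC P).subgroupOf (NN P)) = Nat.card (CC P) :=
    Nat.card_congr (Subgroup.subgroupOfEquivOfLe h.CC_le_NN).toEquiv
  have hm := Subgroup.card_mul_index ((CC P).subgroupOf (NN P))
  rw [hc1, h.cardC, h.cardN] at hm
  have hpos : 0 < Nat.card (P : Subgroup G) := Nat.card_pos
  have h2 : 2 * Nat.card (P : Subgroup G) * ((CC P).subgroupOf (NN P)).index
      = 2 * Nat.card (P : Subgroup G) * 2 := by rw [hm]; ring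
  exact Nat.eq_of_mul_eq_mul_left (by omega) h2

theorem mul_mem_iff {a b : G} (ha : a ∈ NN P) (hb : b ∈ NN P) :
    a * b ∈ CC P ↔ (a ∈ CC P ↔ b ∈ CC P) := by
  have key := Subgroup.mul_mem_iff_of_index_two h.index_two_N (a := (⟨a, ha⟩ : NN P))
    (b := ⟨b, hb⟩)
  rw [Subgroup.mem_subgroupOf, Subgroup.mem_subgroupOf, Subgroup.mem_subgroupOf] at key
  exact key

theorem exists_s : ∃ s : G, s ∈ NN P ∧ s ∉ CC P ∧ orderOf s = 2 := by
  haveI : Fact (Nat.Prime 2) := ⟨Nat.prime_two⟩
  obtain ⟨y, hyN, hyC⟩ : ∃ y : G, y ∈ NN P ∧ y ∉ CC P := by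
    by_contra hcon
    have hle : NN P ≤ CC P := by
      intro y hy
      by_contra hyC
      exact hcon ⟨y, hy, hyC⟩
    have h1 := Subgroup.card_le_of_le hle
    rw [h.cardN, h.cardC] at h1
    have hpos : 0 < Nat.card (P : Subgroup G) := Nat.card_pos
    omega
  have hy0 : orderOf y ≠ 0 := (orderOf_pos y).ne'
  obtain ⟨k, m, hm, hkm⟩ := Nat.exists_eq_two_pow_mul_odd hy0
  have hm0 : m ≠ 0 := by
    rintro rfl
    simp at hm
  have hyy : y * y ∈ CC P := (h.mul_mem_iff hyN hyN).mpr Iff.rfl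
  have hsN : y ^ m ∈ NN P := pow_mem hyN m
  have hsC : y ^ m ∉ CC P := by
    obtain ⟨j, hj⟩ := hm
    have e : y ^ m = (y * y) ^ j * y := by
      rw [hj, pow_succ, pow_mul, pow_two]
    rw [e]
    intro hmem
    have h1 := (h.mul_mem_iff (pow_mem (mul_mem hyN hyN) j) hyN).mp hmem
    exact hyC (h1.mp (pow_mem hyy j))
  have hord : orderOf (y ^ m) = 2 ^ k := by
    rw [orderOf_pow_of_dvd hm0 (by rw [hkm]; exact Dvd.intro_left _ rfl), hkm,
      Nat.mul_div_cancel _ (Nat.pos_of_ne_zero hm0)]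
  have hss : y ^ m * y ^ m = 1 := h.exp2 _ k hord
  have hs1 : y ^ m ≠ 1 := by
    intro h1
    apply hsC
    rw [h1]
    exact one_mem _
  exact ⟨y ^ m, hsN, hsC, orderOf_eq_prime (by rw [pow_two]; exact hss) hs1⟩

theorem fix_trivial {s w : G} (hs2 : orderOf s = 2) (hsC : s ∉ CC P)
    (hw : w ∈ (P : Subgroup G)) (hcomm : s * w = w * s) : w = 1 := by
  haveI : Fact (Nat.Prime 3) := ⟨Nat.prime_three⟩
  obtain ⟨g, hg⟩ := isConj_iff.mp (h.one t s h.ord hs2)
  by_contra hw1
  have hw't : g⁻¹ * w * g ∈ Subgroup.centralizer ({t} : Set G) := by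
    rw [Subgroup.mem_centralizer_singleton_iff]
    calc g⁻¹ * w * g * t = g⁻¹ * (w * (g * t * g⁻¹)) * g := by group
      _ = g⁻¹ * ((g * t * g⁻¹) * w) * g := by rw [hg, hcomm]
      _ = t * (g⁻¹ * w * g) := by group
  rw [h.centT] at hw't
  obtain ⟨n, hn⟩ := card_P_pow P
  have hw3 : w ^ (3 ^ n) = 1 := by
    rw [← hn]
    exact congrArg Subtype.val (pow_card_eq_one' (G := (P : Subgroup G)) (x := ⟨w, hw⟩))
  have hw'3 : (g⁻¹ * w * g) ^ (3 ^ n) = 1 := by
    have e0 : g⁻¹ * w * g = g⁻¹ * w * g⁻¹⁻¹ := by group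
    rw [e0, conj_pow, hw3]
    group
  have hw'P : g⁻¹ * w * g ∈ (P : Subgroup G) := by
    have hpg : IsPGroup 3 (Subgroup.zpowers (g⁻¹ * w * g)) := by
      obtain ⟨j, -, hj⟩ := (Nat.dvd_prime_pow Nat.prime_three).mp
        (orderOf_dvd_of_pow_eq_one hw'3)
      exact IsPGroup.of_card (n := j) (by rw [Nat.card_zpowers, hj])
    have hi := hpg.inf_normalizer_sylow P
    have hmem : g⁻¹ * w * g ∈ Subgroup.zpowers (g⁻¹ * w * g) ⊓ NN P :=
      ⟨Subgroup.mem_zpowers _, hw't⟩
    exact (hi.le hmem).2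
  have hw'1 : g⁻¹ * w * g ≠ 1 := by
    intro e
    apply hw1
    have e2 : w = g * (g⁻¹ * w * g) * g⁻¹ := by group
    rw [e2, e]
    group
  have hgN : g ∈ NN P := h.ti_mem (h.toBase.P_le_CC hw'P) hw'1 (by
    have e2 : g * (g⁻¹ * w * g) * g⁻¹ = w := by group
    rw [e2]
    exact h.toBase.P_le_CC hw)
  have hgt := Subgroup.mem_centralizer_singleton_iff.mp (h.toBase.NN_le hgN)
  have hst : s = t := by
    rw [← hg, hgt]
    group
  exact hsC (hst ▸ h.memC)

theorem inv_P {s x : G} (hs2 : orderOf s = 2) (hsN : s ∈ NN P) (hsC : s ∉ CC P)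
    (hx : x ∈ (P : Subgroup G)) : s * x * s⁻¹ = x⁻¹ := by
  have hss : s * s = 1 := by
    have := pow_orderOf_eq_one s
    rwa [hs2, pow_two] at this
  have hsinv : s⁻¹ = s := inv_eq_of_mul_eq_one_left hss
  have hsx : s * x * s⁻¹ ∈ (P : Subgroup G) := (Subgroup.mem_set_normalizer_iff.mp hsN x).mp hx
  have hw : x * (s * x * s⁻¹) ∈ (P : Subgroup G) := mul_mem hx hsx
  have hab := h.ab x hx _ hsx
  have hcomm : s * (x * (s * x * s⁻¹)) = (x * (s * x * s⁻¹)) * s := by
    calc s * (x * (s * x * s⁻¹)) = (s * x * s⁻¹) * (s * s) * x * s⁻¹ := by group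
      _ = (s * x * s⁻¹) * x * s⁻¹ := by rw [hss, mul_one]
      _ = (x * (s * x * s⁻¹)) * s⁻¹ := by rw [← hab]
      _ = (x * (s * x * s⁻¹)) * s := by rw [hsinv]
  have h1 := h.fix_trivial hs2 hsC hw hcomm
  exact eq_inv_of_mul_eq_one_right h1

theorem inv_CC_of_invol {s c : G} (hs2 : orderOf s = 2) (hsN : s ∈ NN P) (hsC : s ∉ CC P)
    (hc : c ∈ CC P) : s * c * s⁻¹ = c⁻¹ := by
  rcases h.toBase.cases hc with hcP | hcP
  · exact h.inv_P hs2 hsN hsC hcP
  · have h1 := h.inv_P hs2 hsN hsC hcP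
    have h2 := Subgroup.mem_centralizer_singleton_iff.mp (h.toBase.NN_le hsN)
    have h3 := h.toBase.t_comm hc
    calc s * c * s⁻¹ = (s * (c * t) * s⁻¹) * (s * t⁻¹ * s⁻¹) := by group
      _ = (c * t)⁻¹ * (s * t * s⁻¹) := by rw [h1, h.toBase.t_inv]
      _ = (c * t)⁻¹ * t := by rw [h2]; group
      _ = c⁻¹ := by rw [h3]; group

theorem sq_of_not_mem {y : G} (hyN : y ∈ NN P) (hyC : y ∉ CC P) : y * y = 1 := by
  obtain ⟨s, hsN, hsC, hs2⟩ := h.exists_s
  have hss : s * s = 1 := by
    have := pow_orderOf_eq_one s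
    rwa [hs2, pow_two] at this
  have hc : y * s ∈ CC P :=
    (h.mul_mem_iff hyN hsN).mpr ⟨fun hh => absurd hh hyC, fun hh => absurd hh hsC⟩
  have h1 := h.inv_CC_of_invol hs2 hsN hsC hc
  have h2 : s * y = (y * s)⁻¹ := by
    rw [← h1]
    have hsinv : s⁻¹ = s := inv_eq_of_mul_eq_one_left hss
    rw [hsinv]
    calc s * y = s * y * (s * s) := by rw [hss, mul_one]
      _ = s * (y * s) * s := by group
  have h3 : (y * s) * (s * y) = y * (s * s) * y := by group
  rw [hss, mul_one] at h3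
  rw [← h3, h2, mul_inv_cancel]

theorem order_two_of_not_mem {y : G} (hyN : y ∈ NN P) (hyC : y ∉ CC P) : orderOf y = 2 := by
  haveI : Fact (Nat.Prime 2) := ⟨Nat.prime_two⟩
  apply orderOf_eq_prime (by rw [pow_two]; exact h.sq_of_not_mem hyN hyC)
  intro h1
  apply hyC
  rw [h1]
  exact one_mem _

theorem inv_CC {y c : G} (hyN : y ∈ NN P) (hyC : y ∉ CC P) (hc : c ∈ CC P) :
    y * c * y⁻¹ = c⁻¹ :=
  h.inv_CC_of_invol (h.order_two_of_not_mem hyN hyC) hyN hyC hc

theorem mem_of_inverts {c u : G} (hc : c ∈ CC P) (hc2 : c * c ≠ 1) (hu : u * c * u⁻¹ = c⁻¹) :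
    u ∈ NN P ∧ u ∉ CC P := by
  have hc1 : c ≠ 1 := by
    rintro rfl
    exact hc2 (mul_one 1)
  have huN : u ∈ NN P := h.ti_mem hc hc1 (by rw [hu]; exact inv_mem hc)
  refine ⟨huN, fun huC => hc2 ?_⟩
  have h1 := h.toBase.comm huC hc
  have h2 : u * c * u⁻¹ = c := by rw [h1]; group
  rw [h2] at hu
  exact mul_eq_one_iff_eq_inv.mpr hu

theorem t_mem_normalizer_zpowers {y : G} (hy : t * y * t⁻¹ = y⁻¹) :
    t ∈ Subgroup.normalizer ((Subgroup.zpowers y : Subgroup G) : Set G) := by
  have hfwd : ∀ x : G, x ∈ Subgroup.zpowers y → t * x * t⁻¹ ∈ Subgroup.zpowers y := by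
    intro x hx
    obtain ⟨k, rfl⟩ := Subgroup.mem_zpowers_iff.mp hx
    rw [← conj_zpow, hy]
    exact zpow_mem (inv_mem (Subgroup.mem_zpowers y)) k
  rw [Subgroup.mem_set_normalizer_iff]
  intro x
  constructor
  · exact hfwd x
  · intro hx
    have h1 := hfwd _ hx
    have h2 : t * (t * x * t⁻¹) * t⁻¹ = x := by
      rw [h.toBase.t_inv]
      calc t * (t * x * t) * t = (t * t) * x * (t * t) := by group
        _ = x := by rw [h.toBase.tt]; group
    rwa [h2] at h1

theorem exists_conj_mem_CC {y : G} (hy2 : y * y ≠ 1) (hy : t * y * t⁻¹ = y⁻¹) :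
    ∃ g : G, g⁻¹ * y * g ∈ CC P := by
  haveI : Fact (Nat.Prime 3) := ⟨Nat.prime_three⟩
  have hy1 : y ≠ 1 := by
    rintro rfl
    exact hy2 (mul_one 1)
  obtain ⟨n, hn⟩ := card_P_pow P
  have hH := h.cyc y hy1
  have htH := h.t_mem_normalizer_zpowers hy
  have h2H : 2 ∣ Nat.card (Subgroup.normalizer ((Subgroup.zpowers y : Subgroup G) : Set G)) := by
    have h3 := orderOf_dvd_natCard
      (⟨t, htH⟩ : Subgroup.normalizer ((Subgroup.zpowers y : Subgroup G) : Set G))
    rwa [Subgroup.orderOf_mk, h.ord] at h3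
  have hdiv := h.even _ hH h2H
  have hyH : y ∈ Subgroup.normalizer ((Subgroup.zpowers y : Subgroup G) : Set G) :=
    Subgroup.le_normalizer (Subgroup.mem_zpowers y)
  have hord : orderOf y ∣ 4 * 3 ^ n := by
    rw [← hn]
    refine dvd_trans ?_ hdiv
    have h3 := orderOf_dvd_natCard
      (⟨y, hyH⟩ : Subgroup.normalizer ((Subgroup.zpowers y : Subgroup G) : Set G))
    rwa [Subgroup.orderOf_mk] at h3
  have h3 : 3 ∣ orderOf y := by
    by_contra h3
    have hcop : Nat.Coprime (orderOf y) (3 ^ n) :=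
      Nat.Coprime.pow_right n ((Nat.Prime.coprime_iff_not_dvd Nat.prime_three).mpr h3).symm
    have h4 : orderOf y ∣ 2 ^ 2 := hcop.dvd_of_dvd_mul_right hord
    obtain ⟨k, -, hk⟩ := (Nat.dvd_prime_pow Nat.prime_two).mp h4
    exact hy2 (h.exp2 y k hk)
  obtain ⟨m, hm⟩ := h3
  have hm0 : m ≠ 0 := by
    rintro rfl
    have := orderOf_pos y
    omega
  have hw3 : orderOf (y ^ m) = 3 := by
    rw [orderOf_pow_of_dvd hm0 (by rw [hm]; exact Dvd.intro_left _ rfl), hm,
      Nat.mul_div_cancel _ (Nat.pos_of_ne_zero hm0)]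
  have hw1 : y ^ m ≠ 1 := by
    intro e
    rw [e, orderOf_one] at hw3
    norm_num at hw3
  have hpg : IsPGroup 3 (Subgroup.zpowers (y ^ m)) :=
    IsPGroup.of_card (n := 1) (by rw [Nat.card_zpowers, hw3, pow_one])
  obtain ⟨Q, hQ⟩ := hpg.exists_le_sylow
  obtain ⟨g, hg⟩ := MulAction.exists_smul_eq G P Q
  have hwQ : y ^ m ∈ (Q : Subgroup G) := hQ (Subgroup.mem_zpowers _)
  rw [← hg, Sylow.coe_subgroup_smul, Subgroup.mem_pointwise_smul_iff_inv_smul_mem,
    MulAut.smul_def, MulAut.conj_inv_apply] at hwQ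
  refine ⟨g, ?_⟩
  have hcomm : (g⁻¹ * y * g) * (g⁻¹ * y ^ m * g) * (g⁻¹ * y * g)⁻¹ = g⁻¹ * y ^ m * g := by
    have e : y * y ^ m = y ^ m * y := by rw [← pow_succ', ← pow_succ]
    calc (g⁻¹ * y * g) * (g⁻¹ * y ^ m * g) * (g⁻¹ * y * g)⁻¹
        = g⁻¹ * (y * y ^ m) * y⁻¹ * g := by group
      _ = g⁻¹ * (y ^ m * y) * y⁻¹ * g := by rw [e]
      _ = g⁻¹ * y ^ m * g := by group
  have hc01 : g⁻¹ * y ^ m * g ≠ 1 := by
    intro e
    apply hw1
    have e2 : y ^ m = g * (g⁻¹ * y ^ m * g) * g⁻¹ := by group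
    rw [e2, e]
    group
  have hcN : g⁻¹ * y * g ∈ NN P :=
    h.ti_mem (h.toBase.P_le_CC hwQ) hc01 (by rw [hcomm]; exact h.toBase.P_le_CC hwQ)
  by_contra hcC
  have hinv := h.inv_CC hcN hcC (h.toBase.P_le_CC hwQ)
  rw [hcomm] at hinv
  have hsq : (g⁻¹ * y ^ m * g) * (g⁻¹ * y ^ m * g) = 1 := mul_eq_one_iff_eq_inv.mpr hinv
  exact hc01 (eq_one_of_mem_P_sq P hwQ hsq)

theorem exists_commuting {y : G} (hy2 : y * y ≠ 1) (hy : t * y * t⁻¹ = y⁻¹) :
    ∃ z : G, z ∈ NN P ∧ z ∉ CC P ∧ z * y = y * z := by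
  obtain ⟨g, hg⟩ := h.exists_conj_mem_CC hy2 hy
  have hcc : (g⁻¹ * y * g) * (g⁻¹ * y * g) ≠ 1 := by
    intro e
    apply hy2
    have e2 : y * y = g * ((g⁻¹ * y * g) * (g⁻¹ * y * g)) * g⁻¹ := by group
    rw [e2, e]
    group
  have hinv : (g⁻¹ * t * g) * (g⁻¹ * y * g) * (g⁻¹ * t * g)⁻¹ = (g⁻¹ * y * g)⁻¹ := by
    calc (g⁻¹ * t * g) * (g⁻¹ * y * g) * (g⁻¹ * t * g)⁻¹ = g⁻¹ * (t * y * t⁻¹) * g := by group
      _ = g⁻¹ * y⁻¹ * g := by rw [hy]
      _ = (g⁻¹ * y * g)⁻¹ := by group
  obtain ⟨ht'N, ht'C⟩ := h.mem_of_inverts hg hcc hinv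
  have ht't := Subgroup.mem_centralizer_singleton_iff.mp (h.toBase.NN_le ht'N)
  refine ⟨g * t * g⁻¹, ?_, ?_, ?_⟩
  · rw [← h.centT, Subgroup.mem_centralizer_singleton_iff]
    calc g * t * g⁻¹ * t = g * (t * (g⁻¹ * t * g)) * g⁻¹ := by group
      _ = g * (g⁻¹ * t * g * t) * g⁻¹ := by rw [ht't]
      _ = t * (g * t * g⁻¹) := by group
  · intro hzC
    have hzz : (g * t * g⁻¹) * (g * t * g⁻¹) = 1 := by
      calc (g * t * g⁻¹) * (g * t * g⁻¹) = g * (t * t) * g⁻¹ := by group
        _ = 1 := by rw [h.toBase.tt]; group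
    rcases h.toBase.sq hzC hzz with e | e
    · apply h.toBase.t_ne_one
      have e2 : t = g⁻¹ * (g * t * g⁻¹) * g := by group
      rw [e2, e]
      group
    · apply ht'C
      have e2 : g⁻¹ * t * g = t := by
        calc g⁻¹ * t * g = g⁻¹ * (g * t * g⁻¹) * g := by rw [e]
          _ = t := by group
      rw [e2]
      exact h.memC
  · have htc := h.toBase.t_comm hg
    calc g * t * g⁻¹ * y = g * (t * (g⁻¹ * y * g)) * g⁻¹ := by group
      _ = g * ((g⁻¹ * y * g) * t) * g⁻¹ := by rw [htc]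
      _ = y * (g * t * g⁻¹) := by group

theorem D_char {z g : G} (hzN : z ∈ NN P) (hzC : z ∉ CC P) (hg : g * t * g⁻¹ = z) (y : G) :
    (y * y ≠ 1 ∧ t * y * t⁻¹ = y⁻¹ ∧ z * y = y * z) ↔
      ∃ c : G, (c ∈ CC P ∧ c * c ≠ 1) ∧ g * c * g⁻¹ = y := by
  subst hg
  have hzt := Subgroup.mem_centralizer_singleton_iff.mp (h.toBase.NN_le hzN)
  have ht''N : g⁻¹ * t * g ∈ NN P := by
    rw [← h.centT, Subgroup.mem_centralizer_singleton_iff]
    calc g⁻¹ * t * g * t = g⁻¹ * (t * (g * t * g⁻¹)) * g := by group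
      _ = g⁻¹ * ((g * t * g⁻¹) * t) * g := by rw [hzt]
      _ = t * (g⁻¹ * t * g) := by group
  have ht''C : g⁻¹ * t * g ∉ CC P := by
    intro hC
    have hsq : (g⁻¹ * t * g) * (g⁻¹ * t * g) = 1 := by
      calc (g⁻¹ * t * g) * (g⁻¹ * t * g) = g⁻¹ * (t * t) * g := by group
        _ = 1 := by rw [h.toBase.tt]; group
    rcases h.toBase.sq hC hsq with e | e
    · apply h.toBase.t_ne_one
      have e2 : t = g * (g⁻¹ * t * g) * g⁻¹ := by group
      rw [e2, e]
      group
    · apply hzC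
      have e2 : g * t * g⁻¹ = t := by
        calc g * t * g⁻¹ = g * (g⁻¹ * t * g) * g⁻¹ := by rw [e]
          _ = t := by group
      rw [e2]
      exact h.memC
  constructor
  · rintro ⟨hy2, -, hzy⟩
    have hcc : (g⁻¹ * y * g) * (g⁻¹ * y * g) ≠ 1 := by
      intro e
      apply hy2
      have e2 : y * y = g * ((g⁻¹ * y * g) * (g⁻¹ * y * g)) * g⁻¹ := by group
      rw [e2, e]
      group
    refine ⟨g⁻¹ * y * g, ⟨?_, hcc⟩, by group⟩
    have hcN : g⁻¹ * y * g ∈ NN P := by
      rw [← h.centT, Subgroup.mem_centralizer_singleton_iff]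
      calc g⁻¹ * y * g * t = g⁻¹ * (y * (g * t * g⁻¹)) * g := by group
        _ = g⁻¹ * ((g * t * g⁻¹) * y) * g := by rw [hzy]
        _ = t * (g⁻¹ * y * g) := by group
    by_contra hcC
    exact hcc (h.sq_of_not_mem hcN hcC)
  · rintro ⟨c, ⟨hc, hc2⟩, rfl⟩
    refine ⟨?_, ?_, ?_⟩
    · intro e
      apply hc2
      have e2 : c * c = g⁻¹ * ((g * c * g⁻¹) * (g * c * g⁻¹)) * g := by group
      rw [e2, e]
      group
    · have hinv := h.inv_CC ht''N ht''C hc
      calc t * (g * c * g⁻¹) * t⁻¹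
          = g * ((g⁻¹ * t * g) * c * (g⁻¹ * t * g)⁻¹) * g⁻¹ := by group
        _ = g * c⁻¹ * g⁻¹ := by rw [hinv]
        _ = (g * c * g⁻¹)⁻¹ := by group
    · have htc := h.toBase.t_comm hc
      calc g * t * g⁻¹ * (g * c * g⁻¹) = g * (t * c) * g⁻¹ := by group
        _ = g * (c * t) * g⁻¹ := by rw [htc]
        _ = g * c * g⁻¹ * (g * t * g⁻¹) := by group

theorem D_unique {z z' y : G} (hzN : z ∈ NN P) (hzC : z ∉ CC P) (hz'N : z' ∈ NN P)
    (hz'C : z' ∉ CC P) (hy2 : y * y ≠ 1) (hzy : z * y = y * z) (hz'y : z' * y = y * z') :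
    z = z' := by
  obtain ⟨g, hg⟩ := isConj_iff.mp (h.one t z h.ord (h.order_two_of_not_mem hzN hzC))
  subst hg
  have hcN : g⁻¹ * y * g ∈ NN P := by
    rw [← h.centT, Subgroup.mem_centralizer_singleton_iff]
    calc g⁻¹ * y * g * t = g⁻¹ * (y * (g * t * g⁻¹)) * g := by group
      _ = g⁻¹ * ((g * t * g⁻¹) * y) * g := by rw [hzy]
      _ = t * (g⁻¹ * y * g) := by group
  have hcc : (g⁻¹ * y * g) * (g⁻¹ * y * g) ≠ 1 := by
    intro e
    apply hy2
    have e2 : y * y = g * ((g⁻¹ * y * g) * (g⁻¹ * y * g)) * g⁻¹ := by group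
    rw [e2, e]
    group
  have hcC : g⁻¹ * y * g ∈ CC P := by
    by_contra hcC
    exact hcc (h.sq_of_not_mem hcN hcC)
  have hc1 : g⁻¹ * y * g ≠ 1 := by
    intro e
    apply hcc
    rw [e, mul_one]
  have hucomm : (g⁻¹ * z' * g) * (g⁻¹ * y * g) * (g⁻¹ * z' * g)⁻¹ = g⁻¹ * y * g := by
    calc (g⁻¹ * z' * g) * (g⁻¹ * y * g) * (g⁻¹ * z' * g)⁻¹
        = g⁻¹ * (z' * y) * z'⁻¹ * g := by group
      _ = g⁻¹ * (y * z') * z'⁻¹ * g := by rw [hz'y]
      _ = g⁻¹ * y * g := by group
  have huN : g⁻¹ * z' * g ∈ NN P := h.ti_mem hcC hc1 (by rw [hucomm]; exact hcC)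
  have huC : g⁻¹ * z' * g ∈ CC P := by
    by_contra huC
    have hinv := h.inv_CC huN huC hcC
    rw [hucomm] at hinv
    exact hcc (mul_eq_one_iff_eq_inv.mpr hinv)
  have huu : (g⁻¹ * z' * g) * (g⁻¹ * z' * g) = 1 := by
    have e := h.sq_of_not_mem hz'N hz'C
    calc (g⁻¹ * z' * g) * (g⁻¹ * z' * g) = g⁻¹ * (z' * z') * g := by group
      _ = 1 := by rw [e]; group
  rcases h.toBase.sq huC huu with e | e
  · exfalso
    apply hz'C
    have e2 : z' = g * (g⁻¹ * z' * g) * g⁻¹ := by group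
    rw [e2, e]
    have e3 : g * 1 * g⁻¹ = (1 : G) := by group
    rw [e3]
    exact one_mem _
  · have e2 : z' = g * (g⁻¹ * z' * g) * g⁻¹ := by group
    rw [e2, e]

/-- The number of involutions is `4 q² - 2 q + 1`. -/
theorem card_involutions :
    Nat.card {u : G // orderOf u = 2} + 2 * Nat.card (P : Subgroup G)
      = 4 * Nat.card (P : Subgroup G) ^ 2 + 1 := by
  classical
  haveI : Fintype G := Fintype.ofFinite G
  obtain ⟨q, hq⟩ : ∃ q : ℕ, q = Nat.card (P : Subgroup G) := ⟨_, rfl⟩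
  have hN4 : Nat.card (NN P) = 4 * q := by rw [hq]; exact h.cardN
  have hC2 : Nat.card (CC P) = 2 * q := by rw [hq]; exact h.cardC
  have hq1 : 1 ≤ q := by rw [hq]; exact Nat.card_pos
  rw [← hq]
  obtain ⟨I, hI⟩ : ∃ I : Finset G, I = Finset.univ.filter (fun u => orderOf u = 2) := ⟨_, rfl⟩
  obtain ⟨X, hX⟩ : ∃ X : Finset G, X = Finset.univ.filter (fun y => t * y * t⁻¹ = y⁻¹) :=
    ⟨_, rfl⟩
  obtain ⟨R, hR⟩ : ∃ R : Finset G, R = Finset.univ.filter (fun z => z ∈ NN P ∧ z ∉ CC P) :=
    ⟨_, rfl⟩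
  obtain ⟨K, hK⟩ : ∃ K : Finset G, K = Finset.univ.filter (fun c => c ∈ CC P ∧ c * c ≠ 1) :=
    ⟨_, rfl⟩
  obtain ⟨D, hD⟩ : ∃ D : G → Finset G, D = fun z => Finset.univ.filter
      (fun y => y * y ≠ 1 ∧ t * y * t⁻¹ = y⁻¹ ∧ z * y = y * z) := ⟨_, rfl⟩
  have hmemI : ∀ u : G, u ∈ I ↔ orderOf u = 2 := by
    intro u
    rw [hI]
    simp
  have hmemX : ∀ y : G, y ∈ X ↔ t * y * t⁻¹ = y⁻¹ := by
    intro y
    rw [hX]
    simp
  have hmemR : ∀ z : G, z ∈ R ↔ (z ∈ NN P ∧ z ∉ CC P) := by
    intro z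
    rw [hR]
    simp
  have hmemK : ∀ c : G, c ∈ K ↔ (c ∈ CC P ∧ c * c ≠ 1) := by
    intro c
    rw [hK]
    simp
  have hmemD : ∀ z y : G, y ∈ D z ↔ (y * y ≠ 1 ∧ t * y * t⁻¹ = y⁻¹ ∧ z * y = y * z) := by
    intro z y
    rw [hD]
    simp
  have hIcard : Nat.card {u : G // orderOf u = 2} = I.card := Nat.subtype_card I hmemI
  -- `|X| = |I| + 1`
  have hXcard : X.card = I.card + 1 := by
    have hmem1 : (1 : G) ∉ I := by
      rw [hmemI, orderOf_one]
      norm_num
    rw [← Finset.card_insert_of_notMem hmem1]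
    have hXim : X = (insert 1 I).image (fun u => t * u) := by
      ext y
      rw [hmemX, Finset.mem_image]
      constructor
      · intro hy
        refine ⟨t * y, ?_, ?_⟩
        · have hsq : (t * y) * (t * y) = 1 := by
            calc (t * y) * (t * y) = (t * y * t⁻¹) * (t * t) * y := by group
              _ = 1 := by rw [hy, h.toBase.tt]; group
          rw [Finset.mem_insert, hmemI]
          by_cases h1 : t * y = 1
          · left
            exact h1
          · right
            haveI : Fact (Nat.Prime 2) := ⟨Nat.prime_two⟩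
            exact orderOf_eq_prime (by rw [pow_two]; exact hsq) h1
        · rw [← mul_assoc, h.toBase.tt, one_mul]
      · rintro ⟨u, hu, rfl⟩
        rw [Finset.mem_insert, hmemI] at hu
        have huu : u * u = 1 := by
          rcases hu with hu | hu
          · rw [hu, mul_one]
          · have := pow_orderOf_eq_one u
            rwa [hu, pow_two] at this
        have e1 : (t * u)⁻¹ = u * t := by
          apply inv_eq_of_mul_eq_one_right
          calc t * u * (u * t) = t * (u * u) * t := by group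
            _ = 1 := by rw [huu, mul_one, h.toBase.tt]
        rw [h.toBase.t_inv, e1, ← mul_assoc t t u, h.toBase.tt, one_mul]
    rw [hXim, Finset.card_image_of_injective _ (mul_right_injective t)]
  -- `|R| = 2 q`
  have hRcard : R.card = 2 * q := by
    have hNc : (Finset.univ.filter (fun z : G => z ∈ NN P)).card = 4 * q := by
      rw [← hN4]
      exact (Nat.subtype_card _ (by intro x; simp)).symm
    have hCc : (Finset.univ.filter (fun z : G => z ∈ CC P)).card = 2 * q := by
      rw [← hC2]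
      exact (Nat.subtype_card _ (by intro x; simp)).symm
    have hsplit : (Finset.univ.filter (fun z : G => z ∈ NN P)).card
        = (Finset.univ.filter (fun z : G => z ∈ CC P)).card + R.card := by
      rw [← Finset.card_union_of_disjoint]
      · congr 1
        ext z
        rw [Finset.mem_union, hmemR]
        simp only [Finset.mem_filter, Finset.mem_univ, true_and]
        constructor
        · intro hz
          by_cases hzC : z ∈ CC P
          · left
            exact hzC
          · right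
            exact ⟨hz, hzC⟩
        · rintro (hz | hz)
          · exact h.CC_le_NN hz
          · exact hz.1
      · rw [Finset.disjoint_left]
        intro z hz hz'
        rw [hmemR] at hz'
        simp only [Finset.mem_filter, Finset.mem_univ, true_and] at hz
        exact hz'.2 hz
    omega
  -- `|K| + 2 = 2 q`
  have hKcard : K.card + 2 = 2 * q := by
    have hCc : (Finset.univ.filter (fun z : G => z ∈ CC P)).card = 2 * q := by
      rw [← hC2]
      exact (Nat.subtype_card _ (by intro x; simp)).symm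
    have hsplit : (Finset.univ.filter (fun z : G => z ∈ CC P)).card
        = K.card + ({1, t} : Finset G).card := by
      rw [← Finset.card_union_of_disjoint]
      · congr 1
        ext c
        rw [Finset.mem_union, hmemK]
        simp only [Finset.mem_filter, Finset.mem_univ, true_and, Finset.mem_insert,
          Finset.mem_singleton]
        constructor
        · intro hc
          by_cases hc2 : c * c = 1
          · right
            exact h.toBase.sq hc hc2
          · left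
            exact ⟨hc, hc2⟩
        · rintro (hc | hc | hc)
          · exact hc.1
          · rw [hc]
            exact one_mem _
          · rw [hc]
            exact h.memC
      · rw [Finset.disjoint_left]
        intro c hc hc'
        rw [hmemK] at hc
        simp only [Finset.mem_insert, Finset.mem_singleton] at hc'
        rcases hc' with hc' | hc'
        · apply hc.2
          rw [hc', mul_one]
        · apply hc.2
          rw [hc']
          exact h.toBase.tt
    have h2 : ({1, t} : Finset G).card = 2 := Finset.card_pair (Ne.symm h.toBase.t_ne_one)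
    omega
  -- the elements of `X` with square `1`
  have hX0 : (X.filter (fun y => y * y = 1)).card = 2 * q + 2 := by
    have hX0eq : X.filter (fun y => y * y = 1) = ({1, t} : Finset G) ∪ R := by
      ext y
      rw [Finset.mem_filter, hmemX, Finset.mem_union, hmemR]
      simp only [Finset.mem_insert, Finset.mem_singleton]
      constructor
      · rintro ⟨hy, hy2⟩
        have hyinv : y⁻¹ = y := inv_eq_of_mul_eq_one_left hy2
        have hyN : y ∈ NN P := by
          rw [← h.centT, Subgroup.mem_centralizer_singleton_iff]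
          rw [hyinv] at hy
          calc y * t = (t * y * t⁻¹) * t := by rw [hy]
            _ = t * y := by group
        by_cases hyC : y ∈ CC P
        · left
          exact h.toBase.sq hyC hy2
        · right
          exact ⟨hyN, hyC⟩
      · rintro ((hy | hy) | ⟨hyN, hyC⟩)
        · rw [hy]
          constructor
          · group
          · exact mul_one 1
        · rw [hy]
          constructor
          · rw [h.toBase.t_inv, h.toBase.tt, one_mul]
          · exact h.toBase.tt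
        · have hy2 := h.sq_of_not_mem hyN hyC
          refine ⟨?_, hy2⟩
          have hyinv : y⁻¹ = y := inv_eq_of_mul_eq_one_left hy2
          have hyt := Subgroup.mem_centralizer_singleton_iff.mp (h.toBase.NN_le hyN)
          rw [hyinv, ← hyt]
          group
    rw [hX0eq, Finset.card_union_of_disjoint, Finset.card_pair (Ne.symm h.toBase.t_ne_one),
      hRcard]
    · ring
    · rw [Finset.disjoint_left]
      intro y hy hy'
      rw [hmemR] at hy'
      simp only [Finset.mem_insert, Finset.mem_singleton] at hy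
      rcases hy with hy | hy
      · apply hy'.2
        rw [hy]
        exact one_mem _
      · apply hy'.2
        rw [hy]
        exact h.memC
  -- the elements of `X` with square `≠ 1`
  have hX1 : (X.filter (fun y => ¬ y * y = 1)).card = 2 * q * K.card := by
    have hX1eq : X.filter (fun y => ¬ y * y = 1) = R.biUnion D := by
      ext y
      rw [Finset.mem_filter, hmemX, Finset.mem_biUnion]
      constructor
      · rintro ⟨hy, hy2⟩
        obtain ⟨z, hzN, hzC, hzy⟩ := h.exists_commuting hy2 hy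
        exact ⟨z, (hmemR z).mpr ⟨hzN, hzC⟩, (hmemD z y).mpr ⟨hy2, hy, hzy⟩⟩
      · rintro ⟨z, -, hyD⟩
        rw [hmemD] at hyD
        exact ⟨hyD.2.1, hyD.1⟩
    rw [hX1eq, Finset.card_biUnion]
    · rw [Finset.sum_const_nat (m := K.card), hRcard]
      intro z hz
      rw [hmemR] at hz
      obtain ⟨g, hg⟩ := isConj_iff.mp (h.one t z h.ord (h.order_two_of_not_mem hz.1 hz.2))
      have hDim : D z = K.image (fun c => g * c * g⁻¹) := by
        ext y
        rw [hmemD, Finset.mem_image]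
        rw [h.D_char hz.1 hz.2 hg y]
        constructor
        · rintro ⟨c, hc, e⟩
          exact ⟨c, (hmemK c).mpr hc, e⟩
        · rintro ⟨c, hc, e⟩
          exact ⟨c, (hmemK c).mp hc, e⟩
      rw [hDim, Finset.card_image_of_injective]
      intro a b hab
      simpa using hab
    · intro z hz z' hz' hne
      have hz1 := (hmemR z).mp (Finset.mem_coe.mp hz)
      have hz1' := (hmemR z').mp (Finset.mem_coe.mp hz')
      rw [Function.onFun, Finset.disjoint_left]
      intro y hy hy'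
      rw [hmemD] at hy hy'
      exact hne (h.D_unique hz1.1 hz1.2 hz1'.1 hz1'.2 hy.1 hy.2.2 hy'.2.2)
  have hsplitX : (X.filter (fun y => y * y = 1)).card + (X.filter (fun y => ¬ y * y = 1)).card
      = X.card := Finset.card_filter_add_card_filter_not _
  rw [hIcard]
  have h1 : I.card + 1 = 2 * q + 2 + 2 * q * K.card := by
    rw [← hXcard, ← hsplitX, hX0, hX1]
  obtain ⟨k, hk⟩ : ∃ k : ℕ, K.card = k := ⟨_, rfl⟩
  rw [hk] at h1 hKcard
  have hk2 : 2 * q = k + 2 := hKcard.symm
  have e4 : 4 * q ^ 2 = (2 * q) ^ 2 := by ring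
  rw [e4, hk2]
  rw [hk2] at h1
  nlinarith [h1]

/-- The centralizer of a Sylow `2`-subgroup containing `t` is that subgroup. -/
theorem centralizer_sylow_two (S : Sylow 2 G) (htS : t ∈ (S : Subgroup G))
    (hS4 : Nat.card (S : Subgroup G) = 4) (hsq : ∀ x ∈ (S : Subgroup G), x * x = 1) :
    Nat.card (Subgroup.centralizer ((S : Subgroup G) : Set G)) = 4 := by
  have hcomm := Cfsg.Agent.Lib.helper4.mul_comm_of_forall_mul_self (S : Subgroup G) hsq
  -- an element `s ∈ S ∖ C`
  obtain ⟨s, hsS, hsC⟩ : ∃ s : G, s ∈ (S : Subgroup G) ∧ s ∉ CC P := by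
    by_contra hcon
    have hsub : ((S : Subgroup G) : Set G) ⊆ ({1, t} : Set G) := by
      intro x hx
      have hxC : x ∈ CC P := by
        by_contra hxC
        exact hcon ⟨x, hx, hxC⟩
      rcases h.toBase.sq hxC (hsq x hx) with e | e
      · left
        exact e
      · right
        exact e
    have h1 := Set.ncard_le_ncard hsub (Set.toFinite _)
    rw [Set.ncard_pair (Ne.symm h.toBase.t_ne_one)] at h1
    have h2 : Nat.card (S : Subgroup G) = ((S : Subgroup G) : Set G).ncard :=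
      Nat.card_coe_set_eq _
    omega
  have hSN : (S : Subgroup G) ≤ NN P := by
    intro x hx
    rw [← h.centT, Subgroup.mem_centralizer_singleton_iff]
    exact hcomm x hx t htS
  have hsN : s ∈ NN P := hSN hsS
  have hss : s * s = 1 := hsq s hsS
  have hsinv : s⁻¹ = s := inv_eq_of_mul_eq_one_left hss
  have hle : Subgroup.centralizer ((S : Subgroup G) : Set G) ≤ (S : Subgroup G) := by
    intro x hx
    have hxt : t * x = x * t := (Subgroup.mem_centralizer_iff.mp hx) t htS
    have hxs : s * x = x * s := (Subgroup.mem_centralizer_iff.mp hx) s hsS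
    have hxN : x ∈ NN P := by
      rw [← h.centT, Subgroup.mem_centralizer_singleton_iff]
      exact hxt.symm
    by_cases hxC : x ∈ CC P
    · have hinv := h.inv_CC hsN hsC hxC
      have e1 : s * x * s⁻¹ = x := by rw [hxs]; group
      rw [e1] at hinv
      have hxx : x * x = 1 := mul_eq_one_iff_eq_inv.mpr hinv
      rcases h.toBase.sq hxC hxx with e | e
      · rw [e]
        exact one_mem _
      · rw [e]
        exact htS
    · have hxsC : x * s ∈ CC P :=
        (h.mul_mem_iff hxN hsN).mpr ⟨fun hh => absurd hh hxC, fun hh => absurd hh hsC⟩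
      have hinv := h.inv_CC hsN hsC hxsC
      have e1 : s * (x * s) * s⁻¹ = x * s := by
        calc s * (x * s) * s⁻¹ = (s * x) * (s * s⁻¹) := by group
          _ = x * s := by rw [hxs, mul_inv_cancel, mul_one]
      rw [e1] at hinv
      have hxx : (x * s) * (x * s) = 1 := mul_eq_one_iff_eq_inv.mpr hinv
      rcases h.toBase.sq hxsC hxx with e | e
      · have e2 : x = s⁻¹ := eq_inv_of_mul_eq_one_left e
        rw [e2]
        exact inv_mem hsS
      · have e2 : x = t * s⁻¹ := eq_mul_inv_of_mul_eq e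
        rw [e2]
        exact mul_mem htS (inv_mem hsS)
  have hge : (S : Subgroup G) ≤ Subgroup.centralizer ((S : Subgroup G) : Set G) := by
    intro x hx
    rw [Subgroup.mem_centralizer_iff]
    intro y hy
    exact hcomm y hy x hx
  rw [le_antisymm hle hge, hS4]

end Cfg

/-- **Main counting theorem.**  In a finite simple group with an abelian Sylow `3`-subgroup `P`
of order `q` such that `|N(P)| = 4 q`, `|C(P)| = 2 q`, `C(P)` is a TI-subset and every proper
subgroup of even order has order dividing `4 q`: the Sylow `2`-subgroups are four-groups with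
self-centralizing..., there is one class of involutions, involution centralizers have order
`4 q`, and `|G| = 4 q (4 q² - 2 q + 1)`. -/
theorem main [Finite G] [IsSimpleGroup G] (P : Sylow 3 G)
    (hab : ∀ a ∈ (P : Subgroup G), ∀ b ∈ (P : Subgroup G), a * b = b * a)
    (hN : Nat.card (NN P) = 4 * Nat.card (P : Subgroup G))
    (hC : Nat.card (CC P) = 2 * Nat.card (P : Subgroup G))
    (hTI : IsTISubset ((CC P : Subgroup G) : Set G))
    (heven : ∀ H : Subgroup G, H ≠ ⊤ → 2 ∣ Nat.card H →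
      Nat.card H ∣ 4 * Nat.card (P : Subgroup G)) :
    ∃ (t : G) (S : Sylow 2 G), orderOf t = 2 ∧ t ∈ (S : Subgroup G) ∧
      Odd (S : Subgroup G).index ∧ Nat.card G = 4 * (S : Subgroup G).index ∧
      (¬ ∃ N' : Subgroup G, N'.Normal ∧ Nat.card N' = (S : Subgroup G).index) ∧
      IsKleinFour (S : Subgroup G) ∧
      (∀ s u : G, orderOf s = 2 → orderOf u = 2 → IsConj s u) ∧
      Nat.card (Subgroup.centralizer ({t} : Set G)) = 4 * Nat.card (P : Subgroup G) ∧
      Nat.card (Subgroup.centralizer ((S : Subgroup G) : Set G)) = 4 ∧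
      Nat.card G + 8 * Nat.card (P : Subgroup G) ^ 2
        = 16 * Nat.card (P : Subgroup G) ^ 3 + 4 * Nat.card (P : Subgroup G) := by
  haveI : Fact (Nat.Prime 2) := ⟨Nat.prime_two⟩
  -- an involution of `C(P)`
  have h2C : 2 ∣ Nat.card (CC P) := by rw [hC]; exact Dvd.intro _ rfl
  obtain ⟨x, hx⟩ := exists_prime_orderOf_dvd_card' (G := CC P) 2 h2C
  obtain ⟨t, ht⟩ : ∃ t : G, t = (x : G) := ⟨_, rfl⟩
  have ht2 : orderOf t = 2 := by rw [ht, Subgroup.orderOf_coe, hx]
  have htC : t ∈ CC P := by rw [ht]; exact x.2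
  have hB : Base P t := ⟨hab, hC, ht2, htC⟩
  -- a Sylow `2`-subgroup containing `t`
  have hpg : IsPGroup 2 (Subgroup.zpowers t) :=
    IsPGroup.of_card (n := 1) (by rw [Nat.card_zpowers, ht2, pow_one])
  obtain ⟨S, hS⟩ := hpg.exists_le_sylow
  have htS : t ∈ (S : Subgroup G) := hS (Subgroup.mem_zpowers t)
  obtain ⟨hodd, hcard, hnc⟩ := stage_one P hB hN heven S
  obtain ⟨hK, hone⟩ := Cfsg.Agent.Lib.helper4.klein_of_no_normal_compl _ hodd hcard hnc S
  have hsq := Cfsg.Agent.Lib.helper4.klein_mul_self (S : Subgroup G) hK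
  have hexp : ∀ (g : G) (k : ℕ), orderOf g = 2 ^ k → g * g = 1 := fun g k hg =>
    Cfsg.Agent.Lib.helper78.sq_eq_one_of_two_elt S (fun y => Subtype.ext (hsq y.1 y.2)) g k hg
  have hcen := center_eq_bot P hB hN
  have hcyc : ∀ y : G, y ≠ 1 →
      Subgroup.normalizer ((Subgroup.zpowers y : Subgroup G) : Set G) ≠ ⊤ := by
    intro y hy1 htop
    have hnorm : (Subgroup.zpowers y).Normal := Subgroup.normalizer_eq_top_iff.mp htop
    rcases hnorm.eq_bot_or_eq_top with h1 | h1
    · exact hy1 (Subgroup.zpowers_eq_bot.mp h1)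
    · apply hB.t_ne_one
      have htc : t ∈ Subgroup.center G := by
        rw [Subgroup.mem_center_iff]
        intro g
        have hg : g ∈ Subgroup.zpowers y := by rw [h1]; trivial
        have ht' : t ∈ Subgroup.zpowers y := by rw [h1]; trivial
        obtain ⟨a, ha⟩ := Subgroup.mem_zpowers_iff.mp hg
        obtain ⟨b, hb⟩ := Subgroup.mem_zpowers_iff.mp ht'
        rw [← ha, ← hb, ← zpow_add, ← zpow_add, add_comm]
      rw [hcen] at htc
      exact Subgroup.mem_bot.mp htc
  have hcfg : Cfg P t :=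
    { toBase := hB
      cardN := hN
      ti := hTI
      centT := cent_t_eq P hB hN heven
      one := hone
      exp2 := hexp
      even := heven
      cyc := hcyc }
  have hct : Nat.card (Subgroup.centralizer ({t} : Set G)) = 4 * Nat.card (P : Subgroup G) := by
    rw [hcfg.centT]
    exact hN
  have hS4 : Nat.card (S : Subgroup G) = 4 := sylow_two_card P hB hN heven S
  refine ⟨t, S, ht2, htS, hodd, hcard, hnc, hK, hone, hct,
    hcfg.centralizer_sylow_two S htS hS4 hsq, ?_⟩
  have hinv := hcfg.card_involutions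
  have hcls : Nat.card {g : G // IsConj t g} = Nat.card {u : G // orderOf u = 2} :=
    Nat.card_congr (Equiv.subtypeEquivRight (fun g =>
      ⟨fun hg => (Cfsg.Agent.Lib.helper4.orderOf_eq_of_isConj hg).symm.trans ht2,
        fun hg => hone t g ht2 hg⟩))
  have hmul := Cfsg.Agent.Lib.helper21.card_isConj_mul_card_centralizer t
  rw [hcls, hct] at hmul
  obtain ⟨q, hq⟩ : ∃ q : ℕ, q = Nat.card (P : Subgroup G) := ⟨_, rfl⟩
  obtain ⟨n, hn⟩ : ∃ n : ℕ, n = Nat.card {u : G // orderOf u = 2} := ⟨_, rfl⟩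
  rw [← hq, ← hn] at hmul hinv
  rw [← hq, ← hmul]
  calc n * (4 * q) + 8 * q ^ 2 = 4 * q * (n + 2 * q) := by ring
    _ = 4 * q * (4 * q ^ 2 + 1) := by rw [hinv]
    _ = 16 * q ^ 3 + 4 * q := by ring

end Cfsg.Agent.Lib.helper75.KC
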