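import Mathlib

/-!
# Arithmetic for the Brauer order formula with Klein four Sylow `2`-subgroups (helper75)

The principal `2`-block of a simple group with Klein four Sylow `2`-subgroups has degrees
`1, x₂, x₃, x₄` with `1 + x₂ + ε x₃ - x₄ = 0`; the number
`α = x₂ x₃ x₄ / ((x₂ + 1)(x₃ + ε)(x₄ - 1))` of Brauer's order formula is then `> 1/2`.
This is incompatible with `|G| = 4 q (4 q² - 2 q + 1)`, `c(J) = 4 q`, `c(S) = 4`.
-/

set_option autoImplicit false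

namespace Cfsg.Agent.Lib.helper75.KC

/-- `α > 1/2` in Brauer's formula: the denominator is positive and less than twice the
numerator. -/
theorem alpha_gt_half (x₂ x₃ x₄ : ℕ) (ε : ℤ) (hε : ε = 1 ∨ ε = -1) (h2 : 2 ≤ x₂) (h3 : 2 ≤ x₃)
    (h4 : 2 ≤ x₄) (hrel : (1 : ℤ) + x₂ + ε * x₃ - x₄ = 0) :
    0 < ((x₂ : ℤ) + 1) * (x₃ + ε) * (x₄ - 1) ∧
      ((x₂ : ℤ) + 1) * (x₃ + ε) * (x₄ - 1) < 2 * (x₂ * x₃ * x₄) := by
  obtain ⟨a, ha⟩ : ∃ a : ℤ, a = x₂ := ⟨_, rfl⟩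
  obtain ⟨b, hb⟩ : ∃ b : ℤ, b = x₃ := ⟨_, rfl⟩
  obtain ⟨c, hc⟩ : ∃ c : ℤ, c = x₄ := ⟨_, rfl⟩
  have ha2 : 2 ≤ a := by rw [ha]; exact_mod_cast h2
  have hb2 : 2 ≤ b := by rw [hb]; exact_mod_cast h3
  have hc2 : 2 ≤ c := by rw [hc]; exact_mod_cast h4
  rw [← ha, ← hb, ← hc] at hrel ⊢
  rcases hε with rfl | rfl
  · have hc' : c = 1 + a + b := by linarith
    subst hc'
    constructor
    · have h1 : 0 < (a + 1) * (b + 1) := mul_pos (by linarith) (by linarith)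
      have h5 : 0 < (a + 1) * (b + 1) * (1 + a + b - 1) := mul_pos h1 (by linarith)
      exact h5
    · have h1 : 0 ≤ a * a * (b - 2) := mul_nonneg (mul_nonneg (by linarith) (by linarith))
        (by linarith)
      have h5 : 0 ≤ b * b * (a - 2) := mul_nonneg (mul_nonneg (by linarith) (by linarith))
        (by linarith)
      have h6 : 0 ≤ a * (a - 2) := mul_nonneg (by linarith) (by linarith)
      have h7 : 0 ≤ b * (b - 2) := mul_nonneg (by linarith) (by linarith)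
      nlinarith [h1, h5, h6, h7]
  · have ha' : a = b + c - 1 := by linarith
    subst ha'
    constructor
    · have h1 : 0 < (b + c - 1 + 1) * (b + -1) := mul_pos (by linarith) (by linarith)
      exact mul_pos h1 (by linarith)
    · have hbc : 0 < b * c := mul_pos (by linarith) (by linarith)
      have h1 : 0 < (b + c - 1 - 1) * (b * c) := mul_pos (by linarith) hbc
      have h5 : 0 < (b + c - 1 + 1) * (b + c - 1) := mul_pos (by linarith) (by linarith)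
      nlinarith [h1, h5]

/-- The final contradiction: Brauer's formula against the count of involutions. -/
theorem final_arith (n q cJ cS x₂ x₃ x₄ : ℕ) (ε₁ ε₂ ε₃ : ℤ) (h1 : ε₁ = 1)
    (hε : ε₂ = 1 ∨ ε₂ = -1) (h3' : ε₃ = -1) (h2 : 2 ≤ x₂) (h3 : 2 ≤ x₃) (h4 : 2 ≤ x₄)
    (hrel : (1 : ℤ) + x₂ + ε₂ * x₃ - x₄ = 0) (hq : 1 ≤ q) (hcJ : cJ = 4 * q) (hcS : cS = 4)
    (hn : n + 8 * q ^ 2 = 16 * q ^ 3 + 4 * q)
    (hform : (n : ℚ) = 8 * (((x₂ : ℚ) * x₃ * x₄) /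
      ((x₂ + ε₁) * (x₃ + ε₂) * (x₄ + ε₃))) * (cJ : ℚ) ^ 3 / (cS : ℚ) ^ 2) : False := by
  subst h1 h3' hcJ hcS
  obtain ⟨hD0, hD2⟩ := alpha_gt_half x₂ x₃ x₄ ε₂ hε h2 h3 h4 hrel
  obtain ⟨D, hD⟩ : ∃ D : ℚ, D = ((x₂ : ℚ) + 1) * (x₃ + ε₂) * (x₄ - 1) := ⟨_, rfl⟩
  obtain ⟨X, hX⟩ : ∃ X : ℚ, X = (x₂ : ℚ) * x₃ * x₄ := ⟨_, rfl⟩
  have hDpos : 0 < D := by
    rw [hD]
    exact_mod_cast hD0
  have hDlt : D < 2 * X := by
    rw [hD, hX]
    exact_mod_cast hD2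
  have hqQ : (1 : ℚ) ≤ q := by exact_mod_cast hq
  have hnQ : (n : ℚ) + 8 * q ^ 2 = 16 * q ^ 3 + 4 * q := by exact_mod_cast hn
  have e0 : ((x₂ : ℚ) + ((1 : ℤ) : ℚ)) * (x₃ + ε₂) * (x₄ + ((-1 : ℤ) : ℚ)) = D := by
    rw [hD]
    push_cast
    ring
  have e1 : (n : ℚ) * D = 32 * (q : ℚ) ^ 3 * X := by
    rw [hform, e0, ← hX]
    push_cast
    field_simp
    ring
  have hq3 : 0 < (q : ℚ) ^ 3 * (2 * X - D) := mul_pos (pow_pos (by linarith) 3) (by linarith)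
  have hqD : 0 < (4 * (q : ℚ) * (2 * q - 1)) * D :=
    mul_pos (mul_pos (by linarith) (by linarith)) hDpos
  have hn' : (n : ℚ) = 16 * q ^ 3 + 4 * q - 8 * q ^ 2 := by linarith
  rw [hn'] at e1
  nlinarith [hq3, hqD, e1]

end Cfsg.Agent.Lib.helper75.KC
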