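import Mathlib
import Cfsg.Agent.Lib.helper75.SGModule

/-!
# Linearization of the conjugation action on an elementary abelian normal subgroup
-/

set_option autoImplicit false

namespace Cfsg.Agent.Lib.helper75.PQ

open Cfsg.Agent.Lib.helper75

universe u

/-- Linearization of an action on an abelian group of prime exponent `l`, over the algebraic
closure of the prime field (module form). -/
theorem exists_lin_mod {Γ : Type*} [Group Γ] [Finite Γ] {M : Type*} [CommGroup M] [Finite M]
    (l : ℕ) [Fact l.Prime] [Module (ZMod l) (Additive M)] (φ : Γ →* MulAut M) :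
    ∃ (F : Type) (_ : Field F) (_ : IsAlgClosed F) (_ : CharP F l) (W : Type)
      (_ : AddCommGroup W) (_ : Module F W) (_ : FiniteDimensional F W)
      (ρ : Γ →* Module.End F W),
      (∀ g : Γ, ρ g = 1 ↔ φ g = 1) ∧
      (∀ A : Subgroup Γ, (Nat.card A).Coprime l →
        (∀ x : M, (∀ a ∈ A, φ a x = x) → x = 1) →
        ∀ w : W, (∀ a ∈ A, ρ a w = w) → w = 0) := by
  classical
  have hl : l.Prime := Fact.out
  haveI : Finite (Additive M) := inferInstanceAs (Finite M)
  haveI : Module.Finite (ZMod l) (Additive M) := Module.Finite.of_finite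
  obtain ⟨Φ, hΦ⟩ := sg_baseChange (ZMod l) (Additive M) (AlgebraicClosure (ZMod l))
  haveI hchar : CharP (AlgebraicClosure (ZMod l)) l :=
    charP_of_injective_algebraMap (algebraMap (ZMod l) (AlgebraicClosure (ZMod l))).injective l
  obtain ⟨ρ, hρ⟩ : ∃ ρ : Γ →* Module.End (AlgebraicClosure (ZMod l))
      (Fin (Module.finrank (ZMod l) (Additive M)) → AlgebraicClosure (ZMod l)),
      ∀ g, ρ g = Φ (sgLin l (φ g)) :=
    ⟨(Φ.toMonoidHom.comp (sgLin l)).comp φ, fun g => rfl⟩
  refine ⟨AlgebraicClosure (ZMod l), inferInstance, inferInstance, hchar,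
    Fin (Module.finrank (ZMod l) (Additive M)) → AlgebraicClosure (ZMod l), inferInstance,
    inferInstance, inferInstance, ρ, ?_, ?_⟩
  · intro g
    rw [hρ]
    constructor
    · intro h
      have h1 : Φ (sgLin l (φ g)) = Φ (sgLin l (1 : MulAut M)) := by
        rw [h, map_one, map_one]
      exact sgLin_injective l (hΦ h1)
    · intro h2
      rw [h2, map_one, map_one]
  · intro A hcop hfix w hw
    letI : Fintype A := Fintype.ofFinite A
    have hT : ∑ a : A, sgLin l (φ (a : Γ)) = 0 := by
      refine LinearMap.ext fun u => ?_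
      rw [LinearMap.zero_apply]
      have hinv : ∀ a' : A, sgLin l (φ (a' : Γ)) ((∑ a : A, sgLin l (φ (a : Γ))) u)
          = (∑ a : A, sgLin l (φ (a : Γ))) u := by
        intro a'
        rw [LinearMap.sum_apply, map_sum]
        refine Fintype.sum_equiv (Equiv.mulLeft a') _ _ (fun a => ?_)
        rw [Equiv.coe_mulLeft, Subgroup.coe_mul, map_mul, map_mul]
        rfl
      have h1 : Additive.toMul ((∑ a : A, sgLin l (φ (a : Γ))) u) = 1 := by
        apply hfix
        intro a ha
        exact congrArg Additive.toMul (hinv ⟨a, ha⟩)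
      exact congrArg Additive.ofMul h1
    have h3 : ∑ a : A, ρ (a : Γ) = 0 := by
      have h4 : ∑ a : A, ρ (a : Γ) = Φ (∑ a : A, sgLin l (φ (a : Γ))) := by
        rw [map_sum]
        exact Finset.sum_congr rfl (fun a _ => hρ a)
      rw [h4, hT, map_zero]
    have h5 : (Nat.card A : AlgebraicClosure (ZMod l)) • w = 0 := by
      have h6 : (∑ a : A, ρ (a : Γ)) w = 0 := by rw [h3, LinearMap.zero_apply]
      rw [LinearMap.sum_apply] at h6
      have h6' : ∑ a : A, ρ (a : Γ) w = ∑ _a : A, w :=
        Finset.sum_congr rfl (fun a _ => hw (a : Γ) a.2)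
      rw [h6', Finset.sum_const, Finset.card_univ, ← Nat.card_eq_fintype_card] at h6
      rw [Nat.cast_smul_eq_nsmul]
      exact h6
    have h7 : (Nat.card A : AlgebraicClosure (ZMod l)) ≠ 0 := by
      intro h
      have h8 := (CharP.cast_eq_zero_iff (AlgebraicClosure (ZMod l)) l (Nat.card A)).mp h
      have h9 : l ∣ Nat.gcd (Nat.card A) l := Nat.dvd_gcd h8 dvd_rfl
      rw [hcop] at h9
      exact hl.one_lt.ne' (Nat.dvd_one.mp h9)
    exact (smul_eq_zero.mp h5).resolve_left h7

/-- Linearization of an action on an abelian group of prime exponent `l`. -/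
theorem exists_lin_aux {Γ : Type*} [Group Γ] [Finite Γ] {M : Type*} [CommGroup M] [Finite M]
    (l : ℕ) (hl : l.Prime) (hM : ∀ x : M, x ^ l = 1) (φ : Γ →* MulAut M) :
    ∃ (F : Type) (_ : Field F) (_ : IsAlgClosed F) (_ : CharP F l) (W : Type)
      (_ : AddCommGroup W) (_ : Module F W) (_ : FiniteDimensional F W)
      (ρ : Γ →* Module.End F W),
      (∀ g : Γ, ρ g = 1 ↔ φ g = 1) ∧
      (∀ A : Subgroup Γ, (Nat.card A).Coprime l →
        (∀ x : M, (∀ a ∈ A, φ a x = x) → x = 1) →
        ∀ w : W, (∀ a ∈ A, ρ a w = w) → w = 0) := by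
  haveI : Fact l.Prime := ⟨hl⟩
  have hexpA : ∀ a : Additive M, l • a = 0 := by
    intro a
    apply Additive.toMul.injective
    rw [toMul_nsmul, hM]
    rfl
  letI : Module (ZMod l) (Additive M) := AddCommGroup.zmodModule hexpA
  exact exists_lin_mod l φ

/-- LIN: the conjugation action on an elementary abelian normal subgroup as a
representation over an algebraically closed field of characteristic `l`. -/
theorem exists_lin {Γ : Type u} [Group Γ] [Finite Γ] (V : Subgroup Γ) (hVn : V.Normal) (l : ℕ)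
    (hl : l.Prime) (hexp : ∀ v ∈ V, v ^ l = 1) (hab : ∀ v ∈ V, ∀ v' ∈ V, v * v' = v' * v) :
    ∃ (F : Type) (_ : Field F) (_ : IsAlgClosed F) (_ : CharP F l) (W : Type)
      (_ : AddCommGroup W) (_ : Module F W) (_ : FiniteDimensional F W)
      (ρ : Γ →* Module.End F W),
      (∀ g : Γ, ρ g = 1 ↔ ∀ v ∈ V, g * v = v * g) ∧
      (∀ A : Subgroup Γ, (Nat.card A).Coprime l →
        (∀ v ∈ V, (∀ a ∈ A, a * v = v * a) → v = 1) →
        ∀ w : W, (∀ a ∈ A, ρ a w = w) → w = 0) := by
  classical
  letI cg : CommGroup V :=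
    { (inferInstance : Group V) with
      mul_comm := fun a b => Subtype.ext (hab a a.2 b b.2) }
  obtain ⟨φ, hφ⟩ : ∃ φ : Γ →* MulAut V, ∀ (g : Γ) (v : V), ((φ g v : V) : Γ) = g * v * g⁻¹ :=
    ⟨@MulAut.conjNormal Γ _ V hVn, fun g v => rfl⟩
  have hM : ∀ x : V, x ^ l = 1 := by
    intro x
    apply Subtype.ext
    rw [Subgroup.coe_pow]
    exact hexp _ x.2
  obtain ⟨F, i1, i2, i3, W, i4, i5, i6, ρ, h1, h2⟩ :=
    @exists_lin_aux Γ _ _ V cg _ l hl hM φ
  refine ⟨F, i1, i2, i3, W, i4, i5, i6, ρ, ?_, ?_⟩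
  · intro g
    rw [h1]
    constructor
    · intro h v hv
      have h3 := hφ g ⟨v, hv⟩
      rw [h, MulAut.one_apply] at h3
      have h4 : v = g * v * g⁻¹ := h3
      calc g * v = g * v * g⁻¹ * g := by group
        _ = v * g := by rw [← h4]
    · intro h
      refine MulEquiv.ext fun v => ?_
      apply Subtype.ext
      rw [hφ, MulAut.one_apply, h v v.2]
      group
  · intro A hcop hfix w hw
    apply h2 A hcop _ w hw
    intro x hx
    apply Subtype.ext
    apply hfix _ x.2
    intro a ha
    have h3 := congrArg (fun z : V => (z : Γ)) (hx a ha)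
    simp only [hφ] at h3
    calc a * (x : Γ) = a * x * a⁻¹ * a := by group
      _ = x * a := by rw [h3]

end Cfsg.Agent.Lib.helper75.PQ
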