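import Mathlib
import Cfsg.Agent.Lib.helper75.PQDefs

/-!
# The internal form by induction, from the quotient lemma and the step lemma
-/

set_option autoImplicit false

namespace Cfsg.Agent.Lib.helper75.PQ

universe u

/-- The internal form, by induction on `|N|`, from the quotient lemma and the step lemma. -/
theorem pq_int_core
    (hquot : ∀ (Γ : Type u) [Group Γ] [Finite Γ] (N K H : Subgroup Γ) (p q : ℕ),
      PQSetup N K H p q → ∀ (M : Subgroup Γ) [M.Normal], M ≤ N →
      PQSetup (N.map (QuotientGroup.mk' M)) (K.map (QuotientGroup.mk' M))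
        (H.map (QuotientGroup.mk' M)) p q)
    (hstep : ∀ (Γ : Type u) [Group Γ] [Finite Γ] (N K H : Subgroup Γ) (p q : ℕ),
      PQSetup N K H p q → ∀ V : Subgroup Γ, V.Normal → V ≤ N → V ≠ ⊥ →
      (∀ U : Subgroup Γ, U.Normal → U ≤ V → U = ⊥ ∨ U = V) →
      (∀ (Γ' : Type u) [Group Γ'] [Finite Γ'] (N' K' H' : Subgroup Γ'),
        Nat.card N' < Nat.card N → PQSetup N' K' H' p q →
        ∃ k m : ℕ, (N'.lowerCentralSeries k).lowerCentralSeries m = ⊥) →
      ∃ j : ℕ, N.lowerCentralSeries j ≤ Subgroup.centralizer (V : Set Γ)) :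
    PQIntStmt.{u} := by
  have key : ∀ n : ℕ, ∀ (Γ : Type u) [Group Γ] [Finite Γ] (N K H : Subgroup Γ) (p q : ℕ),
      Nat.card N = n → PQSetup N K H p q →
      ∃ k m : ℕ, (N.lowerCentralSeries k).lowerCentralSeries m = ⊥ := by
    intro n
    induction n using Nat.strong_induction_on with
    | _ n ih =>
      intro Γ _ _ N K H p q hn hS
      by_cases hN : N = ⊥
      · refine ⟨0, 0, ?_⟩
        rw [Subgroup.lowerCentralSeries_zero, Subgroup.lowerCentralSeries_zero, hN]
      have hNn : N.Normal := hS.nN
      -- a minimal normal subgroup inside `N`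
      obtain ⟨V, -, hV, hVmin⟩ := exists_minimal_le_of_wellFoundedLT
        (fun V : Subgroup Γ => V.Normal ∧ V ≤ N ∧ V ≠ ⊥) N ⟨hNn, le_rfl, hN⟩
      obtain ⟨hVn, hVN, hVne⟩ := hV
      have hVmin' : ∀ U : Subgroup Γ, U.Normal → U ≤ V → U = ⊥ ∨ U = V := by
        intro U hUn hUV
        by_cases hU : U = ⊥
        · exact Or.inl hU
        · exact Or.inr (le_antisymm hUV (hVmin ⟨hUn, hUV.trans hVN, hU⟩ hUV))
      haveI := hVn
      have hSq := hquot Γ N K H p q hS V hVN
      have hlt : Nat.card (N.map (QuotientGroup.mk' V)) < n := by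
        rw [← hn]
        have h1 : Nat.card (N.map (QuotientGroup.mk' V)) * Nat.card (V.subgroupOf N)
            = Nat.card N := by
          have h2 := Subgroup.card_eq_card_quotient_mul_card_subgroup
            ((QuotientGroup.mk' V).subgroupMap N).ker
          have e1 : (↥N ⧸ ((QuotientGroup.mk' V).subgroupMap N).ker) ≃*
              ↥(N.map (QuotientGroup.mk' V)) :=
            QuotientGroup.quotientKerEquivOfSurjective _
              ((QuotientGroup.mk' V).subgroupMap_surjective N)
          have e2 : ((QuotientGroup.mk' V).subgroupMap N).ker = V.subgroupOf N := by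
            ext x
            rw [MonoidHom.mem_ker, Subgroup.mem_subgroupOf]
            constructor
            · intro hx
              have := congrArg Subtype.val hx
              simpa using this
            · intro hx
              apply Subtype.ext
              simpa using hx
          rw [h2, Nat.card_congr e1.toEquiv, e2]
        have h3 : 1 < Nat.card (V.subgroupOf N) := by
          rw [Nat.card_congr (Subgroup.subgroupOfEquivOfLe hVN).toEquiv]
          exact (Subgroup.one_lt_card_iff_ne_bot V).mpr hVne
        have h4 : 0 < Nat.card (N.map (QuotientGroup.mk' V)) := Nat.card_pos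
        nlinarith
      obtain ⟨k, m, hkm⟩ := ih _ hlt (Γ ⧸ V) (N.map (QuotientGroup.mk' V)) _ _ p q rfl hSq
      have h1 : (N.lowerCentralSeries k).lowerCentralSeries m ≤ V := by
        have h2 : ((N.lowerCentralSeries k).lowerCentralSeries m).map (QuotientGroup.mk' V)
            = ⊥ := by
          rw [Subgroup.map_lowerCentralSeries, Subgroup.map_lowerCentralSeries]
          exact hkm
        intro x hx
        have h3 : (QuotientGroup.mk' V) x ∈ (⊥ : Subgroup (Γ ⧸ V)) := by
          rw [← h2]
          exact Subgroup.mem_map_of_mem _ hx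
        rw [Subgroup.mem_bot] at h3
        have h4 : x ∈ (QuotientGroup.mk' V).ker := h3
        rwa [QuotientGroup.ker_mk'] at h4
      obtain ⟨j, hj⟩ := hstep Γ N K H p q hS V hVn hVN hVne hVmin'
        (fun Γ' _ _ N' K' H' hlt' hS' => ih _ (hn ▸ hlt') Γ' N' K' H' p q rfl hS')
      refine ⟨max k j, m + 1, ?_⟩
      have h5 : N.lowerCentralSeries (max k j) ≤ N.lowerCentralSeries k :=
        N.lowerCentralSeries_antitone (le_max_left k j)
      have h6 : N.lowerCentralSeries (max k j) ≤ Subgroup.centralizer (V : Set Γ) :=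
        (N.lowerCentralSeries_antitone (le_max_right k j)).trans hj
      have h7 : (N.lowerCentralSeries (max k j)).lowerCentralSeries m ≤ V :=
        (Subgroup.lowerCentralSeries_mono m h5).trans h1
      rw [Subgroup.lowerCentralSeries_succ, Subgroup.commutator_eq_bot_iff_le_centralizer]
      intro x hx
      rw [Subgroup.mem_centralizer_iff]
      intro y hy
      have h8 := h6 hy
      rw [Subgroup.mem_centralizer_iff] at h8
      exact (h8 x (h7 hx)).symm
  intro Γ _ _ N K H p q hS
  exact key _ Γ N K H p q rfl hS

end Cfsg.Agent.Lib.helper75.PQ
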