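import Mathlib
import Cfsg.Agent.Lib.helper75.PQDefs
import Cfsg.Agent.Lib.helper75.PQTower
import Cfsg.Agent.Lib.helper75.PQRed
import Cfsg.Agent.Lib.helper75.PQLin
import Cfsg.Agent.Lib.helper66.PQ_STEPB
import Cfsg.Agent.Lib.helper70.PQ_OL
import Cfsg.Agent.Lib.helper72.PQ_QUOT
import Cfsg.Agent.Lib.helper17.PQ_TOP

/-!
# Assembly: the theorem on fixed-point-free actions of a nonabelian group of order `p q`,
from the non-existence of minimal towers
-/

set_option autoImplicit false

namespace Cfsg.Agent.Lib.helper75.PQ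

universe u v

/-- The internal form, from the non-existence of minimal towers. -/
theorem pq_int_of_cases
    (hcases : ∀ (Γ : Type u) [Group Γ] [Finite Γ] (F : Type) [Field F] [IsAlgClosed F]
      (W : Type) [AddCommGroup W] [Module F W] [FiniteDimensional F W]
      (ρ : Γ →* Module.End F W) (K H S R : Subgroup Γ) (p q s r : ℕ),
      MinTower ρ K H S R p q s r → False) :
    PQIntStmt.{u} := by
  refine pq_int_core (fun Γ _ _ N K H p q hS M _ hMN => hS.quot M hMN) ?_
  intro Γ _ _ N K H p q hS V hVn hVN hVne hVmin ih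
  refine hS.step_core V hVn hVN hVne hVmin ?_ ?_ ?_ ih
  · intro Γ' _ _ F _ _ W _ _ _ ρ K' H' S R s r T
    exact tower_of_min (fun S' R' T' => hcases Γ' F W ρ K' H' S' R' p q s r T') S R T
  · intro l hl hexp hab
    exact exists_lin V hVn l hl hexp hab
  · intro l hl hexp L hLn hL
    exact no_normal_l V hVn hVne hVmin l hl hexp L hLn hL

/-- The theorem, from the non-existence of minimal towers. -/
theorem pq_main_of_cases
    (hcases : ∀ (Γ : Type (max u v)) [Group Γ] [Finite Γ] (F : Type) [Field F] [IsAlgClosed F]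
      (W : Type) [AddCommGroup W] [Module F W] [FiniteDimensional F W]
      (ρ : Γ →* Module.End F W) (K H S R : Subgroup Γ) (p q s r : ℕ),
      MinTower ρ K H S R p q s r → False)
    {G : Type u} {A : Type v} [Group G]
    [Finite G] [Group.IsSolvable G] [Group A] [Finite A] [MulDistribMulAction A G] (p q : ℕ)
    (hp : p.Prime) (hq : q.Prime) (hpq : p ≠ q) (hA : Nat.card A = p * q)
    (hAna : ¬ IsMulCommutative A) (hcop : (Nat.card G).Coprime (p * q))
    (hfpf : ∀ g : G, (∀ a : A, a • g = g) → g = 1) :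
    ∃ F : Subgroup G, ∃ hF : F.Normal, Group.IsNilpotent ↥F ∧ Group.IsNilpotent (G ⧸ F) :=
  pq_top_of_int (pq_int_of_cases hcases) p q hp hq hpq hA hAna hcop hfpf

end Cfsg.Agent.Lib.helper75.PQ
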