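import Mathlib
import Cfsg.Agent.Lib.helper75.PQWt
import Cfsg.Agent.Lib.helper18.PQ_A
import Cfsg.Agent.Lib.helper82.PQ_B45
import Cfsg.Agent.Lib.helper50.PQ_C5

/-!
# Weights of `H`-type of the center of a nonabelian `R` in a minimal tower (piece DH, core)
-/

set_option autoImplicit false

namespace Cfsg.Agent.Lib.helper75.PQ

open Cfsg.Agent.Lib.helper66 (WtV Fx cw)
open scoped commutatorElement

variable {Γ : Type*} [Group Γ] [Finite Γ] {F : Type*} [Field F] [IsAlgClosed F]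
  {W : Type*} [AddCommGroup W] [Module F W] [FiniteDimensional F W]
  {ρ : Γ →* Module.End F W} {K H S R : Subgroup Γ} {p q s r : ℕ}

omit [Finite Γ] in
theorem comm_mem_of_normalizer {R : Subgroup Γ} {g u : Γ}
    (hg : g ∈ Subgroup.normalizer (R : Set Γ)) (hu : u ∈ R) : ⁅g, u⁆ ∈ R := by
  rw [commutatorElement_def]
  exact R.mul_mem (conj_mem hg hu) (R.inv_mem hu)

omit [IsAlgClosed F] [FiniteDimensional F W] in
/-- An element normalizing `R` and fixing the weight `μ` of the center stabilizes the weight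
space. -/
theorem stabOn_of_fx (ρ : Γ →* Module.End F W) (R : Subgroup Γ) (μ : Γ → F) (g : Γ)
    (hg : g ∈ Subgroup.normalizer (R : Set Γ)) (hfx : Fx (ZR R) g μ) :
    g ∈ stabOn ρ R (wtSp ρ (ZR R) μ) := by
  have hgZ : g ∈ Subgroup.normalizer ((ZR R : Subgroup Γ) : Set Γ) := c5_mem_normalizer_ZR hg
  refine ⟨hg, wtSp_map ρ (ZR R) μ g hgZ hfx, ?_⟩
  exact wtSp_map ρ (ZR R) μ g⁻¹ (inv_mem hgZ)
    (Cfsg.Agent.Lib.helper66.Fx_inv (ZR R) μ g hgZ hfx)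

/-- DH from the dichotomy and the exceptional case. -/
theorem MinTower.H_type_of (T : MinTower ρ K H S R p q s r)
    (hnab : ¬ ∀ x ∈ R, ∀ x' ∈ R, x * x' = x' * x) (μ : Γ → F) (w : W)
    (hw : WtV ρ ⊤ (ZR R) μ w) (hH : ∀ h ∈ H, Fx (ZR R) h μ)
    (hK : ∀ k ∈ K, k ≠ 1 → ¬ Fx (ZR R) k μ)
    (hdich : ∀ (x : Γ), x ∈ H → x ≠ 1 → ∀ M : Submodule F W,
      (∀ u ∈ R, ∀ w ∈ M, ρ u w ∈ M) → (∀ w ∈ M, ρ x w ∈ M) →
      (∀ u ∈ R, ∀ v ∈ R, ∃ c : F, ∀ w ∈ M, ρ ⁅u, v⁆ w = c • w) →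
      (∀ w ∈ M, ρ x w = w → w = 0) →
      (∀ u ∈ R, ∀ w ∈ M, ρ ⁅x, u⁆ w = w) ∨
      (r = 2 ∧ (∃ n : ℕ, q = 2 ^ n + 1) ∧
        Nat.card R = Nat.card {u : Γ // u ∈ R ∧ ∀ v ∈ R, ∀ w ∈ M, ρ ⁅⁅x, u⁆, v⁆ w = w} *
          (q - 1) ^ 2))
    (hexc : ∀ (h₀ : Γ), h₀ ∈ H → h₀ ≠ 1 → ∀ n : ℕ, r = 2 → q = 2 ^ n + 1 →
      Nat.card R = Nat.card {u : Γ // u ∈ R ∧ ∀ v ∈ R, μ ⁅⁅h₀, u⁆, v⁆ = 1} * (q - 1) ^ 2 →
      ∀ h ∈ H, ∀ y ∈ S, ∀ u ∈ R, ∀ v ∈ R, μ ⁅⁅⁅h, y⁆, u⁆, v⁆ = 1) :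
    ∀ h ∈ H, ∀ y ∈ S, ∀ u ∈ R, ∀ v ∈ R, μ ⁅⁅⁅h, y⁆, u⁆, v⁆ = 1 := by
  obtain ⟨hZS, hcl⟩ := T.center_R hnab
  have hF := T.toTower.frob
  obtain ⟨h₀, hh₀, hh₀1⟩ := Cfsg.Agent.Lib.helper18.pqa_exists_ne_one H q T.hq T.cardH
  have hHz : H = Subgroup.zpowers h₀ := hF.zpowers_H h₀ hh₀ hh₀1
  have hwM : w ∈ wtSp ρ (ZR R) μ := hw.2.2
  have hw0 : w ≠ 0 := hw.2.1
  have hcomZ : ∀ u ∈ R, ∀ v ∈ R, ⁅u, v⁆ ∈ ZR R := by
    intro u hu v hv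
    refine mem_ZR.mpr ⟨comm_mem_of_normalizer (Subgroup.le_normalizer hu) hv, ?_⟩
    intro x hx
    exact (hcl u hu v hv x hx).symm
  have hSZ : ∀ y ∈ S, ∀ z ∈ ZR R, y * z = z * y := by
    intro y hy z hz
    exact (hZS z (mem_ZR.mp hz).1).mpr (fun x' hx' => ((mem_ZR.mp hz).2 x' hx').symm) y hy
  have hRst : ∀ u ∈ R, u ∈ stabOn ρ R (wtSp ρ (ZR R) μ) := by
    intro u hu
    refine stabOn_of_fx ρ R μ u (Subgroup.le_normalizer hu) ?_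
    intro z hz
    have e : u⁻¹ * z * u = z := by
      rw [mul_assoc, ← (mem_ZR.mp hz).2 u hu, ← mul_assoc, inv_mul_cancel, one_mul]
    rw [e]
  have hSst : ∀ y ∈ S, y ∈ stabOn ρ R (wtSp ρ (ZR R) μ) := by
    intro y hy
    refine stabOn_of_fx ρ R μ y (T.SR hy) ?_
    intro z hz
    have e : y⁻¹ * z * y = z := by
      rw [mul_assoc, ← hSZ y hy z hz, ← mul_assoc, inv_mul_cancel, one_mul]
    rw [e]
  have hHst : ∀ h ∈ H, h ∈ stabOn ρ R (wtSp ρ (ZR R) μ) :=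
    fun h hh => stabOn_of_fx ρ R μ h (T.HR hh) (hH h hh)
  have hsc : ∀ u ∈ R, ∀ v ∈ R, ∃ c : F, ∀ w' ∈ wtSp ρ (ZR R) μ, ρ ⁅u, v⁆ w' = c • w' :=
    fun u hu v hv => ⟨μ ⁅u, v⁆, fun w' hw' => hw' _ (hcomZ u hu v hv)⟩
  have hfix : ∀ w' ∈ wtSp ρ (ZR R) μ, ρ h₀ w' = w' → w' = 0 := by
    intro w' hw' hfx
    by_contra hne
    have hWt : WtV ρ ⊤ (ZR R) μ w' := (wtV_iff ρ (ZR R) μ w').mpr ⟨hne, hw'⟩
    refine T.toTower.no_fix_H (ZR R) (fun k hk => c5_mem_normalizer_ZR (T.KR hk)) μ w' hWt hK ?_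
    intro h hh
    have h1 : Subgroup.zpowers h₀ ≤ fixG ρ w' := Subgroup.zpowers_le.mpr hfx
    rw [hHz] at hh
    exact h1 hh
  have one_of : ∀ z ∈ ZR R, ρ z w = w → μ z = 1 := by
    intro z hz h1
    have h2 := hwM z hz
    rw [h1] at h2
    by_contra hne
    have h3 : (μ z - 1) • w = 0 := by rw [sub_smul, one_smul, ← h2, sub_self]
    rcases smul_eq_zero.mp h3 with h4 | h4
    · exact hne (sub_eq_zero.mp h4)
    · exact hw0 h4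
  rcases hdich h₀ hh₀ hh₀1 (wtSp ρ (ZR R) μ) (fun u hu => (hRst u hu).2.1)
    (hHst h₀ hh₀).2.1 hsc hfix with hD1 | ⟨hr2, ⟨n, hn⟩, hcard⟩
  · have h0E : h₀ ∈ centOn ρ R (wtSp ρ (ZR R) μ) :=
      ⟨hHst h₀ hh₀, fun u hu => ⟨comm_mem_of_normalizer (T.HR hh₀) hu, hD1 u hu⟩⟩
    have hHE : ∀ h ∈ H, h ∈ centOn ρ R (wtSp ρ (ZR R) μ) := by
      intro h hh
      rw [hHz] at hh
      exact (Subgroup.zpowers_le.mpr h0E) hh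
    intro h hh y hy u hu v hv
    have hc : ⁅h, y⁆ ∈ centOn ρ R (wtSp ρ (ZR R) μ) := by
      have e : ⁅h, y⁆ = h * (y * h * y⁻¹)⁻¹ := by
        simp only [commutatorElement_def]
        group
      rw [e]
      exact Subgroup.mul_mem _ (hHE h hh)
        (Subgroup.inv_mem _ (centOn_conj ρ R _ y (hSst y hy) h (hHE h hh)))
    have ht : ⁅⁅h, y⁆, u⁆ ∈ kerOn ρ R (wtSp ρ (ZR R) μ) := hc.2 u hu
    have htv : ⁅⁅⁅h, y⁆, u⁆, v⁆ ∈ kerOn ρ R (wtSp ρ (ZR R) μ) := by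
      have e : ⁅⁅⁅h, y⁆, u⁆, v⁆ = ⁅⁅h, y⁆, u⁆ * (v * (⁅⁅h, y⁆, u⁆)⁻¹ * v⁻¹) := by
        simp only [commutatorElement_def]
        group
      rw [e]
      exact Subgroup.mul_mem _ ht (kerOn_conj ρ R _ v (hRst v hv) _ (Subgroup.inv_mem _ ht))
    exact one_of _ (hcomZ _ ht.1 v hv) (htv.2 w hwM)
  · refine hexc h₀ hh₀ hh₀1 n hr2 hn ?_
    rw [hcard]
    congr 1
    apply Nat.card_congr
    apply Equiv.subtypeEquivRight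
    intro u
    constructor
    · rintro ⟨hu, h1⟩
      refine ⟨hu, fun v hv => ?_⟩
      exact one_of _ (hcomZ _ (comm_mem_of_normalizer (T.HR hh₀) hu) v hv) (h1 v hv w hwM)
    · rintro ⟨hu, h1⟩
      refine ⟨hu, fun v hv w' hw' => ?_⟩
      rw [hw' _ (hcomZ _ (comm_mem_of_normalizer (T.HR hh₀) hu) v hv), h1 v hv, one_smul]

end Cfsg.Agent.Lib.helper75.PQ
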