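import Mathlib
import Cfsg.Agent.Lib.helper75.PQ_DH
import Cfsg.Agent.Lib.helper47.PQ_D

/-!
# Piece DH from the exceptional case alone (the dichotomy plugged in)
-/

set_option autoImplicit false

namespace Cfsg.Agent.Lib.helper75.PQ

open Cfsg.Agent.Lib.helper66 (WtV Fx cw)
open scoped commutatorElement

variable {Γ : Type*} [Group Γ] [Finite Γ] {F : Type*} [Field F] [IsAlgClosed F]
  {W : Type*} [AddCommGroup W] [Module F W] [FiniteDimensional F W]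
  {ρ : Γ →* Module.End F W} {K H S R : Subgroup Γ} {p q s r : ℕ}

/-- DH from the exceptional case. -/
theorem MinTower.H_type_of_exc (T : MinTower ρ K H S R p q s r)
    (hnab : ¬ ∀ x ∈ R, ∀ x' ∈ R, x * x' = x' * x) (μ : Γ → F) (w : W)
    (hw : WtV ρ ⊤ (ZR R) μ w) (hH : ∀ h ∈ H, Fx (ZR R) h μ)
    (hK : ∀ k ∈ K, k ≠ 1 → ¬ Fx (ZR R) k μ)
    (hexc : ∀ (h₀ : Γ), h₀ ∈ H → h₀ ≠ 1 → ∀ n : ℕ, r = 2 → q = 2 ^ n + 1 →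
      Nat.card R = Nat.card {u : Γ // u ∈ R ∧ ∀ v ∈ R, μ ⁅⁅h₀, u⁆, v⁆ = 1} * (q - 1) ^ 2 →
      ∀ h ∈ H, ∀ y ∈ S, ∀ u ∈ R, ∀ v ∈ R, μ ⁅⁅⁅h, y⁆, u⁆, v⁆ = 1) :
    ∀ h ∈ H, ∀ y ∈ S, ∀ u ∈ R, ∀ v ∈ R, μ ⁅⁅⁅h, y⁆, u⁆, v⁆ = 1 := by
  refine T.H_type_of hnab μ w hw hH hK ?_ hexc
  intro x hx _ M hMR hMx hsc hfix
  exact dich ρ R r T.hr T.Rgrp T.rF (T.center_R hnab).2 x q T.hq T.hrq.symm T.qF
    (Cfsg.Agent.Lib.helper18.pqa_pow_card H q T.cardH x hx) (T.HR hx) M hMR hMx hsc hfix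

end Cfsg.Agent.Lib.helper75.PQ
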