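import Mathlib
import Cfsg.Agent.Lib.helper75.PQ_DH2
import Cfsg.Agent.Lib.helper72.PQ_DHEXC

/-!
# Piece DH (final): for a weight of `H`-type, `[S, H]` centralizes `R` modulo the radical
-/

set_option autoImplicit false

namespace Cfsg.Agent.Lib.helper75.PQ

open Cfsg.Agent.Lib.helper66 (WtV Fx cw)
open scoped commutatorElement

variable {Γ : Type*} [Group Γ] [Finite Γ] {F : Type*} [Field F] [IsAlgClosed F]
  {W : Type*} [AddCommGroup W] [Module F W] [FiniteDimensional F W]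
  {ρ : Γ →* Module.End F W} {K H S R : Subgroup Γ} {p q s r : ℕ}

/-- DH: for a weight of `H`-type, `[S, H]` centralizes `R` modulo the radical of the weight. -/
theorem MinTower.H_type (T : MinTower ρ K H S R p q s r)
    (hnab : ¬ ∀ x ∈ R, ∀ x' ∈ R, x * x' = x' * x) (μ : Γ → F) (w : W)
    (hw : WtV ρ ⊤ (ZR R) μ w) (hH : ∀ h ∈ H, Fx (ZR R) h μ)
    (hK : ∀ k ∈ K, k ≠ 1 → ¬ Fx (ZR R) k μ) :
    ∀ h ∈ H, ∀ y ∈ S, ∀ u ∈ R, ∀ v ∈ R, μ ⁅⁅⁅h, y⁆, u⁆, v⁆ = 1 :=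
  T.H_type_of_exc hnab μ w hw hH hK
    (fun h₀ hh₀ hh₀1 n hr2 hqn hcard =>
      T.H_type_exc hnab μ w hw hH h₀ hh₀ hh₀1 n hr2 hqn hcard)

end Cfsg.Agent.Lib.helper75.PQ
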