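import Mathlib

/-!
# The arithmetic of the exceptional case
-/

set_option autoImplicit false

namespace Cfsg.Agent.Lib.helper75.PQ

/-- The arithmetic of the exceptional case: `a = |R₁|`, `b = |C₁|`, `c = |Rad₁|`. -/
theorem exc_arith (n q a b c m : ℕ) (hq : q = 2 ^ n + 1) (ha : ∃ i, a = 2 ^ i)
    (hb : ∃ i, b = 2 ^ i) (hc : ∃ i, c = 2 ^ i) (hcb : c ∣ b) (hba : b ∣ a)
    (hfree : a * c ^ (q - 1) = b ^ q) (hsq : a = m ^ 2 * c) (hle : a ≤ b * (q - 1) ^ 2) :
    a = c := by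
  obtain ⟨α, rfl⟩ := ha
  obtain ⟨β, rfl⟩ := hb
  obtain ⟨γ, rfl⟩ := hc
  have h2 : 1 < 2 := by norm_num
  have hγβ : γ ≤ β := (Nat.pow_dvd_pow_iff_le_right h2).mp hcb
  have hβα : β ≤ α := (Nat.pow_dvd_pow_iff_le_right h2).mp hba
  subst hq
  have hq1 : 2 ^ n + 1 - 1 = 2 ^ n := Nat.add_sub_cancel (2 ^ n) 1
  rw [hq1] at hfree hle
  -- the exponent identity from freeness
  have e1 : α + γ * 2 ^ n = β * (2 ^ n + 1) := by
    have h3 : (2 : ℕ) ^ (α + γ * 2 ^ n) = 2 ^ (β * (2 ^ n + 1)) := by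
      rw [pow_add, pow_mul, pow_mul]
      exact hfree
    exact Nat.pow_right_injective (le_refl 2) h3
  -- the exponent bound
  have e2 : α ≤ β + 2 * n := by
    have h3 : (2 : ℕ) ^ α ≤ 2 ^ (β + 2 * n) := by
      rw [pow_add, show 2 * n = n * 2 from mul_comm 2 n, pow_mul]
      exact hle
    exact (Nat.pow_le_pow_iff_right h2).mp h3
  -- `m` is a power of two and `α - γ` is even
  have e3 : ∃ μ, α = γ + 2 * μ := by
    have h3 : m ^ 2 = 2 ^ (α - γ) := by
      have h4 : (2 : ℕ) ^ α = 2 ^ (α - γ) * 2 ^ γ := by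
        rw [← pow_add]
        congr 1
        omega
      have h5 : m ^ 2 * 2 ^ γ = 2 ^ (α - γ) * 2 ^ γ := by rw [← hsq, h4]
      exact Nat.eq_of_mul_eq_mul_right (by positivity) h5
    have h6 : m ∣ 2 ^ (α - γ) := by
      rw [← h3]
      exact dvd_pow_self m (by norm_num)
    obtain ⟨μ, -, rfl⟩ := (Nat.dvd_prime_pow Nat.prime_two).mp h6
    rw [← pow_mul] at h3
    have h7 := Nat.pow_right_injective (le_refl 2) h3
    exact ⟨μ, by omega⟩
  obtain ⟨μ, hμ⟩ := e3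
  -- write `j = β - γ`
  obtain ⟨j, hj⟩ : ∃ j, β = γ + j := ⟨β - γ, by omega⟩
  have e4 : α = β + j * 2 ^ n := by
    rw [hj] at e1 ⊢
    have : (γ + j) * (2 ^ n + 1) = γ * 2 ^ n + γ + j * 2 ^ n + j := by ring
    omega
  have e5 : j * 2 ^ n ≤ 2 * n := by omega
  have hn : n < 2 ^ n := Nat.lt_two_pow_self
  have hj0 : j = 0 := by
    rcases Nat.eq_zero_or_pos n with h0 | hpos
    · subst h0
      simp only [pow_zero, mul_one, mul_zero] at e5
      omega
    · -- `j` is even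
      obtain ⟨k, hk⟩ : ∃ k, 2 ^ n = 2 * k := ⟨2 ^ (n - 1), by
        rw [← pow_succ']
        congr 1
        omega⟩
      have e6 : j * 2 ^ n = 2 * (j * k) := by rw [hk]; ring
      have hjeven : ∃ t, j = 2 * t := ⟨μ - j * k, by omega⟩
      obtain ⟨t, rfl⟩ := hjeven
      by_contra hne
      have ht : 1 ≤ t := by omega
      have h8 : 2 * 2 ^ n ≤ 2 * t * 2 ^ n := by
        have := Nat.mul_le_mul_right (2 ^ n) ht
        nlinarith
      omega
  subst hj0
  have : α = γ := by omega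
  rw [this]

end Cfsg.Agent.Lib.helper75.PQ
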