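import Mathlib
import Cfsg.Agent.Lib.helper75.PQ_DH3
import Cfsg.Agent.Lib.helper36.PQ_DK
import Cfsg.Agent.Lib.helper36.PQ_IIbcore
import Cfsg.Agent.Lib.helper53.PQ_IIaCore
import Cfsg.Agent.Lib.helper17.PQ_PRE
import Cfsg.Agent.Lib.helper50.PQ_C4
import Cfsg.Agent.Lib.helper50.PQ_C5
import Cfsg.Agent.Lib.helper46.PQ_C238
import Cfsg.Agent.Lib.helper83.PQ_C9
import Cfsg.Agent.Lib.helper82.PQ_B7
import Cfsg.Agent.Lib.helper39.PQ_Ia
import Cfsg.Agent.Lib.helper39.PQ_Ib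

/-!
# S4306: the four cases and the nonexistence of a minimal tower
-/

set_option autoImplicit false

namespace Cfsg.Agent.Lib.helper75.PQ

open Cfsg.Agent.Lib.helper66 (WtV Fx cw)
open scoped commutatorElement

variable {Γ : Type*} [Group Γ] [Finite Γ] {F : Type*} [Field F] [IsAlgClosed F]
  {W : Type*} [AddCommGroup W] [Module F W] [FiniteDimensional F W]
  {ρ : Γ →* Module.End F W} {K H S R : Subgroup Γ} {p q s r : ℕ}

/-- IIa -/
theorem MinTower.nonabelian_caseA (T : MinTower ρ K H S R p q s r)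
    (hnab : ¬ ∀ x ∈ R, ∀ x' ∈ R, x * x' = x' * x) (hA : CaseA K S R) : False :=
  Cfsg.Agent.Lib.helper53.PQ.nonabelian_caseA_core T hnab hA
    (fun μ w hw hK hH => T.K_type hnab μ w hw hK hH)
    (fun μ w hw hH hK => T.H_type hnab μ w hw hH hK)

/-- IIb -/
theorem MinTower.nonabelian_caseB (T : MinTower ρ K H S R p q s r)
    (hnab : ¬ ∀ x ∈ R, ∀ x' ∈ R, x * x' = x' * x) (hB : ¬ CaseA K S R) : False := by
  have hZab : ∀ b ∈ ZR R, ∀ b' ∈ ZR R, b * b' = b' * b := by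
    intro b hb b' hb'
    exact (mem_ZR.mp hb').2 b (mem_ZR.mp hb).1
  have hZR : ZR R ≤ R := fun z hz => (mem_ZR.mp hz).1
  refine Cfsg.Agent.Lib.helper36.PQ.IIb_core T (T.center_R hnab).1 (T.center_R hnab).2
    (T.good_weight hnab)
    (fun μ w hw hK hH => T.K_type hnab μ w hw hK hH)
    (fun μ w hw hH hK => T.H_type hnab μ w hw hH hK)
    (T.caseB_fpf hB) T.comm_RS
    (fun k hk hk1 D hC h1 h2 => T.gen_two k hk hk1 D hC h1 h2)
    (fun μ w hw hH b hb hb1 => T.toTower.norm_orbit (ZR R) hZR hZab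
      (Cfsg.Agent.Lib.helper36.PQ.dk_le_norm_ZR K R T.KR)
      (Cfsg.Agent.Lib.helper36.PQ.dk_le_norm_ZR H R T.HR) μ w hw hH b hb hb1)

/-- There is no minimal tower. -/
theorem no_min_tower (T : MinTower ρ K H S R p q s r) : False := by
  by_cases hab : ∀ x ∈ R, ∀ x' ∈ R, x * x' = x' * x
  · by_cases hA : CaseA K S R
    · exact T.abelian_caseA hab hA
    · exact T.abelian_caseB hab hA
  · by_cases hA : CaseA K S R
    · exact T.nonabelian_caseA hab hA
    · exact T.nonabelian_caseB hab hA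

end Cfsg.Agent.Lib.helper75.PQ
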