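import Mathlib
import Cfsg.Agent.Lib.helper74.QODefs

/-!
# S1935 split project, piece D: `exists_bad_conj`
-/

set_option autoImplicit false

namespace Cfsg.Agent.Lib.helper75.QO

open Cfsg.Agent.Lib.helper74.QO

/-- The conjugates of the elements of `A` by the elements of `S`. -/
def h75_conjGen {Γ : Type*} [Group Γ] (A : Subgroup Γ) (S : Set Γ) : Set Γ :=
  {x | ∃ g ∈ S, ∃ a ∈ A, x = g * a * g⁻¹}

/-- PIECE D -/
theorem exists_bad_conj {Γ : Type*} [Group Γ] (p : ℕ) [Fact p.Prime] (G : Subgroup Γ)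
    [Finite G] (hG : IsPGroup p G) (A : Subgroup Γ) (hAG : A ≤ G)
    (hnot : ¬ ∀ g ∈ G, ∀ a ∈ A, g * a * g⁻¹ ∈ Subgroup.normalizer (A : Set Γ)) :
    ∃ x ∈ G, (∃ g ∈ G, ∃ a ∈ A, x = g * a * g⁻¹) ∧ x ∉ Subgroup.normalizer (A : Set Γ) ∧
      ∀ s : ℤ, ∀ b ∈ A, x ^ s * b * x ^ (-s) ∈ Subgroup.normalizer (A : Set Γ) := by
  classical
  have hgenG : ∀ S : Set Γ, S ⊆ (G : Set Γ) → Subgroup.closure (h75_conjGen A S) ≤ G := by
    intro S hS
    rw [Subgroup.closure_le]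
    rintro x ⟨g, hg, a, ha, rfl⟩
    exact G.mul_mem (G.mul_mem (hS hg) (hAG ha)) (G.inv_mem (hS hg))
  have hAgen : ∀ S : Set Γ, (1 : Γ) ∈ S → A ≤ Subgroup.closure (h75_conjGen A S) := by
    intro S h1 a ha
    exact Subgroup.subset_closure ⟨1, h1, a, ha, by simp⟩
  have hex : ∃ m : ℕ, ∃ H : Subgroup Γ, (H ≤ G ∧ A ≤ H ∧
      (∃ S : Set Γ, S ⊆ (G : Set Γ) ∧ H = Subgroup.closure (h75_conjGen A S)) ∧
      ¬ H ≤ Subgroup.normalizer (A : Set Γ)) ∧ Nat.card H = m := by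
    refine ⟨_, Subgroup.closure (h75_conjGen A (G : Set Γ)),
      ⟨hgenG _ subset_rfl, hAgen _ G.one_mem, ⟨_, subset_rfl, rfl⟩, ?_⟩, rfl⟩
    intro hle
    apply hnot
    intro g hg a ha
    exact hle (Subgroup.subset_closure ⟨g, hg, a, ha, rfl⟩)
  obtain ⟨H, ⟨hHG, hAH, ⟨S, hSG, hHS⟩, hHN⟩, hHm⟩ := Nat.find_spec hex
  have hmin : ∀ H' : Subgroup Γ, H' ≤ G → A ≤ H' →
      (∃ S : Set Γ, S ⊆ (G : Set Γ) ∧ H' = Subgroup.closure (h75_conjGen A S)) →
      ¬ H' ≤ Subgroup.normalizer (A : Set Γ) → Nat.card H ≤ Nat.card H' := by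
    intro H' h1 h2 h3 h4
    rw [hHm]
    exact Nat.find_min' hex ⟨H', ⟨h1, h2, h3, h4⟩, rfl⟩
  haveI : Finite H :=
    Finite.of_injective (Subgroup.inclusion hHG) (Subgroup.inclusion_injective hHG)
  have hKH : Subgroup.closure (h75_conjGen A (H : Set Γ)) ≤ H := by
    rw [Subgroup.closure_le]
    rintro x ⟨h, hh, a, ha, rfl⟩
    exact H.mul_mem (H.mul_mem hh (hAH ha)) (H.inv_mem hh)
  have hAK : A ≤ Subgroup.closure (h75_conjGen A (H : Set Γ)) := hAgen _ H.one_mem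
  have hKne : Subgroup.closure (h75_conjGen A (H : Set Γ)) ≠ H := by
    intro hKeq
    have hAne : A ≠ H := by
      intro h
      apply hHN
      rw [← h]
      exact Subgroup.le_normalizer
    have hHp : IsPGroup p H := hG.to_le hHG
    haveI : Group.IsNilpotent H := hHp.isNilpotent
    have hnc : NormalizerCondition H := Group.normalizerCondition_of_isNilpotent
    have hA' : A.subgroupOf H ≠ ⊤ := by
      intro h
      rw [Subgroup.subgroupOf_eq_top] at h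
      exact hAne (le_antisymm hAH h)
    obtain ⟨M, hM, hAM⟩ := (eq_top_or_exists_le_coatom (A.subgroupOf H)).resolve_left hA'
    haveI hMn : M.Normal := Subgroup.NormalizerCondition.normal_of_coatom M hnc hM
    have hKM : Subgroup.closure (h75_conjGen A (H : Set Γ)) ≤ M.map H.subtype := by
      rw [Subgroup.closure_le]
      rintro x ⟨h, hh, a, ha, rfl⟩
      refine ⟨⟨h, hh⟩ * ⟨a, hAH ha⟩ * ⟨h, hh⟩⁻¹, ?_, rfl⟩
      exact hMn.conj_mem _ (hAM (Subgroup.mem_subgroupOf.mpr ha)) _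
    have hMtop : M = ⊤ := by
      rw [eq_top_iff]
      intro y _
      have hy : (y : Γ) ∈ M.map H.subtype := hKM (by rw [hKeq]; exact y.2)
      obtain ⟨z, hz, hzy⟩ := hy
      have hzy' : z = y := Subtype.ext hzy
      rwa [← hzy']
    exact hM.1 hMtop
  have hKcard : Nat.card (Subgroup.closure (h75_conjGen A (H : Set Γ))) < Nat.card H := by
    by_contra h
    exact hKne (Subgroup.eq_of_le_of_card_ge hKH (not_lt.mp h))
  have hKN : Subgroup.closure (h75_conjGen A (H : Set Γ)) ≤ Subgroup.normalizer (A : Set Γ) := by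
    by_contra hKN
    exact absurd (hmin _ (hKH.trans hHG) hAK ⟨(H : Set Γ), hHG, rfl⟩ hKN) (not_le.mpr hKcard)
  obtain ⟨x, ⟨g, hg, a, ha, rfl⟩, hxN⟩ :
      ∃ x ∈ h75_conjGen A S, x ∉ Subgroup.normalizer (A : Set Γ) := by
    by_contra hcon
    apply hHN
    rw [hHS, Subgroup.closure_le]
    intro x hx
    by_contra hx'
    exact hcon ⟨x, hx, hx'⟩
  have hxH : g * a * g⁻¹ ∈ H := by
    rw [hHS]
    exact Subgroup.subset_closure ⟨g, hg, a, ha, rfl⟩
  refine ⟨g * a * g⁻¹, hHG hxH, ⟨g, hSG hg, a, ha, rfl⟩, hxN, ?_⟩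
  intro s b hb
  apply hKN
  apply Subgroup.subset_closure
  refine ⟨(g * a * g⁻¹) ^ s, H.zpow_mem hxH s, b, hb, ?_⟩
  rw [zpow_neg]

end Cfsg.Agent.Lib.helper75.QO
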