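import Mathlib

set_option autoImplicit false

namespace Cfsg.Agent.Lib.helper75

section S2Num

/-- If `q` is an odd prime and `q ^ b + 1` is a power of two, then `b ≤ 1`. -/
theorem s2_nt (q b m : ℕ) (hq : q.Prime) (hq2 : q ≠ 2) (h : q ^ b + 1 = 2 ^ m) :
    b = 0 ∨ b = 1 := by
  have hqodd : q % 2 = 1 := hq.eq_two_or_odd.resolve_left hq2
  have hq3 : 3 ≤ q := by
    have := hq.two_le
    omega
  rcases Nat.even_or_odd' b with ⟨c, rfl | rfl⟩
  · left
    by_contra hc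
    have hc1 : 1 ≤ c := by omega
    have hq4 : q ^ 2 % 4 = 1 := by
      have h1 : q % 4 = 1 ∨ q % 4 = 3 := by omega
      rcases h1 with h1 | h1 <;> simp [pow_two, Nat.mul_mod, h1]
    have h4 : q ^ (2 * c) % 4 = 1 := by
      rw [pow_mul, Nat.pow_mod, hq4]
      simp
    have hm : 2 ^ m % 4 = 2 := by
      rw [← h]
      omega
    have hm1 : m = 1 := by
      rcases m with _ | _ | m
      · simp at hm
      · rfl
      · exfalso
        rw [pow_succ, pow_succ] at hm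
        omega
    rw [hm1] at h
    have h5 : 2 ^ (2 * c) ≤ q ^ (2 * c) := Nat.pow_le_pow_left hq.two_le _
    have h6 : 2 ^ 2 ≤ 2 ^ (2 * c) := Nat.pow_le_pow_right (by norm_num) (by omega)
    omega
  · right
    have hdvd : q + 1 ∣ q ^ (2 * c + 1) + 1 := by
      have h1 := Odd.nat_add_dvd_pow_add_pow q 1 (⟨c, rfl⟩ : Odd (2 * c + 1))
      simpa using h1
    rw [h] at hdvd
    obtain ⟨k, hkm, hk⟩ := (Nat.dvd_prime_pow Nat.prime_two).mp hdvd
    obtain ⟨e, he⟩ : ∃ e, q = 2 * e + 1 := ⟨q / 2, by omega⟩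
    have hsq : q ^ 2 = 1 + e * 2 ^ (k + 1) := by
      have h1 : 2 ^ k = 2 * e + 2 := by omega
      rw [pow_succ 2 k, h1, he]
      ring
    have h1 : q ^ 2 ≡ 1 [MOD 2 ^ (k + 1)] := by
      rw [hsq]
      exact ((Nat.modEq_iff_dvd' (Nat.le_add_right 1 _)).mpr ⟨e, by
        rw [Nat.add_sub_cancel_left]
        ring⟩).symm
    have h2 : q ^ (2 * c + 1) ≡ q [MOD 2 ^ (k + 1)] := by
      have h3 : (q ^ 2) ^ c * q ≡ 1 ^ c * q [MOD 2 ^ (k + 1)] := (h1.pow c).mul_right q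
      rw [one_pow, one_mul, ← pow_mul] at h3
      exact h3
    have h3 : 2 ^ m ≡ 2 ^ k [MOD 2 ^ (k + 1)] := by
      rw [← h, ← hk]
      exact h2.add_right 1
    have hmk : m = k := by
      by_contra hne
      have hlt : k + 1 ≤ m := by omega
      have h4 : 2 ^ (k + 1) ∣ 2 ^ m := pow_dvd_pow 2 hlt
      have h5 : 2 ^ m % 2 ^ (k + 1) = 0 := Nat.mod_eq_zero_of_dvd h4
      have h6 : 2 ^ k % 2 ^ (k + 1) = 2 ^ k :=
        Nat.mod_eq_of_lt (Nat.pow_lt_pow_right (by norm_num) (by omega))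
      have h7 : 2 ^ m % 2 ^ (k + 1) = 2 ^ k % 2 ^ (k + 1) := h3
      have h8 : 0 < 2 ^ k := pow_pos (by norm_num) k
      omega
    rw [hmk, ← hk] at h
    have h9 : q ^ (2 * c + 1) = q ^ 1 := by
      rw [pow_one]
      omega
    have h10 := Nat.pow_right_injective hq.two_le h9
    omega

/-- An odd prime `q` with `q + 1 = 2 ^ m` and `q ≥ 3` is `3` mod `4`. -/
theorem s2_mod_four (q m : ℕ) (hq3 : 3 ≤ q) (h : q + 1 = 2 ^ m) : q % 4 = 3 := by
  have hm : 2 ≤ m := by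
    by_contra hcon
    have h1 : m = 0 ∨ m = 1 := by omega
    rcases h1 with rfl | rfl <;> simp at h <;> omega
  obtain ⟨j, rfl⟩ : ∃ j, m = j + 2 := ⟨m - 2, by omega⟩
  rw [pow_add] at h
  omega

/-- In a group, an element of odd order whose square lies in a subgroup lies in it. -/
theorem s2_mem_of_sq_mem {G : Type*} [Group G] (L : Subgroup G) (u : G) (hodd : Odd (orderOf u))
    (h : u ^ 2 ∈ L) : u ∈ L := by
  obtain ⟨k, hk⟩ := hodd
  have h1 : u = (u ^ 2) ^ (k + 1) := by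
    rw [← pow_mul]
    have e : 2 * (k + 1) = orderOf u + 1 := by omega
    rw [e, pow_succ, pow_orderOf_eq_one, one_mul]
  rw [h1]
  exact Subgroup.pow_mem L h _

end S2Num

end Cfsg.Agent.Lib.helper75
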