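import Mathlib
import Cfsg.Agent.Lib.helper66.ExtraRepA
import Cfsg.Agent.Lib.helper66.ExtraRepC
import Cfsg.Agent.Lib.helper1.ThompsonFpf
import Cfsg.Agent.Lib.helper75.HHDeg
import Cfsg.Agent.Lib.helper75.HHStar
import Cfsg.Agent.Lib.helper75.SGAut
import Cfsg.Agent.Lib.helper75.SGBlock
import Cfsg.Agent.Lib.helper75.SGIrr
import Cfsg.Agent.Lib.helper75.SGFinal
import Cfsg.Agent.Lib.helper75.SGCore
import Cfsg.Agent.Lib.helper75.S2Num

set_option autoImplicit false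

namespace Cfsg.Agent.Lib.helper75

open Module Cfsg.Agent.Lib.helper66 Cfsg.Agent.Lib.helper1

universe u v w

section S2Grp

/-- If all `ρ (h * τ h)` are central in the image, then commutators are central in the image. -/
theorem s2_comm_central {H Γ : Type*} [Group H] [Group Γ] (ρ : H →* Γ) (τ : MulAut H)
    (hT : ∀ h k, ρ (h * τ h) * ρ k = ρ k * ρ (h * τ h)) (u v k : H) :
    ρ (u * v * u⁻¹ * v⁻¹) * ρ k = ρ k * ρ (u * v * u⁻¹ * v⁻¹) := by
  have hz1 : Commute (ρ (u * v * τ (u * v))) (ρ k) := hT (u * v) k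
  have hz2 : Commute (ρ (u * τ u)) (ρ k) := hT u k
  have hz3 : Commute (ρ (v * τ v)) (ρ k) := hT v k
  have c2 : ρ (u * τ u) * (ρ v)⁻¹ = (ρ v)⁻¹ * ρ (u * τ u) := by
    have h := hT u v⁻¹
    rwa [map_inv] at h
  obtain ⟨z₁, hz₁⟩ : ∃ z, z = ρ (u * v * τ (u * v)) := ⟨_, rfl⟩
  obtain ⟨z₂, hz₂⟩ : ∃ z, z = ρ (u * τ u) := ⟨_, rfl⟩
  obtain ⟨z₃, hz₃⟩ : ∃ z, z = ρ (v * τ v) := ⟨_, rfl⟩
  rw [← hz₁] at hz1
  rw [← hz₂] at hz2 c2
  rw [← hz₃] at hz3
  have h2 : ρ (τ u) = (ρ u)⁻¹ * z₂ := by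
    rw [hz₂, map_mul]
    group
  have h3 : ρ (τ v) = (ρ v)⁻¹ * z₃ := by
    rw [hz₃, map_mul]
    group
  have e1 : z₁ = ρ u * ρ v * (ρ u)⁻¹ * (ρ v)⁻¹ * (z₂ * z₃) := by
    calc z₁ = ρ u * ρ v * (ρ (τ u) * ρ (τ v)) := by
          rw [hz₁, map_mul ρ (u * v), map_mul τ, map_mul ρ (τ u), map_mul ρ u]
      _ = ρ u * ρ v * (ρ u)⁻¹ * (z₂ * (ρ v)⁻¹) * z₃ := by
          rw [h2, h3]
          group
      _ = ρ u * ρ v * (ρ u)⁻¹ * ((ρ v)⁻¹ * z₂) * z₃ := by rw [c2]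
      _ = ρ u * ρ v * (ρ u)⁻¹ * (ρ v)⁻¹ * (z₂ * z₃) := by group
  have ec : ρ (u * v * u⁻¹ * v⁻¹) = z₁ * (z₂ * z₃)⁻¹ := by
    rw [e1]
    simp only [map_mul, map_inv]
    group
  rw [ec]
  exact (hz1.mul_left ((hz2.mul_left hz3).inv_left)).eq

theorem s2_comm_mul_central {Γ : Type*} [Group Γ] (a b z₂ z₃ : Γ) (h1 : z₂ * b = b * z₂)
    (h2 : z₂ * z₃ = z₃ * z₂) (h3 : z₃ * a⁻¹ = a⁻¹ * z₃) :
    (a * z₂) * (b * z₃) * (a * z₂)⁻¹ * (b * z₃)⁻¹ = a * b * a⁻¹ * b⁻¹ := by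
  have e1 : (a * z₂) * (b * z₃) * (a * z₂)⁻¹ * (b * z₃)⁻¹
      = a * (z₂ * b) * (z₃ * z₂⁻¹) * a⁻¹ * z₃⁻¹ * b⁻¹ := by group
  rw [e1, h1]
  have e2 : z₃ * z₂⁻¹ = z₂⁻¹ * z₃ := by
    calc z₃ * z₂⁻¹ = z₂⁻¹ * (z₂ * z₃) * z₂⁻¹ := by group
      _ = z₂⁻¹ * (z₃ * z₂) * z₂⁻¹ := by rw [h2]
      _ = z₂⁻¹ * z₃ := by group
  rw [e2]
  have e3 : a * (b * z₂) * (z₂⁻¹ * z₃) * a⁻¹ * z₃⁻¹ * b⁻¹ = a * b * (z₃ * a⁻¹) * z₃⁻¹ * b⁻¹ := by
    group
  rw [e3, h3]
  group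

/-- In the same situation, `τ` fixes commutators modulo the kernel. -/
theorem s2_tau_comm_central {H Γ : Type*} [Group H] [Group Γ] (ρ : H →* Γ) (τ : MulAut H)
    (hT : ∀ h k, ρ (h * τ h) * ρ k = ρ k * ρ (h * τ h)) (u v : H) :
    ρ (τ (u * v * u⁻¹ * v⁻¹)) = ρ (u * v * u⁻¹ * v⁻¹) := by
  have h2 : ρ (τ u) = (ρ u)⁻¹ * ρ (u * τ u) := by
    rw [map_mul]
    group
  have h3 : ρ (τ v) = (ρ v)⁻¹ * ρ (v * τ v) := by
    rw [map_mul]
    group
  have c1 : ρ (u * τ u) * (ρ v)⁻¹ = (ρ v)⁻¹ * ρ (u * τ u) := by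
    have h := hT u v⁻¹
    rwa [map_inv] at h
  have c2 : ρ (u * τ u) * ρ (v * τ v) = ρ (v * τ v) * ρ (u * τ u) := hT u (v * τ v)
  have c3 : ρ (v * τ v) * (ρ u)⁻¹⁻¹ = (ρ u)⁻¹⁻¹ * ρ (v * τ v) := by
    rw [inv_inv]
    exact hT v u
  have e1 : ρ (τ (u * v * u⁻¹ * v⁻¹)) = (ρ u)⁻¹ * (ρ v)⁻¹ * (ρ u)⁻¹⁻¹ * (ρ v)⁻¹⁻¹ := by
    rw [map_mul τ, map_mul τ, map_mul τ, map_inv τ, map_inv τ, map_mul ρ, map_mul ρ, map_mul ρ,
      map_inv ρ, map_inv ρ, h2, h3]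
    exact s2_comm_mul_central _ _ _ _ c1 c2 c3
  have hcA : Commute (ρ (u * v * u⁻¹ * v⁻¹)) (ρ u) := s2_comm_central ρ τ hT u v u
  have hcB : Commute (ρ (u * v * u⁻¹ * v⁻¹)) (ρ v) := s2_comm_central ρ τ hT u v v
  have hc : ρ (u * v * u⁻¹ * v⁻¹) = ρ u * ρ v * (ρ u)⁻¹ * (ρ v)⁻¹ := by
    simp only [map_mul, map_inv]
  have e2 : ρ u * ρ v = ρ (u * v * u⁻¹ * v⁻¹) * (ρ v * ρ u) := by
    rw [hc]
    group
  rw [e1, inv_inv, inv_inv]
  calc (ρ u)⁻¹ * (ρ v)⁻¹ * ρ u * ρ v = (ρ u)⁻¹ * (ρ v)⁻¹ * (ρ u * ρ v) := by group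
    _ = (ρ u)⁻¹ * (ρ v)⁻¹ * (ρ (u * v * u⁻¹ * v⁻¹) * (ρ v * ρ u)) := by rw [← e2]
    _ = ρ (u * v * u⁻¹ * v⁻¹) * ((ρ u)⁻¹ * (ρ v)⁻¹ * (ρ v * ρ u)) := by
        have h5 : Commute ((ρ u)⁻¹ * (ρ v)⁻¹) (ρ (u * v * u⁻¹ * v⁻¹)) :=
          (hcA.symm.inv_left).mul_left (hcB.symm.inv_left)
        rw [← mul_assoc, h5.eq, mul_assoc]
    _ = ρ (u * v * u⁻¹ * v⁻¹) := by group

end S2Grp

section S2Mod

variable {K : Type*} [Field K] {W : Type*} [AddCommGroup W] [Module K W] {H : Type*} [Group H]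

theorem sg_quot_congr (R : H →* Module.End K W) (U : Submodule K W)
    (hU : ∀ h, ∀ w ∈ U, R h w ∈ U) {x y : H} (h : R x = R y) :
    sgQuot R U hU x = sgQuot R U hU y := by
  apply LinearMap.ext
  intro z
  obtain ⟨w, rfl⟩ := Submodule.Quotient.mk_surjective U z
  rw [sgQuot_mk, sgQuot_mk, h]

/-- The standing hypotheses on a module for the `p = 2` theory. -/
structure S2Good (n : ℕ) (α : MulAut H) (R : H →* Module.End K W) (X : Module.End K W) :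
    Prop where
  hXP : X ^ (2 ^ n) = 1
  hXR : ∀ h, X * R h = R (α h) * X
  hfix : ∀ w, X w = w → w = 0
  hT : ∀ h k, R (h * (α ^ (2 ^ (n - 1))) h) * R k = R k * R (h * (α ^ (2 ^ (n - 1))) h)

variable {n : ℕ} {α : MulAut H} {R : H →* Module.End K W} {X : Module.End K W}

theorem S2Good.sub (hg : S2Good n α R X) (U : Submodule K W) (hUR : ∀ h, ∀ w ∈ U, R h w ∈ U)
    (hUX : ∀ w ∈ U, X w ∈ U) : S2Good n α (sgRes R U hUR) (X.restrict hUX : Module.End K U) := by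
  refine ⟨?_, ?_, ?_, ?_⟩
  · apply LinearMap.ext
    intro y
    apply Subtype.ext
    rw [sg_restrict_pow_apply, hg.hXP]
    rfl
  · intro h
    apply LinearMap.ext
    intro y
    apply Subtype.ext
    exact congrArg (fun F : Module.End K W => F (y : W)) (hg.hXR h)
  · intro y hy
    exact Subtype.ext (hg.hfix y (congrArg Subtype.val hy))
  · intro h k
    rw [← map_mul, ← map_mul]
    apply sg_res_congr
    exact (map_mul R _ k).trans ((hg.hT h k).trans (map_mul R k _).symm)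

theorem S2Good.quot (hg : S2Good n α R X) (h2K : (2 : K) ≠ 0) (U : Submodule K W)
    (hUR : ∀ h, ∀ w ∈ U, R h w ∈ U) (hUX : ∀ w ∈ U, X w ∈ U) :
    S2Good n α (sgQuot R U hUR) (U.mapQ U X (fun w hw => hUX w hw) : Module.End K (W ⧸ U)) := by
  have hPK : ((2 ^ n : ℕ) : K) ≠ 0 := by
    rw [Nat.cast_pow]
    exact pow_ne_zero _ (by exact_mod_cast h2K)
  refine ⟨?_, ?_, sg_quot_fix X (2 ^ n) hPK hg.hXP hg.hfix U hUX, ?_⟩
  · apply LinearMap.ext
    intro x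
    obtain ⟨w, rfl⟩ := Submodule.Quotient.mk_surjective U x
    rw [sg_mapQ_pow_mk, hg.hXP]
    rfl
  · intro h
    apply LinearMap.ext
    intro x
    obtain ⟨w, rfl⟩ := Submodule.Quotient.mk_surjective U x
    exact congrArg (fun F : Module.End K W => (Submodule.Quotient.mk (F w) : W ⧸ U)) (hg.hXR h)
  · intro h k
    rw [← map_mul, ← map_mul]
    apply sg_quot_congr
    exact (map_mul R _ k).trans ((hg.hT h k).trans (map_mul R k _).symm)

theorem S2Good.cl2 (hg : S2Good n α R X) (u v k : H) :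
    R (u * v * u⁻¹ * v⁻¹) * R k = R k * R (u * v * u⁻¹ * v⁻¹) := by
  have h1 := s2_comm_central R.toHomUnits (α ^ (2 ^ (n - 1)))
    (fun h k => Units.ext (by
      simp only [Units.val_mul, MonoidHom.coe_toHomUnits]
      exact hg.hT h k)) u v k
  have h2 := congrArg Units.val h1
  simpa only [Units.val_mul, MonoidHom.coe_toHomUnits] using h2

theorem S2Good.tau_cl2 (hg : S2Good n α R X) (u v : H) :
    R ((α ^ (2 ^ (n - 1))) (u * v * u⁻¹ * v⁻¹)) = R (u * v * u⁻¹ * v⁻¹) := by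
  have h1 := s2_tau_comm_central R.toHomUnits (α ^ (2 ^ (n - 1)))
    (fun h k => Units.ext (by
      simp only [Units.val_mul, MonoidHom.coe_toHomUnits]
      exact hg.hT h k)) u v
  have h2 := congrArg Units.val h1
  simpa only [MonoidHom.coe_toHomUnits] using h2

end S2Mod

section S2Induct

/-- Induction principle over modules: subsingleton, irreducible, and extension cases. -/
theorem s2_induct {K : Type u} [Field K] {H : Type v} [Group H] (n : ℕ) (α : MulAut H)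
    (h2K : (2 : K) ≠ 0)
    (P : ∀ (W : Type w) [AddCommGroup W] [Module K W],
      (H →* Module.End K W) → Module.End K W → Prop)
    (hzero : ∀ (W : Type w) [AddCommGroup W] [Module K W] [Subsingleton W]
      (R : H →* Module.End K W) (X : Module.End K W), P W R X)
    (hirr : ∀ (W : Type w) [AddCommGroup W] [Module K W] [FiniteDimensional K W] [Nontrivial W]
      (R : H →* Module.End K W) (X : Module.End K W), S2Good n α R X →
      (∀ U : Submodule K W, (∀ h, ∀ w ∈ U, R h w ∈ U) → (∀ w ∈ U, X w ∈ U) → U = ⊥ ∨ U = ⊤) →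
      P W R X)
    (hext : ∀ (W : Type w) [AddCommGroup W] [Module K W] [FiniteDimensional K W]
      (R : H →* Module.End K W) (X : Module.End K W) (U : Submodule K W)
      (hUR : ∀ h, ∀ w ∈ U, R h w ∈ U) (hUX : ∀ w ∈ U, X w ∈ U), S2Good n α R X →
      P U (sgRes R U hUR) (X.restrict hUX) →
      P (W ⧸ U) (sgQuot R U hUR) (U.mapQ U X (fun w hw => hUX w hw)) → P W R X) :
    ∀ (D : ℕ) (W : Type w) [AddCommGroup W] [Module K W] [FiniteDimensional K W]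
      (R : H →* Module.End K W) (X : Module.End K W), finrank K W ≤ D → S2Good n α R X →
      P W R X := by
  intro D
  induction D with
  | zero =>
    intro W _ _ _ R X hdim hg
    haveI hsub : Subsingleton W := (Module.finrank_zero_iff (R := K)).mp (Nat.le_zero.mp hdim)
    exact hzero W R X
  | succ D ihD =>
    intro W _ _ _ R X hdim hg
    rcases subsingleton_or_nontrivial W with hsub | hnt
    · exact hzero W R X
    by_cases hred : ∃ U : Submodule K W, (∀ h, ∀ w ∈ U, R h w ∈ U) ∧ (∀ w ∈ U, X w ∈ U) ∧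
        U ≠ ⊥ ∧ U ≠ ⊤
    · obtain ⟨U, hUR, hUX, hU0, hU1⟩ := hred
      have hdU : finrank K U ≤ D := by
        have h1 := Submodule.finrank_lt hU1
        omega
      have hdQ : finrank K (W ⧸ U) ≤ D := by
        have h1 := Submodule.finrank_quotient_add_finrank U
        have h2 : 0 < finrank K U := by
          rw [Module.finrank_pos_iff]
          exact (Submodule.nontrivial_iff_ne_bot).mpr hU0
        omega
      exact hext W R X U hUR hUX hg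
        (ihD U (sgRes R U hUR) (X.restrict hUX) hdU (hg.sub U hUR hUX))
        (ihD (W ⧸ U) (sgQuot R U hUR) (U.mapQ U X (fun w hw => hUX w hw)) hdQ
          (hg.quot h2K U hUR hUX))
    · apply hirr W R X hg
      intro U h1 h2
      by_contra hcon
      rw [not_or] at hcon
      exact hred ⟨U, h1, h2, hcon.1, hcon.2⟩

end S2Induct

end Cfsg.Agent.Lib.helper75
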