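import Mathlib
import Cfsg.Agent.Lib.helper75.S2Mod

set_option autoImplicit false

namespace Cfsg.Agent.Lib.helper75

open Module Cfsg.Agent.Lib.helper66 Cfsg.Agent.Lib.helper1

section S2Block

variable {K : Type*} [Field K] {W : Type*} [AddCommGroup W] [Module K W] {H : Type*} [Group H]

/-- The structure of a minimal block in the `p = 2` theory. -/
structure S2Blk (n q : ℕ) (α : MulAut H) (R : H →* Module.End K W) (X : Module.End K W)
    (Y : Submodule K W) (a : ℕ) (hB : SGBlock 2 n R X Y a) : Prop where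
  han : a < n
  hnt : Nontrivial Y
  hdim : finrank K Y = 1 ∨ (finrank K Y = q ∧ q + 1 = 2 ^ (n - a))
  hirr : ∀ U : Submodule K Y, (∀ h, ∀ w ∈ U, sgRes R Y hB.hR h w ∈ U) → U = ⊥ ∨ U = ⊤
  hcomm : ∀ A : Module.End K Y, (∀ h, A * sgRes R Y hB.hR h = sgRes R Y hB.hR h * A) →
    ∃ c : K, A = c • (1 : Module.End K Y)
  hidx : (sgScal (sgRes R Y hB.hR)).index = finrank K Y ^ 2
  hfpf : ∀ i, 0 < i → i < 2 ^ (n - a) → ∀ u,
    (∃ c : K, sgRes R Y hB.hR (((α ^ (2 ^ a)) ^ i) u) = c • sgRes R Y hB.hR u) →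
    ∃ c : K, sgRes R Y hB.hR u = c • (1 : Module.End K Y)
  hfixY : ∀ y : Y, ((X ^ (2 ^ a)).restrict hB.hS : Module.End K Y) y = y → y = 0

/-- Existence of a good minimal block for an irreducible module (`p = 2`). -/
theorem s2_block [IsAlgClosed K] [FiniteDimensional K W] [Nontrivial W] [Finite H]
    (q : ℕ) [Fact q.Prime] (hq2 : q ≠ 2) (hH : IsPGroup q H) (h2K : (2 : K) ≠ 0)
    (hqK : (q : K) ≠ 0) (n : ℕ) (α : MulAut H) (hα : α ^ (2 ^ n) = 1)
    (R : H →* Module.End K W) (X : Module.End K W) (hg : S2Good n α R X)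
    (hirr : ∀ U : Submodule K W, (∀ h, ∀ w ∈ U, R h w ∈ U) → (∀ w ∈ U, X w ∈ U) →
      U = ⊥ ∨ U = ⊤) :
    ∃ (Y : Submodule K W) (a : ℕ) (hB : SGBlock 2 n R X Y a), S2Blk n q α R X Y a hB := by
  classical
  have hq : q.Prime := Fact.out
  have hp : (2 : ℕ).Prime := Nat.prime_two
  have hpK : ((2 : ℕ) : K) ≠ 0 := by exact_mod_cast h2K
  obtain ⟨Y, a, hB, hprim⟩ := sg_exists_block 2 n hp R X α hg.hXR hg.hXP hirr
  have hWpos : 0 < finrank K W := Module.finrank_pos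
  have hYpos : 0 < finrank K Y := by
    have h1 := hB.hdim
    rcases Nat.eq_zero_or_pos (finrank K Y) with h0 | h0
    · rw [h0, mul_zero] at h1
      omega
    · exact h0
  haveI hYnt : Nontrivial Y := Module.finrank_pos_iff.mp hYpos
  have hSM := hB.S_pow hg.hXP
  have hS𝓡 := hB.S_R α hg.hXR
  have hfixY : ∀ y : Y, ((X ^ (2 ^ a)).restrict hB.hS : Module.End K Y) y = y → y = 0 := by
    intro y hy
    exact Subtype.ext (hB.fix_eq_zero hp.pos hg.hfix (y : W) y.2 (congrArg Subtype.val hy))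
  have han : a < n := by
    by_contra hcon
    have han : a = n := le_antisymm hB.ha (not_lt.mp hcon)
    have h1 : ((X ^ (2 ^ a)).restrict hB.hS : Module.End K Y) = 1 := by
      have h2 := hSM
      have h0 : n - a = 0 := by omega
      rw [h0, pow_zero, pow_one] at h2
      exact h2
    obtain ⟨y, hy⟩ := exists_ne (0 : Y)
    exact hy (hfixY y (by rw [h1]; rfl))
  have hM0 : 0 < 2 ^ (n - a) := pow_pos hp.pos _
  have hMK : ((2 ^ (n - a) : ℕ) : K) ≠ 0 := by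
    rw [Nat.cast_pow]
    exact pow_ne_zero _ hpK
  have hβM : (α ^ (2 ^ a)) ^ (2 ^ (n - a)) = 1 := by
    rw [← pow_mul, ← pow_add, Nat.add_sub_cancel' hB.ha, hα]
  have hirrY : ∀ U : Submodule K Y, (∀ h, ∀ w ∈ U, sgRes R Y hB.hR h w ∈ U) →
      (∀ w ∈ U, ((X ^ (2 ^ a)).restrict hB.hS : Module.End K Y) w ∈ U) → U = ⊥ ∨ U = ⊤ :=
    fun U hU1 hU2 => hB.irr hp.pos α hg.hXR hirr U hU1 hU2
  have hcomm : ∀ A : Module.End K Y,
      (∀ h, A * sgRes R Y hB.hR h = sgRes R Y hB.hR h * A) →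
      ∃ c : K, A = c • (1 : Module.End K Y) :=
    fun A hA => sg_commutant_scalar (2 ^ (n - a)) hM0 hMK (sgRes R Y hB.hR)
      ((X ^ (2 ^ a)).restrict hB.hS) (α ^ (2 ^ a)) hS𝓡 hSM hprim A hA
  have hcl2 : ∀ u v h, sgRes R Y hB.hR (u * v * u⁻¹ * v⁻¹) * sgRes R Y hB.hR h
      = sgRes R Y hB.hR h * sgRes R Y hB.hR (u * v * u⁻¹ * v⁻¹) := by
    intro u v h
    rw [← map_mul, ← map_mul]
    apply sg_res_congr
    exact (map_mul R _ h).trans ((hg.cl2 u v h).trans (map_mul R h _).symm)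
  have hSu : IsUnit ((X ^ (2 ^ a)).restrict hB.hS : Module.End K Y) :=
    IsUnit.of_pow_eq_one hSM hM0.ne'
  have hfpfC : ∀ i, 0 < i → i < 2 ^ (n - a) → ∀ u,
      (∃ c : K, sgRes R Y hB.hR (((α ^ (2 ^ a)) ^ i) u) = c • sgRes R Y hB.hR u) →
      ∃ c : K, sgRes R Y hB.hR u = c • (1 : Module.End K Y) := by
    intro i hi0 hi u ⟨c, hc⟩
    have hiter : ∀ j : ℕ, sgRes R Y hB.hR (((α ^ (2 ^ a)) ^ (i * j)) u)
        = c ^ j • sgRes R Y hB.hR u := by
      intro j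
      induction j with
      | zero => simp
      | succ j ih =>
        have e1 : ((α ^ (2 ^ a)) ^ (i * (j + 1))) u
            = ((α ^ (2 ^ a)) ^ i) (((α ^ (2 ^ a)) ^ (i * j)) u) := by
          rw [Nat.mul_succ, add_comm, pow_add, MulAut.mul_apply]
        have h1 := sg_Xpow_R (sgRes R Y hB.hR) ((X ^ (2 ^ a)).restrict hB.hS) (α ^ (2 ^ a))
          hS𝓡 i (((α ^ (2 ^ a)) ^ (i * j)) u)
        have h2 := sg_Xpow_R (sgRes R Y hB.hR) ((X ^ (2 ^ a)).restrict hB.hS) (α ^ (2 ^ a))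
          hS𝓡 i u
        have h3 : sgRes R Y hB.hR (((α ^ (2 ^ a)) ^ i) (((α ^ (2 ^ a)) ^ (i * j)) u))
              * ((X ^ (2 ^ a)).restrict hB.hS : Module.End K Y) ^ i
            = (c ^ (j + 1) • sgRes R Y hB.hR u)
              * ((X ^ (2 ^ a)).restrict hB.hS : Module.End K Y) ^ i := by
          rw [← h1, ih, mul_smul_comm, h2, hc, smul_mul_assoc, smul_mul_assoc, smul_smul,
            pow_succ]
        rw [e1]
        exact (hSu.pow i).mul_left_injective h3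
    obtain ⟨j, hj⟩ := hh_exists_mul_mod hp (n - a) i hi0 hi
    have hβτ : (α ^ (2 ^ a)) ^ (i * j) = α ^ (2 ^ (n - 1)) := by
      rw [pow_eq_pow_mod (i * j) hβM, hj, ← pow_eq_pow_mod _ hβM, ← pow_mul, ← pow_add]
      congr 2
      omega
    have hτu := hiter j
    rw [hβτ] at hτu
    obtain ⟨κ, hκ⟩ := hcomm (sgRes R Y hB.hR (u * (α ^ (2 ^ (n - 1))) u)) (by
      intro h
      rw [← map_mul, ← map_mul]
      apply sg_res_congr
      exact (map_mul R _ h).trans ((hg.hT u h).trans (map_mul R h _).symm))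
    have hc0 : c ^ j ≠ 0 := by
      intro h0
      rw [h0, zero_smul] at hτu
      have h1 := R_mul_inv (sgRes R Y hB.hR) ((α ^ (2 ^ (n - 1))) u)
      rw [hτu, zero_mul] at h1
      obtain ⟨y, hy⟩ := exists_ne (0 : Y)
      apply hy
      have h2 := congrArg (fun F : Module.End K Y => F y) h1
      simpa using h2.symm
    have hsq : sgRes R Y hB.hR (u ^ 2) = ((c ^ j)⁻¹ * κ) • (1 : Module.End K Y) := by
      have h1 : c ^ j • sgRes R Y hB.hR (u ^ 2) = κ • (1 : Module.End K Y) := by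
        rw [← hκ, map_mul, hτu, mul_smul_comm, pow_two, map_mul]
      have h2 := congrArg (fun F : Module.End K Y => (c ^ j)⁻¹ • F) h1
      simp only [smul_smul, inv_mul_cancel₀ hc0, one_smul] at h2
      exact h2
    have hu2 : u ^ 2 ∈ sgScal (sgRes R Y hB.hR) := ⟨_, hsq⟩
    have hodd : Odd (orderOf u) := by
      obtain ⟨k, hk⟩ := hH u
      have h1 : orderOf u ∣ q ^ k := orderOf_dvd_of_pow_eq_one hk
      have h2 : Odd (q ^ k) := (hq.odd_of_ne_two hq2).pow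
      exact Odd.of_dvd_nat h2 h1
    exact s2_mem_of_sq_mem _ u hodd hu2
  obtain ⟨hdim, hirrR, Z, hZmem, hZidx⟩ := sg_final q hH hqK (sgRes R Y hB.hR)
    ((X ^ (2 ^ a)).restrict hB.hS) (α ^ (2 ^ a)) (2 ^ (n - a)) hM0 hMK hS𝓡 hSM hβM hirrY hcomm
    hcl2 hfpfC hfixY
  have hZ : Z = sgScal (sgRes R Y hB.hR) := by
    ext u
    rw [hZmem]
    rfl
  rw [hZ] at hZidx
  refine ⟨Y, a, hB, ⟨han, hYnt, ?_, hirrR, hcomm, hZidx, hfpfC, hfixY⟩⟩
  rcases hdim with h1 | h1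
  · exact Or.inl h1
  · obtain ⟨b, hb⟩ := hh_pgroup_finrank q (sgRes R Y hB.hR) hH hirrR
    rw [hb] at h1
    rcases s2_nt q b (n - a) hq hq2 h1 with h0 | h0
    · left
      rw [hb, h0, pow_zero]
    · right
      rw [h0, pow_one] at h1 hb
      exact ⟨hb, h1⟩

end S2Block

end Cfsg.Agent.Lib.helper75
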