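import Mathlib
import Cfsg.Agent.Lib.helper75.S2Block

set_option autoImplicit false

namespace Cfsg.Agent.Lib.helper75

open Module Cfsg.Agent.Lib.helper66 Cfsg.Agent.Lib.helper1

universe u v w

section S2Cons

/-- `p = 2` module theorem, abelian/arithmetic form. -/
theorem s2_arith {K : Type u} [Field K] [IsAlgClosed K] {H : Type v} [Group H] [Finite H]
    (q : ℕ) [Fact q.Prime] (hq2 : q ≠ 2) (hH : IsPGroup q H) (h2K : (2 : K) ≠ 0)
    (hqK : (q : K) ≠ 0) (n : ℕ) (α : MulAut H) (hα : α ^ (2 ^ n) = 1) :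
    ∀ (W : Type w) [AddCommGroup W] [Module K W] [FiniteDimensional K W]
      (R : H →* Module.End K W) (X : Module.End K W), S2Good n α R X →
      (∀ h, R ((α ^ (2 ^ (n - 1))) h) = R h) ∨
        (q % 4 = 3 ∧ ∃ u v, R u * R v ≠ R v * R u) := by
  classical
  have hq : q.Prime := Fact.out
  intro W _ _ _ R X hg
  refine s2_induct n α h2K
    (fun W _ _ R X => (∀ h, R ((α ^ (2 ^ (n - 1))) h) = R h) ∨
        (q % 4 = 3 ∧ ∃ u v, R u * R v ≠ R v * R u)) ?_ ?_ ?_ (finrank K W) W R X le_rfl hg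
  · intro W _ _ _ R X
    left
    intro h
    apply LinearMap.ext
    intro w
    exact Subsingleton.elim _ _
  · intro W _ _ _ _ R X hg hirr
    obtain ⟨Y, a, hB, hblk⟩ := s2_block q hq2 hH h2K hqK n α hα R X hg hirr
    haveI := hblk.hnt
    have hSM := hB.S_pow hg.hXP
    have hS𝓡 := hB.S_R α hg.hXR
    have hM0 : 0 < 2 ^ (n - a) := pow_pos (by norm_num) _
    have hSu : IsUnit ((X ^ (2 ^ a)).restrict hB.hS : Module.End K Y) :=
      IsUnit.of_pow_eq_one hSM hM0.ne'
    rcases hblk.hdim with h1 | ⟨h1, h2⟩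
    · left
      have hτ𝓡 : ∀ x, sgRes R Y hB.hR ((α ^ (2 ^ (n - 1))) x) = sgRes R Y hB.hR x := by
        intro x
        obtain ⟨c, hcx⟩ := sg_scalar_of_finrank_one h1 (sgRes R Y hB.hR x)
        rw [hcx]
        have hτeq : α ^ (2 ^ (n - 1)) = (α ^ (2 ^ a)) ^ (2 ^ (n - 1 - a)) := by
          rw [← pow_mul, ← pow_add]
          congr 2
          have := hblk.han
          omega
        rw [hτeq]
        exact sg_conj_scalar (sgRes R Y hB.hR) _ (α ^ (2 ^ a)) hS𝓡 hSu _ x c hcx
      apply sg_lift hB α hg.hXR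
      intro x y hy
      exact congrArg (fun F : Module.End K Y => (F ⟨y, hy⟩ : W)) (hτ𝓡 x)
    · right
      have hq3 : 3 ≤ q := by
        have := hq.two_le
        omega
      refine ⟨s2_mod_four q (n - a) hq3 h2, ?_⟩
      by_contra hcon
      have hall : ∀ u v, R u * R v = R v * R u := by
        intro u v
        by_contra h
        exact hcon ⟨u, v, h⟩
      have hsc : ∀ u, ∃ c : K, sgRes R Y hB.hR u = c • (1 : Module.End K Y) := by
        intro u
        apply hblk.hcomm
        intro h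
        rw [← map_mul, ← map_mul]
        apply sg_res_congr
        exact (map_mul R u h).trans ((hall u h).trans (map_mul R h u).symm)
      have h3 := hh_finrank_eq_one_of_scalar (sgRes R Y hB.hR) hblk.hirr hsc
      omega
  · intro W _ _ _ R X U hUR hUX hg hPU hPQ
    rcases hPU with c1 | ⟨hq4, u, v, hne⟩
    · rcases hPQ with c2 | ⟨hq4, u, v, hne⟩
      · left
        intro h
        apply sg_core_red q hqK hH R (α ^ (2 ^ (n - 1))) U hUR ?_ ?_ h
        · intro h u hu
          exact congrArg (fun F : Module.End K U => (F ⟨u, hu⟩ : W)) (c1 h)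
        · intro h w
          have h3 := congrArg (fun F : Module.End K (W ⧸ U) => F (Submodule.Quotient.mk w)) (c2 h)
          exact (Submodule.Quotient.eq U).mp h3
      · right
        refine ⟨hq4, u, v, fun h => hne ?_⟩
        rw [← map_mul, ← map_mul]
        exact sg_quot_congr R U hUR ((map_mul R u v).trans (h.trans (map_mul R v u).symm))
    · right
      refine ⟨hq4, u, v, fun h => hne ?_⟩
      rw [← map_mul, ← map_mul]
      exact sg_res_congr R U hUR ((map_mul R u v).trans (h.trans (map_mul R v u).symm))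

/-- `p = 2` module theorem: a section with small non-scalar part on which a given element acts
nontrivially. -/
theorem s2_beta {K : Type u} [Field K] [IsAlgClosed K] {H : Type v} [Group H] [Finite H]
    (q : ℕ) [Fact q.Prime] (hq2 : q ≠ 2) (hH : IsPGroup q H) (h2K : (2 : K) ≠ 0)
    (hqK : (q : K) ≠ 0) (n : ℕ) (α : MulAut H) (hα : α ^ (2 ^ n) = 1) :
    ∀ (W : Type w) [AddCommGroup W] [Module K W] [FiniteDimensional K W]
      (R : H →* Module.End K W) (X : Module.End K W), S2Good n α R X →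
      ∀ c₁ : H, R c₁ ≠ 1 → ∃ (N L : Subgroup H) (j : ℕ), (α ^ j) c₁ ∉ N ∧ L.index ∣ q ^ 2 ∧
        ∀ l ∈ L, ∀ h, l * h * l⁻¹ * h⁻¹ ∈ N := by
  classical
  have hq : q.Prime := Fact.out
  intro W _ _ _ R X hg
  refine s2_induct n α h2K
    (fun W _ _ R X => ∀ c₁ : H, R c₁ ≠ 1 → ∃ (N L : Subgroup H) (j : ℕ),
        (α ^ j) c₁ ∉ N ∧ L.index ∣ q ^ 2 ∧ ∀ l ∈ L, ∀ h, l * h * l⁻¹ * h⁻¹ ∈ N)
    ?_ ?_ ?_ (finrank K W) W R X le_rfl hg
  · intro W _ _ _ R X c₁ hne
    exfalso
    apply hne
    apply LinearMap.ext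
    intro w
    exact Subsingleton.elim _ _
  · intro W _ _ _ _ R X hg hirr c₁ hne
    obtain ⟨Y, a, hB, hblk⟩ := s2_block q hq2 hH h2K hqK n α hα R X hg hirr
    haveI := hblk.hnt
    have hex : ∃ j : ℕ, sgRes R Y hB.hR ((α ^ j) c₁) ≠ 1 := by
      by_contra hcon
      have hall : ∀ j : ℕ, sgRes R Y hB.hR ((α ^ j) c₁) = 1 := by
        intro j
        by_contra h
        exact hcon ⟨j, h⟩
      apply hne
      apply LinearMap.ext
      intro w
      obtain ⟨y, rfl⟩ := sgSum_surjective X (2 ^ a) Y hB.hsup w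
      rw [sgSum_apply, map_sum]
      refine Finset.sum_congr rfl fun j _ => ?_
      rw [sg_R_Xpow_apply R X α hg.hXR, ← inv_pow,
        sg_inv_eq_pow α (2 ^ n) (pow_pos (by norm_num) n) hα, ← pow_mul]
      have h1 := congrArg (fun F : Module.End K Y => (F (y j) : W))
        (hall ((2 ^ n - 1) * (j : ℕ)))
      have h2 : R ((α ^ ((2 ^ n - 1) * (j : ℕ))) c₁) (y j : W) = (y j : W) := h1
      rw [h2]
    obtain ⟨j, hj⟩ := hex
    refine ⟨(sgRes R Y hB.hR).ker, sgScal (sgRes R Y hB.hR), j, ?_, ?_, ?_⟩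
    · intro h
      exact hj (MonoidHom.mem_ker.mp h)
    · rw [hblk.hidx]
      rcases hblk.hdim with h1 | ⟨h1, -⟩
      · rw [h1]
        exact one_dvd _
      · rw [h1]
    · intro l hl h
      obtain ⟨κ, hκ⟩ := hl
      exact MonoidHom.mem_ker.mpr (sg_comm_scalar_one (sgRes R Y hB.hR) l h κ hκ)
  · intro W _ _ _ R X U hUR hUX hg hPU hPQ c₁ hne
    by_cases hU : sgRes R U hUR c₁ = 1
    · by_cases hQ : sgQuot R U hUR c₁ = 1
      · exfalso
        apply hne
        obtain ⟨m, hm⟩ := hH c₁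
        apply sg_unipotent_one q hqK (R c₁) U ?_ ?_ m ?_
        · intro u hu
          exact congrArg (fun F : Module.End K U => (F ⟨u, hu⟩ : W)) hU
        · intro w
          have h3 := congrArg (fun F : Module.End K (W ⧸ U) => F (Submodule.Quotient.mk w)) hQ
          exact (Submodule.Quotient.eq U).mp h3
        · rw [← map_pow, hm, map_one]
      · exact hPQ c₁ hQ
    · exact hPU c₁ hU

end S2Cons

end Cfsg.Agent.Lib.helper75
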