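import Mathlib
import Cfsg.Agent.Lib.helper3.PGroupFrattini
import Cfsg.Agent.Lib.helper75.S2Num

set_option autoImplicit false

namespace Cfsg.Agent.Lib.helper75

section S2Crit

theorem s2_char_inv {G : Type*} [Group G] (L : Subgroup G) [hL : L.Characteristic]
    (f : MulAut G) : ∀ x ∈ L, f x ∈ L := by
  intro x hx
  have h1 := hL.fixed f
  have h2 : x ∈ L.comap f.toMonoidHom := by
    rw [h1]
    exact hx
  exact h2

/-- Structure of a critical group (relative to a homomorphism `ψ`). -/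
theorem s2_crit_psi {S Γ : Type*} [Group S] [Finite S] [Group Γ] (s : ℕ) [Fact s.Prime]
    (hs2 : s ≠ 2) (hS : IsPGroup s S) (b τ : MulAut S) (hτ2 : ∀ u, τ (τ u) = u)
    (hbτ : ∀ u, b (τ u) = τ (b u)) (ψ : S →* Γ) (hkerb : ∀ u, ψ u = 1 → ψ (b u) = 1)
    (hcrit : ∀ L : Subgroup S, (∀ u ∈ L, b u ∈ L) → L ≠ ⊤ → ∀ u ∈ L, ψ (τ u) = ψ u)
    (hne : ∃ u, ψ (τ u) ≠ ψ u) :
    (∀ u k, ψ (u * τ u) * ψ k = ψ k * ψ (u * τ u)) ∧
    Subgroup.closure (Set.range (fun v : S => v⁻¹ * τ v) ∪ (ψ.ker : Set S)) = ⊤ ∧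
    (∀ u, τ u = u⁻¹ → ψ (u ^ s) = 1) := by
  classical
  have hs : s.Prime := Fact.out
  have hodd : ∀ g : S, Odd (orderOf g) := by
    intro g
    obtain ⟨k, hk⟩ := hS g
    exact Odd.of_dvd_nat (hs.odd_of_ne_two hs2).pow (orderOf_dvd_of_pow_eq_one hk)
  have hsq : ∀ g : S, ψ (g ^ 2) = 1 → ψ g = 1 := fun g h =>
    MonoidHom.mem_ker.mp (s2_mem_of_sq_mem ψ.ker g (hodd g) (MonoidHom.mem_ker.mpr h))
  have hinv1 : ∀ g : S, ψ (τ g) = ψ g → τ g = g⁻¹ → ψ g = 1 := by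
    intro g h1 h2
    apply hsq
    have h3 : ψ g = (ψ g)⁻¹ := by
      rw [← map_inv, ← h2, h1]
    rw [pow_two, map_mul]
    nth_rewrite 2 [h3]
    exact mul_inv_cancel _
  have hL1 : Subgroup.closure (Set.range (fun v : S => v⁻¹ * τ v) ∪ (ψ.ker : Set S)) = ⊤ := by
    by_contra hL
    have hbinv : ∀ u ∈ Subgroup.closure (Set.range (fun v : S => v⁻¹ * τ v) ∪ (ψ.ker : Set S)),
        b u ∈ Subgroup.closure (Set.range (fun v : S => v⁻¹ * τ v) ∪ (ψ.ker : Set S)) := by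
      intro u hu
      have h1 : (Subgroup.closure (Set.range (fun v : S => v⁻¹ * τ v) ∪ (ψ.ker : Set S))).map
          b.toMonoidHom
          ≤ Subgroup.closure (Set.range (fun v : S => v⁻¹ * τ v) ∪ (ψ.ker : Set S)) := by
        rw [MonoidHom.map_closure]
        apply (Subgroup.closure_le _).mpr
        rintro _ ⟨x, hx, rfl⟩
        rcases hx with ⟨v, rfl⟩ | hx
        · apply Subgroup.subset_closure
          left
          refine ⟨b v, ?_⟩
          show (b v)⁻¹ * τ (b v) = b (v⁻¹ * τ v)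
          rw [map_mul, map_inv, hbτ]
        · apply Subgroup.subset_closure
          right
          exact MonoidHom.mem_ker.mpr (hkerb x (MonoidHom.mem_ker.mp hx))
      exact h1 ⟨u, hu, rfl⟩
    have h2 := hcrit _ hbinv hL
    obtain ⟨u, hu⟩ := hne
    apply hu
    have hg := hinv1 (u⁻¹ * τ u) (h2 _ (Subgroup.subset_closure (Or.inl ⟨u, rfl⟩))) (by
      rw [map_mul, map_inv, hτ2]
      group)
    rw [map_mul, map_inv] at hg
    exact (inv_mul_eq_one.mp hg).symm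
  have hgen : ∀ u, ψ u ∈ Subgroup.closure (Set.range (fun v : S => ψ (v⁻¹ * τ v))) := by
    intro u
    have hu : u ∈ Subgroup.closure (Set.range (fun v : S => v⁻¹ * τ v) ∪ (ψ.ker : Set S)) := by
      rw [hL1]
      trivial
    have h1 : (Subgroup.closure (Set.range (fun v : S => v⁻¹ * τ v) ∪ (ψ.ker : Set S))).map ψ
        ≤ Subgroup.closure (Set.range (fun v : S => ψ (v⁻¹ * τ v))) := by
      rw [MonoidHom.map_closure]
      apply (Subgroup.closure_le _).mpr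
      rintro _ ⟨x, hx, rfl⟩
      rcases hx with ⟨v, rfl⟩ | hx
      · exact Subgroup.subset_closure ⟨v, rfl⟩
      · have h3 : ψ x = 1 := MonoidHom.mem_ker.mp hx
        rw [SetLike.mem_coe, h3]
        exact Subgroup.one_mem _
    exact h1 ⟨u, hu, rfl⟩
  haveI : Nontrivial S := by
    obtain ⟨u, hu⟩ := hne
    exact ⟨⟨τ u, u, fun h => hu (by rw [h])⟩⟩
  haveI hnil : Group.IsNilpotent S := hS.isNilpotent
  have hcomm_ne : commutator S ≠ ⊤ := (Group.IsSolvable.commutator_lt_top_of_nontrivial S).ne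
  have hc : ∀ c ∈ commutator S, ψ (τ c) = ψ c :=
    hcrit _ (s2_char_inv (commutator S) b) hcomm_ne
  have hcm : ∀ x y : S, x * y * x⁻¹ * y⁻¹ ∈ commutator S := by
    intro x y
    rw [commutator_def]
    exact Subgroup.commutator_mem_commutator (Subgroup.mem_top x) (Subgroup.mem_top y)
  have hC : ∀ z, ψ (τ z) = ψ z → ∀ k, ψ z * ψ k = ψ k * ψ z := by
    intro z hz k
    have h1 : Subgroup.closure (Set.range (fun v : S => ψ (v⁻¹ * τ v)))
        ≤ Subgroup.centralizer {ψ z} := by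
      apply (Subgroup.closure_le _).mpr
      rintro _ ⟨y, rfl⟩
      rw [SetLike.mem_coe, Subgroup.mem_centralizer_iff]
      rintro _ rfl
      have h2 := hc _ (hcm z y)
      simp only [map_mul, map_inv] at h2 ⊢
      rw [hz] at h2
      have h3 : (ψ y)⁻¹ * ψ (τ y) * (ψ z)⁻¹ = (ψ z)⁻¹ * ((ψ y)⁻¹ * ψ (τ y)) := by
        calc (ψ y)⁻¹ * ψ (τ y) * (ψ z)⁻¹
            = (ψ y)⁻¹ * (ψ z)⁻¹ * (ψ z * ψ (τ y) * (ψ z)⁻¹ * (ψ (τ y))⁻¹) * ψ (τ y) := by group
          _ = (ψ y)⁻¹ * (ψ z)⁻¹ * (ψ z * ψ y * (ψ z)⁻¹ * (ψ y)⁻¹) * ψ (τ y) := by rw [h2]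
          _ = (ψ z)⁻¹ * ((ψ y)⁻¹ * ψ (τ y)) := by group
      calc ψ z * ((ψ y)⁻¹ * ψ (τ y))
          = ψ z * ((ψ y)⁻¹ * ψ (τ y) * (ψ z)⁻¹) * ψ z := by group
        _ = ψ z * ((ψ z)⁻¹ * ((ψ y)⁻¹ * ψ (τ y))) * ψ z := by rw [h3]
        _ = (ψ y)⁻¹ * ψ (τ y) * ψ z := by group
    have h4 := h1 (hgen k)
    rw [Subgroup.mem_centralizer_iff] at h4
    exact h4 _ rfl
  refine ⟨?_, hL1, ?_⟩
  · intro u k
    apply hC (u * τ u) ?_ k
    rw [map_mul τ, hτ2]
    have h1 := hinv1 (u * τ u * u⁻¹ * (τ u)⁻¹) (hc _ (hcm u (τ u))) (by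
      simp only [map_mul, map_inv, hτ2]
      group)
    calc ψ (τ u * u) = ψ (u * τ u * u⁻¹ * (τ u)⁻¹) * ψ (τ u * u) := by rw [h1, one_mul]
      _ = ψ (u * τ u) := by
        rw [← map_mul]
        congr 1
        group
  · intro u hu
    have hfr_ne : frattini S ≠ ⊤ := by
      obtain ⟨K, hK, -⟩ := (eq_top_or_exists_le_coatom (⊥ : Subgroup S)).resolve_left bot_ne_top
      intro h
      have h1 : frattini S ≤ K := frattini_le_coatom hK
      rw [h] at h1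
      exact hK.1 (top_le_iff.mp h1)
    have h1 := hcrit _ (s2_char_inv (frattini S) b) hfr_ne (u ^ s)
      (Cfsg.Agent.Lib.helper3.pow_prime_mem_frattini hS u)
    exact hinv1 (u ^ s) h1 (by rw [map_pow, hu, inv_pow])

end S2Crit

end Cfsg.Agent.Lib.helper75
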