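import Mathlib
import Cfsg.Agent.Lib.helper75.S2Cons

set_option autoImplicit false

namespace Cfsg.Agent.Lib.helper75

open Module Cfsg.Agent.Lib.helper66 Cfsg.Agent.Lib.helper1

universe u v w

section S2Gamma

/-- In a group of order three, relative to a nontrivial element. -/
theorem s2_three_cases {G : Type*} [Group G] (hcard : Nat.card G = 3) (g₁ g₂ : G) (hg₁ : g₁ ≠ 1) :
    g₂ = 1 ∨ g₂ = g₁ ∨ g₁ * g₂ = 1 := by
  haveI : Fact (Nat.Prime 3) := ⟨Nat.prime_three⟩
  have hmem : g₂ ∈ Subgroup.zpowers g₁ := mem_zpowers_of_prime_card hcard hg₁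
  obtain ⟨k, hk⟩ := Subgroup.mem_zpowers_iff.mp hmem
  have h3 : g₁ ^ 3 = 1 := by
    have h := pow_card_eq_one' (G := G) (x := g₁)
    rwa [hcard] at h
  have e := zpow_eq_zpow_emod' (x := g₁) k (n := 3) h3
  rw [hk] at e
  have hcases : k % ((3 : ℕ) : ℤ) = 0 ∨ k % ((3 : ℕ) : ℤ) = 1 ∨ k % ((3 : ℕ) : ℤ) = 2 := by
    push_cast
    omega
  rcases hcases with h | h | h
  · left
    rw [e, h, zpow_zero]
  · right
    left
    rw [e, h, zpow_one]
  · right
    right
    rw [e, h]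
    have h4 : g₁ * g₁ ^ (2 : ℤ) = g₁ ^ 3 := by
      rw [zpow_ofNat]
      group
    rw [h4, h3]

variable {K : Type*} [Field K] {W : Type*} [AddCommGroup W] [Module K W] {H : Type*} [Group H]

/-- Block-level lemma for `q = 3`: an element fixing a nonzero `t`-fixed vector of a block acts
on it as a scalar, so its commutators fix that vector. -/
theorem s2_blk_fix [FiniteDimensional K W] [Finite H] {n : ℕ} {α : MulAut H}
    {R : H →* Module.End K W} {X : Module.End K W} {Y : Submodule K W} {a : ℕ}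
    {hB : SGBlock 2 n R X Y a} (hblk : S2Blk n 3 α R X Y a hB) (hα : α ^ (2 ^ n) = 1)
    (hXR : ∀ h, X * R h = R (α h) * X) (hXP : X ^ (2 ^ n) = 1) (u v : H) (y : Y)
    (h1 : sgRes R Y hB.hR u y = y)
    (h2 : (((X ^ (2 ^ a)).restrict hB.hS : Module.End K Y) ^ (2 ^ (n - 1 - a))) y = y) :
    sgRes R Y hB.hR (u * v * u⁻¹ * v⁻¹) y = y := by
  classical
  haveI := hblk.hnt
  by_cases hy : y = 0
  · rw [hy, map_zero]
  have hSM := hB.S_pow hXP
  have hS𝓡 := hB.S_R α hXR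
  have hM0 : 0 < 2 ^ (n - a) := pow_pos (by norm_num) _
  have hSu : IsUnit ((X ^ (2 ^ a)).restrict hB.hS : Module.End K Y) :=
    IsUnit.of_pow_eq_one hSM hM0.ne'
  have hβM : (α ^ (2 ^ a)) ^ (2 ^ (n - a)) = 1 := by
    rw [← pow_mul, ← pow_add, Nat.add_sub_cancel' hB.ha, hα]
  suffices hsc : ∃ κ : K, sgRes R Y hB.hR u = κ • (1 : Module.End K Y) by
    obtain ⟨κ, hκ⟩ := hsc
    rw [sg_comm_scalar_one (sgRes R Y hB.hR) u v κ hκ]
    rfl
  rcases hblk.hdim with hd | ⟨hd, hd2⟩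
  · exact sg_scalar_of_finrank_one hd _
  have hna : n - a = 2 := by
    have h3 : 2 ^ (n - a) = 2 ^ 2 := by
      rw [← hd2]
      norm_num
    exact Nat.pow_right_injective (le_refl 2) h3
  have hna1 : n - 1 - a = 1 := by omega
  rw [hna1, pow_one] at h2
  rw [hna] at hSM hβM
  obtain ⟨S, hS⟩ : ∃ S : Module.End K Y, S = (X ^ (2 ^ a)).restrict hB.hS := ⟨_, rfl⟩
  obtain ⟨β, hβ⟩ : ∃ β : MulAut H, β = α ^ (2 ^ a) := ⟨_, rfl⟩
  obtain ⟨𝓡, h𝓡⟩ : ∃ 𝓡 : H →* Module.End K Y, 𝓡 = sgRes R Y hB.hR := ⟨_, rfl⟩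
  have hfpf := hblk.hfpf
  have hfixY := hblk.hfixY
  have hirrY := hblk.hirr
  have hidx := hblk.hidx
  rw [← hS] at h2 hSM hS𝓡 hSu hfixY
  rw [← hβ] at hS𝓡 hβM hfpf
  rw [← h𝓡] at h1 hS𝓡 hfpf hirrY hidx ⊢
  rw [hna] at hfpf
  have hS2 : S (S y) = y := by
    have h3 : (S ^ 2) y = y := h2
    rwa [pow_two, Module.End.mul_apply] at h3
  have hSy : S y = -y := by
    have h3 : S (y + S y) = y + S y := by
      rw [map_add, hS2, add_comm]
    have h4 := hfixY _ h3
    exact (neg_eq_of_add_eq_zero_right h4).symm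
  by_contra hns
  obtain ⟨B, hBmem⟩ : ∃ B : Subgroup H, ∀ h, h ∈ B ↔ ∃ c : K, 𝓡 h y = c • y :=
    ⟨{ carrier := {h | ∃ c : K, 𝓡 h y = c • y}
       mul_mem' := by
        rintro h h' ⟨c, hc⟩ ⟨c', hc'⟩
        refine ⟨c' * c, ?_⟩
        rw [map_mul, Module.End.mul_apply, hc', map_smul, hc, smul_smul]
       one_mem' := ⟨1, by rw [map_one, one_smul]; rfl⟩
       inv_mem' := by
        rintro h ⟨c, hc⟩
        have hc0 : c ≠ 0 := by
          intro h0
          rw [h0, zero_smul] at hc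
          apply hy
          have h3 := congrArg (fun F : Module.End K Y => F y) (R_inv_mul 𝓡 h)
          simp only [Module.End.mul_apply, Module.End.one_apply] at h3
          rw [hc, map_zero] at h3
          exact h3.symm
        refine ⟨c⁻¹, ?_⟩
        have h3 := congrArg (fun F : Module.End K Y => F y) (R_inv_mul 𝓡 h)
        simp only [Module.End.mul_apply, Module.End.one_apply] at h3
        rw [hc, map_smul] at h3
        calc 𝓡 h⁻¹ y = c⁻¹ • (c • 𝓡 h⁻¹ y) := by rw [smul_smul, inv_mul_cancel₀ hc0, one_smul]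
          _ = c⁻¹ • y := by rw [h3] }, fun h => Iff.rfl⟩
  have hZB : sgScal 𝓡 ≤ B := by
    rintro h ⟨κ, hκ⟩
    rw [hBmem]
    exact ⟨κ, by rw [hκ]; rfl⟩
  have huB : u ∈ B := (hBmem u).mpr ⟨1, by rw [h1, one_smul]⟩
  have hβB : ∀ h ∈ B, β h ∈ B := by
    intro h hh
    rw [hBmem] at hh ⊢
    obtain ⟨c, hc⟩ := hh
    refine ⟨c, ?_⟩
    have h3 := congrArg (fun F : Module.End K Y => F y) (hS𝓡 h)
    simp only [Module.End.mul_apply] at h3
    rw [hc, map_smul, hSy, map_neg, smul_neg] at h3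
    exact (neg_injective h3).symm
  have hBtop : B ≠ ⊤ := by
    intro htop
    have hinv : ∀ h, ∀ w ∈ (K ∙ y), 𝓡 h w ∈ (K ∙ y) := by
      intro h w hw
      obtain ⟨c, rfl⟩ := Submodule.mem_span_singleton.mp hw
      have hh : h ∈ B := by
        rw [htop]
        trivial
      obtain ⟨c', hc'⟩ := (hBmem h).mp hh
      rw [map_smul, hc', smul_smul]
      exact Submodule.mem_span_singleton.mpr ⟨c * c', rfl⟩
    rcases hirrY (K ∙ y) hinv with h3 | h3
    · exact hy ((Submodule.span_singleton_eq_bot).mp h3)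
    · have h4 : finrank K (K ∙ y) = 1 := finrank_span_singleton hy
      rw [h3, finrank_top] at h4
      omega
  have hrel : (sgScal 𝓡).relIndex B = 3 := by
    have h3 := Subgroup.relIndex_mul_index hZB
    rw [hidx, hd] at h3
    norm_num at h3
    have h4 : B.index ≠ 1 := fun h => hBtop (Subgroup.index_eq_one.mp h)
    have h5 : (sgScal 𝓡).relIndex B ≠ 1 := by
      intro h
      exact hns (Subgroup.relIndex_eq_one.mp h huB)
    have h6 : (sgScal 𝓡).relIndex B ∣ 9 := ⟨B.index, by rw [h3]⟩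
    have h7 : (sgScal 𝓡).relIndex B ≤ 9 := Nat.le_of_dvd (by norm_num) h6
    interval_cases hr : (sgScal 𝓡).relIndex B <;> omega
  haveI hZn : (sgScal 𝓡).Normal := by
    refine ⟨fun x hx g => ?_⟩
    obtain ⟨κ, hκ⟩ := hx
    refine ⟨κ, ?_⟩
    rw [map_mul, map_mul, hκ, mul_smul_comm, mul_one, smul_mul_assoc, R_mul_inv]
  have hcard : Nat.card (↥B ⧸ (sgScal 𝓡).subgroupOf B) = 3 := hrel
  have hg₁ : (QuotientGroup.mk ⟨u, huB⟩ : ↥B ⧸ (sgScal 𝓡).subgroupOf B) ≠ 1 := by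
    intro h
    have h3 := (QuotientGroup.eq_one_iff _).mp h
    exact hns (Subgroup.mem_subgroupOf.mp h3)
  have hκ0 : ∀ (g : H) (κ : K), 𝓡 g = κ • (1 : Module.End K Y) → κ ≠ 0 := by
    intro g κ hκ h0
    rw [h0, zero_smul] at hκ
    have h3 := R_mul_inv 𝓡 g
    rw [hκ, zero_mul] at h3
    apply hy
    have h4 := congrArg (fun F : Module.End K Y => F y) h3
    simpa using h4.symm
  rcases s2_three_cases hcard (QuotientGroup.mk ⟨u, huB⟩)
    (QuotientGroup.mk ⟨β u, hβB u huB⟩) hg₁ with h | h | h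
  · have h3 : β u ∈ sgScal 𝓡 := Subgroup.mem_subgroupOf.mp ((QuotientGroup.eq_one_iff _).mp h)
    obtain ⟨κ, hκ⟩ := h3
    have h4 := sg_conj_scalar 𝓡 S β hS𝓡 hSu 3 (β u) κ hκ
    have h5 : (β ^ 3) (β u) = u := by
      have h6 : (β ^ 3) (β u) = (β ^ 2 ^ 2) u := by
        rw [← MulAut.mul_apply, ← pow_succ]
        rfl
      rw [h6, hβM]
      rfl
    rw [h5] at h4
    exact hns ⟨κ, h4⟩
  · have h3 : u⁻¹ * β u ∈ sgScal 𝓡 := by
      have h4 := QuotientGroup.eq.mp h.symm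
      exact Subgroup.mem_subgroupOf.mp h4
    obtain ⟨κ, hκ⟩ := h3
    apply hns
    apply hfpf 1 (by norm_num) (by norm_num) u
    refine ⟨κ, ?_⟩
    rw [pow_one]
    have h4 : β u = u * (u⁻¹ * β u) := by group
    rw [h4, map_mul, hκ, mul_smul_comm, mul_one]
  · have h3 : u * β u ∈ sgScal 𝓡 := by
      have h4 := (QuotientGroup.eq_one_iff _).mp h
      exact Subgroup.mem_subgroupOf.mp h4
    obtain ⟨κ, hκ⟩ := h3
    have hκne := hκ0 _ κ hκ
    rw [map_mul] at hκ
    have h4 : 𝓡 (β u) * 𝓡 (β (β u)) = κ • (1 : Module.End K Y) := by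
      have h5 : (S * (𝓡 u * 𝓡 (β u))) = (𝓡 (β u) * 𝓡 (β (β u))) * S := by
        rw [← mul_assoc, hS𝓡 u, mul_assoc, hS𝓡 (β u), mul_assoc]
      rw [hκ, mul_smul_comm, mul_one] at h5
      have h6 : (κ • (1 : Module.End K Y)) * S = (𝓡 (β u) * 𝓡 (β (β u))) * S := by
        rw [smul_mul_assoc, one_mul]
        exact h5
      exact (hSu.mul_left_injective h6).symm
    apply hns
    apply hfpf 2 (by norm_num) (by norm_num) u
    refine ⟨1, ?_⟩
    rw [one_smul]
    have h5 : (β ^ 2) u = β (β u) := by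
      rw [pow_two]
      rfl
    rw [h5]
    have h6 : κ • 𝓡 (β (β u)) = κ • 𝓡 u := by
      calc κ • 𝓡 (β (β u)) = (κ • (1 : Module.End K Y)) * 𝓡 (β (β u)) := by
            rw [smul_mul_assoc, one_mul]
        _ = 𝓡 u * (𝓡 (β u) * 𝓡 (β (β u))) := by rw [← hκ, mul_assoc]
        _ = κ • 𝓡 u := by rw [h4, mul_smul_comm, mul_one]
    have h7 := congrArg (fun F : Module.End K Y => κ⁻¹ • F) h6
    simp only [smul_smul, inv_mul_cancel₀ hκne, one_smul] at h7
    exact h7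

end S2Gamma

section S2GammaMain

/-- `p = 2`, `q = 3` module theorem: commutators of an element `u` fix the vectors fixed by
`u` and by the involution `t = X ^ (2 ^ (n - 1))`. -/
theorem s2_gamma {K : Type u} [Field K] [IsAlgClosed K] {H : Type v} [Group H] [Finite H]
    (hH : IsPGroup 3 H) (h2K : (2 : K) ≠ 0) (h3K : (3 : K) ≠ 0) (n : ℕ) (hn : 1 ≤ n)
    (α : MulAut H) (hα : α ^ (2 ^ n) = 1) :
    ∀ (W : Type w) [AddCommGroup W] [Module K W] [FiniteDimensional K W]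
      (R : H →* Module.End K W) (X : Module.End K W), S2Good n α R X →
      ∀ (u v : H) (w : W), R u w = w → (X ^ (2 ^ (n - 1))) w = w →
        R (u * v * u⁻¹ * v⁻¹) w = w := by
  classical
  haveI : Fact (Nat.Prime 3) := ⟨Nat.prime_three⟩
  have hqK : ((3 : ℕ) : K) ≠ 0 := by exact_mod_cast h3K
  intro W _ _ _ R X hg
  refine s2_induct n α h2K
    (fun W _ _ R X => ∀ (u v : H) (w : W), R u w = w → (X ^ (2 ^ (n - 1))) w = w →
        R (u * v * u⁻¹ * v⁻¹) w = w) ?_ ?_ ?_ (finrank K W) W R X le_rfl hg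
  · intro W _ _ _ R X u v w _ _
    exact Subsingleton.elim _ _
  · intro W _ _ _ _ R X hg hirr u v w hu ht
    obtain ⟨Y, a, hB, hblk⟩ := s2_block 3 (by norm_num) hH h2K hqK n α hα R X hg hirr
    haveI := hblk.hnt
    have han := hblk.han
    obtain ⟨y, rfl⟩ := sgSum_surjective X (2 ^ a) Y hB.hsup w
    have hinj := sgSum_injective X (2 ^ a) Y hB.hsup hB.hdim
    have hRu : ∀ (g : H) (y' : Fin (2 ^ a) → Y), R g (sgSum X (2 ^ a) Y y')
        = sgSum X (2 ^ a) Y (fun j => sgRes R Y hB.hR ((α ^ (j : ℕ))⁻¹ g) (y' j)) := by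
      intro g y'
      rw [sgSum_apply, sgSum_apply, map_sum]
      refine Finset.sum_congr rfl fun j _ => ?_
      rw [sg_R_Xpow_apply R X α hg.hXR]
      rfl
    have hTt : ∀ y' : Fin (2 ^ a) → Y, (X ^ (2 ^ (n - 1))) (sgSum X (2 ^ a) Y y')
        = sgSum X (2 ^ a) Y (fun j =>
          (((X ^ (2 ^ a)).restrict hB.hS : Module.End K Y) ^ (2 ^ (n - 1 - a))) (y' j)) := by
      intro y'
      rw [sgSum_apply, sgSum_apply, map_sum]
      refine Finset.sum_congr rfl fun j _ => ?_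
      rw [sg_restrict_pow_apply, ← pow_mul, ← pow_add]
      have e : a + (n - 1 - a) = n - 1 := by omega
      rw [e, ← Module.End.mul_apply, ← Module.End.mul_apply, ← pow_add, ← pow_add, add_comm]
    have h1 := hu
    rw [hRu] at h1
    have hyu : ∀ j : Fin (2 ^ a), sgRes R Y hB.hR ((α ^ (j : ℕ))⁻¹ u) (y j) = y j :=
      fun j => congrFun (hinj h1) j
    have h2 := ht
    rw [hTt] at h2
    have hyt : ∀ j, (((X ^ (2 ^ a)).restrict hB.hS : Module.End K Y) ^ (2 ^ (n - 1 - a))) (y j)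
        = y j := fun j => congrFun (hinj h2) j
    rw [hRu]
    refine congrArg (sgSum X (2 ^ a) Y) (funext fun j => ?_)
    have e : (α ^ (j : ℕ))⁻¹ (u * v * u⁻¹ * v⁻¹) = (α ^ (j : ℕ))⁻¹ u * (α ^ (j : ℕ))⁻¹ v
        * ((α ^ (j : ℕ))⁻¹ u)⁻¹ * ((α ^ (j : ℕ))⁻¹ v)⁻¹ := by
      simp only [map_mul, map_inv]
    rw [e]
    exact s2_blk_fix hblk hα hg.hXR hg.hXP _ _ (y j) (hyu j) (hyt j)
  · intro W _ _ _ R X U hUR hUX hg hPU hPQ u v w hu ht
    obtain ⟨A, hA⟩ : ∃ A : Module.End K W, A = R (u * v * u⁻¹ * v⁻¹) := ⟨_, rfl⟩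
    rw [← hA]
    have hq := hPQ u v (Submodule.Quotient.mk w) (by rw [sgQuot_mk, hu])
      (by rw [sg_mapQ_pow_mk, ht])
    rw [sgQuot_mk, ← hA] at hq
    have hmem : A w - w ∈ U := (Submodule.Quotient.eq U).mp hq
    have hu0 : R u (A w - w) = A w - w := by
      have h3 := congrArg (fun F : Module.End K W => F w) (hg.cl2 u v u)
      simp only [Module.End.mul_apply] at h3
      rw [map_sub, hu, hA, ← h3, hu]
    have ht0 : (X ^ (2 ^ (n - 1))) (A w - w) = A w - w := by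
      rw [map_sub, ht, hA, sg_Xpow_R_apply R X α hg.hXR, ht, hg.tau_cl2 u v]
    have h4 := hPU u v ⟨A w - w, hmem⟩ (Subtype.ext hu0)
      (Subtype.ext (by rw [sg_restrict_pow_apply]; exact ht0))
    have h5 : A (A w - w) = A w - w := by
      have h6 : (R (u * v * u⁻¹ * v⁻¹)) (A w - w) = A w - w := congrArg Subtype.val h4
      rwa [← hA] at h6
    have hk : ∀ k : ℕ, (A ^ k) w = w + (k : K) • (A w - w) := by
      intro k
      induction k with
      | zero => simp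
      | succ k ih =>
        rw [pow_succ', Module.End.mul_apply, ih, map_add, map_smul, h5]
        push_cast
        rw [add_smul, one_smul]
        abel
    obtain ⟨m, hm⟩ := hH (u * v * u⁻¹ * v⁻¹)
    have h7 : A ^ (3 ^ m) = 1 := by
      rw [hA, ← map_pow, hm, map_one]
    have h8 := hk (3 ^ m)
    rw [h7, Module.End.one_apply] at h8
    have h9 : ((3 ^ m : ℕ) : K) • (A w - w) = 0 := by
      have h10 : w + ((3 ^ m : ℕ) : K) • (A w - w) = w + 0 := by rw [add_zero]; exact h8.symm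
      exact add_left_cancel h10
    have h11 : ((3 ^ m : ℕ) : K) ≠ 0 := by
      rw [Nat.cast_pow]
      exact pow_ne_zero _ hqK
    have h12 : A w - w = 0 := (smul_eq_zero.mp h9).resolve_left h11
    exact sub_eq_zero.mp h12

end S2GammaMain

end Cfsg.Agent.Lib.helper75
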