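import Mathlib
import Cfsg.Agent.Lib.helper75.SGModule
import Cfsg.Agent.Lib.helper75.S2Gamma

set_option autoImplicit false

namespace Cfsg.Agent.Lib.helper75

open Module

section S2Lin

/-- Extension of scalars of endomorphisms, together with the compatible embedding of vectors. -/
theorem s2_baseChange (F : Type*) [Field F] (V : Type*) [AddCommGroup V] [Module F V]
    [FiniteDimensional F V] (K : Type*) [Field K] [Algebra F K] :
    ∃ (Φ : Module.End F V →+* Module.End K (Fin (Module.finrank F V) → K))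
      (ι : V → (Fin (Module.finrank F V) → K)),
      Function.Injective Φ ∧ Function.Injective ι ∧ ∀ f v, Φ f (ι v) = ι (f v) := by
  classical
  let e1 : Module.End F V →+* Matrix (Fin (Module.finrank F V)) (Fin (Module.finrank F V)) F :=
    (LinearMap.toMatrixAlgEquiv (Module.finBasis F V)).toRingEquiv.toRingHom
  let e2 : Matrix (Fin (Module.finrank F V)) (Fin (Module.finrank F V)) F →+*
      Matrix (Fin (Module.finrank F V)) (Fin (Module.finrank F V)) K := (algebraMap F K).mapMatrix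
  let e3 : Matrix (Fin (Module.finrank F V)) (Fin (Module.finrank F V)) K →+*
      Module.End K (Fin (Module.finrank F V) → K) :=
    (Matrix.toLinAlgEquiv' (R := K) (n := Fin (Module.finrank F V))).toRingEquiv.toRingHom
  refine ⟨(e3.comp e2).comp e1,
    fun v i => algebraMap F K ((Module.finBasis F V).repr v i), ?_, ?_, ?_⟩
  · have h1 : Function.Injective e1 :=
      (LinearMap.toMatrixAlgEquiv (Module.finBasis F V)).injective
    have h2 : Function.Injective e2 := Matrix.map_injective (algebraMap F K).injective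
    have h3 : Function.Injective e3 :=
      (Matrix.toLinAlgEquiv' (R := K) (n := Fin (Module.finrank F V))).injective
    exact (h3.comp h2).comp h1
  · intro v v' h
    apply (Module.finBasis F V).repr.injective
    ext i
    exact (algebraMap F K).injective (congrFun h i)
  · intro f v
    funext i
    show (((algebraMap F K).mapMatrix (LinearMap.toMatrixAlgEquiv (Module.finBasis F V) f)).mulVec
      (fun j => algebraMap F K ((Module.finBasis F V).repr v j))) i
        = algebraMap F K ((Module.finBasis F V).repr (f v) i)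
    have h1 := LinearMap.toMatrix_mulVec_repr (Module.finBasis F V) (Module.finBasis F V) f v
    rw [← h1]
    have h2 := RingHom.map_mulVec (algebraMap F K)
      (LinearMap.toMatrix (Module.finBasis F V) (Module.finBasis F V) f)
      ((Module.finBasis F V).repr v) i
    rw [h2]
    rfl

theorem s2_char_ne (r : ℕ) [Fact r.Prime] (q : ℕ) (hq : q.Prime) (hqr : q ≠ r) :
    ((q : ℕ) : AlgebraicClosure (ZMod r)) ≠ 0 := by
  have hr : r.Prime := Fact.out
  haveI hchar : CharP (AlgebraicClosure (ZMod r)) r :=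
    charP_of_injective_algebraMap (algebraMap (ZMod r) (AlgebraicClosure (ZMod r))).injective r
  intro h
  have h1 := (CharP.cast_eq_zero_iff (AlgebraicClosure (ZMod r)) r q).mp h
  exact hqr ((Nat.prime_dvd_prime_iff_eq hr hq).mp h1).symm

theorem s2_r_ne_two {M : Type*} [CommGroup M] [Finite M] [Nontrivial M] (r : ℕ) [Fact r.Prime]
    (hM : ∀ x : M, x ^ r = 1) (n : ℕ) (β : MulAut M) (hβ : β ^ (2 ^ n) = 1)
    (hβfpf : ∀ x, β x = x → x = 1) : r ≠ 2 := by
  have hr : r.Prime := Fact.out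
  intro hr2
  obtain ⟨x, hx⟩ := exists_ne (1 : M)
  have h1 : orderOf x ∣ r := orderOf_dvd_of_pow_eq_one (hM x)
  have h2 : orderOf x = r := by
    rcases (Nat.dvd_prime hr).mp h1 with h | h
    · exact absurd (orderOf_eq_one_iff.mp h) hx
    · exact h
  have h3 : 2 ∣ Nat.card M := by
    rw [← hr2, ← h2]
    exact orderOf_dvd_natCard x
  exact sg_not_dvd_card β 2 n Nat.prime_two hβ hβfpf h3

/-- The module data over the algebraic closure attached to an action on an elementary abelian
group. -/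
theorem s2_setup {M : Type*} [CommGroup M] [Finite M] {H : Type*} [Group H] (r : ℕ)
    [Fact r.Prime] [Module (ZMod r) (Additive M)] (n : ℕ) (α : MulAut H) (φ : H →* MulAut M)
    (β : MulAut M) (hβ : β ^ (2 ^ n) = 1) (hβfpf : ∀ x, β x = x → x = 1)
    (hβφ : ∀ h x, β (φ h x) = φ (α h) (β x))
    (hT : ∀ h k, φ (h * (α ^ (2 ^ (n - 1))) h) * φ k = φ k * φ (h * (α ^ (2 ^ (n - 1))) h)) :
    ∃ (Φ : Module.End (ZMod r) (Additive M) →+* Module.End (AlgebraicClosure (ZMod r))
        (Fin (Module.finrank (ZMod r) (Additive M)) → AlgebraicClosure (ZMod r)))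
      (ι : Additive M → (Fin (Module.finrank (ZMod r) (Additive M)) → AlgebraicClosure (ZMod r))),
      Function.Injective Φ ∧ Function.Injective ι ∧ (∀ f v, Φ f (ι v) = ι (f v)) ∧
      S2Good n α ((Φ.toMonoidHom.comp (sgLin r)).comp φ) (Φ (sgLin r β)) := by
  classical
  haveI : Finite (Additive M) := inferInstanceAs (Finite M)
  haveI : Module.Finite (ZMod r) (Additive M) := Module.Finite.of_finite
  obtain ⟨Φ, ι, hΦ, hι, hΦι⟩ := s2_baseChange (ZMod r) (Additive M) (AlgebraicClosure (ZMod r))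
  refine ⟨Φ, ι, hΦ, hι, hΦι, ?_, ?_, ?_, ?_⟩
  · rw [← map_pow, ← map_pow, hβ, map_one, map_one]
  · intro h
    show Φ (sgLin r β) * Φ (sgLin r (φ h)) = Φ (sgLin r (φ (α h))) * Φ (sgLin r β)
    rw [← map_mul, ← map_mul, ← map_mul, ← map_mul]
    congr 2
    refine MulEquiv.ext fun x => ?_
    exact hβφ h x
  · have hinj : Function.Injective (sgLin r β - 1 : Module.End (ZMod r) (Additive M)) := by
      rw [injective_iff_map_eq_zero]
      intro u hu
      have h1 : sgLin r β u = u := sub_eq_zero.mp hu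
      have h2 := hβfpf (Additive.toMul u) (congrArg Additive.toMul h1)
      exact congrArg Additive.ofMul h2
    have hunit : IsUnit (sgLin r β - 1 : Module.End (ZMod r) (Additive M)) :=
      (Module.End.isUnit_iff _).mpr ⟨hinj, LinearMap.injective_iff_surjective.mp hinj⟩
    have hunit2 : IsUnit (Φ (sgLin r β) - 1) := by
      have h1 := hunit.map Φ
      rwa [map_sub, map_one] at h1
    intro w hw
    have h1 : (Φ (sgLin r β) - 1) w = 0 := by
      rw [LinearMap.sub_apply, hw, Module.End.one_apply, sub_self]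
    exact ((Module.End.isUnit_iff _).mp hunit2).injective (h1.trans (map_zero _).symm)
  · intro h k
    show Φ (sgLin r (φ _)) * Φ (sgLin r (φ k)) = Φ (sgLin r (φ k)) * Φ (sgLin r (φ _))
    rw [← map_mul Φ, ← map_mul Φ, ← map_mul (sgLin r), ← map_mul (sgLin r), hT]

end S2Lin

section S2LinGrp

variable {M : Type*} [CommGroup M] [Finite M] {H : Type*} [Group H] [Finite H]

/-- Group-level abelian/arithmetic module theorem for `p = 2`. -/
theorem s2_arith_grp (q : ℕ) [Fact q.Prime] (hq2 : q ≠ 2) (r : ℕ) [Fact r.Prime] (hrq : r ≠ q)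
    (hM : ∀ x : M, x ^ r = 1) (hH : IsPGroup q H) (n : ℕ) (α : MulAut H) (hα : α ^ (2 ^ n) = 1)
    (φ : H →* MulAut M) (β : MulAut M) (hβ : β ^ (2 ^ n) = 1) (hβfpf : ∀ x, β x = x → x = 1)
    (hβφ : ∀ h x, β (φ h x) = φ (α h) (β x))
    (hT : ∀ h k, φ (h * (α ^ (2 ^ (n - 1))) h) * φ k = φ k * φ (h * (α ^ (2 ^ (n - 1))) h)) :
    (∀ h, φ ((α ^ (2 ^ (n - 1))) h) = φ h) ∨ (q % 4 = 3 ∧ ∃ u v, φ u * φ v ≠ φ v * φ u) := by
  classical
  have hq : q.Prime := Fact.out
  rcases subsingleton_or_nontrivial M with hsub | hnt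
  · left
    intro h
    refine MulEquiv.ext fun x => ?_
    exact Subsingleton.elim _ _
  have hr2 := s2_r_ne_two r hM n β hβ hβfpf
  have hexp : ∀ a : Additive M, r • a = 0 := by
    intro a
    apply Additive.toMul.injective
    rw [toMul_nsmul, hM]
    rfl
  letI : Module (ZMod r) (Additive M) := AddCommGroup.zmodModule hexp
  obtain ⟨Φ, ι, hΦ, hι, hΦι, hg⟩ := s2_setup r n α φ β hβ hβfpf hβφ hT
  have h2K : (2 : AlgebraicClosure (ZMod r)) ≠ 0 := by
    exact_mod_cast s2_char_ne r 2 Nat.prime_two (Ne.symm hr2)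
  have hqK := s2_char_ne r q hq (Ne.symm hrq)
  haveI : Finite (Additive M) := inferInstanceAs (Finite M)
  haveI : Module.Finite (ZMod r) (Additive M) := Module.Finite.of_finite
  rcases s2_arith q hq2 hH h2K hqK n α hα _ _ _ hg with h | ⟨h4, u, v, hne⟩
  · left
    intro h'
    apply sgLin_injective r
    apply hΦ
    exact h h'
  · right
    refine ⟨h4, u, v, fun hc => hne ?_⟩
    rw [← map_mul, ← map_mul]
    have e : φ (u * v) = φ (v * u) := by rw [map_mul, map_mul, hc]
    exact congrArg (fun f : MulAut M => Φ (sgLin r f)) e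

/-- Group-level form of `s2_beta`. -/
theorem s2_beta_grp (q : ℕ) [Fact q.Prime] (hq2 : q ≠ 2) (r : ℕ) [Fact r.Prime] (hrq : r ≠ q)
    (hM : ∀ x : M, x ^ r = 1) (hH : IsPGroup q H) (n : ℕ) (α : MulAut H) (hα : α ^ (2 ^ n) = 1)
    (φ : H →* MulAut M) (β : MulAut M) (hβ : β ^ (2 ^ n) = 1) (hβfpf : ∀ x, β x = x → x = 1)
    (hβφ : ∀ h x, β (φ h x) = φ (α h) (β x))
    (hT : ∀ h k, φ (h * (α ^ (2 ^ (n - 1))) h) * φ k = φ k * φ (h * (α ^ (2 ^ (n - 1))) h))
    (c₁ : H) (hc : φ c₁ ≠ 1) :
    ∃ (N L : Subgroup H) (j : ℕ), (α ^ j) c₁ ∉ N ∧ L.index ∣ q ^ 2 ∧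
      ∀ l ∈ L, ∀ h, l * h * l⁻¹ * h⁻¹ ∈ N := by
  classical
  have hq : q.Prime := Fact.out
  rcases subsingleton_or_nontrivial M with hsub | hnt
  · exfalso
    apply hc
    refine MulEquiv.ext fun x => ?_
    exact Subsingleton.elim _ _
  have hr2 := s2_r_ne_two r hM n β hβ hβfpf
  have hexp : ∀ a : Additive M, r • a = 0 := by
    intro a
    apply Additive.toMul.injective
    rw [toMul_nsmul, hM]
    rfl
  letI : Module (ZMod r) (Additive M) := AddCommGroup.zmodModule hexp
  obtain ⟨Φ, ι, hΦ, hι, hΦι, hg⟩ := s2_setup r n α φ β hβ hβfpf hβφ hT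
  have h2K : (2 : AlgebraicClosure (ZMod r)) ≠ 0 := by
    exact_mod_cast s2_char_ne r 2 Nat.prime_two (Ne.symm hr2)
  have hqK := s2_char_ne r q hq (Ne.symm hrq)
  haveI : Finite (Additive M) := inferInstanceAs (Finite M)
  haveI : Module.Finite (ZMod r) (Additive M) := Module.Finite.of_finite
  apply s2_beta q hq2 hH h2K hqK n α hα _ _ _ hg c₁
  intro h1
  apply hc
  apply sgLin_injective r
  apply hΦ
  have e1 : Φ (sgLin r (1 : MulAut M)) = 1 := by
    rw [map_one (sgLin r)]
    exact RingHom.map_one Φ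
  exact h1.trans e1.symm

/-- Group-level form of `s2_gamma`. -/
theorem s2_gamma_grp (r : ℕ) [Fact r.Prime] (hr3 : r ≠ 3)
    (hM : ∀ x : M, x ^ r = 1) (hH : IsPGroup 3 H) (n : ℕ) (hn : 1 ≤ n) (α : MulAut H)
    (hα : α ^ (2 ^ n) = 1)
    (φ : H →* MulAut M) (β : MulAut M) (hβ : β ^ (2 ^ n) = 1) (hβfpf : ∀ x, β x = x → x = 1)
    (hβφ : ∀ h x, β (φ h x) = φ (α h) (β x))
    (hT : ∀ h k, φ (h * (α ^ (2 ^ (n - 1))) h) * φ k = φ k * φ (h * (α ^ (2 ^ (n - 1))) h))
    (u v : H) (e : M) (he : φ u e = e) (ht : (β ^ (2 ^ (n - 1))) e = e) :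
    φ (u * v * u⁻¹ * v⁻¹) e = e := by
  classical
  rcases subsingleton_or_nontrivial M with hsub | hnt
  · exact Subsingleton.elim _ _
  have hr2 := s2_r_ne_two r hM n β hβ hβfpf
  have hexp : ∀ a : Additive M, r • a = 0 := by
    intro a
    apply Additive.toMul.injective
    rw [toMul_nsmul, hM]
    rfl
  letI : Module (ZMod r) (Additive M) := AddCommGroup.zmodModule hexp
  obtain ⟨Φ, ι, hΦ, hι, hΦι, hg⟩ := s2_setup r n α φ β hβ hβfpf hβφ hT
  have h2K : (2 : AlgebraicClosure (ZMod r)) ≠ 0 := by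
    exact_mod_cast s2_char_ne r 2 Nat.prime_two (Ne.symm hr2)
  have h3K : (3 : AlgebraicClosure (ZMod r)) ≠ 0 := by
    exact_mod_cast s2_char_ne r 3 Nat.prime_three (Ne.symm hr3)
  haveI : Finite (Additive M) := inferInstanceAs (Finite M)
  haveI : Module.Finite (ZMod r) (Additive M) := Module.Finite.of_finite
  have key := s2_gamma hH h2K h3K n hn α hα _ _ _ hg u v (ι (Additive.ofMul e)) (by
      show Φ (sgLin r (φ u)) (ι (Additive.ofMul e)) = ι (Additive.ofMul e)
      rw [hΦι]
      exact congrArg ι (congrArg Additive.ofMul he)) (by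
      show (Φ (sgLin r β) ^ (2 ^ (n - 1))) (ι (Additive.ofMul e)) = ι (Additive.ofMul e)
      rw [← map_pow, ← map_pow, hΦι]
      exact congrArg ι (congrArg Additive.ofMul ht))
  have key' : ι (Additive.ofMul (φ (u * v * u⁻¹ * v⁻¹) e)) = ι (Additive.ofMul e) :=
    (hΦι (sgLin r (φ (u * v * u⁻¹ * v⁻¹))) (Additive.ofMul e)).symm.trans key
  exact congrArg Additive.toMul (hι key')

end S2LinGrp

end Cfsg.Agent.Lib.helper75
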