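import Mathlib
import Cfsg.Agent.Lib.helper1.ThompsonFpf
import Cfsg.Agent.Lib.helper75.SGAut
import Cfsg.Agent.Lib.helper75.S2Num

set_option autoImplicit false

namespace Cfsg.Agent.Lib.helper75

open Cfsg.Agent.Lib.helper1

section S2NDa

theorem s2_coprime_pow {G : Type*} [Group G] (g : G) (m k : ℕ) (h1 : g ^ m = 1) (h2 : g ^ k = 1)
    (hc : Nat.Coprime m k) : g = 1 := by
  have h := Nat.dvd_gcd (orderOf_dvd_of_pow_eq_one h1) (orderOf_dvd_of_pow_eq_one h2)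
  rw [hc.gcd_eq_one] at h
  exact orderOf_eq_one_iff.mp (Nat.dvd_one.mp h)

theorem s2_odd_order {G : Type*} [Group G] (q : ℕ) [Fact q.Prime] (hq2 : q ≠ 2)
    (hG : IsPGroup q G) (g : G) : Odd (orderOf g) := by
  obtain ⟨k, hk⟩ := hG g
  exact Odd.of_dvd_nat ((Fact.out : q.Prime).odd_of_ne_two hq2).pow (orderOf_dvd_of_pow_eq_one hk)

theorem s2_sq_eq_one {G : Type*} [Group G] (q : ℕ) [Fact q.Prime] (hq2 : q ≠ 2)
    (hG : IsPGroup q G) (g : G) (h : g ^ 2 = 1) : g = 1 := by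
  have h1 := s2_mem_of_sq_mem ⊥ g (s2_odd_order q hq2 hG g) (by rw [h]; exact Subgroup.one_mem _)
  exact Subgroup.mem_bot.mp h1

theorem s2_exists_sqrt {G : Type*} [Group G] (q : ℕ) [Fact q.Prime] (hq2 : q ≠ 2)
    (hG : IsPGroup q G) (g : G) : ∃ x : G, x ^ 2 = g := by
  obtain ⟨k, hk⟩ := s2_odd_order q hq2 hG g
  refine ⟨g ^ (k + 1), ?_⟩
  rw [← pow_mul]
  have e : (k + 1) * 2 = orderOf g + 1 := by omega
  rw [e, pow_succ, pow_orderOf_eq_one, one_mul]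

/-- An element acting trivially on a fixed subgroup and on the quotient by it acts trivially
(coprime action). -/
theorem s2_coprime_triv {S Q : Type*} [Group S] [Group Q] (s q : ℕ) [Fact s.Prime]
    [Fact q.Prime] (hsq : s ≠ q) (hS : IsPGroup s S) (hQ : IsPGroup q Q) (ψ : S →* MulAut Q)
    (Z : Subgroup Q) (hZ : ∀ u, ∀ z ∈ Z, ψ u z = z) (w : S) (hw : ∀ x, x⁻¹ * ψ w x ∈ Z) :
    ψ w = 1 := by
  refine MulEquiv.ext fun x => ?_
  have h1 : ψ w x = x * (x⁻¹ * ψ w x) := by rw [mul_inv_cancel_left]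
  have h2 : ∀ k : ℕ, ((ψ w) ^ k) x = x * (x⁻¹ * ψ w x) ^ k := by
    intro k
    induction k with
    | zero => simp
    | succ k ih =>
      have e1 : ((ψ w) ^ (k + 1)) x = ψ w (((ψ w) ^ k) x) := by
        rw [pow_succ', MulAut.mul_apply]
      rw [e1, ih, map_mul, map_pow, hZ w _ (hw x), pow_succ', ← mul_assoc, mul_inv_cancel_left]
  obtain ⟨m, hm⟩ := hS w
  obtain ⟨m', hm'⟩ := hQ (x⁻¹ * ψ w x)
  have h3 := h2 (s ^ m)
  rw [← map_pow, hm, map_one, MulAut.one_apply] at h3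
  have h4 : (x⁻¹ * ψ w x) ^ (s ^ m) = 1 := by
    apply mul_left_cancel (a := x)
    rw [mul_one]
    exact h3.symm
  have hcop : Nat.Coprime (s ^ m) (q ^ m') :=
    Nat.Coprime.pow _ _ ((Nat.coprime_primes Fact.out Fact.out).mpr hsq)
  have h5 := s2_coprime_pow _ _ _ h4 hm' hcop
  rw [MulAut.one_apply, h1, h5, mul_one]

/-- The homomorphism induced on a quotient by an invariant normal subgroup. -/
noncomputable def s2QuotHom {S Q : Type*} [Group S] [Group Q] [Finite Q] (ψ : S →* MulAut Q)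
    (N : Subgroup Q) [N.Normal] (hN : ∀ u, ∀ x ∈ N, ψ u x ∈ N) : S →* MulAut (Q ⧸ N) where
  toFun u := quotAut (ψ u) N (hN u)
  map_one' := by
    refine MulEquiv.ext fun x => ?_
    obtain ⟨x, rfl⟩ := QuotientGroup.mk_surjective x
    show (QuotientGroup.mk (ψ 1 x) : Q ⧸ N) = QuotientGroup.mk x
    rw [map_one]
    rfl
  map_mul' u v := by
    refine MulEquiv.ext fun x => ?_
    obtain ⟨x, rfl⟩ := QuotientGroup.mk_surjective x
    show (QuotientGroup.mk (ψ (u * v) x) : Q ⧸ N) = QuotientGroup.mk (ψ u (ψ v x))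
    rw [map_mul]
    rfl

theorem s2QuotHom_mk {S Q : Type*} [Group S] [Group Q] [Finite Q] (ψ : S →* MulAut Q)
    (N : Subgroup Q) [N.Normal] (hN : ∀ u, ∀ x ∈ N, ψ u x ∈ N) (u : S) (x : Q) :
    s2QuotHom ψ N hN u (QuotientGroup.mk x : Q ⧸ N) = (QuotientGroup.mk (ψ u x) : Q ⧸ N) := rfl

theorem s2QuotHom_congr {S Q : Type*} [Group S] [Group Q] [Finite Q] (ψ : S →* MulAut Q)
    (N : Subgroup Q) [N.Normal] (hN : ∀ u, ∀ x ∈ N, ψ u x ∈ N) (u v : S) (h : ψ u = ψ v) :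
    s2QuotHom ψ N hN u = s2QuotHom ψ N hN v := by
  refine MulEquiv.ext fun x => ?_
  obtain ⟨x, rfl⟩ := QuotientGroup.mk_surjective x
  rw [s2QuotHom_mk, s2QuotHom_mk, h]

theorem s2_comm_pow {Γ : Type*} [Group Γ] (x y : Γ)
    (h : (x * y * x⁻¹ * y⁻¹) * x = x * (x * y * x⁻¹ * y⁻¹)) (k : ℕ) :
    (x * y * x⁻¹ * y⁻¹) ^ k = x ^ k * y * (x ^ k)⁻¹ * y⁻¹ := by
  induction k with
  | zero => simp
  | succ k ih =>
    have hc : (x * y * x⁻¹ * y⁻¹) ^ k * x = x * (x * y * x⁻¹ * y⁻¹) ^ k :=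
      (Commute.pow_left (show Commute _ x from h) k).eq
    calc (x * y * x⁻¹ * y⁻¹) ^ (k + 1)
        = (x * y * x⁻¹ * y⁻¹) ^ k * x * y * x⁻¹ * y⁻¹ := by
          rw [pow_succ]
          simp only [mul_assoc]
      _ = x * (x * y * x⁻¹ * y⁻¹) ^ k * y * x⁻¹ * y⁻¹ := by rw [hc]
      _ = x * (x ^ k * y * (x ^ k)⁻¹ * y⁻¹) * y * x⁻¹ * y⁻¹ := by rw [ih]
      _ = x ^ (k + 1) * y * (x ^ (k + 1))⁻¹ * y⁻¹ := by
          rw [pow_succ']
          group

theorem s2_closure_comm {S Γ : Type*} [Group S] [Group Γ] (ρ : S →* Γ) (k : Set S)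
    (hk : Subgroup.closure k = ⊤) (hc : ∀ g ∈ k, ∀ g' ∈ k, ρ g * ρ g' = ρ g' * ρ g) :
    ∀ w w', ρ w * ρ w' = ρ w' * ρ w := by
  have key1 : ∀ g ∈ k, ∀ w : S, ρ g * ρ w = ρ w * ρ g := by
    intro g hg w
    have hw : w ∈ Subgroup.closure k := by
      rw [hk]
      exact Subgroup.mem_top w
    induction hw using Subgroup.closure_induction with
    | mem w hw => exact hc g hg w hw
    | one =>
      rw [map_one]
      exact (Commute.one_right _).eq
    | mul w w' _ _ ih ih' =>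
      rw [map_mul]
      exact (Commute.mul_right (show Commute _ _ from ih) ih').eq
    | inv w _ ih =>
      rw [map_inv]
      exact (Commute.inv_right (show Commute (ρ g) (ρ w) from ih)).eq
  intro w w'
  have hw : w ∈ Subgroup.closure k := by
    rw [hk]
    exact Subgroup.mem_top w
  induction hw using Subgroup.closure_induction with
  | mem w hw => exact key1 w hw w'
  | one =>
    rw [map_one]
    exact (Commute.one_left _).eq
  | mul a b _ _ ih ih' =>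
    rw [map_mul]
    exact (Commute.mul_left (show Commute _ _ from ih) ih').eq
  | inv a _ ih =>
    rw [map_inv]
    exact (Commute.inv_left (show Commute (ρ a) (ρ w') from ih)).eq

theorem s2_avg6 {E : Type*} [CommGroup E] (x t : MulAut E) (h3 : ∀ y, x (x (x y)) = y)
    (h2 : ∀ y, t (t y) = y) (h1 : ∀ y, x (t y) = t (x (x y))) (e : E) :
    x (e * x e * x (x e) * t e * t (x e) * t (x (x e)))
        = e * x e * x (x e) * t e * t (x e) * t (x (x e)) ∧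
    t (e * x e * x (x e) * t e * t (x e) * t (x (x e)))
        = e * x e * x (x e) * t e * t (x e) * t (x (x e)) := by
  constructor
  · simp only [map_mul, h1, h3]
    ac_rfl
  · simp only [map_mul, h2]
    ac_rfl

end S2NDa

section S2K

variable {Q : Type*} [Group Q] (Z : Subgroup Q) (hZc : ∀ z ∈ Z, ∀ x, z * x = x * z)
  (hcomm : ∀ x y : Q, x * y * x⁻¹ * y⁻¹ ∈ Z)

/-- The commutator map `y ↦ [y, g]` as a homomorphism (class two). -/
def s2K (g : Q) : Q →* Q where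
  toFun y := y * g * y⁻¹ * g⁻¹
  map_one' := by group
  map_mul' x y := by
    have h := hZc _ (hcomm y g) x
    have h2 := hZc _ (hcomm y g) (x * g * x⁻¹ * g⁻¹)
    calc x * y * g * (x * y)⁻¹ * g⁻¹ = x * (y * g * y⁻¹ * g⁻¹) * g * x⁻¹ * g⁻¹ := by group
      _ = (y * g * y⁻¹ * g⁻¹) * x * g * x⁻¹ * g⁻¹ := by rw [← h]
      _ = x * g * x⁻¹ * g⁻¹ * (y * g * y⁻¹ * g⁻¹) := by
          rw [← h2]
          simp only [mul_assoc]

theorem s2K_apply (g y : Q) : s2K Z hZc hcomm g y = y * g * y⁻¹ * g⁻¹ := rfl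

theorem s2K_swap (g y : Q) : s2K Z hZc hcomm g y = (s2K Z hZc hcomm y g)⁻¹ := by
  rw [s2K_apply, s2K_apply]
  group

theorem s2K_aut (f : MulAut Q) (hf : ∀ z ∈ Z, f z = z) (g y : Q) :
    s2K Z hZc hcomm (f g) (f y) = s2K Z hZc hcomm g y := by
  rw [s2K_apply, s2K_apply, ← map_inv, ← map_inv, ← map_mul, ← map_mul, ← map_mul]
  exact hf _ (hcomm y g)

/-- The radical of the commutator pairing modulo `Z₁`. -/
def s2Rad (Z₁ : Subgroup Q) : Subgroup Q := ⨅ g : Q, Z₁.comap (s2K Z hZc hcomm g)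

theorem mem_s2Rad (Z₁ : Subgroup Q) (x : Q) :
    x ∈ s2Rad Z hZc hcomm Z₁ ↔ ∀ g, x * g * x⁻¹ * g⁻¹ ∈ Z₁ := by
  unfold s2Rad
  rw [Subgroup.mem_iInf]
  exact Iff.rfl

theorem s2Rad_ge (Z₁ : Subgroup Q) : Z ≤ s2Rad Z hZc hcomm Z₁ := by
  intro z hz
  rw [mem_s2Rad]
  intro g
  rw [hZc z hz g, mul_inv_cancel_right, mul_inv_cancel]
  exact Z₁.one_mem

theorem s2Rad_aut (Z₁ : Subgroup Q) (f : MulAut Q) (hf : ∀ z ∈ Z, f z = z) :
    ∀ x ∈ s2Rad Z hZc hcomm Z₁, f x ∈ s2Rad Z hZc hcomm Z₁ := by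
  intro x hx
  rw [mem_s2Rad] at hx ⊢
  intro g
  have h1 := hx (f⁻¹ g)
  have h2 := s2K_aut Z hZc hcomm f hf (f⁻¹ g) x
  rw [MulAut.apply_inv_self, s2K_apply, s2K_apply] at h2
  rw [h2]
  exact h1

theorem s2Rad_normal (Z₁ : Subgroup Q) : (s2Rad Z hZc hcomm Z₁).Normal := by
  constructor
  intro x hx g
  have h1 : g * x * g⁻¹ = (g * x * g⁻¹ * x⁻¹) * x := by group
  rw [h1]
  exact Subgroup.mul_mem _ (s2Rad_ge Z hZc hcomm Z₁ (hcomm g x)) hx

end S2K

end Cfsg.Agent.Lib.helper75
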