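import Mathlib

set_option autoImplicit false

namespace Cfsg.Agent.Lib.helper75

open Module

section S2P8a

/-- Reindexing a geometric sum by a unit modulo `s`. -/
theorem s2_sum_pow_mul {R : Type*} [Semiring R] (C : R) (s m : ℕ) (hs : s.Prime)
    (hCs : C ^ s = 1) (hm : ¬ s ∣ m) :
    ∑ k ∈ Finset.range s, C ^ (m * k) = ∑ k ∈ Finset.range s, C ^ k := by
  classical
  have hcop : Nat.Coprime s m := (Nat.Prime.coprime_iff_not_dvd hs).mpr hm
  have hinj : Set.InjOn (fun k => (m * k) % s) (Finset.range s : Set ℕ) := by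
    intro k hk k' hk' h
    have hk1 : k < s := Finset.mem_range.mp hk
    have hk2 : k' < s := Finset.mem_range.mp hk'
    have h1 : m * k ≡ m * k' [MOD s] := h
    have h2 : k ≡ k' [MOD s] := Nat.ModEq.cancel_left_of_coprime hcop h1
    have h3 : k % s = k' % s := h2
    rwa [Nat.mod_eq_of_lt hk1, Nat.mod_eq_of_lt hk2] at h3
  have himg : (Finset.range s).image (fun k => (m * k) % s) = Finset.range s := by
    apply Finset.eq_of_subset_of_card_le
    · intro x hx
      obtain ⟨k, -, rfl⟩ := Finset.mem_image.mp hx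
      exact Finset.mem_range.mpr (Nat.mod_lt _ hs.pos)
    · rw [Finset.card_image_of_injOn hinj]
  calc ∑ k ∈ Finset.range s, C ^ (m * k)
      = ∑ k ∈ Finset.range s, C ^ ((m * k) % s) :=
        Finset.sum_congr rfl (fun k _ => pow_eq_pow_mod _ hCs)
    _ = ∑ x ∈ (Finset.range s).image (fun k => (m * k) % s), C ^ x :=
        (Finset.sum_image hinj).symm
    _ = ∑ k ∈ Finset.range s, C ^ k := by rw [himg]

variable {F : Type*} [Field F] {V : Type*} [AddCommGroup V] [Module F V]

/-- If the norm `∑ A ^ k` kills `v`, then `v` lies in the image of `A - 1`. -/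
theorem s2_geom_solve (A : Module.End F V) (s : ℕ) (hsF : (s : F) ≠ 0) (v : V)
    (hv : (∑ k ∈ Finset.range s, A ^ k) v = 0) : ∃ w, A w - w = v := by
  refine ⟨-((s : F)⁻¹ • ∑ k ∈ Finset.range s, (∑ i ∈ Finset.range k, A ^ i) v), ?_⟩
  have h1 : ∀ k : ℕ, A ((∑ i ∈ Finset.range k, A ^ i) v) - (∑ i ∈ Finset.range k, A ^ i) v
      = (A ^ k) v - v := by
    intro k
    have h2 := mul_geom_sum A k
    have h3 := congrArg (fun G : Module.End F V => G v) h2
    simpa [Module.End.mul_apply, sub_mul] using h3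
  have h4 : A (∑ k ∈ Finset.range s, (∑ i ∈ Finset.range k, A ^ i) v)
      - ∑ k ∈ Finset.range s, (∑ i ∈ Finset.range k, A ^ i) v = -((s : F) • v) := by
    rw [map_sum, ← Finset.sum_sub_distrib, Finset.sum_congr rfl (fun k _ => h1 k),
      Finset.sum_sub_distrib, Finset.sum_const, Finset.card_range]
    have h5 : ∑ k ∈ Finset.range s, (A ^ k) v = 0 := by
      rw [← hv, LinearMap.sum_apply]
    rw [h5, zero_sub, Nat.cast_smul_eq_nsmul]
  rw [map_neg, map_smul, neg_sub_neg, ← smul_sub, ← neg_sub, h4, neg_neg, smul_smul,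
    inv_mul_cancel₀ hsF, one_smul]

end S2P8a

section S2P8E

variable {F : Type*} [Field F] {V : Type*} [AddCommGroup V] [Module F V]

/-- The norm operator of `C`. -/
def s2N (s : ℕ) (C : Module.End F V) : Module.End F V := ∑ k ∈ Finset.range s, C ^ k

/-- The projection onto the fixed space of `X * C ^ j`. -/
def s2E (s : ℕ) (X C : Module.End F V) (j : ℕ) : Module.End F V :=
  (s : F)⁻¹ • ∑ k ∈ Finset.range s, (X * C ^ j) ^ k

variable {s : ℕ} {X C : Module.End F V}

theorem s2N_fix (hCs : C ^ s = 1) : C * s2N s C = s2N s C := by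
  unfold s2N
  have h := mul_geom_sum C s
  rw [hCs, sub_self, sub_mul, one_mul] at h
  exact sub_eq_zero.mp h

theorem s2N_apply_fix (v : V) (hv : C v = v) : s2N s C v = (s : F) • v := by
  unfold s2N
  have h1 : ∀ k : ℕ, (C ^ k) v = v := by
    intro k
    induction k with
    | zero => simp
    | succ k ih => rw [pow_succ, Module.End.mul_apply, hv, ih]
  rw [LinearMap.sum_apply, Finset.sum_congr rfl (fun k _ => h1 k), Finset.sum_const,
    Finset.card_range, Nat.cast_smul_eq_nsmul]

theorem s2_V0c (hsF : (s : F) ≠ 0) (v : V) (hv : C v = v) (hN : s2N s C v = 0) : v = 0 := by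
  rw [s2N_apply_fix v hv] at hN
  exact (smul_eq_zero.mp hN).resolve_left hsF

theorem s2N_sq (hCs : C ^ s = 1) (v : V) : s2N s C (s2N s C v) = (s : F) • s2N s C v := by
  apply s2N_apply_fix
  exact congrArg (fun G : Module.End F V => G v) (s2N_fix hCs)

theorem s2N_comm (A : Module.End F V) (h : Commute C A) : Commute (s2N s C) A := by
  unfold s2N
  exact Commute.sum_left _ _ _ (fun k _ => h.pow_left k)

theorem s2E_mem (hXs : X ^ s = 1) (hCs : C ^ s = 1) (hCX : Commute C X) (j : ℕ) (v : V) :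
    X ((C ^ j) (s2E s X C j v)) = s2E s X C j v := by
  have hA : (X * C ^ j) ^ s = 1 := by
    rw [(hCX.pow_left j).symm.mul_pow, hXs, ← pow_mul, mul_comm j s, pow_mul, hCs, one_pow,
      one_mul]
  have h1 : (X * C ^ j) * ∑ k ∈ Finset.range s, (X * C ^ j) ^ k
      = ∑ k ∈ Finset.range s, (X * C ^ j) ^ k := by
    have h := mul_geom_sum (X * C ^ j) s
    rw [hA, sub_self, sub_mul, one_mul] at h
    exact sub_eq_zero.mp h
  have h2 : (X * C ^ j) * s2E s X C j = s2E s X C j := by
    unfold s2E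
    rw [mul_smul_comm, h1]
  exact congrArg (fun G : Module.End F V => G v) h2

theorem s2E_fix (hsF : (s : F) ≠ 0) (j : ℕ) (v : V) (hv : X ((C ^ j) v) = v) :
    s2E s X C j v = v := by
  unfold s2E
  have h1 : ∀ k : ℕ, ((X * C ^ j) ^ k) v = v := by
    intro k
    induction k with
    | zero => simp
    | succ k ih => rw [pow_succ, Module.End.mul_apply, Module.End.mul_apply, hv, ih]
  rw [LinearMap.smul_apply, LinearMap.sum_apply, Finset.sum_congr rfl (fun k _ => h1 k),
    Finset.sum_const, Finset.card_range, ← Nat.cast_smul_eq_nsmul F, smul_smul,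
    inv_mul_cancel₀ hsF, one_smul]

theorem s2E_zero (hs : s.Prime) (hCs : C ^ s = 1) (hCX : Commute C X) (i j : ℕ)
    (hij : ¬ i ≡ j [MOD s]) (v : V) (hv : X ((C ^ j) v) = v) (hN : s2N s C v = 0) :
    s2E s X C i v = 0 := by
  have hcomm_pt : ∀ (a : ℕ) (w : V), X ((C ^ a) w) = (C ^ a) (X w) := fun a w =>
    (congrArg (fun G : Module.End F V => G w) (hCX.pow_left a).eq).symm
  have hsj : j + (s - 1) * j = s * j := by
    have h1 : 1 ≤ s := hs.pos
    obtain ⟨t, rfl⟩ : ∃ t, s = t + 1 := ⟨s - 1, by omega⟩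
    rw [Nat.add_sub_cancel]
    ring
  have hXv : X v = (C ^ ((s - 1) * j)) v := by
    have e1 : (C ^ j) ((C ^ ((s - 1) * j)) v) = v := by
      rw [← Module.End.mul_apply, ← pow_add, hsj, pow_mul, hCs, one_pow]
      rfl
    calc X v = X ((C ^ j) ((C ^ ((s - 1) * j)) v)) := by rw [e1]
      _ = X ((C ^ ((s - 1) * j)) ((C ^ j) v)) := by
          have e2 : (C ^ j) ((C ^ ((s - 1) * j)) v) = (C ^ ((s - 1) * j)) ((C ^ j) v) := by
            rw [← Module.End.mul_apply, ← Module.End.mul_apply, ← pow_add, ← pow_add, add_comm]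
          rw [e2]
      _ = (C ^ ((s - 1) * j)) (X ((C ^ j) v)) := hcomm_pt _ _
      _ = (C ^ ((s - 1) * j)) v := by rw [hv]
  have hm : ¬ s ∣ (i + (s - 1) * j) := by
    intro hdvd
    apply hij
    have h1 : (i + (s - 1) * j + j) % s = j % s := by
      rw [Nat.add_mod, Nat.mod_eq_zero_of_dvd hdvd, zero_add, Nat.mod_mod]
    have h2 : i + (s - 1) * j + j = i + s * j := by
      rw [add_assoc, add_comm ((s - 1) * j) j, hsj]
    rw [h2, Nat.add_mul_mod_self_left] at h1
    exact h1
  have hk : ∀ k : ℕ, ((X * C ^ i) ^ k) v = (C ^ ((i + (s - 1) * j) * k)) v := by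
    intro k
    induction k with
    | zero => simp
    | succ k ih =>
      rw [pow_succ', Module.End.mul_apply, ih, Module.End.mul_apply, ← Module.End.mul_apply (C ^ i),
        ← pow_add, hcomm_pt, hXv, ← Module.End.mul_apply, ← pow_add]
      congr 2
      ring
  unfold s2E
  rw [LinearMap.smul_apply, LinearMap.sum_apply, Finset.sum_congr rfl (fun k _ => hk k),
    ← LinearMap.sum_apply, s2_sum_pow_mul C s _ hs hCs hm]
  have h3 : (∑ k ∈ Finset.range s, C ^ k) v = 0 := hN
  rw [h3, smul_zero]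

theorem s2E_sum (hs : s.Prime) (hsF : (s : F) ≠ 0) (hCs : C ^ s = 1) (hCX : Commute C X)
    (v : V) (hN : s2N s C v = 0) : ∑ j ∈ Finset.range s, s2E s X C j v = v := by
  have h1 : ∀ j k : ℕ, ((X * C ^ j) ^ k) v = (X ^ k) ((C ^ (k * j)) v) := by
    intro j k
    rw [(hCX.pow_left j).symm.mul_pow, ← pow_mul, mul_comm j k]
    rfl
  have h2 : ∑ j ∈ Finset.range s, ∑ k ∈ Finset.range s, ((X * C ^ j) ^ k) v = (s : F) • v := by
    rw [Finset.sum_comm]
    have h3 : ∀ k ∈ Finset.range s, ∑ j ∈ Finset.range s, ((X * C ^ j) ^ k) v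
        = (X ^ k) ((∑ j ∈ Finset.range s, C ^ (k * j)) v) := by
      intro k _
      rw [LinearMap.sum_apply, map_sum]
      exact Finset.sum_congr rfl (fun j _ => h1 j k)
    rw [Finset.sum_congr rfl h3, Finset.sum_eq_single 0]
    · simp [Nat.cast_smul_eq_nsmul]
    · intro k hk hk0
      have hks : k < s := Finset.mem_range.mp hk
      have hnd : ¬ s ∣ k := Nat.not_dvd_of_pos_of_lt (Nat.pos_of_ne_zero hk0) hks
      rw [s2_sum_pow_mul C s k hs hCs hnd]
      have h4 : (∑ k ∈ Finset.range s, C ^ k) v = 0 := hN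
      rw [h4, map_zero]
    · intro h0
      exact absurd (Finset.mem_range.mpr hs.pos) h0
  unfold s2E
  simp only [LinearMap.smul_apply, LinearMap.sum_apply]
  rw [← Finset.smul_sum, h2, smul_smul, inv_mul_cancel₀ hsF, one_smul]

theorem s2E_N (hCX : Commute C X) (j : ℕ) (v : V) (hN : s2N s C v = 0) :
    s2N s C (s2E s X C j v) = 0 := by
  have h1 : Commute (s2N s C) (s2E s X C j) := by
    unfold s2E
    apply Commute.smul_right
    apply Commute.sum_right
    intro k _
    apply Commute.pow_right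
    exact (s2N_comm X hCX).mul_right ((s2N_comm C (Commute.refl C)).pow_right j)
  have h2 := congrArg (fun G : Module.End F V => G v) h1.eq
  simp only [Module.End.mul_apply] at h2
  rw [h2, hN, map_zero]

end S2P8E

end Cfsg.Agent.Lib.helper75
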