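import Mathlib
import Cfsg.Agent.Lib.helper75.S2P8a

set_option autoImplicit false

namespace Cfsg.Agent.Lib.helper75

open Module

section S2P8

variable {F : Type*} [Field F] {V : Type*} [AddCommGroup V] [Module F V]

/-- Three vectors in a space of dimension at most two are linearly dependent. -/
theorem s2_dep3 [FiniteDimensional F V] (U : Submodule F V) (hU : finrank F U ≤ 2)
    (a₁ a₂ a₃ : V) (h₁ : a₁ ∈ U) (h₂ : a₂ ∈ U) (h₃ : a₃ ∈ U) :
    ∃ c₁ c₂ c₃ : F, (c₁ ≠ 0 ∨ c₂ ≠ 0 ∨ c₃ ≠ 0) ∧ c₁ • a₁ + c₂ • a₂ + c₃ • a₃ = 0 := by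
  classical
  let g : (Fin 3 → F) →ₗ[F] U :=
    (LinearMap.proj (0 : Fin 3)).smulRight (⟨a₁, h₁⟩ : U)
      + (LinearMap.proj (1 : Fin 3)).smulRight (⟨a₂, h₂⟩ : U)
      + (LinearMap.proj (2 : Fin 3)).smulRight (⟨a₃, h₃⟩ : U)
  have hg : ∀ c : Fin 3 → F, ((g c : U) : V) = c 0 • a₁ + c 1 • a₂ + c 2 • a₃ := by
    intro c
    simp [g]
  have hninj : ¬ Function.Injective g := by
    intro hinj
    have h1 := LinearMap.finrank_le_finrank_of_injective hinj
    rw [Module.finrank_fin_fun] at h1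
    omega
  have hker : LinearMap.ker g ≠ ⊥ := fun h => hninj (LinearMap.ker_eq_bot.mp h)
  obtain ⟨c, hc, hc0⟩ := Submodule.exists_mem_ne_zero_of_ne_bot hker
  refine ⟨c 0, c 1, c 2, ?_, ?_⟩
  · by_contra hcon
    rw [not_or, not_or, not_not, not_not, not_not] at hcon
    apply hc0
    funext i
    fin_cases i
    · exact hcon.1
    · exact hcon.2.1
    · exact hcon.2.2
  · rw [← hg c, LinearMap.mem_ker.mp hc]
    rfl

/-- rank bound for `X - 1` when `X` is a product of two conjugates of `T`. -/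
theorem s2_rank_four [FiniteDimensional F V] (s : ℕ) (hsodd : s % 2 = 1)
    (X X' T : Module.End F V) (hXX' : X * X' = 1) (hX'X : X' * X = 1) (hXs : X ^ s = 1)
    (hT2 : T * T = 1) (hTX : T * X * T = X')
    (hrank : finrank F (LinearMap.range (T - 1)) ≤ 2) :
    finrank F (LinearMap.range (X - 1)) ≤ 4 := by
  obtain ⟨t, ht⟩ : ∃ t, s = 2 * t + 1 := ⟨s / 2, by omega⟩
  have hcomm : Commute X X' := by
    show X * X' = X' * X
    rw [hXX', hX'X]
  have hTk : ∀ k : ℕ, T * X ^ k * T = X' ^ k := by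
    intro k
    induction k with
    | zero => simpa using hT2
    | succ k ih =>
      calc T * X ^ (k + 1) * T = (T * X ^ k * T) * (T * X * T) := by
            rw [pow_succ]
            have e : T * X ^ k * T * (T * X * T) = T * X ^ k * (T * T) * X * T := by
              simp only [mul_assoc]
            rw [e, hT2, mul_one]
            simp only [mul_assoc]
        _ = X' ^ (k + 1) := by rw [ih, hTX, pow_succ]
  have hUU : X ^ (t + 1) * X ^ (t + 1) = X := by
    rw [← pow_add]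
    have e : t + 1 + (t + 1) = s + 1 := by omega
    rw [e, pow_succ, hXs, one_mul]
  have hUU' : X ^ (t + 1) * X' ^ (t + 1) = 1 := by
    rw [← hcomm.mul_pow, hXX', one_pow]
  have hX : X = X ^ (t + 1) * T * X' ^ (t + 1) * T := by
    have e : X ^ (t + 1) * T * X' ^ (t + 1) * T = X ^ (t + 1) * (T * X' ^ (t + 1) * T) := by
      simp only [mul_assoc]
    rw [e, ← hTk (t + 1)]
    have e2 : T * (T * X ^ (t + 1) * T) * T = (T * T) * X ^ (t + 1) * (T * T) := by
      simp only [mul_assoc]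
    rw [e2, hT2, one_mul, mul_one, hUU]
  have hX1 : X - 1 = X ^ (t + 1) * (T - 1) * (X' ^ (t + 1) * T) + (T - 1) := by
    have e : X ^ (t + 1) * (T - 1) * (X' ^ (t + 1) * T)
        = X ^ (t + 1) * T * X' ^ (t + 1) * T - X ^ (t + 1) * X' ^ (t + 1) * T := by
      rw [mul_sub, mul_one, sub_mul]
      simp only [mul_assoc]
    rw [e, ← hX, hUU', one_mul]
    abel
  have hle : LinearMap.range (X - 1)
      ≤ (LinearMap.range (T - 1)).map (X ^ (t + 1)) ⊔ LinearMap.range (T - 1) := by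
    rintro _ ⟨v, rfl⟩
    rw [hX1, LinearMap.add_apply]
    apply Submodule.add_mem_sup
    · rw [Module.End.mul_apply, Module.End.mul_apply]
      exact Submodule.mem_map_of_mem (LinearMap.mem_range_self _ _)
    · exact LinearMap.mem_range_self _ _
  have h1 := Submodule.finrank_mono hle
  have h2 := Submodule.finrank_add_le_finrank_add_finrank
    ((LinearMap.range (T - 1)).map (X ^ (t + 1))) (LinearMap.range (T - 1))
  have h3 := Submodule.finrank_map_le (X ^ (t + 1)) (LinearMap.range (T - 1))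
  omega

end S2P8

section S2P8Main

variable {F : Type*} [Field F] {V : Type*} [AddCommGroup V] [Module F V]

/-- The linear algebra at the heart of the "no double exception" argument. -/
theorem s2_p8 [FiniteDimensional F V] (s : ℕ) (hs : s.Prime) (hs4 : s % 4 = 3)
    (hsF : (s : F) ≠ 0) (h2F : (2 : F) ≠ 0) (X X' Y Y' T C : Module.End F V)
    (hX'X : X' * X = 1) (hXX' : X * X' = 1) (hY'Y : Y' * Y = 1)
    (hXs : X ^ s = 1) (hT2 : T * T = 1)
    (hCXY : C * Y * X = X * Y) (hCX : Commute C X) (hCY : Commute C Y) (hCT : Commute C T)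
    (hCs : C ^ s = 1) (hTX : T * X * T = X')
    (hrank : finrank F (LinearMap.range (T - 1)) ≤ 2)
    (hγ : s = 3 → ∀ v, X v = v → T v = v → C v = v)
    (hC1 : C ≠ 1) :
    ∃ v₀ v₁ : V, v₀ ≠ 0 ∧ v₀ = C v₁ - v₁ ∧ T v₀ = v₀ ∧
      ∀ w : V, ∃ (k : F) (w₁ w₂ : V), w = k • v₀ + (T w₁ - w₁) + w₂ ∧ C w₂ = w₂ := by
  classical
  have hXC_pt : ∀ (a : ℕ) (w : V), X ((C ^ a) w) = (C ^ a) (X w) := fun a w =>
    (congrArg (fun G : Module.End F V => G w) (hCX.pow_left a).eq).symm
  have hYC_pt : ∀ (a : ℕ) (w : V), Y ((C ^ a) w) = (C ^ a) (Y w) := fun a w =>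
    (congrArg (fun G : Module.End F V => G w) (hCY.pow_left a).eq).symm
  have hTC_pt : ∀ (a : ℕ) (w : V), T ((C ^ a) w) = (C ^ a) (T w) := fun a w =>
    (congrArg (fun G : Module.End F V => G w) (hCT.pow_left a).eq).symm
  have hNY : ∀ w, s2N s C (Y w) = Y (s2N s C w) := fun w =>
    congrArg (fun G : Module.End F V => G w) (s2N_comm Y hCY).eq
  have hNT : ∀ w, s2N s C (T w) = T (s2N s C w) := fun w =>
    congrArg (fun G : Module.End F V => G w) (s2N_comm T hCT).eq
  have hCN : ∀ w, C (s2N s C w) = s2N s C w := fun w =>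
    congrArg (fun G : Module.End F V => G w) (s2N_fix hCs)
  have hTT : ∀ w, T (T w) = w := fun w => congrArg (fun G : Module.End F V => G w) hT2
  have hX'Xv : ∀ w, X' (X w) = w := fun w => congrArg (fun G : Module.End F V => G w) hX'X
  have hY'Yv : ∀ w, Y' (Y w) = w := fun w => congrArg (fun G : Module.End F V => G w) hY'Y
  -- the complement of the fixed space of `C` is nonzero
  have hVc_ne : ∃ v, v ≠ 0 ∧ s2N s C v = 0 := by
    by_contra hcon
    have hall : ∀ v, s2N s C v = 0 → v = 0 := by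
      intro v hv
      by_contra h
      exact hcon ⟨v, h, hv⟩
    apply hC1
    apply LinearMap.ext
    intro w
    have h1 : s2N s C (w - (s : F)⁻¹ • s2N s C w) = 0 := by
      rw [map_sub, map_smul, s2N_sq hCs, smul_smul, inv_mul_cancel₀ hsF, one_smul, sub_self]
    have h2 := hall _ h1
    have h3 : w = (s : F)⁻¹ • s2N s C w := sub_eq_zero.mp h2
    rw [Module.End.one_apply]
    calc C w = C ((s : F)⁻¹ • s2N s C w) := by rw [← h3]
      _ = (s : F)⁻¹ • s2N s C w := by rw [map_smul, hCN]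
      _ = w := h3.symm
  -- shifting by `Y`
  have hXY_pt : ∀ w, X (Y w) = Y (C (X w)) := by
    intro w
    have h1 := congrArg (fun G : Module.End F V => G w) hCXY
    simp only [Module.End.mul_apply] at h1
    rw [← h1]
    have h2 := hYC_pt 1 (X w)
    rw [pow_one] at h2
    exact h2.symm
  have hshift : ∀ (j : ℕ) (v : V), v ≠ 0 → s2N s C v = 0 → X ((C ^ (j + 1)) v) = v →
      Y v ≠ 0 ∧ s2N s C (Y v) = 0 ∧ X ((C ^ j) (Y v)) = Y v := by
    intro j v hv0 hvN hv
    refine ⟨?_, ?_, ?_⟩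
    · intro h
      apply hv0
      rw [← hY'Yv v, h, map_zero]
    · rw [hNY, hvN, map_zero]
    · rw [hXC_pt, hXY_pt, ← hYC_pt]
      have e : (C ^ j) (C (X v)) = X ((C ^ (j + 1)) v) := by
        rw [hXC_pt, pow_succ, Module.End.mul_apply]
      rw [e, hv]
  have hP0 : ∃ v, v ≠ 0 ∧ s2N s C v = 0 ∧ X v = v := by
    obtain ⟨v, hv0, hvN⟩ := hVc_ne
    have hsum := s2E_sum hs hsF hCs hCX v hvN
    have hex : ∃ j ∈ Finset.range s, s2E s X C j v ≠ 0 := by
      by_contra hcon
      apply hv0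
      rw [← hsum]
      apply Finset.sum_eq_zero
      intro j hj
      by_contra h
      exact hcon ⟨j, hj, h⟩
    obtain ⟨j, -, hj⟩ := hex
    have hdown : ∀ j : ℕ, (∃ v, v ≠ 0 ∧ s2N s C v = 0 ∧ X ((C ^ j) v) = v) →
        ∃ v, v ≠ 0 ∧ s2N s C v = 0 ∧ X v = v := by
      intro j
      induction j with
      | zero =>
        rintro ⟨v, h1, h2, h3⟩
        exact ⟨v, h1, h2, by simpa using h3⟩
      | succ j ih =>
        rintro ⟨v, h1, h2, h3⟩
        obtain ⟨h4, h5, h6⟩ := hshift j v h1 h2 h3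
        exact ih ⟨Y v, h4, h5, h6⟩
    exact hdown j ⟨s2E s X C j v, hj, s2E_N hCX j v hvN, s2E_mem hXs hCs hCX j v⟩
  have hP : ∀ j, j ≤ s → ∃ v, v ≠ 0 ∧ s2N s C v = 0 ∧ X ((C ^ j) v) = v := by
    have hd : ∀ d, d ≤ s → ∃ v, v ≠ 0 ∧ s2N s C v = 0 ∧ X ((C ^ (s - d)) v) = v := by
      intro d
      induction d with
      | zero =>
        intro _
        obtain ⟨v, h1, h2, h3⟩ := hP0
        refine ⟨v, h1, h2, ?_⟩
        rw [Nat.sub_zero, hCs]
        exact h3
      | succ d ih =>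
        intro hds
        obtain ⟨v, h1, h2, h3⟩ := ih (by omega)
        have e : s - d = (s - (d + 1)) + 1 := by omega
        rw [e] at h3
        obtain ⟨h4, h5, h6⟩ := hshift _ v h1 h2 h3
        exact ⟨Y v, h4, h5, h6⟩
    intro j hj
    have h1 := hd (s - j) (by omega)
    have e : s - (s - j) = j := by omega
    rw [e] at h1
    exact h1
  by_cases h3 : s = 3
  · -- the case `s = 3`
    subst h3
    have hXT : ∀ w, X (T w) = T (X' w) := by
      intro w
      have h1 : X * T = T * X' := by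
        calc X * T = (T * T) * X * T := by rw [hT2, one_mul]
          _ = T * (T * X * T) := by simp only [mul_assoc]
          _ = T * X' := by rw [hTX]
      exact congrArg (fun G : Module.End F V => G w) h1
    have hX'C_pt : ∀ (a : ℕ) (w : V), X' ((C ^ a) w) = (C ^ a) (X' w) := by
      intro a w
      have h1 : X' ((C ^ a) w) = X' ((C ^ a) (X (X' w))) := by
        have h2 := congrArg (fun G : Module.End F V => G w) hXX'
        simp only [Module.End.mul_apply, Module.End.one_apply] at h2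
        rw [h2]
      rw [h1, ← hXC_pt, hX'Xv]
    have hC3 : ∀ w, (C ^ 1) ((C ^ 2) w) = w := by
      intro w
      rw [← Module.End.mul_apply, ← pow_add, hCs]
      rfl
    have hC3' : ∀ w, (C ^ 2) ((C ^ 1) w) = w := by
      intro w
      rw [← Module.End.mul_apply, ← pow_add, hCs]
      rfl
    have hT0 : ∀ v, X v = v → X (T v) = T v := by
      intro v hv
      rw [hXT]
      have h1 : X' v = v := by
        have h2 := hX'Xv v
        rwa [hv] at h2
      rw [h1]
    have hT1 : ∀ v, X ((C ^ 1) v) = v → X ((C ^ 2) (T v)) = T v := by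
      intro v hv
      have h1 : X' v = (C ^ 1) v := by
        have h2 := hX'Xv ((C ^ 1) v)
        rwa [hv] at h2
      rw [← hTC_pt, hXT, hX'C_pt, h1, hC3']
    have hT2' : ∀ v, X ((C ^ 2) v) = v → X ((C ^ 1) (T v)) = T v := by
      intro v hv
      have h1 : X' v = (C ^ 2) v := by
        have h2 := hX'Xv ((C ^ 2) v)
        rwa [hv] at h2
      rw [← hTC_pt, hXT, hX'C_pt, h1, hC3]
    have hneg : ∀ v, s2N 3 C v = 0 → X v = v → T v = -v := by
      intro v hvN hv
      have h1 : X (v + T v) = v + T v := by rw [map_add, hv, hT0 v hv]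
      have h2 : T (v + T v) = v + T v := by rw [map_add, hTT, add_comm]
      have h3 : C (v + T v) = v + T v := hγ rfl _ h1 h2
      have h4 : s2N 3 C (v + T v) = 0 := by rw [map_add, hNT, hvN, map_zero, add_zero]
      have h5 := s2_V0c hsF _ h3 h4
      exact (neg_eq_of_add_eq_zero_right h5).symm
    obtain ⟨p₀, hp0, hp0N, hp0X⟩ := hP0
    obtain ⟨p₁, hp1, hp1N, hp1X⟩ := hP 1 (by norm_num)
    have hTp0 := hneg p₀ hp0N hp0X
    have hTp1N : s2N 3 C (T p₁) = 0 := by rw [hNT, hp1N, map_zero]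
    have hTp1X := hT1 p₁ hp1X
    have hmemT : ∀ v, T v - v ∈ LinearMap.range (T - 1) := fun v =>
      ⟨v, by rw [LinearMap.sub_apply, Module.End.one_apply]⟩
    have h01 : ¬ 0 ≡ 1 [MOD 3] := by decide
    have h02 : ¬ 0 ≡ 2 [MOD 3] := by decide
    have h10 : ¬ 1 ≡ 0 [MOD 3] := by decide
    have h12 : ¬ 1 ≡ 2 [MOD 3] := by decide
    have hpow0 : ∀ v : V, X v = v → X ((C ^ 0) v) = v := by
      intro v hv
      rw [pow_zero]
      exact hv
    have hE1p1 : s2E 3 X C 1 p₁ = p₁ := s2E_fix hsF 1 p₁ hp1X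
    have hE0p0 : s2E 3 X C 0 p₀ = p₀ := s2E_fix hsF 0 p₀ (hpow0 p₀ hp0X)
    have hE1p0 : s2E 3 X C 1 p₀ = 0 := s2E_zero hs hCs hCX 1 0 h10 p₀ (hpow0 p₀ hp0X) hp0N
    have hE0p1 : s2E 3 X C 0 p₁ = 0 := s2E_zero hs hCs hCX 0 1 h01 p₁ hp1X hp1N
    have hE1Tp1 : s2E 3 X C 1 (T p₁) = 0 := s2E_zero hs hCs hCX 1 2 h12 (T p₁) hTp1X hTp1N
    have hE0Tp1 : s2E 3 X C 0 (T p₁) = 0 := s2E_zero hs hCs hCX 0 2 h02 (T p₁) hTp1X hTp1N
    have h2p0 : (2 : F) • p₀ ≠ 0 := by
      intro h
      exact hp0 ((smul_eq_zero.mp h).resolve_left h2F)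
    -- one-dimensionality
    have h1d0 : ∀ v, s2N 3 C v = 0 → X v = v → ∃ a : F, v = a • p₀ := by
      intro v hvN hv
      obtain ⟨c₁, c₂, c₃, hne, hdep⟩ := s2_dep3 _ hrank (T p₀ - p₀) (T v - v) (T p₁ - p₁)
        (hmemT p₀) (hmemT v) (hmemT p₁)
      rw [hTp0, hneg v hvN hv] at hdep
      have hE1v : s2E 3 X C 1 v = 0 := s2E_zero hs hCs hCX 1 0 h10 v (hpow0 v hv) hvN
      have h1 := congrArg (s2E 3 X C 1) hdep
      simp only [map_add, map_smul, map_sub, map_neg, hE1p0, hE1v, hE1Tp1, hE1p1, map_zero,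
        neg_zero, sub_zero, smul_zero, zero_add, zero_sub, smul_neg, neg_eq_zero] at h1
      have hc3 : c₃ = 0 := (smul_eq_zero.mp h1).resolve_right hp1
      rw [hc3, zero_smul, add_zero] at hdep
      have h4 : (2 : F) • (c₁ • p₀ + c₂ • v) = 0 := by
        have h5 : (2 : F) • (c₁ • p₀ + c₂ • v) = -(c₁ • (-p₀ - p₀) + c₂ • (-v - v)) := by module
        rw [h5, hdep, neg_zero]
      have h6 : c₁ • p₀ + c₂ • v = 0 := (smul_eq_zero.mp h4).resolve_left h2F
      have hc2 : c₂ ≠ 0 := by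
        intro hc2
        rw [hc2, zero_smul, add_zero] at h6
        have hc1 : c₁ = 0 := (smul_eq_zero.mp h6).resolve_right hp0
        rcases hne with h | h | h
        · exact h hc1
        · exact h hc2
        · exact h hc3
      refine ⟨-(c₂⁻¹ * c₁), ?_⟩
      have h7 : c₂ • v = -(c₁ • p₀) := eq_neg_of_add_eq_zero_right h6
      calc v = c₂⁻¹ • (c₂ • v) := by rw [smul_smul, inv_mul_cancel₀ hc2, one_smul]
        _ = -(c₂⁻¹ * c₁) • p₀ := by rw [h7, smul_neg, smul_smul, neg_smul]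
    have h1d1 : ∀ v, s2N 3 C v = 0 → X ((C ^ 1) v) = v → ∃ b : F, v = b • p₁ := by
      intro v hvN hv
      obtain ⟨c₁, c₂, c₃, hne, hdep⟩ := s2_dep3 _ hrank (T p₁ - p₁) (T v - v) (T p₀ - p₀)
        (hmemT p₁) (hmemT v) (hmemT p₀)
      rw [hTp0] at hdep
      have hTvN : s2N 3 C (T v) = 0 := by rw [hNT, hvN, map_zero]
      have hTvX := hT1 v hv
      have hE0v : s2E 3 X C 0 v = 0 := s2E_zero hs hCs hCX 0 1 h01 v hv hvN
      have hE0Tv : s2E 3 X C 0 (T v) = 0 := s2E_zero hs hCs hCX 0 2 h02 (T v) hTvX hTvN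
      have hE1Tv : s2E 3 X C 1 (T v) = 0 := s2E_zero hs hCs hCX 1 2 h12 (T v) hTvX hTvN
      have hE1v : s2E 3 X C 1 v = v := s2E_fix hsF 1 v hv
      have h1 := congrArg (s2E 3 X C 0) hdep
      simp only [map_add, map_smul, map_sub, map_neg, hE0p0, hE0v, hE0Tv, hE0Tp1, hE0p1, map_zero,
        neg_zero, sub_zero, smul_zero, zero_add, zero_sub, smul_neg, neg_eq_zero] at h1
      have hc3 : c₃ = 0 := by
        have h2 : c₃ • ((2 : F) • p₀) = 0 := by
          have h5 : c₃ • ((2 : F) • p₀) = -(c₃ • (-p₀ - p₀)) := by module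
          rw [h5]
          have h6 : c₃ • (-p₀ - p₀) = 0 := h1
          rw [h6, neg_zero]
        exact (smul_eq_zero.mp h2).resolve_right h2p0
      have h3 := congrArg (s2E 3 X C 1) hdep
      simp only [map_add, map_smul, map_sub, map_neg, hE1p0, hE1v, hE1Tv, hE1Tp1, hE1p1, map_zero,
        neg_zero, sub_zero, smul_zero, zero_add, zero_sub, smul_neg, add_zero] at h3
      have h6 : c₁ • p₁ + c₂ • v = 0 := by
        have h7 : c₁ • p₁ + c₂ • v = -(-(c₁ • p₁) + -(c₂ • v)) := by module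
        rw [h7, h3, neg_zero]
      have hc2 : c₂ ≠ 0 := by
        intro hc2
        rw [hc2, zero_smul, add_zero] at h6
        have hc1 : c₁ = 0 := (smul_eq_zero.mp h6).resolve_right hp1
        rcases hne with h | h | h
        · exact h hc1
        · exact h hc2
        · exact h hc3
      refine ⟨-(c₂⁻¹ * c₁), ?_⟩
      have h7 : c₂ • v = -(c₁ • p₁) := eq_neg_of_add_eq_zero_right h6
      calc v = c₂⁻¹ • (c₂ • v) := by rw [smul_smul, inv_mul_cancel₀ hc2, one_smul]
        _ = -(c₂⁻¹ * c₁) • p₁ := by rw [h7, smul_neg, smul_smul, neg_smul]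
    have h1d2 : ∀ v, s2N 3 C v = 0 → X ((C ^ 2) v) = v → ∃ c : F, v = c • T p₁ := by
      intro v hvN hv
      have hTvN : s2N 3 C (T v) = 0 := by rw [hNT, hvN, map_zero]
      obtain ⟨b, hb⟩ := h1d1 (T v) hTvN (hT2' v hv)
      refine ⟨b, ?_⟩
      rw [← hTT v, hb, map_smul]
    -- the conclusion
    have hv0N : s2N 3 C (p₁ + T p₁) = 0 := by rw [map_add, hp1N, hTp1N, add_zero]
    obtain ⟨v₁, hv₁⟩ := s2_geom_solve C 3 hsF (p₁ + T p₁) hv0N
    refine ⟨p₁ + T p₁, v₁, ?_, hv₁.symm, ?_, ?_⟩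
    · intro h
      have h1 := congrArg (s2E 3 X C 1) h
      rw [map_add, hE1p1, hE1Tp1, add_zero, map_zero] at h1
      exact hp1 h1
    · rw [map_add, hTT, add_comm]
    · intro w
      obtain ⟨wc, hwc⟩ : ∃ wc : V, wc = w - (3 : F)⁻¹ • s2N 3 C w := ⟨_, rfl⟩
      have hwcN : s2N 3 C wc = 0 := by
        rw [hwc, map_sub, map_smul, s2N_sq hCs]
        have h3F : ((3 : ℕ) : F) = 3 := by norm_num
        rw [h3F, smul_smul, inv_mul_cancel₀ (by rw [← h3F]; exact hsF), one_smul, sub_self]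
      have hsum := s2E_sum hs hsF hCs hCX wc hwcN
      rw [Finset.sum_range_succ, Finset.sum_range_succ, Finset.sum_range_one] at hsum
      obtain ⟨a, ha⟩ := h1d0 (s2E 3 X C 0 wc) (s2E_N hCX 0 wc hwcN) (by
        have h1 := s2E_mem hXs hCs hCX 0 wc
        rwa [pow_zero, Module.End.one_apply] at h1)
      obtain ⟨b, hb⟩ := h1d1 (s2E 3 X C 1 wc) (s2E_N hCX 1 wc hwcN) (s2E_mem hXs hCs hCX 1 wc)
      obtain ⟨c, hc⟩ := h1d2 (s2E 3 X C 2 wc) (s2E_N hCX 2 wc hwcN) (s2E_mem hXs hCs hCX 2 wc)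
      rw [ha, hb, hc] at hsum
      obtain ⟨h, hh⟩ : ∃ h : F, 2 * h = 1 := ⟨2⁻¹, mul_inv_cancel₀ h2F⟩
      refine ⟨(b + c) * h, ((c - b) * h) • p₁ - (a * h) • p₀, (3 : F)⁻¹ • s2N 3 C w, ?_, ?_⟩
      · have e1 : (b + c) * h - (c - b) * h = b := by linear_combination b * hh
        have e2 : (b + c) * h + (c - b) * h = c := by linear_combination c * hh
        have e3 : a * h + a * h = a := by linear_combination a * hh
        have key : ((b + c) * h) • (p₁ + T p₁)
            + (((c - b) * h) • T p₁ - (a * h) • (-p₀) - (((c - b) * h) • p₁ - (a * h) • p₀))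
            = ((b + c) * h - (c - b) * h) • p₁ + ((b + c) * h + (c - b) * h) • T p₁
              + (a * h + a * h) • p₀ := by module
        rw [map_sub, map_smul, map_smul, hTp0, key, e1, e2, e3]
        have h5 : w = wc + (3 : F)⁻¹ • s2N 3 C w := by
          rw [hwc]
          abel
        have h6 : w = (a • p₀ + b • p₁ + c • T p₁) + (3 : F)⁻¹ • s2N 3 C w := by
          rw [hsum]
          exact h5
        refine h6.trans ?_
        abel
      · rw [map_smul, hCN]
  · -- the case `s ≥ 7`: impossible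
    exfalso
    have hs7 : 7 ≤ s := by
      have := hs.two_le
      omega
    have hrk := s2_rank_four s (by omega) X X' T hXX' hX'X hXs hT2 hTX hrank
    choose! p hp using hP
    have hq : ∀ i : Fin 5, p ((i : ℕ) + 1) ≠ 0 ∧ s2N s C (p ((i : ℕ) + 1)) = 0 ∧
        X ((C ^ ((i : ℕ) + 1)) (p ((i : ℕ) + 1))) = p ((i : ℕ) + 1) := by
      intro i
      have hi := i.2
      exact hp ((i : ℕ) + 1) (by omega)
    have hmem : ∀ i : Fin 5, p ((i : ℕ) + 1) ∈ LinearMap.range (X - 1) := by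
      intro i
      obtain ⟨-, h2, h3⟩ := hq i
      have hi := i.2
      have hnot : ¬ 0 ≡ (i : ℕ) + 1 [MOD s] := by
        intro h
        have h4 : 0 % s = ((i : ℕ) + 1) % s := h
        rw [Nat.zero_mod, Nat.mod_eq_of_lt (by omega)] at h4
        omega
      have h5 := s2E_zero hs hCs hCX 0 ((i : ℕ) + 1) hnot _ h3 h2
      have h6 : (∑ k ∈ Finset.range s, X ^ k) (p ((i : ℕ) + 1)) = 0 := by
        unfold s2E at h5
        rw [pow_zero, mul_one, LinearMap.smul_apply] at h5
        exact (smul_eq_zero.mp h5).resolve_left (inv_ne_zero hsF)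
      obtain ⟨w, hw⟩ := s2_geom_solve X s hsF _ h6
      exact ⟨w, by rw [LinearMap.sub_apply, Module.End.one_apply]; exact hw⟩
    let f : (Fin 5 → F) →ₗ[F] V :=
      ∑ i : Fin 5, (LinearMap.proj i).smulRight (p ((i : ℕ) + 1))
    have hf : ∀ c : Fin 5 → F, f c = ∑ i : Fin 5, c i • p ((i : ℕ) + 1) := by
      intro c
      simp [f]
    have hinj : Function.Injective f := by
      rw [injective_iff_map_eq_zero]
      intro c hc
      funext i₀
      rw [hf] at hc
      have h1 := congrArg (s2E s X C ((i₀ : ℕ) + 1)) hc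
      rw [map_sum, map_zero, Finset.sum_eq_single i₀] at h1
      · obtain ⟨h2, h3, h4⟩ := hq i₀
        rw [map_smul, s2E_fix hsF _ _ h4] at h1
        exact (smul_eq_zero.mp h1).resolve_right h2
      · intro i _ hi
        obtain ⟨h2, h3, h4⟩ := hq i
        rw [map_smul]
        have hnot : ¬ (i₀ : ℕ) + 1 ≡ (i : ℕ) + 1 [MOD s] := by
          intro h
          have h5 : ((i₀ : ℕ) + 1) % s = ((i : ℕ) + 1) % s := h
          have hi1 := i.2
          have hi2 := i₀.2
          rw [Nat.mod_eq_of_lt (by omega), Nat.mod_eq_of_lt (by omega)] at h5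
          exact hi (Fin.ext (by omega))
        rw [s2E_zero hs hCs hCX _ _ hnot _ h4 h3, smul_zero]
      · intro h
        exact absurd (Finset.mem_univ i₀) h
    have hrange : LinearMap.range f ≤ LinearMap.range (X - 1) := by
      rintro _ ⟨c, rfl⟩
      rw [hf]
      exact Submodule.sum_mem _ (fun i _ => Submodule.smul_mem _ _ (hmem i))
    have h5 := LinearMap.finrank_range_of_inj hinj
    rw [Module.finrank_fin_fun] at h5
    have h6 := Submodule.finrank_mono hrange
    omega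

end S2P8Main

end Cfsg.Agent.Lib.helper75
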