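import Mathlib
import Cfsg.Agent.Lib.helper75.SGModule
import Cfsg.Agent.Lib.helper75.S2P8
import Cfsg.Agent.Lib.helper75.S2NDa

set_option autoImplicit false

namespace Cfsg.Agent.Lib.helper75

open Module

section S2P8g

theorem s2_p8_mod {D : Type*} [CommGroup D] [Finite D] (q : ℕ) [Fact q.Prime] (hq2 : q ≠ 2)
    [Module (ZMod q) (Additive D)] (s : ℕ) (hs : s.Prime) (hs4 : s % 4 = 3) (hsq : s ≠ q)
    (x y t c : MulAut D) (hxs : x ^ s = 1) (ht2 : t * t = 1) (htx : t * x * t = x⁻¹)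
    (hc : c = x * y * x⁻¹ * y⁻¹) (hcx : c * x = x * c) (hcy : c * y = y * c)
    (hct : c * t = t * c)
    (B : Subgroup D) (hB : ∀ d, t d * d⁻¹ ∈ B) (hBc : Nat.card B ∣ q ^ 2)
    (hγ : s = 3 → ∀ d, x d = d → t d = d → c d = d) (hc1 : c ≠ 1) :
    ∃ d₀ d₁ : D, d₀ ≠ 1 ∧ d₀ = c d₁ * d₁⁻¹ ∧ t d₀ = d₀ ∧
      ∀ w : D, ∃ (k : ℕ) (w₁ w₂ : D), w = d₀ ^ k * (t w₁ * w₁⁻¹) * w₂ ∧ c w₂ = w₂ := by
  classical
  have hq : q.Prime := Fact.out
  haveI : Finite (Additive D) := inferInstanceAs (Finite D)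
  haveI : Module.Finite (ZMod q) (Additive D) := Module.Finite.of_finite
  let L : MulAut D →* Module.End (ZMod q) (Additive D) := sgLin q
  have hsF : ((s : ℕ) : ZMod q) ≠ 0 := by
    intro h
    have h1 := (ZMod.natCast_eq_zero_iff s q).mp h
    exact hsq ((Nat.prime_dvd_prime_iff_eq hq hs).mp h1).symm
  have h2F : (2 : ZMod q) ≠ 0 := by
    intro h
    have h1 : ((2 : ℕ) : ZMod q) = 0 := by exact_mod_cast h
    have h2 := (ZMod.natCast_eq_zero_iff 2 q).mp h1
    exact hq2 ((Nat.prime_dvd_prime_iff_eq hq Nat.prime_two).mp h2)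
  have hX'X : L x⁻¹ * L x = 1 := by rw [← map_mul, inv_mul_cancel, map_one]
  have hXX' : L x * L x⁻¹ = 1 := by rw [← map_mul, mul_inv_cancel, map_one]
  have hY'Y : L y⁻¹ * L y = 1 := by rw [← map_mul, inv_mul_cancel, map_one]
  have hXs : L x ^ s = 1 := by rw [← map_pow, hxs, map_one]
  have hT2 : L t * L t = 1 := by rw [← map_mul, ht2, map_one]
  have hCXY : L c * L y * L x = L x * L y := by
    rw [← map_mul, ← map_mul, ← map_mul, hc]
    congr 1
    group
  have hCX : Commute (L c) (L x) := by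
    show _ * _ = _ * _
    rw [← map_mul, ← map_mul, hcx]
  have hCY : Commute (L c) (L y) := by
    show _ * _ = _ * _
    rw [← map_mul, ← map_mul, hcy]
  have hCT : Commute (L c) (L t) := by
    show _ * _ = _ * _
    rw [← map_mul, ← map_mul, hct]
  have hCs : L c ^ s = 1 := by
    rw [← map_pow]
    have h1 : c ^ s = 1 := by
      rw [hc, s2_comm_pow x y (by rw [← hc]; exact hcx) s, hxs]
      group
    rw [h1, map_one]
  have hTX : L t * L x * L t = L x⁻¹ := by
    rw [← map_mul, ← map_mul, htx]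
  have hmem : ∀ v : LinearMap.range (L t - 1 : Module.End (ZMod q) (Additive D)),
      Additive.toMul (v : Additive D) ∈ B := by
    intro v
    obtain ⟨w, hw⟩ := v.2
    rw [← hw]
    have e : Additive.toMul ((L t - 1 : Module.End (ZMod q) (Additive D)) w)
        = t (Additive.toMul w) * (Additive.toMul w)⁻¹ := by
      rw [LinearMap.sub_apply, Module.End.one_apply, toMul_sub, div_eq_mul_inv]
      rfl
    rw [e]
    exact hB _
  have hrank : finrank (ZMod q)
      (LinearMap.range (L t - 1 : Module.End (ZMod q) (Additive D))) ≤ 2 := by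
    have h1 : Nat.card (LinearMap.range (L t - 1 : Module.End (ZMod q) (Additive D)))
        ≤ Nat.card B := by
      apply Nat.card_le_card_of_injective
        (fun v : LinearMap.range (L t - 1 : Module.End (ZMod q) (Additive D)) =>
          (⟨Additive.toMul (v : Additive D), hmem v⟩ : B))
      intro v w hvw
      apply Subtype.ext
      have h5 : Additive.toMul (v : Additive D) = Additive.toMul (w : Additive D) :=
        congrArg (fun b : B => (b : D)) hvw
      exact Additive.toMul.injective h5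
    have h2 := Module.natCard_eq_pow_finrank (K := ZMod q)
      (V := LinearMap.range (L t - 1 : Module.End (ZMod q) (Additive D)))
    rw [Nat.card_zmod] at h2
    have h3 : Nat.card B ≤ q ^ 2 := Nat.le_of_dvd (pow_pos hq.pos 2) hBc
    have h4 : q ^ finrank (ZMod q)
        (LinearMap.range (L t - 1 : Module.End (ZMod q) (Additive D))) ≤ q ^ 2 := by
      rw [← h2]
      exact h1.trans h3
    exact (Nat.pow_le_pow_iff_right hq.one_lt).mp h4
  have hγ' : s = 3 → ∀ v : Additive D, L x v = v → L t v = v → L c v = v := by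
    intro hs3 v hx ht
    have h1 := hγ hs3 (Additive.toMul v) (congrArg Additive.toMul hx) (congrArg Additive.toMul ht)
    exact congrArg Additive.ofMul h1
  have hC1 : L c ≠ 1 := by
    intro h
    exact hc1 (sgLin_injective q (h.trans (map_one _).symm))
  obtain ⟨v₀, v₁, hv0, hv01, hTv0, hall⟩ := s2_p8 s hs hs4 hsF h2F (L x) (L x⁻¹)
    (L y) (L y⁻¹) (L t) (L c) hX'X hXX' hY'Y hXs hT2 hCXY hCX hCY hCT
    hCs hTX hrank hγ' hC1
  refine ⟨Additive.toMul v₀, Additive.toMul v₁, ?_, ?_, congrArg Additive.toMul hTv0, ?_⟩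
  · intro h
    exact hv0 (congrArg Additive.ofMul h)
  · have e := congrArg Additive.toMul hv01
    rw [toMul_sub, div_eq_mul_inv] at e
    exact e
  · intro w
    obtain ⟨k, w₁, w₂, hw, hCw⟩ := hall (Additive.ofMul w)
    refine ⟨k.val, Additive.toMul w₁, Additive.toMul w₂, ?_, congrArg Additive.toMul hCw⟩
    have hkv : ((k.val : ℕ) : ZMod q) = k := @ZMod.natCast_zmod_val q ⟨hq.ne_zero⟩ k
    have hk : k • v₀ = k.val • v₀ := by
      have h1 : ((k.val : ℕ) : ZMod q) • v₀ = k.val • v₀ :=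
        Nat.cast_smul_eq_nsmul (ZMod q) k.val v₀
      rw [hkv] at h1
      exact h1
    rw [hk] at hw
    have e := congrArg Additive.toMul hw
    have e2 : Additive.toMul (k.val • v₀ + (L t w₁ - w₁) + w₂) = Additive.toMul v₀ ^ k.val * (t (Additive.toMul w₁) / Additive.toMul w₁) * Additive.toMul w₂ := rfl
    rw [div_eq_mul_inv] at e2
    exact e.trans e2

/-- Group-level form of `s2_p8`. -/
theorem s2_p8_grp {D : Type*} [CommGroup D] [Finite D] (q : ℕ) [Fact q.Prime] (hq2 : q ≠ 2)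
    (hD : ∀ d : D, d ^ q = 1) (s : ℕ) (hs : s.Prime) (hs4 : s % 4 = 3) (hsq : s ≠ q)
    (x y t c : MulAut D) (hxs : x ^ s = 1) (ht2 : t * t = 1) (htx : t * x * t = x⁻¹)
    (hc : c = x * y * x⁻¹ * y⁻¹) (hcx : c * x = x * c) (hcy : c * y = y * c)
    (hct : c * t = t * c)
    (B : Subgroup D) (hB : ∀ d, t d * d⁻¹ ∈ B) (hBc : Nat.card B ∣ q ^ 2)
    (hγ : s = 3 → ∀ d, x d = d → t d = d → c d = d) (hc1 : c ≠ 1) :
    ∃ d₀ d₁ : D, d₀ ≠ 1 ∧ d₀ = c d₁ * d₁⁻¹ ∧ t d₀ = d₀ ∧
      ∀ w : D, ∃ (k : ℕ) (w₁ w₂ : D), w = d₀ ^ k * (t w₁ * w₁⁻¹) * w₂ ∧ c w₂ = w₂ := by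
  have hexp : ∀ a : Additive D, q • a = 0 := by
    intro a
    apply Additive.toMul.injective
    rw [toMul_nsmul, hD]
    rfl
  letI : Module (ZMod q) (Additive D) := AddCommGroup.zmodModule hexp
  exact s2_p8_mod q hq2 s hs hs4 hsq x y t c hxs ht2 htx hc hcx hcy hct B hB hBc hγ hc1

end S2P8g

end Cfsg.Agent.Lib.helper75
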