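import Mathlib
import Cfsg.Agent.Lib.helper75.S2Lin
import Cfsg.Agent.Lib.helper75.S2P8g
import Cfsg.Agent.Lib.helper75.S2NDa

set_option autoImplicit false

namespace Cfsg.Agent.Lib.helper75

section S2NDw

variable {M : Type*} [Group M] [Finite M] {H : Type*} [Group H] [Finite H]

theorem s2_arith_grp' (hmc : ∀ x y : M, x * y = y * x) (q : ℕ) [Fact q.Prime] (hq2 : q ≠ 2)
    (r : ℕ) [Fact r.Prime] (hrq : r ≠ q)
    (hM : ∀ x : M, x ^ r = 1) (hH : IsPGroup q H) (n : ℕ) (α : MulAut H) (hα : α ^ (2 ^ n) = 1)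
    (φ : H →* MulAut M) (β : MulAut M) (hβ : β ^ (2 ^ n) = 1) (hβfpf : ∀ x, β x = x → x = 1)
    (hβφ : ∀ h x, β (φ h x) = φ (α h) (β x))
    (hT : ∀ h k, φ (h * (α ^ (2 ^ (n - 1))) h) * φ k = φ k * φ (h * (α ^ (2 ^ (n - 1))) h)) :
    (∀ h, φ ((α ^ (2 ^ (n - 1))) h) = φ h) ∨ (q % 4 = 3 ∧ ∃ u v, φ u * φ v ≠ φ v * φ u) := by
  letI : CommGroup M := { (inferInstance : Group M) with mul_comm := hmc }
  exact s2_arith_grp q hq2 r hrq hM hH n α hα φ β hβ hβfpf hβφ hT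

theorem s2_gamma_grp' (hmc : ∀ x y : M, x * y = y * x) (r : ℕ) [Fact r.Prime] (hr3 : r ≠ 3)
    (hM : ∀ x : M, x ^ r = 1) (hH : IsPGroup 3 H) (n : ℕ) (hn : 1 ≤ n) (α : MulAut H)
    (hα : α ^ (2 ^ n) = 1)
    (φ : H →* MulAut M) (β : MulAut M) (hβ : β ^ (2 ^ n) = 1) (hβfpf : ∀ x, β x = x → x = 1)
    (hβφ : ∀ h x, β (φ h x) = φ (α h) (β x))
    (hT : ∀ h k, φ (h * (α ^ (2 ^ (n - 1))) h) * φ k = φ k * φ (h * (α ^ (2 ^ (n - 1))) h))
    (u v : H) (e : M) (he : φ u e = e) (ht : (β ^ (2 ^ (n - 1))) e = e) :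
    φ (u * v * u⁻¹ * v⁻¹) e = e := by
  letI : CommGroup M := { (inferInstance : Group M) with mul_comm := hmc }
  exact s2_gamma_grp r hr3 hM hH n hn α hα φ β hβ hβfpf hβφ hT u v e he ht

theorem s2_avg6' {E : Type*} [Group E] (hmc : ∀ x y : E, x * y = y * x) (x t : MulAut E)
    (h3 : ∀ y, x (x (x y)) = y)
    (h2 : ∀ y, t (t y) = y) (h1 : ∀ y, x (t y) = t (x (x y))) (e : E) :
    x (e * x e * x (x e) * t e * t (x e) * t (x (x e)))
        = e * x e * x (x e) * t e * t (x e) * t (x (x e)) ∧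
    t (e * x e * x (x e) * t e * t (x e) * t (x (x e)))
        = e * x e * x (x e) * t e * t (x e) * t (x (x e)) := by
  letI : CommGroup E := { (inferInstance : Group E) with mul_comm := hmc }
  exact s2_avg6 x t h3 h2 h1 e

theorem s2_p8_grp' {D : Type*} [Group D] [Finite D] (hmc : ∀ x y : D, x * y = y * x) (q : ℕ)
    [Fact q.Prime] (hq2 : q ≠ 2)
    (hD : ∀ d : D, d ^ q = 1) (s : ℕ) (hs : s.Prime) (hs4 : s % 4 = 3) (hsq : s ≠ q)
    (x y t c : MulAut D) (hxs : x ^ s = 1) (ht2 : t * t = 1) (htx : t * x * t = x⁻¹)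
    (hc : c = x * y * x⁻¹ * y⁻¹) (hcx : c * x = x * c) (hcy : c * y = y * c)
    (hct : c * t = t * c)
    (B : Subgroup D) (hB : ∀ d, t d * d⁻¹ ∈ B) (hBc : Nat.card B ∣ q ^ 2)
    (hγ : s = 3 → ∀ d, x d = d → t d = d → c d = d) (hc1 : c ≠ 1) :
    ∃ d₀ d₁ : D, d₀ ≠ 1 ∧ d₀ = c d₁ * d₁⁻¹ ∧ t d₀ = d₀ ∧
      ∀ w : D, ∃ (k : ℕ) (w₁ w₂ : D), w = d₀ ^ k * (t w₁ * w₁⁻¹) * w₂ ∧ c w₂ = w₂ := by
  letI : CommGroup D := { (inferInstance : Group D) with mul_comm := hmc }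
  exact s2_p8_grp q hq2 hD s hs hs4 hsq x y t c hxs ht2 htx hc hcx hcy hct B hB hBc hγ hc1

theorem s2_avg_triv {E : Type*} [Group E] (hmc : ∀ x y : E, x * y = y * x) {T : Type*}
    [Group T] [Finite T] (ρ : T →* MulAut E) (hfix : ∀ e : E, (∀ c, ρ c e = e) → e = 1)
    (R : Subgroup E) (e : E) (hR : ∀ c, e⁻¹ * ρ c e ∈ R) : e ^ Nat.card T ∈ R := by
  classical
  letI : CommGroup E := { (inferInstance : Group E) with mul_comm := hmc }
  haveI : Fintype T := Fintype.ofFinite T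
  have h1 : ∀ c₀ : T, ρ c₀ (∏ c : T, ρ c e) = ∏ c : T, ρ c e := by
    intro c₀
    rw [map_prod]
    exact Fintype.prod_equiv (Equiv.mulLeft c₀) _ _
      (fun c => by rw [Equiv.coe_mulLeft, map_mul, MulAut.mul_apply])
  have h2 := hfix _ h1
  have h3 : ∏ c : T, ρ c e = e ^ Nat.card T * ∏ c : T, (e⁻¹ * ρ c e) := by
    calc ∏ c : T, ρ c e = ∏ c : T, (e * (e⁻¹ * ρ c e)) :=
          Finset.prod_congr rfl (fun c _ => (mul_inv_cancel_left e _).symm)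
      _ = e ^ Nat.card T * ∏ c : T, (e⁻¹ * ρ c e) := by
          rw [Finset.prod_mul_distrib, Finset.prod_const, Finset.card_univ,
            Nat.card_eq_fintype_card]
  rw [h2] at h3
  have h4 : e ^ Nat.card T = (∏ c : T, (e⁻¹ * ρ c e))⁻¹ := eq_inv_of_mul_eq_one_left h3.symm
  have h5 : (∏ c : T, (e⁻¹ * ρ c e))⁻¹ ∈ R := inv_mem (Subgroup.prod_mem R (fun c _ => hR c))
  have h6 : e ^ Nat.card T ∈ R := by
    rw [h4]
    exact h5
  exact h6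

end S2NDw

end Cfsg.Agent.Lib.helper75
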