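import Mathlib
import Cfsg.Agent.Lib.helper3.PGroupFrattini
import Cfsg.Agent.Lib.helper75.S2NDw
import Cfsg.Agent.Lib.helper75.S2Crit

set_option autoImplicit false

namespace Cfsg.Agent.Lib.helper75

open Cfsg.Agent.Lib.helper1

section S2NDb

/-- The fixed points of an action by automorphisms. -/
def s2Z {S Q : Type*} [Group S] [Group Q] (ψ : S →* MulAut Q) : Subgroup Q where
  carrier := {z | ∀ u, ψ u z = z}
  one_mem' := fun u => map_one _
  mul_mem' := fun {x y} hx hy u => by rw [map_mul, hx u, hy u]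
  inv_mem' := fun {x} hx u => by rw [map_inv, hx u]

theorem s2Z_fix {S Q : Type*} [Group S] [Group Q] {ψ : S →* MulAut Q} {z : Q} (hz : z ∈ s2Z ψ)
    (u : S) : ψ u z = z := hz u

theorem s2Z_psi {S Q : Type*} [Group S] [Group Q] {ψ : S →* MulAut Q} (u : S) :
    ∀ z ∈ s2Z ψ, ψ u z ∈ s2Z ψ := fun z hz => by
  rw [s2Z_fix hz u]
  exact hz

/-- The hypotheses of the critical configuration in the "no double exception" argument. -/
structure S2ND (q s r n : ℕ) {Q S M : Type*} [Group Q] [Group S] [CommGroup M] (a : MulAut Q)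
    (b : MulAut S) (ψ : S →* MulAut Q) (φ : Q →* MulAut M) (β : MulAut M) : Prop where
  hq2 : q ≠ 2
  hs2 : s ≠ 2
  hsq : s ≠ q
  hqr : q ≠ r
  hn : 1 ≤ n
  hQ : IsPGroup q Q
  hS : IsPGroup s S
  hM : ∀ x : M, x ^ r = 1
  ha : a ^ (2 ^ n) = 1
  hafpf : ∀ x, a x = x → x = 1
  hb : b ^ (2 ^ n) = 1
  hψ : ∀ u x, a (ψ u x) = ψ (b u) (a x)
  hφ : Function.Injective φ
  hβ : β ^ (2 ^ n) = 1
  hβfpf : ∀ x, β x = x → x = 1
  hβφ : ∀ x m, β (φ x m) = φ (a x) (β m)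
  hminS : ∀ S' : Subgroup S, (∀ u ∈ S', b u ∈ S') → S' ≠ ⊤ →
    ∀ u ∈ S', ψ ((b ^ (2 ^ (n - 1))) u) = ψ u
  hminQ : ∀ Q' : Subgroup Q, (∀ x ∈ Q', a x ∈ Q') → (∀ u, ∀ x ∈ Q', ψ u x ∈ Q') → Q' ≠ ⊤ →
    ∀ u, ∀ x ∈ Q', ψ ((b ^ (2 ^ (n - 1))) u) x = ψ u x
  hne : ∃ u, ψ ((b ^ (2 ^ (n - 1))) u) ≠ ψ u

namespace S2ND

variable {q s r n : ℕ} [Fact q.Prime] [Fact s.Prime] [Fact r.Prime] {Q S M : Type*} [Group Q]
  [Finite Q] [Group S] [Finite S] [CommGroup M] [Finite M] {a : MulAut Q} {b : MulAut S}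
  {ψ : S →* MulAut Q} {φ : Q →* MulAut M} {β : MulAut M}

theorem two_pow (hh : S2ND q s r n a b ψ φ β) : 2 ^ n = 2 ^ (n - 1) * 2 := by
  have := hh.hn
  rw [← pow_succ]
  congr 1
  omega

theorem tauS_sq (hh : S2ND q s r n a b ψ φ β) (u : S) :
    (b ^ (2 ^ (n - 1))) ((b ^ (2 ^ (n - 1))) u) = u := by
  rw [← MulAut.mul_apply, ← pow_two, ← pow_mul, ← hh.two_pow, hh.hb, MulAut.one_apply]

theorem tauQ_sq (hh : S2ND q s r n a b ψ φ β) (x : Q) :
    (a ^ (2 ^ (n - 1))) ((a ^ (2 ^ (n - 1))) x) = x := by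
  rw [← MulAut.mul_apply, ← pow_two, ← pow_mul, ← hh.two_pow, hh.ha, MulAut.one_apply]

theorem compat_pow (hh : S2ND q s r n a b ψ φ β) (k : ℕ) (u : S) (x : Q) :
    (a ^ k) (ψ u x) = ψ ((b ^ k) u) ((a ^ k) x) := by
  induction k generalizing u x with
  | zero => simp
  | succ k ih =>
    simp only [pow_succ, MulAut.mul_apply]
    rw [hh.hψ, ih]

theorem compat_tau (hh : S2ND q s r n a b ψ φ β) (u : S) (x : Q) :
    (a ^ (2 ^ (n - 1))) (ψ u x) = ψ ((b ^ (2 ^ (n - 1))) u) ((a ^ (2 ^ (n - 1))) x) :=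
  hh.compat_pow _ u x

theorem crit (hh : S2ND q s r n a b ψ φ β) :
    (∀ u k, ψ (u * (b ^ (2 ^ (n - 1))) u) * ψ k = ψ k * ψ (u * (b ^ (2 ^ (n - 1))) u)) ∧
    Subgroup.closure (Set.range (fun v : S => v⁻¹ * (b ^ (2 ^ (n - 1))) v) ∪ (ψ.ker : Set S))
      = ⊤ ∧
    (∀ u, (b ^ (2 ^ (n - 1))) u = u⁻¹ → ψ (u ^ s) = 1) := by
  refine s2_crit_psi s hh.hs2 hh.hS b (b ^ (2 ^ (n - 1))) hh.tauS_sq ?_ ψ ?_ hh.hminS hh.hne
  · intro u
    exact (sg_pow_comm b _ u).symm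
  · intro u hu
    refine MulEquiv.ext fun x => ?_
    have h1 := hh.hψ u (a⁻¹ x)
    rw [hu, MulAut.one_apply, MulAut.apply_inv_self] at h1
    rw [MulAut.one_apply]
    exact h1.symm

theorem Z_a (hh : S2ND q s r n a b ψ φ β) : ∀ z ∈ s2Z ψ, a z ∈ s2Z ψ := by
  intro z hz u
  have h1 := hh.hψ (b⁻¹ u) z
  rw [s2Z_fix hz (b⁻¹ u), MulAut.apply_inv_self] at h1
  exact h1.symm

theorem le_Z (hh : S2ND q s r n a b ψ φ β) (Q' : Subgroup Q) (h1 : ∀ x ∈ Q', a x ∈ Q')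
    (h2 : ∀ u, ∀ x ∈ Q', ψ u x ∈ Q') (h3 : Q' ≠ ⊤) : Q' ≤ s2Z ψ := by
  have hm := hh.hminQ Q' h1 h2 h3
  obtain ⟨-, hgen, -⟩ := hh.crit
  intro x hx u
  have hu : u ∈ Subgroup.closure
      (Set.range (fun v : S => v⁻¹ * (b ^ (2 ^ (n - 1))) v) ∪ (ψ.ker : Set S)) := by
    rw [hgen]
    exact Subgroup.mem_top u
  have key : ∀ x ∈ Q', ψ u x = x := by
    induction hu using Subgroup.closure_induction with
    | mem w hw =>
      intro x hx
      rcases hw with ⟨v, rfl⟩ | hw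
      · show ψ (v⁻¹ * (b ^ (2 ^ (n - 1))) v) x = x
        rw [map_mul, MulAut.mul_apply, hm v x hx, map_inv, MulAut.inv_apply_self]
      · rw [MonoidHom.mem_ker.mp hw, MulAut.one_apply]
    | one =>
      intro x _
      rw [map_one, MulAut.one_apply]
    | mul w w' _ _ ih ih' =>
      intro x hx
      rw [map_mul, MulAut.mul_apply, ih' x hx, ih x hx]
    | inv w _ ih =>
      intro x hx
      rw [map_inv]
      apply (ψ w).injective
      rw [MulAut.apply_inv_self, ih x hx]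
  exact key x hx

theorem Z_ne_top (hh : S2ND q s r n a b ψ φ β) : s2Z ψ ≠ ⊤ := by
  intro h
  obtain ⟨u, hu⟩ := hh.hne
  apply hu
  refine MulEquiv.ext fun x => ?_
  have hx : x ∈ s2Z ψ := by
    rw [h]
    exact Subgroup.mem_top x
  rw [s2Z_fix hx, s2Z_fix hx]

theorem frat_le (hh : S2ND q s r n a b ψ φ β) : frattini Q ≤ s2Z ψ := by
  apply hh.le_Z (frattini Q) (s2_char_inv _ a) (fun u => s2_char_inv _ (ψ u))
  intro h
  have h1 : (⊥ : Subgroup Q) = ⊤ := frattini_nongenerating (by rw [bot_sup_eq]; exact h)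
  apply hh.Z_ne_top
  rw [eq_top_iff, ← h1]
  exact bot_le

theorem comm_mem (hh : S2ND q s r n a b ψ φ β) (x y : Q) : x * y * x⁻¹ * y⁻¹ ∈ s2Z ψ := by
  apply hh.frat_le
  apply Cfsg.Agent.Lib.helper3.commutator_le_frattini hh.hQ
  rw [← commutatorElement_def]
  exact Subgroup.commutator_mem_commutator (Subgroup.mem_top x) (Subgroup.mem_top y)

theorem pow_mem (hh : S2ND q s r n a b ψ φ β) (x : Q) : x ^ q ∈ s2Z ψ :=
  hh.frat_le (Cfsg.Agent.Lib.helper3.pow_prime_mem_frattini hh.hQ x)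

theorem Z_central (hh : S2ND q s r n a b ψ φ β) : ∀ z ∈ s2Z ψ, ∀ x : Q, z * x = x * z := by
  by_cases hC : Subgroup.centralizer (s2Z ψ : Set Q) = ⊤
  · intro z hz x
    have hx : x ∈ Subgroup.centralizer (s2Z ψ : Set Q) := by
      rw [hC]
      exact Subgroup.mem_top x
    exact Subgroup.mem_centralizer_iff.mp hx z hz
  · exfalso
    have hCa : ∀ x ∈ Subgroup.centralizer (s2Z ψ : Set Q),
        a x ∈ Subgroup.centralizer (s2Z ψ : Set Q) := by
      intro x hx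
      rw [Subgroup.mem_centralizer_iff] at hx ⊢
      intro z hz
      have hz' : a⁻¹ z ∈ s2Z ψ :=
        sg_inv_mem a (2 ^ n) (pow_pos (by norm_num) n) hh.ha (s2Z ψ) hh.Z_a z hz
      have h1 := congrArg a (hx (a⁻¹ z) hz')
      rwa [map_mul, map_mul, MulAut.apply_inv_self] at h1
    have hCψ : ∀ u, ∀ x ∈ Subgroup.centralizer (s2Z ψ : Set Q),
        ψ u x ∈ Subgroup.centralizer (s2Z ψ : Set Q) := by
      intro u x hx
      rw [Subgroup.mem_centralizer_iff] at hx ⊢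
      intro z hz
      have h1 := congrArg (ψ u) (hx z hz)
      rwa [map_mul, map_mul, s2Z_fix hz u] at h1
    have hCZ := hh.le_Z _ hCa hCψ hC
    obtain ⟨u, hu⟩ := hh.hne
    have htriv : ∀ w : S, ψ w = 1 := by
      intro w
      apply s2_coprime_triv s q hh.hsq hh.hS hh.hQ ψ (s2Z ψ) (fun u z hz => s2Z_fix hz u) w
      intro x
      apply hCZ
      rw [Subgroup.mem_centralizer_iff]
      intro z hz
      have h0 := s2Z_fix (hh.comm_mem x z) w
      rw [map_mul, map_mul, map_mul, map_inv, map_inv, s2Z_fix hz w] at h0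
      have h1 : ψ w x * z * (ψ w x)⁻¹ = x * z * x⁻¹ := mul_right_cancel h0
      calc z * (x⁻¹ * ψ w x) = x⁻¹ * (x * z * x⁻¹) * ψ w x := by group
        _ = x⁻¹ * (ψ w x * z * (ψ w x)⁻¹) * ψ w x := by rw [h1]
        _ = x⁻¹ * ψ w x * z := by group
    apply hu
    rw [htriv, htriv]

theorem Z_normal (hh : S2ND q s r n a b ψ φ β) : (s2Z ψ).Normal := by
  constructor
  intro z hz g
  rw [← hh.Z_central z hz g, mul_inv_cancel_right]
  exact hz

theorem tauQ_Z (hh : S2ND q s r n a b ψ φ β) : ∀ z ∈ s2Z ψ, (a ^ (2 ^ (n - 1))) z = z := by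
  have hcomm : ∀ h k : ↥(s2Z ψ), h * k = k * h :=
    fun h k => Subtype.ext (hh.Z_central h h.2 k)
  have hα : (restrictAut a (s2Z ψ) hh.Z_a : MulAut (s2Z ψ)) ^ (2 ^ n) = 1 := by
    refine MulEquiv.ext fun y => Subtype.ext ?_
    rw [sg_restrict_pow, hh.ha]
    rfl
  have key := s2_arith_grp q hh.hq2 r hh.hqr.symm hh.hM (hh.hQ.to_subgroup (s2Z ψ)) n
    (restrictAut a (s2Z ψ) hh.Z_a) hα (φ.comp (s2Z ψ).subtype) β hh.hβ hh.hβfpf
    (fun h x => hh.hβφ (h : Q) x)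
    (fun h k => by rw [← map_mul, ← map_mul, hcomm (h * _) k])
  rcases key with h | ⟨-, u, v, huv⟩
  · intro z hz
    have h1 := h ⟨z, hz⟩
    have h2 : (((restrictAut a (s2Z ψ) hh.Z_a : MulAut (s2Z ψ)) ^ (2 ^ (n - 1))) ⟨z, hz⟩ : Q)
        = z := hh.hφ h1
    rw [sg_restrict_pow] at h2
    exact h2
  · exfalso
    apply huv
    rw [← map_mul, ← map_mul, hcomm u v]

theorem nonabelian (hh : S2ND q s r n a b ψ φ β) : ∃ x y : Q, x * y ≠ y * x := by
  by_contra hcon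
  have hcomm : ∀ x y : Q, x * y = y * x := by
    intro x y
    by_contra h
    exact hcon ⟨x, y, h⟩
  have key := s2_arith_grp q hh.hq2 r hh.hqr.symm hh.hM hh.hQ n a hh.ha φ β hh.hβ hh.hβfpf
    hh.hβφ (fun h k => by rw [← map_mul, ← map_mul, hcomm (h * _) k])
  rcases key with h | ⟨-, u, v, huv⟩
  · obtain ⟨u, hu⟩ := hh.hne
    apply hu
    refine MulEquiv.ext fun x => ?_
    have h1 := hh.compat_tau u x
    rw [hh.hφ (h x), hh.hφ (h (ψ u x))] at h1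
    exact h1.symm
  · apply huv
    rw [← map_mul, ← map_mul, hcomm u v]

end S2ND

end S2NDb

end Cfsg.Agent.Lib.helper75
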