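import Mathlib
import Cfsg.Agent.Lib.helper75.S2NDb

set_option autoImplicit false

namespace Cfsg.Agent.Lib.helper75

open Cfsg.Agent.Lib.helper1

namespace S2ND

variable {q s r n : ℕ} [Fact q.Prime] [Fact s.Prime] [Fact r.Prime] {Q S M : Type*} [Group Q]
  [Finite Q] [Group S] [Finite S] [CommGroup M] [Finite M] {a : MulAut Q} {b : MulAut S}
  {ψ : S →* MulAut Q} {φ : Q →* MulAut M} {β : MulAut M}

theorem stepE (hh : S2ND q s r n a b ψ φ β) :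
    (s % 4 = 3 ∧ ∃ (u v : S) (x : Q), (ψ u (ψ v x))⁻¹ * ψ v (ψ u x) ∉ s2Z ψ) ∧
    (s = 3 → ∀ (u v : S) (y : Q), (b ^ (2 ^ (n - 1))) u = u⁻¹ →
      (y * ψ u y * ψ u (ψ u y) * (a ^ (2 ^ (n - 1))) y * (a ^ (2 ^ (n - 1))) (ψ u y)
          * (a ^ (2 ^ (n - 1))) (ψ u (ψ u y)))⁻¹ *
        ψ (u * v * u⁻¹ * v⁻¹) (y * ψ u y * ψ u (ψ u y) * (a ^ (2 ^ (n - 1))) y
          * (a ^ (2 ^ (n - 1))) (ψ u y) * (a ^ (2 ^ (n - 1))) (ψ u (ψ u y))) ∈ s2Z ψ) := by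
  classical
  obtain ⟨hTψ, hgen, hpow⟩ := hh.crit
  haveI := hh.Z_normal
  have hmc : ∀ d e : Q ⧸ s2Z ψ, d * e = e * d := by
    intro d e
    obtain ⟨x, rfl⟩ := QuotientGroup.mk_surjective d
    obtain ⟨y, rfl⟩ := QuotientGroup.mk_surjective e
    rw [← QuotientGroup.mk_mul, ← QuotientGroup.mk_mul, QuotientGroup.eq]
    have h2 : (x * y)⁻¹ * (y * x) = y⁻¹ * x⁻¹ * y⁻¹⁻¹ * x⁻¹⁻¹ := by group
    rw [h2]
    exact hh.comm_mem y⁻¹ x⁻¹
  have hexpE : ∀ e : Q ⧸ s2Z ψ, e ^ q = 1 := by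
    intro e
    obtain ⟨x, rfl⟩ := QuotientGroup.mk_surjective e
    rw [← QuotientGroup.mk_pow]
    exact (QuotientGroup.eq_one_iff _).mpr (hh.pow_mem x)
  have hZτ : ∀ z ∈ s2Z ψ, (a ^ (2 ^ (n - 1))) z ∈ s2Z ψ := fun z hz => by
    rw [hh.tauQ_Z z hz]
    exact hz
  obtain ⟨ψE, hψE⟩ : ∃ ψE : S →* MulAut (Q ⧸ s2Z ψ), ψE = s2QuotHom ψ (s2Z ψ) s2Z_psi :=
    ⟨_, rfl⟩
  obtain ⟨aE, haE⟩ : ∃ aE : MulAut (Q ⧸ s2Z ψ), aE = quotAut a (s2Z ψ) hh.Z_a := ⟨_, rfl⟩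
  obtain ⟨tE, htE⟩ : ∃ tE : MulAut (Q ⧸ s2Z ψ), tE = quotAut (a ^ (2 ^ (n - 1))) (s2Z ψ) hZτ :=
    ⟨_, rfl⟩
  have hψEmk : ∀ w x, ψE w (QuotientGroup.mk x : Q ⧸ s2Z ψ) = QuotientGroup.mk (ψ w x) := by
    intro w x
    rw [hψE]
    rfl
  have haEmk : ∀ x, aE (QuotientGroup.mk x : Q ⧸ s2Z ψ) = QuotientGroup.mk (a x) := by
    intro x
    rw [haE]
    rfl
  have htEmk : ∀ x, tE (QuotientGroup.mk x : Q ⧸ s2Z ψ)
      = QuotientGroup.mk ((a ^ (2 ^ (n - 1))) x) := by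
    intro x
    rw [htE]
    rfl
  have hcong : ∀ w w', ψ w = ψ w' → ψE w = ψE w' := by
    intro w w' h
    rw [hψE]
    exact s2QuotHom_congr ψ (s2Z ψ) s2Z_psi w w' h
  have haE2 : aE ^ (2 ^ n) = 1 := by
    refine MulEquiv.ext fun g => ?_
    obtain ⟨x, rfl⟩ := QuotientGroup.mk_surjective g
    rw [haE, sg_quot_pow_mk, hh.ha]
    rfl
  have hfpfE : ∀ e, aE e = e → e = 1 := by
    rw [haE]
    exact quotAut_fpf a hh.hafpf (s2Z ψ) hh.Z_a
  have hβφE : ∀ u e, aE (ψE u e) = ψE (b u) (aE e) := by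
    intro u e
    obtain ⟨x, rfl⟩ := QuotientGroup.mk_surjective e
    rw [hψEmk, haEmk, haEmk, hψEmk, hh.hψ]
  have hTE : ∀ u k, ψE (u * (b ^ (2 ^ (n - 1))) u) * ψE k
      = ψE k * ψE (u * (b ^ (2 ^ (n - 1))) u) := by
    intro u k
    rw [← map_mul, ← map_mul]
    apply hcong
    have h1 := hTψ u k
    rw [← map_mul, ← map_mul] at h1
    exact h1
  constructor
  · have key := s2_arith_grp' hmc s hh.hs2 q hh.hsq.symm hexpE hh.hS n b hh.hb ψE aE haE2 hfpfE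
      hβφE hTE
    rcases key with h | ⟨h4, u, v, huv⟩
    · exfalso
      obtain ⟨u, hu⟩ := hh.hne
      apply hu
      have hw1 : ψE (u⁻¹ * (b ^ (2 ^ (n - 1))) u) = 1 := by
        rw [map_mul, h u, ← map_mul, inv_mul_cancel, map_one]
      have hw : ψ (u⁻¹ * (b ^ (2 ^ (n - 1))) u) = 1 := by
        apply s2_coprime_triv s q hh.hsq hh.hS hh.hQ ψ (s2Z ψ) (fun u z hz => s2Z_fix hz u)
        intro x
        have h1 : (QuotientGroup.mk x : Q ⧸ s2Z ψ)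
            = QuotientGroup.mk (ψ (u⁻¹ * (b ^ (2 ^ (n - 1))) u) x) := by
          rw [← hψEmk, hw1, MulAut.one_apply]
        exact QuotientGroup.eq.mp h1
      rw [map_mul, map_inv] at hw
      exact (inv_mul_eq_one.mp hw).symm
    · refine ⟨h4, u, v, ?_⟩
      by_contra hcon
      apply huv
      refine MulEquiv.ext fun e => ?_
      obtain ⟨x, rfl⟩ := QuotientGroup.mk_surjective e
      rw [MulAut.mul_apply, MulAut.mul_apply, hψEmk, hψEmk, hψEmk, hψEmk]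
      apply QuotientGroup.eq.mpr
      by_contra hx
      exact hcon ⟨x, hx⟩
  · intro hs3 u v y hu
    have hq3 : q ≠ 3 := fun h => hh.hsq (hs3.trans h.symm)
    have hS3 : IsPGroup 3 S := by
      rw [← hs3]
      exact hh.hS
    have hu3 : ∀ y, ψ u (ψ u (ψ u y)) = y := by
      intro y
      have h1 := hpow u hu
      rw [hs3] at h1
      have h2 := congrArg (fun f : MulAut Q => f y) h1
      simpa [pow_succ, map_mul, MulAut.mul_apply] using h2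
    have h3E : ∀ e : Q ⧸ s2Z ψ, ψE u (ψE u (ψE u e)) = e := by
      intro e
      obtain ⟨x, rfl⟩ := QuotientGroup.mk_surjective e
      rw [hψEmk, hψEmk, hψEmk, hu3]
    have h2E : ∀ e : Q ⧸ s2Z ψ, tE (tE e) = e := by
      intro e
      obtain ⟨x, rfl⟩ := QuotientGroup.mk_surjective e
      rw [htEmk, htEmk, hh.tauQ_sq]
    have h1E : ∀ e : Q ⧸ s2Z ψ, ψE u (tE e) = tE (ψE u (ψE u e)) := by
      intro e
      obtain ⟨x, rfl⟩ := QuotientGroup.mk_surjective e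
      rw [htEmk, hψEmk, hψEmk, hψEmk, htEmk]
      congr 1
      rw [hh.compat_tau, hh.compat_tau, hu, map_inv]
      apply (ψ u).injective
      apply (ψ u).injective
      rw [MulAut.apply_inv_self, MulAut.apply_inv_self, hu3]
    obtain ⟨e', he'⟩ : ∃ e' : Q, e' = y * ψ u y * ψ u (ψ u y) * (a ^ (2 ^ (n - 1))) y
        * (a ^ (2 ^ (n - 1))) (ψ u y) * (a ^ (2 ^ (n - 1))) (ψ u (ψ u y)) := ⟨_, rfl⟩
    rw [← he']
    have hmk : (QuotientGroup.mk e' : Q ⧸ s2Z ψ)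
        = QuotientGroup.mk y * ψE u (QuotientGroup.mk y)
          * ψE u (ψE u (QuotientGroup.mk y)) * tE (QuotientGroup.mk y)
          * tE (ψE u (QuotientGroup.mk y)) * tE (ψE u (ψE u (QuotientGroup.mk y))) := by
      rw [he', hψEmk, hψEmk, htEmk, htEmk, htEmk]
      rfl
    have havg := s2_avg6' hmc (ψE u) tE h3E h2E h1E (QuotientGroup.mk y)
    rw [← hmk] at havg
    have ht : (aE ^ (2 ^ (n - 1))) (QuotientGroup.mk e') = QuotientGroup.mk e' := by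
      rw [haE, sg_quot_pow_mk, ← htEmk]
      exact havg.2
    have key := s2_gamma_grp' hmc q hq3 hexpE hS3 n hh.hn b hh.hb ψE aE haE2 hfpfE hβφE hTE u v
      (QuotientGroup.mk e') havg.1 ht
    rw [hψEmk] at key
    exact QuotientGroup.eq.mp key.symm

end S2ND

end Cfsg.Agent.Lib.helper75
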