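import Mathlib
import Cfsg.Agent.Lib.helper75.S2NDc

set_option autoImplicit false

namespace Cfsg.Agent.Lib.helper75

open Cfsg.Agent.Lib.helper1

namespace S2ND

variable {q s r n : ℕ} [Fact q.Prime] [Fact s.Prime] [Fact r.Prime] {Q S M : Type*} [Group Q]
  [Finite Q] [Group S] [Finite S] [CommGroup M] [Finite M] {a : MulAut Q} {b : MulAut S}
  {ψ : S →* MulAut Q} {φ : Q →* MulAut M} {β : MulAut M}

theorem exists_Qm (hh : S2ND q s r n a b ψ φ β) :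
    ∃ Qm : Subgroup Q, ∀ x, x ∈ Qm ↔ x * (a ^ (2 ^ (n - 1))) x ∈ s2Z ψ := by
  refine ⟨{ carrier := {x | x * (a ^ (2 ^ (n - 1))) x ∈ s2Z ψ}
            one_mem' := ?_
            mul_mem' := ?_
            inv_mem' := ?_ }, fun x => Iff.rfl⟩
  · intro x y hx hy
    show x * y * (a ^ (2 ^ (n - 1))) (x * y) ∈ s2Z ψ
    have hx' : x * (a ^ (2 ^ (n - 1))) x ∈ s2Z ψ := hx
    have hy' : y * (a ^ (2 ^ (n - 1))) y ∈ s2Z ψ := hy
    have hz1 := hh.Z_central _ hx' y⁻¹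
    have e : x * y * ((a ^ (2 ^ (n - 1))) x * (a ^ (2 ^ (n - 1))) y)
        = (x * y * x⁻¹) * ((x * (a ^ (2 ^ (n - 1))) x) * y⁻¹) * (y * (a ^ (2 ^ (n - 1))) y) := by
      group
    have e2 : (x * y * x⁻¹) * (y⁻¹ * (x * (a ^ (2 ^ (n - 1))) x)) * (y * (a ^ (2 ^ (n - 1))) y)
        = (x * y * x⁻¹ * y⁻¹) * (x * (a ^ (2 ^ (n - 1))) x) * (y * (a ^ (2 ^ (n - 1))) y) := by
      group
    rw [map_mul, e, hz1, e2]
    exact mul_mem (mul_mem (hh.comm_mem x y) hx') hy'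
  · show 1 * (a ^ (2 ^ (n - 1))) 1 ∈ s2Z ψ
    rw [map_one, mul_one]
    exact Subgroup.one_mem _
  · intro x hx
    show x⁻¹ * (a ^ (2 ^ (n - 1))) x⁻¹ ∈ s2Z ψ
    have hx' : x * (a ^ (2 ^ (n - 1))) x ∈ s2Z ψ := hx
    have hz1 := hh.Z_central _ hx' x
    have h1 : (a ^ (2 ^ (n - 1))) x * x = x * (a ^ (2 ^ (n - 1))) x :=
      mul_left_cancel (a := x) (by rw [← mul_assoc, hz1])
    have e : x⁻¹ * ((a ^ (2 ^ (n - 1))) x)⁻¹ = (x * (a ^ (2 ^ (n - 1))) x)⁻¹ := by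
      rw [← mul_inv_rev, h1]
    rw [map_inv, e]
    exact inv_mem hx'

theorem fix_comm (hh : S2ND q s r n a b ψ φ β) (p m : Q) (hp : (a ^ (2 ^ (n - 1))) p = p)
    (hm : m * (a ^ (2 ^ (n - 1))) m ∈ s2Z ψ) : p * m = m * p := by
  have hc := hh.comm_mem p m
  have h1 := hh.tauQ_Z _ hc
  rw [map_mul, map_mul, map_mul, map_inv, map_inv, hp] at h1
  have hz := hh.Z_central _ hm
  have e1 : (a ^ (2 ^ (n - 1))) m = m⁻¹ * (m * (a ^ (2 ^ (n - 1))) m) := by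
    rw [inv_mul_cancel_left]
  have h2 : p * (a ^ (2 ^ (n - 1))) m * p⁻¹ * ((a ^ (2 ^ (n - 1))) m)⁻¹
      = (p * m * p⁻¹ * m⁻¹)⁻¹ := by
    rw [e1]
    generalize m * (a ^ (2 ^ (n - 1))) m = z at hz
    have hz1 := hz p⁻¹
    calc p * (m⁻¹ * z) * p⁻¹ * (m⁻¹ * z)⁻¹ = p * m⁻¹ * (z * p⁻¹) * z⁻¹ * m := by group
      _ = p * m⁻¹ * (p⁻¹ * z) * z⁻¹ * m := by rw [hz1]
      _ = m⁻¹ * ((m * p * m⁻¹ * p⁻¹) * m) := by group
      _ = m⁻¹ * (m * (m * p * m⁻¹ * p⁻¹)) := by rw [hh.Z_central _ (hh.comm_mem m p) m]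
      _ = (p * m * p⁻¹ * m⁻¹)⁻¹ := by group
  rw [h2] at h1
  have h3 : (p * m * p⁻¹ * m⁻¹) ^ 2 = 1 := by
    rw [pow_two]
    nth_rewrite 1 [← h1]
    exact inv_mul_cancel _
  have h4 := s2_sq_eq_one q hh.hq2 hh.hQ _ h3
  have h5 : p * m = (p * m * p⁻¹ * m⁻¹) * (m * p) := by group
  rw [h5, h4, one_mul]

theorem decomp (hh : S2ND q s r n a b ψ φ β) (y : Q) :
    ∃ p m : Q, y = p * m ∧ (a ^ (2 ^ (n - 1))) p = p ∧ m * (a ^ (2 ^ (n - 1))) m = 1 := by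
  obtain ⟨x, hx⟩ := s2_exists_sqrt q hh.hq2 hh.hQ y
  have hc := hh.comm_mem x ((a ^ (2 ^ (n - 1))) x)
  have h1 := hh.tauQ_Z _ hc
  rw [map_mul, map_mul, map_mul, map_inv, map_inv, hh.tauQ_sq] at h1
  have h2 : (x * (a ^ (2 ^ (n - 1))) x * x⁻¹ * ((a ^ (2 ^ (n - 1))) x)⁻¹) ^ 2 = 1 := by
    rw [pow_two]
    nth_rewrite 1 [← h1]
    group
  have h3 := s2_sq_eq_one q hh.hq2 hh.hQ _ h2
  have h4 : x * (a ^ (2 ^ (n - 1))) x = (a ^ (2 ^ (n - 1))) x * x := by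
    have h5 : x * (a ^ (2 ^ (n - 1))) x
        = (x * (a ^ (2 ^ (n - 1))) x * x⁻¹ * ((a ^ (2 ^ (n - 1))) x)⁻¹)
          * ((a ^ (2 ^ (n - 1))) x * x) := by group
    rw [h5, h3, one_mul]
  refine ⟨x * (a ^ (2 ^ (n - 1))) x, ((a ^ (2 ^ (n - 1))) x)⁻¹ * x, ?_, ?_, ?_⟩
  · rw [← hx, pow_two]
    group
  · rw [map_mul, hh.tauQ_sq, h4]
  · rw [map_mul, map_inv, hh.tauQ_sq]
    group

theorem beta (hh : S2ND q s r n a b ψ φ β) : ∃ (Z₁ Qm L : Subgroup Q),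
    s2Rad (s2Z ψ) hh.Z_central hh.comm_mem Z₁ ≠ ⊤ ∧
    (∀ y, (a ^ (2 ^ (n - 1))) y * y⁻¹ ∈ Qm) ∧ L ≤ Qm ∧
    L ≤ s2Rad (s2Z ψ) hh.Z_central hh.comm_mem Z₁ ∧ L.relIndex Qm ∣ q ^ 2 := by
  classical
  obtain ⟨Qm, hQm⟩ := hh.exists_Qm
  have hQma : ∀ x ∈ Qm, a x ∈ Qm := by
    intro x hx
    rw [hQm] at hx ⊢
    rw [sg_pow_comm, ← map_mul]
    exact hh.Z_a _ hx
  have hZQm : s2Z ψ ≤ Qm := by
    intro z hz
    rw [hQm, hh.tauQ_Z z hz]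
    exact mul_mem hz hz
  have hα : (restrictAut a Qm hQma : MulAut Qm) ^ (2 ^ n) = 1 := by
    refine MulEquiv.ext fun y => Subtype.ext ?_
    rw [sg_restrict_pow, hh.ha]
    rfl
  have hT : ∀ h k : Qm,
      (φ.comp Qm.subtype) (h * ((restrictAut a Qm hQma : MulAut Qm) ^ (2 ^ (n - 1))) h)
          * (φ.comp Qm.subtype) k
        = (φ.comp Qm.subtype) k
          * (φ.comp Qm.subtype) (h * ((restrictAut a Qm hQma : MulAut Qm) ^ (2 ^ (n - 1))) h) := by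
    intro h k
    rw [← map_mul, ← map_mul]
    congr 1
    apply Subtype.ext
    have h1 : ((h * ((restrictAut a Qm hQma : MulAut Qm) ^ (2 ^ (n - 1))) h : Qm) : Q)
        = (h : Q) * (a ^ (2 ^ (n - 1))) (h : Q) := by
      rw [Subgroup.coe_mul, sg_restrict_pow]
    show ((h * ((restrictAut a Qm hQma : MulAut Qm) ^ (2 ^ (n - 1))) h : Qm) : Q) * (k : Q)
      = (k : Q) * ((h * ((restrictAut a Qm hQma : MulAut Qm) ^ (2 ^ (n - 1))) h : Qm) : Q)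
    rw [h1]
    exact hh.Z_central _ ((hQm _).mp h.2) _
  obtain ⟨x, y, hxy⟩ := hh.nonabelian
  have hcZ := hh.comm_mem x y
  have hc1 : x * y * x⁻¹ * y⁻¹ ≠ 1 := by
    intro h
    apply hxy
    have h2 : x * y = (x * y * x⁻¹ * y⁻¹) * (y * x) := by group
    rw [h2, h, one_mul]
  have hφc : (φ.comp Qm.subtype) ⟨x * y * x⁻¹ * y⁻¹, hZQm hcZ⟩ ≠ 1 := by
    intro h
    apply hc1
    apply hh.hφ
    rw [map_one]
    exact h
  obtain ⟨N, L, j, hj, hidx, hL⟩ := s2_beta_grp q hh.hq2 r hh.hqr.symm hh.hM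
    (hh.hQ.to_subgroup Qm) n (restrictAut a Qm hQma) hα (φ.comp Qm.subtype) β hh.hβ hh.hβfpf
    (fun h m => hh.hβφ (h : Q) m) hT ⟨x * y * x⁻¹ * y⁻¹, hZQm hcZ⟩ hφc
  refine ⟨N.map Qm.subtype, Qm, L.map Qm.subtype, ?_, ?_, ?_, ?_, ?_⟩
  · intro htop
    apply hj
    have h1 : (a ^ j) x ∈ s2Rad (s2Z ψ) hh.Z_central hh.comm_mem (N.map Qm.subtype) := by
      rw [htop]
      exact Subgroup.mem_top _
    rw [mem_s2Rad] at h1
    obtain ⟨n', hn', hn'eq⟩ := h1 ((a ^ j) y)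
    have h2 : n' = ((restrictAut a Qm hQma : MulAut Qm) ^ j) ⟨x * y * x⁻¹ * y⁻¹, hZQm hcZ⟩ := by
      apply Subtype.ext
      rw [sg_restrict_pow]
      show (n' : Q) = (a ^ j) (x * y * x⁻¹ * y⁻¹)
      rw [map_mul, map_mul, map_mul, map_inv, map_inv]
      exact hn'eq
    rw [← h2]
    exact hn'
  · intro y
    rw [hQm, map_mul, map_inv, hh.tauQ_sq]
    have e : (a ^ (2 ^ (n - 1))) y * y⁻¹ * (y * ((a ^ (2 ^ (n - 1))) y)⁻¹) = 1 := by group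
    rw [e]
    exact Subgroup.one_mem _
  · rintro _ ⟨l, _, rfl⟩
    exact l.2
  · rintro _ ⟨l, hl, rfl⟩
    rw [mem_s2Rad]
    intro g
    obtain ⟨p, m, hpm, hp, hm⟩ := hh.decomp g
    have hmQm : m ∈ Qm := by
      rw [hQm, hm]
      exact Subgroup.one_mem _
    have hlp : (l : Q) * p = p * l := (hh.fix_comm p l hp ((hQm _).mp l.2)).symm
    have e : (l : Q) * g * (l : Q)⁻¹ * g⁻¹ = (l : Q) * m * (l : Q)⁻¹ * m⁻¹ := by
      rw [hpm]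
      have h1 : (l : Q) * (p * m) * (l : Q)⁻¹ * (p * m)⁻¹
          = ((l : Q) * p) * (m * (l : Q)⁻¹ * m⁻¹) * p⁻¹ := by group
      rw [h1, hlp]
      have h2 : p * (l : Q) * (m * (l : Q)⁻¹ * m⁻¹) * p⁻¹
          = p * ((l : Q) * m * (l : Q)⁻¹ * m⁻¹) * p⁻¹ := by group
      rw [h2, ← hh.Z_central _ (hh.comm_mem (l : Q) m) p, mul_inv_cancel_right]
    show (l : Q) * g * (l : Q)⁻¹ * g⁻¹ ∈ N.map Qm.subtype
    rw [e]
    exact ⟨l * ⟨m, hmQm⟩ * l⁻¹ * (⟨m, hmQm⟩ : Qm)⁻¹, hL l hl ⟨m, hmQm⟩, rfl⟩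
  · have h1 : (L.map Qm.subtype).relIndex Qm = L.index := by
      unfold Subgroup.relIndex
      congr 1
      ext z
      simp [Subgroup.mem_subgroupOf]
    rw [h1]
    exact hidx

end S2ND

end Cfsg.Agent.Lib.helper75
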