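import Mathlib
import Cfsg.Agent.Lib.helper75.S2NDd

set_option autoImplicit false

namespace Cfsg.Agent.Lib.helper75

open Cfsg.Agent.Lib.helper1

namespace S2ND

variable {q s r n : ℕ} [Fact q.Prime] [Fact s.Prime] [Fact r.Prime] {Q S M : Type*} [Group Q]
  [Finite Q] [Group S] [Finite S] [CommGroup M] [Finite M] {a : MulAut Q} {b : MulAut S}
  {ψ : S →* MulAut Q} {φ : Q →* MulAut M} {β : MulAut M}

theorem exists_uv (hh : S2ND q s r n a b ψ φ β) (Z₁ : Subgroup Q)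
    (hRtop : s2Rad (s2Z ψ) hh.Z_central hh.comm_mem Z₁ ≠ ⊤) :
    ∃ u v : S, (b ^ (2 ^ (n - 1))) u = u⁻¹ ∧ (b ^ (2 ^ (n - 1))) v = v⁻¹ ∧
      ∃ x : Q, (ψ u (ψ v x))⁻¹ * ψ v (ψ u x) ∉ s2Rad (s2Z ψ) hh.Z_central hh.comm_mem Z₁ := by
  classical
  obtain ⟨hTψ, hgen, hpow⟩ := hh.crit
  obtain ⟨⟨hs4, u₀, v₀, x₀, hx₀⟩, -⟩ := hh.stepE
  obtain ⟨Rad, hRad⟩ : ∃ R : Subgroup Q, R = s2Rad (s2Z ψ) hh.Z_central hh.comm_mem Z₁ :=
    ⟨_, rfl⟩
  rw [← hRad] at hRtop ⊢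
  haveI hRn : Rad.Normal := by
    rw [hRad]
    exact s2Rad_normal _ _ _ _
  haveI := hh.Z_normal
  have hZR : s2Z ψ ≤ Rad := by
    rw [hRad]
    exact s2Rad_ge _ _ _ _
  have hRψ : ∀ u, ∀ x ∈ Rad, ψ u x ∈ Rad := by
    rw [hRad]
    exact fun u => s2Rad_aut _ _ _ _ (ψ u) (fun z hz => s2Z_fix hz u)
  by_contra hcon
  have hinv : ∀ u v : S, (b ^ (2 ^ (n - 1))) u = u⁻¹ → (b ^ (2 ^ (n - 1))) v = v⁻¹ →
      ∀ x, (ψ u (ψ v x))⁻¹ * ψ v (ψ u x) ∈ Rad := by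
    intro u v hu hv x
    by_contra hx
    exact hcon ⟨u, v, hu, hv, x, hx⟩
  have hinvd : ∀ v : S, (b ^ (2 ^ (n - 1))) (v⁻¹ * (b ^ (2 ^ (n - 1))) v)
      = (v⁻¹ * (b ^ (2 ^ (n - 1))) v)⁻¹ := by
    intro v
    rw [map_mul, map_inv, hh.tauS_sq, mul_inv_rev, inv_inv]
  have hker1 : ∀ g : S, g ∈ (ψ.ker : Set S) → s2QuotHom ψ Rad hRψ g = 1 := by
    intro g hg
    rw [← map_one (s2QuotHom ψ Rad hRψ)]
    exact s2QuotHom_congr _ _ _ _ _ (by rw [MonoidHom.mem_ker.mp hg, map_one])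
  have hgenc : ∀ g ∈ (Set.range (fun v : S => v⁻¹ * (b ^ (2 ^ (n - 1))) v) ∪ (ψ.ker : Set S)),
      ∀ g' ∈ (Set.range (fun v : S => v⁻¹ * (b ^ (2 ^ (n - 1))) v) ∪ (ψ.ker : Set S)),
      s2QuotHom ψ Rad hRψ g * s2QuotHom ψ Rad hRψ g'
        = s2QuotHom ψ Rad hRψ g' * s2QuotHom ψ Rad hRψ g := by
    intro g hg g' hg'
    rcases hg with ⟨v, rfl⟩ | hg
    · rcases hg' with ⟨v', rfl⟩ | hg'
      · refine MulEquiv.ext fun d => ?_
        obtain ⟨x, rfl⟩ := QuotientGroup.mk_surjective d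
        rw [MulAut.mul_apply, MulAut.mul_apply, s2QuotHom_mk, s2QuotHom_mk, s2QuotHom_mk,
          s2QuotHom_mk]
        exact QuotientGroup.eq.mpr (hinv _ _ (hinvd v) (hinvd v') x)
      · rw [hker1 g' hg', mul_one, one_mul]
    · rw [hker1 g hg, mul_one, one_mul]
  have hab := s2_closure_comm (s2QuotHom ψ Rad hRψ) _ hgen hgenc
  have hS'D : ∀ c ∈ commutator S, s2QuotHom ψ Rad hRψ c = 1 := by
    intro c hc
    rw [commutator_eq_closure] at hc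
    induction hc using Subgroup.closure_induction with
    | mem c hc =>
      obtain ⟨g₁, g₂, rfl⟩ := hc
      rw [commutatorElement_def, map_mul, map_mul, map_mul, map_inv, map_inv, hab g₁ g₂]
      group
    | one => exact map_one _
    | mul c c' _ _ ih ih' => rw [map_mul, ih, ih', mul_one]
    | inv c _ ih => rw [map_inv, ih, inv_one]
  have hS'c : ∀ c ∈ commutator S, ∀ u, ψ c * ψ u = ψ u * ψ c := by
    intro c hc u
    rw [commutator_eq_closure] at hc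
    induction hc using Subgroup.closure_induction with
    | mem c hc =>
      obtain ⟨g₁, g₂, rfl⟩ := hc
      rw [commutatorElement_def]
      exact s2_comm_central ψ (b ^ (2 ^ (n - 1))) hTψ g₁ g₂ u
    | one => rw [map_one, one_mul, mul_one]
    | mul c c' _ _ ih ih' =>
      rw [map_mul]
      exact (Commute.mul_left (show Commute _ _ from ih) ih').eq
    | inv c _ ih =>
      rw [map_inv]
      exact (Commute.inv_left (show Commute (ψ c) (ψ u) from ih)).eq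
  have hQc : ∃ Qc : Subgroup Q, ∀ x, x ∈ Qc ↔ ∀ c ∈ commutator S, x⁻¹ * ψ c x ∈ s2Z ψ := by
    refine ⟨{ carrier := {x | ∀ c ∈ commutator S, x⁻¹ * ψ c x ∈ s2Z ψ}
              one_mem' := ?_
              mul_mem' := ?_
              inv_mem' := ?_ }, fun x => Iff.rfl⟩
    · intro x y hx hy c hc
      show (x * y)⁻¹ * ψ c (x * y) ∈ s2Z ψ
      have hzx : x⁻¹ * ψ c x ∈ s2Z ψ := hx c hc
      have hzy : y⁻¹ * ψ c y ∈ s2Z ψ := hy c hc
      have e : (x * y)⁻¹ * (ψ c x * ψ c y) = y⁻¹ * (x⁻¹ * ψ c x) * ψ c y := by group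
      have e2 : x⁻¹ * ψ c x * y⁻¹ * ψ c y = (x⁻¹ * ψ c x) * (y⁻¹ * ψ c y) := by group
      rw [map_mul, e, ← hh.Z_central _ hzx y⁻¹, e2]
      exact mul_mem hzx hzy
    · intro c _
      show (1 : Q)⁻¹ * ψ c 1 ∈ s2Z ψ
      rw [map_one, inv_one, one_mul]
      exact Subgroup.one_mem _
    · intro x hx c hc
      show (x⁻¹)⁻¹ * ψ c x⁻¹ ∈ s2Z ψ
      have hzx : x⁻¹ * ψ c x ∈ s2Z ψ := hx c hc
      have e : (x⁻¹)⁻¹ * (ψ c x)⁻¹ = x * (x⁻¹ * ψ c x)⁻¹ * x⁻¹ := by group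
      rw [map_inv, e, ← hh.Z_central _ (inv_mem hzx) x, mul_inv_cancel_right]
      exact inv_mem hzx
  obtain ⟨Qc, hQc⟩ := hQc
  haveI : (commutator S).Characteristic := Subgroup.commutator_characteristic ⊤ ⊤
  have hQca : ∀ x ∈ Qc, a x ∈ Qc := by
    intro x hx
    rw [hQc] at hx ⊢
    intro c hc
    have hc' : b⁻¹ c ∈ commutator S := s2_char_inv (commutator S) b⁻¹ c hc
    have h1 := hh.Z_a _ (hx _ hc')
    rw [map_mul, map_inv, hh.hψ, MulAut.apply_inv_self] at h1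
    exact h1
  have hQcψ : ∀ u, ∀ x ∈ Qc, ψ u x ∈ Qc := by
    intro u x hx
    rw [hQc] at hx ⊢
    intro c hc
    have h1 := s2Z_psi u _ (hx c hc)
    rw [map_mul, map_inv] at h1
    have h2 : ψ u (ψ c x) = ψ c (ψ u x) :=
      (congrArg (fun f : MulAut Q => f x) (hS'c c hc u)).symm
    rw [h2] at h1
    exact h1
  have hQcne : Qc ≠ ⊤ := by
    intro h
    apply hx₀
    have h1 : ψ u₀ (ψ v₀ x₀) ∈ Qc := by
      rw [h]
      exact Subgroup.mem_top _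
    rw [hQc] at h1
    have h2 := h1 (v₀ * u₀ * v₀⁻¹ * u₀⁻¹) (by
      rw [← commutatorElement_def]
      exact Subgroup.commutator_mem_commutator (Subgroup.mem_top _) (Subgroup.mem_top _))
    have h3 : ψ (v₀ * u₀ * v₀⁻¹ * u₀⁻¹) (ψ u₀ (ψ v₀ x₀)) = ψ v₀ (ψ u₀ x₀) := by
      generalize hc'' : v₀ * u₀ * v₀⁻¹ * u₀⁻¹ = c'
      have e : c' * u₀ * v₀ = v₀ * u₀ := by
        rw [← hc'']
        group
      have h4 := congrArg (fun g : S => ψ g x₀) e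
      simp only [map_mul, MulAut.mul_apply] at h4
      exact h4
    rw [h3] at h2
    exact h2
  have hQcZ := hh.le_Z Qc hQca hQcψ hQcne
  have hmcE : ∀ d e : Q ⧸ s2Z ψ, d * e = e * d := by
    intro d e
    obtain ⟨x, rfl⟩ := QuotientGroup.mk_surjective d
    obtain ⟨y, rfl⟩ := QuotientGroup.mk_surjective e
    rw [← QuotientGroup.mk_mul, ← QuotientGroup.mk_mul, QuotientGroup.eq]
    have h2 : (x * y)⁻¹ * (y * x) = y⁻¹ * x⁻¹ * y⁻¹⁻¹ * x⁻¹⁻¹ := by group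
    rw [h2]
    exact hh.comm_mem y⁻¹ x⁻¹
  apply hRtop
  rw [eq_top_iff]
  intro x _
  have hfix : ∀ e : Q ⧸ s2Z ψ,
      (∀ c : ↥(commutator S), ((s2QuotHom ψ (s2Z ψ) s2Z_psi).comp (commutator S).subtype) c e = e)
        → e = 1 := by
    intro e he
    obtain ⟨m, rfl⟩ := QuotientGroup.mk_surjective e
    apply (QuotientGroup.eq_one_iff m).mpr
    apply hQcZ
    rw [hQc]
    intro c hc
    have h1 : (QuotientGroup.mk m : Q ⧸ s2Z ψ) = QuotientGroup.mk (ψ c m) := (he ⟨c, hc⟩).symm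
    exact QuotientGroup.eq.mp h1
  have hR : ∀ c : ↥(commutator S), (QuotientGroup.mk x : Q ⧸ s2Z ψ)⁻¹
      * ((s2QuotHom ψ (s2Z ψ) s2Z_psi).comp (commutator S).subtype) c (QuotientGroup.mk x)
        ∈ Rad.map (QuotientGroup.mk' (s2Z ψ)) := by
    intro c
    have h1 : (QuotientGroup.mk x : Q ⧸ Rad) = QuotientGroup.mk (ψ (c : S) x) := by
      have h2 := congrArg (fun f : MulAut (Q ⧸ Rad) => f (QuotientGroup.mk x)) (hS'D c c.2)
      exact h2.symm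
    exact ⟨x⁻¹ * ψ (c : S) x, QuotientGroup.eq.mp h1, rfl⟩
  have key := s2_avg_triv hmcE ((s2QuotHom ψ (s2Z ψ) s2Z_psi).comp (commutator S).subtype) hfix
    (Rad.map (QuotientGroup.mk' (s2Z ψ))) (QuotientGroup.mk x) hR
  obtain ⟨ρ₀, hρ₀, hρ₀eq⟩ := key
  have h1 : (QuotientGroup.mk ρ₀ : Q ⧸ s2Z ψ)
      = QuotientGroup.mk (x ^ Nat.card ↥(commutator S)) := hρ₀eq
  have h2 : x ^ Nat.card ↥(commutator S) ∈ Rad := by
    have h3 := hZR (QuotientGroup.eq.mp h1)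
    have h4 : x ^ Nat.card ↥(commutator S) = ρ₀ * (ρ₀⁻¹ * x ^ Nat.card ↥(commutator S)) := by
      rw [mul_inv_cancel_left]
    rw [h4]
    exact mul_mem hρ₀ h3
  obtain ⟨m, hm⟩ := IsPGroup.iff_card.mp (hh.hS.to_subgroup (commutator S))
  have hcop : Nat.Coprime (s ^ m) q :=
    Nat.Coprime.pow_left m ((Nat.coprime_primes Fact.out Fact.out).mpr hh.hsq)
  have h5 : (QuotientGroup.mk x : Q ⧸ Rad) ^ (s ^ m) = 1 := by
    rw [← QuotientGroup.mk_pow, ← hm]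
    exact (QuotientGroup.eq_one_iff _).mpr h2
  have h6 : (QuotientGroup.mk x : Q ⧸ Rad) ^ q = 1 := by
    rw [← QuotientGroup.mk_pow]
    exact (QuotientGroup.eq_one_iff _).mpr (hZR (hh.pow_mem x))
  have h7 := s2_coprime_pow _ _ _ h5 h6 hcop
  exact (QuotientGroup.eq_one_iff x).mp h7

end S2ND

end Cfsg.Agent.Lib.helper75
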