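import Mathlib
import Cfsg.Agent.Lib.helper75.S2NDe

set_option autoImplicit false

namespace Cfsg.Agent.Lib.helper75

open Cfsg.Agent.Lib.helper1

namespace S2ND

variable {q s r n : ℕ} [Fact q.Prime] [Fact s.Prime] [Fact r.Prime] {Q S M : Type*} [Group Q]
  [Finite Q] [Group S] [Finite S] [CommGroup M] [Finite M] {a : MulAut Q} {b : MulAut S}
  {ψ : S →* MulAut Q} {φ : Q →* MulAut M} {β : MulAut M}

set_option maxHeartbeats 1000000 in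
/-- The critical configuration is impossible. -/
theorem final (hh : S2ND q s r n a b ψ φ β) : False := by
  classical
  have hq : q.Prime := Fact.out
  obtain ⟨hTψ, hgen, hpow⟩ := hh.crit
  obtain ⟨Z₁, Qm, L, hRtop, hQm, hLQm, hLR, hidx⟩ := hh.beta
  obtain ⟨⟨hs4, -⟩, hγE⟩ := hh.stepE
  obtain ⟨u, v, hu, hv, x₁, hx₁⟩ := hh.exists_uv Z₁ hRtop
  obtain ⟨K, hK⟩ : ∃ K : Q → Q →* Q, K = s2K (s2Z ψ) hh.Z_central hh.comm_mem := ⟨_, rfl⟩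
  obtain ⟨Rad, hRad⟩ : ∃ R : Subgroup Q, R = s2Rad (s2Z ψ) hh.Z_central hh.comm_mem Z₁ :=
    ⟨_, rfl⟩
  rw [← hRad] at hRtop hLR hx₁
  haveI hRn : Rad.Normal := by
    rw [hRad]
    exact s2Rad_normal _ _ _ _
  have hZR : s2Z ψ ≤ Rad := by
    rw [hRad]
    exact s2Rad_ge _ _ _ _
  have hRψ : ∀ u, ∀ x ∈ Rad, ψ u x ∈ Rad := by
    rw [hRad]
    exact fun u => s2Rad_aut _ _ _ _ (ψ u) (fun z hz => s2Z_fix hz u)
  have hRτ : ∀ x ∈ Rad, (a ^ (2 ^ (n - 1))) x ∈ Rad := by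
    rw [hRad]
    exact s2Rad_aut _ _ _ _ _ hh.tauQ_Z
  have hKapp : ∀ g y, K g y = y * g * y⁻¹ * g⁻¹ := by
    intro g y
    rw [hK]
    rfl
  have hKswap : ∀ g y, K g y = (K y g)⁻¹ := by
    intro g y
    rw [hK]
    exact s2K_swap _ _ _ g y
  have hKaut : ∀ f : MulAut Q, (∀ z ∈ s2Z ψ, f z = z) → ∀ g y, K (f g) (f y) = K g y := by
    intro f hf g y
    rw [hK]
    exact s2K_aut _ _ _ f hf g y
  have hKR : ∀ g, ∀ ρ ∈ Rad, K g ρ ∈ Z₁ := by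
    intro g ρ hρ
    rw [hRad, mem_s2Rad] at hρ
    rw [hKapp]
    exact hρ g
  have hmc : ∀ d e : Q ⧸ Rad, d * e = e * d := by
    intro d e
    obtain ⟨x, rfl⟩ := QuotientGroup.mk_surjective d
    obtain ⟨y, rfl⟩ := QuotientGroup.mk_surjective e
    rw [← QuotientGroup.mk_mul, ← QuotientGroup.mk_mul, QuotientGroup.eq]
    have h2 : (x * y)⁻¹ * (y * x) = y⁻¹ * x⁻¹ * y⁻¹⁻¹ * x⁻¹⁻¹ := by group
    rw [h2]
    exact hZR (hh.comm_mem y⁻¹ x⁻¹)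
  have hexpD : ∀ d : Q ⧸ Rad, d ^ q = 1 := by
    intro d
    obtain ⟨x, rfl⟩ := QuotientGroup.mk_surjective d
    rw [← QuotientGroup.mk_pow]
    exact (QuotientGroup.eq_one_iff _).mpr (hZR (hh.pow_mem x))
  obtain ⟨ψD, hψD⟩ : ∃ ψD : S →* MulAut (Q ⧸ Rad), ψD = s2QuotHom ψ Rad hRψ := ⟨_, rfl⟩
  obtain ⟨tD, htD⟩ : ∃ tD : MulAut (Q ⧸ Rad), tD = quotAut (a ^ (2 ^ (n - 1))) Rad hRτ :=
    ⟨_, rfl⟩
  have hψDmk : ∀ w x, ψD w (QuotientGroup.mk x : Q ⧸ Rad) = QuotientGroup.mk (ψ w x) := by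
    intro w x
    rw [hψD]
    rfl
  have htDmk : ∀ x, tD (QuotientGroup.mk x : Q ⧸ Rad)
      = QuotientGroup.mk ((a ^ (2 ^ (n - 1))) x) := by
    intro x
    rw [htD]
    rfl
  have hcong : ∀ w w', ψ w = ψ w' → ψD w = ψD w' := by
    intro w w' h
    rw [hψD]
    exact s2QuotHom_congr ψ Rad hRψ w w' h
  obtain ⟨c, hc⟩ : ∃ c : S, c = u * v * u⁻¹ * v⁻¹ := ⟨_, rfl⟩
  have hcfix : ∀ z ∈ s2Z ψ, ψ c z = z := fun z hz => s2Z_fix hz c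
  have hxs : ψD u ^ s = 1 := by
    rw [← map_pow, ← map_one ψD]
    exact hcong _ _ (by rw [hpow u hu, map_one])
  have ht2 : tD * tD = 1 := by
    refine MulEquiv.ext fun d => ?_
    obtain ⟨x, rfl⟩ := QuotientGroup.mk_surjective d
    rw [MulAut.mul_apply, htDmk, htDmk, hh.tauQ_sq]
    rfl
  have htx : tD * ψD u * tD = (ψD u)⁻¹ := by
    rw [← map_inv]
    refine MulEquiv.ext fun d => ?_
    obtain ⟨x, rfl⟩ := QuotientGroup.mk_surjective d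
    rw [MulAut.mul_apply, MulAut.mul_apply, htDmk, hψDmk, htDmk, hψDmk, hh.compat_tau, hu,
      hh.tauQ_sq]
  have hcD : ψD c = ψD u * ψD v * (ψD u)⁻¹ * (ψD v)⁻¹ := by
    rw [hc, map_mul, map_mul, map_mul, map_inv, map_inv]
  have hcx : ψD c * ψD u = ψD u * ψD c := by
    rw [← map_mul, ← map_mul]
    apply hcong
    have h1 := s2_comm_central ψ (b ^ (2 ^ (n - 1))) hTψ u v u
    rw [← hc, ← map_mul, ← map_mul] at h1
    exact h1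
  have hcy : ψD c * ψD v = ψD v * ψD c := by
    rw [← map_mul, ← map_mul]
    apply hcong
    have h1 := s2_comm_central ψ (b ^ (2 ^ (n - 1))) hTψ u v v
    rw [← hc, ← map_mul, ← map_mul] at h1
    exact h1
  have hct : ψD c * tD = tD * ψD c := by
    refine MulEquiv.ext fun d => ?_
    obtain ⟨x, rfl⟩ := QuotientGroup.mk_surjective d
    have h1 := s2_tau_comm_central ψ (b ^ (2 ^ (n - 1))) hTψ u v
    rw [← hc] at h1
    rw [MulAut.mul_apply, MulAut.mul_apply, htDmk, hψDmk, hψDmk, htDmk, hh.compat_tau, h1]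
  have hB : ∀ d, tD d * d⁻¹ ∈ Qm.map (QuotientGroup.mk' Rad) := by
    intro d
    obtain ⟨x, rfl⟩ := QuotientGroup.mk_surjective d
    rw [htDmk]
    exact ⟨(a ^ (2 ^ (n - 1))) x * x⁻¹, hQm x, rfl⟩
  have hBc : Nat.card (Qm.map (QuotientGroup.mk' Rad)) ∣ q ^ 2 := by
    rw [← Subgroup.relIndex_ker, QuotientGroup.ker_mk']
    exact (Subgroup.relIndex_dvd_of_le_left Qm hLR).trans hidx
  have hγ : s = 3 → ∀ d, ψD u d = d → tD d = d → ψD c d = d := by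
    intro hs3 d hxd htd
    have hq3 : q ≠ 3 := fun h => hh.hsq (hs3.trans h.symm)
    obtain ⟨y, rfl⟩ := QuotientGroup.mk_surjective d
    have key := hγE hs3 u v y hu
    obtain ⟨e', he'⟩ : ∃ e' : Q, e' = y * ψ u y * ψ u (ψ u y) * (a ^ (2 ^ (n - 1))) y
        * (a ^ (2 ^ (n - 1))) (ψ u y) * (a ^ (2 ^ (n - 1))) (ψ u (ψ u y)) := ⟨_, rfl⟩
    rw [← he', ← hc] at key
    have h1 : ψD c (QuotientGroup.mk e') = QuotientGroup.mk e' := by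
      rw [hψDmk]
      exact (QuotientGroup.eq.mpr (hZR key)).symm
    rw [hψDmk] at hxd
    rw [htDmk] at htd
    have e2 : (QuotientGroup.mk (ψ u (ψ u y)) : Q ⧸ Rad) = QuotientGroup.mk y := by
      rw [← hψDmk, hxd, hψDmk]
      exact hxd
    have e4 : (QuotientGroup.mk ((a ^ (2 ^ (n - 1))) (ψ u y)) : Q ⧸ Rad)
        = QuotientGroup.mk y := by
      rw [← htDmk, hxd, htDmk]
      exact htd
    have e5 : (QuotientGroup.mk ((a ^ (2 ^ (n - 1))) (ψ u (ψ u y))) : Q ⧸ Rad)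
        = QuotientGroup.mk y := by
      rw [← htDmk, e2, htDmk]
      exact htd
    have h2 : (QuotientGroup.mk e' : Q ⧸ Rad) = (QuotientGroup.mk y) ^ 6 := by
      rw [he', QuotientGroup.mk_mul, QuotientGroup.mk_mul, QuotientGroup.mk_mul,
        QuotientGroup.mk_mul, QuotientGroup.mk_mul, hxd, e2, htd, e4, e5]
      simp only [pow_succ, pow_zero, one_mul]
    rw [h2, map_pow] at h1
    have h3 : (ψD c (QuotientGroup.mk y) * (QuotientGroup.mk y : Q ⧸ Rad)⁻¹) ^ 6 = 1 := by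
      rw [(Commute.mul_pow (show Commute _ _ from hmc _ _) 6), h1, inv_pow, mul_inv_cancel]
    have hcop6 : Nat.Coprime 6 q := by
      have h26 : (6 : ℕ) = 2 * 3 := by norm_num
      rw [h26]
      exact Nat.Coprime.mul_left ((Nat.coprime_primes Nat.prime_two hq).mpr (Ne.symm hh.hq2))
        ((Nat.coprime_primes Nat.prime_three hq).mpr (Ne.symm hq3))
    have h4 := s2_coprime_pow _ 6 q h3 (hexpD _) hcop6
    exact mul_inv_eq_one.mp h4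
  have hc1 : ψD c ≠ 1 := by
    intro h
    apply hx₁
    rw [hcD] at h
    have h5 : ψD u * ψD v = ψD v * ψD u := by
      have h6 : ψD u * ψD v = (ψD u * ψD v * (ψD u)⁻¹ * (ψD v)⁻¹) * (ψD v * ψD u) := by group
      rw [h6, h, one_mul]
    have h7 : (QuotientGroup.mk (ψ u (ψ v x₁)) : Q ⧸ Rad) = QuotientGroup.mk (ψ v (ψ u x₁)) := by
      have h8 := congrArg (fun f : MulAut (Q ⧸ Rad) => f (QuotientGroup.mk x₁)) h5
      simp only [MulAut.mul_apply, hψDmk] at h8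
      exact h8
    exact QuotientGroup.eq.mp h7
  obtain ⟨d₀, d₁, hd0, hd01, htd0, hall⟩ := s2_p8_grp' hmc q hh.hq2 hexpD s Fact.out hs4 hh.hsq
    (ψD u) (ψD v) tD (ψD c) hxs ht2 htx hcD hcx hcy hct (Qm.map (QuotientGroup.mk' Rad)) hB hBc
    hγ hc1
  obtain ⟨g₀, rfl⟩ := QuotientGroup.mk_surjective d₀
  obtain ⟨g₁, rfl⟩ := QuotientGroup.mk_surjective d₁
  have hg0 : g₀ ∉ Rad := fun h => hd0 ((QuotientGroup.eq_one_iff g₀).mpr h)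
  have hρ0 : g₀⁻¹ * (a ^ (2 ^ (n - 1))) g₀ ∈ Rad := by
    rw [htDmk] at htd0
    exact QuotientGroup.eq.mp htd0.symm
  have hρ1 : (ψ c g₁ * g₁⁻¹)⁻¹ * g₀ ∈ Rad := by
    rw [hψDmk, ← QuotientGroup.mk_inv, ← QuotientGroup.mk_mul] at hd01
    exact QuotientGroup.eq.mp hd01.symm
  have hall' : ∀ y : Q, K g₀ y ∈ Z₁ := by
    intro y
    obtain ⟨k, w₁, w₂, hw, hcw⟩ := hall (QuotientGroup.mk y)
    obtain ⟨y₁, rfl⟩ := QuotientGroup.mk_surjective w₁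
    obtain ⟨y₂, rfl⟩ := QuotientGroup.mk_surjective w₂
    rw [htDmk, ← QuotientGroup.mk_inv, ← QuotientGroup.mk_mul, ← QuotientGroup.mk_pow,
      ← QuotientGroup.mk_mul, ← QuotientGroup.mk_mul] at hw
    have hρ : (g₀ ^ k * ((a ^ (2 ^ (n - 1))) y₁ * y₁⁻¹) * y₂)⁻¹ * y ∈ Rad :=
      QuotientGroup.eq.mp hw.symm
    have hρ2 : y₂⁻¹ * ψ c y₂ ∈ Rad := by
      rw [hψDmk] at hcw
      exact QuotientGroup.eq.mp hcw.symm
    have hy : y = g₀ ^ k * ((a ^ (2 ^ (n - 1))) y₁ * y₁⁻¹) * y₂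
        * ((g₀ ^ k * ((a ^ (2 ^ (n - 1))) y₁ * y₁⁻¹) * y₂)⁻¹ * y) := by
      rw [mul_inv_cancel_left]
    rw [hy, map_mul, map_mul, map_mul, map_pow]
    refine Z₁.mul_mem (Z₁.mul_mem (Z₁.mul_mem (Z₁.pow_mem ?_ k) ?_) ?_) (hKR _ _ hρ)
    · rw [hKapp, mul_inv_cancel_right, mul_inv_cancel]
      exact Z₁.one_mem
    · rw [map_mul, map_inv]
      have e1 : K g₀ ((a ^ (2 ^ (n - 1))) y₁) = K ((a ^ (2 ^ (n - 1))) g₀) y₁ := by
        have h1 := hKaut (a ^ (2 ^ (n - 1))) hh.tauQ_Z ((a ^ (2 ^ (n - 1))) g₀) y₁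
        rw [hh.tauQ_sq] at h1
        exact h1
      have e2 : (a ^ (2 ^ (n - 1))) g₀ = g₀ * (g₀⁻¹ * (a ^ (2 ^ (n - 1))) g₀) := by
        rw [mul_inv_cancel_left]
      have e3 : K ((a ^ (2 ^ (n - 1))) g₀) y₁
          = (K y₁ g₀ * K y₁ (g₀⁻¹ * (a ^ (2 ^ (n - 1))) g₀))⁻¹ := by
        rw [hKswap ((a ^ (2 ^ (n - 1))) g₀) y₁, ← map_mul, ← e2]
      have e4 : (K g₀ y₁)⁻¹ = K y₁ g₀ := by rw [hKswap g₀ y₁, inv_inv]
      have e5 : (K y₁ g₀ * K y₁ (g₀⁻¹ * (a ^ (2 ^ (n - 1))) g₀))⁻¹ * K y₁ g₀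
          = (K y₁ (g₀⁻¹ * (a ^ (2 ^ (n - 1))) g₀))⁻¹ := by group
      rw [e1, e3, e4, e5]
      exact Z₁.inv_mem (hKR _ _ hρ0)
    · have e0 : g₀ = ψ c g₁ * g₁⁻¹ * ((ψ c g₁ * g₁⁻¹)⁻¹ * g₀) := by rw [mul_inv_cancel_left]
      have e1 : K g₀ y₂
          = (K y₂ (ψ c g₁) * (K y₂ g₁)⁻¹ * K y₂ ((ψ c g₁ * g₁⁻¹)⁻¹ * g₀))⁻¹ := by
        rw [hKswap g₀ y₂, ← map_inv (K y₂) g₁, ← map_mul, ← map_mul, ← e0]
      have e2 : ψ c y₂ = y₂ * (y₂⁻¹ * ψ c y₂) := by rw [mul_inv_cancel_left]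
      have e3 : K y₂ g₁ = (K (ψ c g₁) y₂ * K (ψ c g₁) (y₂⁻¹ * ψ c y₂))⁻¹ := by
        rw [← hKaut (ψ c) hcfix y₂ g₁, hKswap (ψ c y₂) (ψ c g₁), ← map_mul, ← e2]
      have e4 : K y₂ (ψ c g₁) * (K y₂ g₁)⁻¹ = K (ψ c g₁) (y₂⁻¹ * ψ c y₂) := by
        rw [e3, hKswap y₂ (ψ c g₁)]
        group
      rw [e1]
      refine Z₁.inv_mem (Z₁.mul_mem ?_ (hKR _ _ hρ1))
      rw [e4]
      exact hKR _ _ hρ2
  apply hg0
  rw [hRad, mem_s2Rad]
  intro g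
  have e : g₀ * g * g₀⁻¹ * g⁻¹ = (g * g₀ * g⁻¹ * g₀⁻¹)⁻¹ := by group
  rw [e, ← hKapp]
  exact Z₁.inv_mem (hall' g)

end S2ND

end Cfsg.Agent.Lib.helper75
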