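import Mathlib
import Cfsg.Agent.Lib.helper75.S2NDf

set_option autoImplicit false

namespace Cfsg.Agent.Lib.helper75

open Cfsg.Agent.Lib.helper1

section S2NoD

/-- The conjugation action of a subgroup on a subgroup it normalizes. -/
def s2Conj {A : Type*} [Group A] (S Q : Subgroup A)
    (hnorm : ∀ u ∈ S, ∀ x ∈ Q, u * x * u⁻¹ ∈ Q) : ↥S →* MulAut ↥Q where
  toFun u :=
    { toFun := fun x => ⟨u * x * (u : A)⁻¹, hnorm u u.2 x x.2⟩
      invFun := fun x => ⟨(u : A)⁻¹ * x * u, by
        have h := hnorm (u : A)⁻¹ (inv_mem u.2) x x.2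
        rwa [inv_inv] at h⟩
      left_inv := fun x => Subtype.ext (by
        show (u : A)⁻¹ * ((u : A) * x * (u : A)⁻¹) * u = x
        group)
      right_inv := fun x => Subtype.ext (by
        show (u : A) * ((u : A)⁻¹ * x * u) * (u : A)⁻¹ = x
        group)
      map_mul' := fun x y => Subtype.ext (by
        show (u : A) * ((x : A) * y) * (u : A)⁻¹ = (u * x * (u : A)⁻¹) * (u * y * (u : A)⁻¹)
        group) }
  map_one' := by
    refine MulEquiv.ext fun x => Subtype.ext ?_
    show ((1 : S) : A) * x * ((1 : S) : A)⁻¹ = x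
    rw [Subgroup.coe_one, one_mul, inv_one, mul_one]
  map_mul' u v := by
    refine MulEquiv.ext fun x => Subtype.ext ?_
    show ((u * v : S) : A) * x * ((u * v : S) : A)⁻¹ = u * (v * x * (v : A)⁻¹) * (u : A)⁻¹
    rw [Subgroup.coe_mul]
    group

theorem s2Conj_apply {A : Type*} [Group A] (S Q : Subgroup A)
    (hnorm : ∀ u ∈ S, ∀ x ∈ Q, u * x * u⁻¹ ∈ Q) (u : S) (x : Q) :
    ((s2Conj S Q hnorm u x : Q) : A) = u * x * (u : A)⁻¹ := rfl

theorem s2_card_map_lt {A : Type*} [Group A] [Finite A] (S : Subgroup A) (S' : Subgroup S)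
    (h : S' ≠ ⊤) : Nat.card (S'.map S.subtype) < Nat.card S := by
  have h1 : Nat.card (S'.map S.subtype) = Nat.card S' :=
    Subgroup.card_map_of_injective S.subtype_injective
  rw [h1]
  exact lt_of_le_of_ne (Subgroup.card_le_card_group S')
    (fun h2 => h (Subgroup.eq_top_of_card_eq S' h2))

theorem s2_ne_two_of_mem {A : Type*} [Group A] [Finite A] (hodd : ¬ 2 ∣ Nat.card A) (p : ℕ)
    (P : Subgroup A) (hP : IsPGroup p P) (x : A) (hx : x ∈ P) (hx1 : x ≠ 1) : p ≠ 2 := by
  intro hp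
  obtain ⟨k, hk⟩ := hP ⟨x, hx⟩
  have hk' : x ^ (p ^ k) = 1 := congrArg Subtype.val hk
  rw [hp] at hk'
  have h1 := orderOf_dvd_of_pow_eq_one hk'
  obtain ⟨j, hj, hj2⟩ := (Nat.dvd_prime_pow Nat.prime_two).mp h1
  rcases j with _ | j
  · rw [pow_zero] at hj2
    exact hx1 (orderOf_eq_one_iff.mp hj2)
  · apply hodd
    have h2 : 2 ∣ orderOf x := by
      rw [hj2, pow_succ]
      exact dvd_mul_left 2 _
    exact h2.trans (orderOf_dvd_natCard x)

variable {A : Type*} [Group A] [Finite A] {M : Type*} [CommGroup M] [Finite M]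

/-- "No double exception": under a fixed-point-free automorphism of 2-power order acting
compatibly on a faithful module, `[S, τ]` centralizes every invariant `q`-subgroup normalized
by the invariant `s`-subgroup `S` (`q` different from the module characteristic). -/
theorem s2_nodouble (q s r : ℕ) [Fact q.Prime] [Fact s.Prime] [Fact r.Prime] (hsq : s ≠ q)
    (hqr : q ≠ r) (hM : ∀ x : M, x ^ r = 1) (n : ℕ) (hn : 1 ≤ n) (σ : MulAut A)
    (hσ : σ ^ (2 ^ n) = 1) (hfpf : ∀ x, σ x = x → x = 1)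
    (φ : A →* MulAut M) (hφ : Function.Injective φ) (β : MulAut M) (hβ : β ^ (2 ^ n) = 1)
    (hβfpf : ∀ x, β x = x → x = 1) (hβφ : ∀ x m, β (φ x m) = φ (σ x) (β m)) :
    ∀ N : ℕ, ∀ S Q : Subgroup A, Nat.card S + Nat.card Q = N → IsPGroup s S → IsPGroup q Q →
      (∀ u ∈ S, σ u ∈ S) → (∀ x ∈ Q, σ x ∈ Q) → (∀ u ∈ S, ∀ x ∈ Q, u * x * u⁻¹ ∈ Q) →
      ∀ u ∈ S, ∀ x ∈ Q,
        (σ ^ (2 ^ (n - 1))) u * x * ((σ ^ (2 ^ (n - 1))) u)⁻¹ = u * x * u⁻¹ := by
  intro N
  induction N using Nat.strong_induction_on with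
  | _ N IH =>
    intro S Q hN hS hQ hSσ hQσ hnorm
    by_contra hcon
    simp only [not_forall] at hcon
    obtain ⟨u, hu, x, hx, hux⟩ := hcon
    have hodd : ¬ 2 ∣ Nat.card A := sg_not_dvd_card σ 2 n Nat.prime_two hσ hfpf
    have hx1 : x ≠ 1 := by
      intro h
      apply hux
      rw [h, mul_one, mul_one, mul_inv_cancel, mul_inv_cancel]
    have hu1 : u ≠ 1 := by
      intro h
      apply hux
      rw [h, map_one]
    have hq2 := s2_ne_two_of_mem hodd q Q hQ x hx hx1
    have hs2 := s2_ne_two_of_mem hodd s S hS u hu hu1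
    have hh : S2ND q s r n (restrictAut σ Q hQσ) (restrictAut σ S hSσ) (s2Conj S Q hnorm)
        (φ.comp Q.subtype) β := by
      refine ⟨hq2, hs2, hsq, hqr, hn, hQ, hS, hM, ?_, ?_, ?_, ?_, ?_, hβ, hβfpf, ?_, ?_, ?_, ?_⟩
      · refine MulEquiv.ext fun y => Subtype.ext ?_
        rw [sg_restrict_pow, hσ]
        rfl
      · exact fun y hy => Subtype.ext (hfpf y (congrArg Subtype.val hy))
      · refine MulEquiv.ext fun y => Subtype.ext ?_
        rw [sg_restrict_pow, hσ]
        rfl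
      · intro u' x'
        apply Subtype.ext
        show σ ((u' : A) * x' * (u' : A)⁻¹) = σ u' * σ x' * (σ (u' : A))⁻¹
        rw [map_mul, map_mul, map_inv]
      · exact fun y z h => Subtype.ext (hφ h)
      · exact fun y m => hβφ (y : A) m
      · intro S' hS'b hS'top u' hu'
        have hlt := s2_card_map_lt S S' hS'top
        have key := IH (Nat.card (S'.map S.subtype) + Nat.card Q) (by omega) (S'.map S.subtype) Q
          rfl (hS.to_le (Subgroup.map_subtype_le _)) hQ
          (by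
            rintro _ ⟨y, hy, rfl⟩
            exact ⟨restrictAut σ S hSσ y, hS'b y hy, rfl⟩)
          hQσ
          (by
            rintro _ ⟨y, hy, rfl⟩ x' hx'
            exact hnorm y y.2 x' hx')
        refine MulEquiv.ext fun x' => Subtype.ext ?_
        have h2 : (((restrictAut σ S hSσ : MulAut S) ^ (2 ^ (n - 1))) u' : A)
            = (σ ^ (2 ^ (n - 1))) (u' : A) := sg_restrict_pow σ S hSσ _ u'
        have h3 := key (u' : A) ⟨u', hu', rfl⟩ (x' : A) x'.2
        rw [← h2] at h3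
        exact h3
      · intro Q' hQ'a hQ'ψ hQ'top u' x' hx'
        have hlt := s2_card_map_lt Q Q' hQ'top
        have key := IH (Nat.card S + Nat.card (Q'.map Q.subtype)) (by omega) S
          (Q'.map Q.subtype) rfl hS (hQ.to_le (Subgroup.map_subtype_le _)) hSσ
          (by
            rintro _ ⟨y, hy, rfl⟩
            exact ⟨restrictAut σ Q hQσ y, hQ'a y hy, rfl⟩)
          (by
            intro u'' hu''
            rintro _ ⟨y, hy, rfl⟩
            exact ⟨s2Conj S Q hnorm ⟨u'', hu''⟩ y, hQ'ψ ⟨u'', hu''⟩ y hy, rfl⟩)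
        apply Subtype.ext
        have h2 : (((restrictAut σ S hSσ : MulAut S) ^ (2 ^ (n - 1))) u' : A)
            = (σ ^ (2 ^ (n - 1))) (u' : A) := sg_restrict_pow σ S hSσ _ u'
        have h3 := key (u' : A) u'.2 (x' : A) ⟨x', hx', rfl⟩
        rw [← h2] at h3
        exact h3
      · refine ⟨⟨u, hu⟩, fun h => hux ?_⟩
        have h1 := congrArg (fun f : MulAut ↥Q => ((f ⟨x, hx⟩ : ↥Q) : A)) h
        have h2 : (((restrictAut σ S hSσ : MulAut S) ^ (2 ^ (n - 1))) ⟨u, hu⟩ : A)
            = (σ ^ (2 ^ (n - 1))) u := sg_restrict_pow σ S hSσ _ ⟨u, hu⟩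
        rw [← h2]
        exact h1
    exact hh.final

end S2NoD

end Cfsg.Agent.Lib.helper75
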