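import Mathlib
import Cfsg.Agent.S0031
import Cfsg.Agent.Lib.helper28.Fitting
import Cfsg.Agent.Lib.helper75.SGWrap
import Cfsg.Agent.Lib.helper75.S2NoD

set_option autoImplicit false

namespace Cfsg.Agent.Lib.helper75

open Cfsg.Agent.Lib.helper1 Cfsg.Agent.Lib.helper28 Cfsg

section S2Star

variable {A : Type*} [Group A] [Finite A] {M : Type*} [CommGroup M] [Finite M]

/-- A normal nilpotent invariant subgroup of a group acting faithfully and irreducibly has order
prime to the module characteristic. -/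
theorem s2_no_r [Nontrivial M] (r : ℕ) [Fact r.Prime] (hM : ∀ x : M, x ^ r = 1) (P0 : ℕ)
    (hP0 : 0 < P0) (σ : MulAut A) (hσ : σ ^ P0 = 1) (β : MulAut M) (φ : A →* MulAut M)
    (hφ : Function.Injective φ) (hβφ : ∀ a x, β (φ a x) = φ (σ a) (β x))
    (hirr : ∀ F : Subgroup M, (∀ a, ∀ m ∈ F, φ a m ∈ F) → (∀ m ∈ F, β m ∈ F) → F = ⊥ ∨ F = ⊤)
    (N : Subgroup A) [N.Normal] (hNnil : Group.IsNilpotent N) (hNσ : ∀ x ∈ N, σ x ∈ N) :
    ¬ r ∣ Nat.card N := by
  classical
  have hr : r.Prime := Fact.out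
  haveI := hNnil
  have hrM : r ∣ Nat.card M := by
    obtain ⟨x, hx⟩ := exists_ne (1 : M)
    have h1 : orderOf x ∣ r := orderOf_dvd_of_pow_eq_one (hM x)
    have h2 : orderOf x = r := by
      rcases (Nat.dvd_prime hr).mp h1 with h | h
      · exact absurd (orderOf_eq_one_iff.mp h) hx
      · exact h
    rw [← h2]
    exact orderOf_dvd_natCard x
  intro hdvd
  obtain ⟨P⟩ : Nonempty (Sylow r N) := inferInstance
  have hPn : (P : Subgroup N).Normal :=
    Sylow.normal_of_normalizerCondition Group.normalizerCondition_of_isNilpotent P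
  haveI hPc : (P : Subgroup N).Characteristic := Sylow.characteristic_of_normal P hPn
  have hPne : (P : Subgroup N) ≠ ⊥ := P.ne_bot_of_dvd_card hdvd
  obtain ⟨Q, hQ⟩ : ∃ Q : Subgroup A, Q = (P : Subgroup N).map N.subtype := ⟨_, rfl⟩
  have hQn : Q.Normal := by
    rw [hQ]
    exact ConjAct.normal_of_characteristic_of_normal
  have hQr : IsPGroup r Q := by
    rw [hQ]
    exact P.isPGroup'.map N.subtype
  have hQσ : ∀ x ∈ Q, σ x ∈ Q := by
    intro x hx
    rw [hQ] at hx ⊢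
    obtain ⟨y, hy, rfl⟩ := hx
    refine ⟨restrictAut σ N hNσ y, ?_, rfl⟩
    have h1 := hPc.fixed (restrictAut σ N hNσ)
    have h2 : y ∈ (P : Subgroup N).comap (restrictAut σ N hNσ).toMonoidHom := by
      rw [h1]
      exact hy
    exact h2
  have hQσ' : ∀ x ∈ Q, σ⁻¹ x ∈ Q := sg_inv_mem σ P0 hP0 hσ Q hQσ
  obtain ⟨F, hF⟩ : ∃ F : Subgroup M, ∀ m, m ∈ F ↔ ∀ x ∈ Q, φ x m = m :=
    ⟨{ carrier := {m | ∀ x ∈ Q, φ x m = m}
       mul_mem' := by
        intro a b ha hb x hx
        rw [map_mul, ha x hx, hb x hx]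
       one_mem' := by
        intro x hx
        exact map_one _
       inv_mem' := by
        intro a ha x hx
        rw [map_inv, ha x hx] }, fun m => Iff.rfl⟩
  have hFne : F ≠ ⊥ := by
    letI : MulAction Q M := MulAction.compHom M (φ.comp Q.subtype)
    have h1 : (1 : M) ∈ MulAction.fixedPoints Q M := by
      intro x
      show φ (x : A) 1 = 1
      exact map_one _
    obtain ⟨b, hb, hb1⟩ := hQr.exists_fixed_point_of_prime_dvd_card_of_fixed_point M hrM h1
    intro hbot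
    apply hb1
    have h2 : b ∈ F := (hF b).mpr (fun x hx => hb ⟨x, hx⟩)
    rw [hbot] at h2
    exact (Subgroup.mem_bot.mp h2).symm
  have hFφ : ∀ a, ∀ m ∈ F, φ a m ∈ F := by
    intro a m hm
    rw [hF] at hm ⊢
    intro x hx
    have h1 : a⁻¹ * x * a ∈ Q := by
      have h2 := hQn.conj_mem x hx a⁻¹
      rwa [inv_inv] at h2
    have h2 : x * a = a * (a⁻¹ * x * a) := by group
    rw [← MulAut.mul_apply, ← map_mul, h2, map_mul, MulAut.mul_apply, hm _ h1]
  have hFβ : ∀ m ∈ F, β m ∈ F := by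
    intro m hm
    rw [hF] at hm ⊢
    intro x hx
    have h1 := hβφ (σ⁻¹ x) m
    rw [MulAut.apply_inv_self, hm _ (hQσ' x hx)] at h1
    exact h1.symm
  rcases hirr F hFφ hFβ with h | h
  · exact hFne h
  · apply hPne
    rw [eq_bot_iff]
    intro y hy
    have hyQ : (y : A) ∈ Q := by
      rw [hQ]
      exact ⟨y, hy, rfl⟩
    have h1 : φ (y : A) = 1 := by
      refine MulEquiv.ext fun m => ?_
      have hm : m ∈ F := by
        rw [h]
        trivial
      exact (hF m).mp hm _ hyQ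
    have h2 : (y : A) = 1 := hφ (h1.trans (map_one φ).symm)
    exact Subgroup.mem_bot.mpr (Subtype.ext h2)

/-- The core of the "star" argument: `τ` acts trivially on an invariant normal section `L / F`
of prime-power order over the Fitting subgroup. -/
theorem s2_star_core (r : ℕ) [Fact r.Prime] (hM : ∀ x : M, x ^ r = 1) (n : ℕ)
    (hn : 1 ≤ n) (σ : MulAut A) (hσ : σ ^ (2 ^ n) = 1) (hfpf : ∀ g, σ g = g → g = 1)
    (β : MulAut M) (hβ : β ^ (2 ^ n) = 1) (hβfpf : ∀ x, β x = x → x = 1) (φ : A →* MulAut M)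
    (hφ : Function.Injective φ) (hβφ : ∀ a x, β (φ a x) = φ (σ a) (β x))
    (hrF : ¬ r ∣ Nat.card (fittingSubgroup A))
    (s : ℕ) [Fact s.Prime] (L : Subgroup A) [L.Normal] (hLσ : ∀ x ∈ L, σ x ∈ L)
    (hFL : fittingSubgroup A ≤ L) (m : ℕ) (hLs : (fittingSubgroup A).relIndex L = s ^ m) :
    ∀ l ∈ L, l⁻¹ * (σ ^ (2 ^ (n - 1))) l ∈ fittingSubgroup A := by
  classical
  obtain ⟨F, hF⟩ : ∃ F : Subgroup A, F = fittingSubgroup A := ⟨_, rfl⟩
  rw [← hF] at hrF hFL hLs ⊢
  haveI hFn : F.Normal := by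
    rw [hF]
    infer_instance
  haveI hFc : F.Characteristic := by
    rw [hF]
    infer_instance
  have hFnil : Group.IsNilpotent F := by
    rw [hF]
    exact fittingSubgroup_isNilpotent A
  have hFσ : ∀ f ∈ F, σ f ∈ F := s2_char_inv F σ
  obtain ⟨τ, hτ⟩ : ∃ τ : MulAut A, τ = σ ^ (2 ^ (n - 1)) := ⟨_, rfl⟩
  rw [← hτ]
  have hFτ : ∀ f ∈ F, τ f ∈ F := s2_char_inv F τ
  have hs : s.Prime := Fact.out
  have hLpow : ∀ l ∈ L, l ^ (s ^ m) ∈ F := by
    intro l hl
    have h1 := Subgroup.pow_index_mem (F.subgroupOf L) (⟨l, hl⟩ : L)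
    have h2 : (F.subgroupOf L).index = s ^ m := hLs
    rw [h2] at h1
    exact h1
  obtain ⟨N, hN⟩ : ∃ N : Subgroup A, N = sSup {X : Subgroup A | X.Normal ∧ (∀ x ∈ X, σ x ∈ X) ∧
      X ≤ F ∧ ∃ q : ℕ, q.Prime ∧ q ≠ s ∧ q ≠ r ∧ IsPGroup q X} := ⟨_, rfl⟩
  haveI hNn : N.Normal := by
    rw [hN]
    exact Subgroup.sSup_normal _ (fun X hX => hX.1)
  have hNF : N ≤ F := by
    rw [hN]
    exact sSup_le (fun X hX => hX.2.2.1)
  have hXN : ∀ X : Subgroup A, X.Normal → (∀ x ∈ X, σ x ∈ X) → X ≤ F →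
      (∃ q : ℕ, q.Prime ∧ q ≠ s ∧ q ≠ r ∧ IsPGroup q X) → X ≤ N := by
    intro X h1 h2 h3 h4
    rw [hN]
    exact le_sSup ⟨h1, h2, h3, h4⟩
  have hd : ∃ j, N.relIndex F = s ^ j := by
    have hd0 : N.relIndex F ≠ 0 := Subgroup.index_ne_zero_of_finite
    refine ⟨_, Nat.eq_prime_pow_of_unique_prime_dvd hd0 ?_⟩
    intro q hq hqd
    by_contra hqs
    haveI : Fact q.Prime := ⟨hq⟩
    have hqF : q ∣ Nat.card F := hqd.trans (Subgroup.relIndex_dvd_card N F)
    have hqr : q ≠ r := by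
      rintro rfl
      exact hrF hqF
    obtain ⟨P⟩ : Nonempty (Sylow q F) := inferInstance
    haveI := hFnil
    have hPn : (P : Subgroup F).Normal :=
      Sylow.normal_of_normalizerCondition Group.normalizerCondition_of_isNilpotent P
    haveI hPc : (P : Subgroup F).Characteristic := Sylow.characteristic_of_normal P hPn
    have hXle : (P : Subgroup F).map F.subtype ≤ N := by
      apply hXN
      · exact ConjAct.normal_of_characteristic_of_normal
      · rintro _ ⟨y, hy, rfl⟩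
        exact ⟨restrictAut σ F hFσ y,
          s2_char_inv (P : Subgroup F) (restrictAut σ F hFσ) y hy, rfl⟩
      · exact Subgroup.map_subtype_le _
      · exact ⟨q, hq, hqs, hqr, P.isPGroup'.map F.subtype⟩
    have h1 : N.relIndex F ∣ ((P : Subgroup F).map F.subtype).relIndex F :=
      Subgroup.relIndex_dvd_of_le_left F hXle
    have h2 : ((P : Subgroup F).map F.subtype).relIndex F = (P : Subgroup F).index := by
      unfold Subgroup.relIndex
      congr 1
      ext z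
      simp [Subgroup.mem_subgroupOf]
    rw [h2] at h1
    exact P.not_dvd_index (hqd.trans h1)
  obtain ⟨j, hj⟩ := hd
  have hFpow : ∀ f ∈ F, f ^ (s ^ j) ∈ N := by
    intro f hf
    have h1 := Subgroup.pow_index_mem (N.subgroupOf F) (⟨f, hf⟩ : F)
    have h2 : (N.subgroupOf F).index = s ^ j := hj
    rw [h2] at h1
    exact h1
  have hLN : ∀ l ∈ L, l ^ (s ^ (m + j)) ∈ N := by
    intro l hl
    rw [pow_add, pow_mul]
    exact hFpow _ (hLpow l hl)
  obtain ⟨Y, hY⟩ : ∃ Y : Subgroup A, Y = L ⊓ Subgroup.centralizer (N : Set A) := ⟨_, rfl⟩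
  haveI hYn : Y.Normal := by
    rw [hY]
    infer_instance
  have hYle1 : Y ≤ L := by
    rw [hY]
    exact inf_le_left
  have hYle2 : Y ≤ Subgroup.centralizer (N : Set A) := by
    rw [hY]
    exact inf_le_right
  have hYL : ∀ y : Y, (y : A) ∈ L := fun y => hYle1 y.2
  have hYC : ∀ y : Y, (y : A) ∈ Subgroup.centralizer (N : Set A) := fun y => hYle2 y.2
  have hYnil : Group.IsNilpotent Y := by
    obtain ⟨f, hf⟩ : ∃ f : Y →* A ⧸ N, f = (QuotientGroup.mk' N).comp Y.subtype := ⟨_, rfl⟩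
    have hfy : ∀ y : Y, f y = QuotientGroup.mk (y : A) := by
      intro y
      rw [hf]
      rfl
    have hker : f.rangeRestrict.ker ≤ Subgroup.center Y := by
      intro y hy
      rw [MonoidHom.ker_rangeRestrict, MonoidHom.mem_ker, hfy] at hy
      have h1 : (y : A) ∈ N := (QuotientGroup.eq_one_iff _).mp hy
      rw [Subgroup.mem_center_iff]
      intro y'
      apply Subtype.ext
      exact (Subgroup.mem_centralizer_iff.mp (hYC y') (y : A) h1).symm
    have hp : IsPGroup s f.range := by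
      rintro ⟨_, ⟨y, rfl⟩⟩
      refine ⟨m + j, Subtype.ext ?_⟩
      show (f y) ^ (s ^ (m + j)) = 1
      rw [hfy, ← QuotientGroup.mk_pow]
      exact (QuotientGroup.eq_one_iff _).mpr (hLN _ (hYL y))
    haveI : Group.IsNilpotent f.range := hp.isNilpotent
    exact Subgroup.isNilpotent_of_ker_le_center f.rangeRestrict hker
  have hYF : Y ≤ F := by
    rw [hF]
    exact le_fittingSubgroup hYn hYnil
  obtain ⟨P, hP⟩ := Cfsg.Agent.S0031.result (restrictAut σ L hLσ)
    (fun g hg => Subtype.ext (hfpf g (congrArg Subtype.val hg))) s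
  have hPσ : ∀ y ∈ (P : Subgroup L), restrictAut σ L hLσ y ∈ (P : Subgroup L) := by
    intro y hy
    have h1 : restrictAut σ L hLσ y ∈ (P : Subgroup L).map
        ((restrictAut σ L hLσ : L ≃* L) : L →* L) := ⟨y, hy, rfl⟩
    rwa [hP] at h1
  obtain ⟨S, hS⟩ : ∃ S : Subgroup A, S = (P : Subgroup L).map L.subtype := ⟨_, rfl⟩
  have hSs : IsPGroup s S := by
    rw [hS]
    exact P.isPGroup'.map L.subtype
  have hSσ : ∀ u ∈ S, σ u ∈ S := by
    rw [hS]
    rintro _ ⟨y, hy, rfl⟩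
    exact ⟨restrictAut σ L hLσ y, hPσ y hy, rfl⟩
  have hSL : S ≤ L := by
    rw [hS]
    exact Subgroup.map_subtype_le _
  have hSτ : ∀ u ∈ S, τ u ∈ S := by
    rw [hτ]
    exact sg_pow_mem σ S hSσ _
  have hclaim1 : ∀ u ∈ S, u⁻¹ * τ u ∈ F := by
    intro u hu
    apply hYF
    rw [hY]
    refine Subgroup.mem_inf.mpr ⟨L.mul_mem (L.inv_mem (hSL hu)) (hSL (hSτ u hu)), ?_⟩
    have hle : N ≤ Subgroup.centralizer ({u⁻¹ * τ u} : Set A) := by
      rw [hN]
      apply sSup_le
      rintro X ⟨hXn, hXσ, hXF, q, hq, hqs, hqr, hXq⟩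
      haveI : Fact q.Prime := ⟨hq⟩
      intro x hx
      rw [Subgroup.mem_centralizer_iff]
      intro w hw
      rw [Set.mem_singleton_iff] at hw
      rw [hw]
      have key := s2_nodouble q s r (Ne.symm hqs) hqr hM n hn σ hσ hfpf φ hφ β hβ hβfpf hβφ _ S X
        rfl hSs hXq hSσ hXσ (fun u' _ x' hx' => hXn.conj_mem x' hx' u') u hu x hx
      rw [← hτ] at key
      calc u⁻¹ * τ u * x = u⁻¹ * (τ u * x * (τ u)⁻¹) * τ u := by group
        _ = u⁻¹ * (u * x * u⁻¹) * τ u := by rw [key]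
        _ = x * (u⁻¹ * τ u) := by group
    rw [Subgroup.mem_centralizer_iff]
    intro x hx
    have h1 := Subgroup.mem_centralizer_iff.mp (hle hx) (u⁻¹ * τ u) (Set.mem_singleton _)
    exact h1.symm
  have hSF : L ≤ S ⊔ F := by
    have hd1 : (S ⊔ F).relIndex L ∣ S.relIndex L := Subgroup.relIndex_dvd_of_le_left L le_sup_left
    have hd2 : (S ⊔ F).relIndex L ∣ F.relIndex L :=
      Subgroup.relIndex_dvd_of_le_left L le_sup_right
    have h2 : S.relIndex L = (P : Subgroup L).index := by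
      rw [hS]
      unfold Subgroup.relIndex
      congr 1
      ext z
      simp [Subgroup.mem_subgroupOf]
    rw [hLs] at hd2
    rw [h2] at hd1
    obtain ⟨i, hi, hieq⟩ := (Nat.dvd_prime_pow hs).mp hd2
    rcases i with _ | i
    · rw [pow_zero] at hieq
      exact Subgroup.relIndex_eq_one.mp hieq
    · exfalso
      apply P.not_dvd_index
      refine dvd_trans ?_ hd1
      rw [hieq, pow_succ]
      exact dvd_mul_left s _
  intro l hl
  have h1 : l ∈ ((S ⊔ F : Subgroup A) : Set A) := hSF hl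
  rw [Subgroup.mul_normal] at h1
  obtain ⟨u, hu, f, hf, rfl⟩ := Set.mem_mul.mp h1
  have e : (u * f)⁻¹ * τ (u * f) = f⁻¹ * (u⁻¹ * τ u) * τ f := by
    rw [map_mul]
    group
  rw [e]
  exact F.mul_mem (F.mul_mem (F.inv_mem hf) (hclaim1 u hu)) (hFτ f hf)

/-- The "star" theorem: for a group acting faithfully and irreducibly, `[A, τ]` lies in the
Fitting subgroup as soon as it is nilpotent modulo the Fitting subgroup. -/
theorem s2_star [Nontrivial M] (r : ℕ) [Fact r.Prime] (hM : ∀ x : M, x ^ r = 1) (n : ℕ)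
    (hn : 1 ≤ n) (σ : MulAut A) (hσ : σ ^ (2 ^ n) = 1) (hfpf : ∀ g, σ g = g → g = 1)
    (β : MulAut M) (hβ : β ^ (2 ^ n) = 1) (hβfpf : ∀ x, β x = x → x = 1) (φ : A →* MulAut M)
    (hφ : Function.Injective φ) (hβφ : ∀ a x, β (φ a x) = φ (σ a) (β x))
    (hirr : ∀ F : Subgroup M, (∀ a, ∀ m ∈ F, φ a m ∈ F) → (∀ m ∈ F, β m ∈ F) → F = ⊥ ∨ F = ⊤)
    (hK : ∃ k, (sgK (σ ^ (2 ^ (n - 1)))).lowerCentralSeries k ≤ fittingSubgroup A) :
    sgK (σ ^ (2 ^ (n - 1))) ≤ fittingSubgroup A := by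
  classical
  obtain ⟨F, hF⟩ : ∃ F : Subgroup A, F = fittingSubgroup A := ⟨_, rfl⟩
  haveI hFn : F.Normal := by
    rw [hF]
    infer_instance
  haveI hFc : F.Characteristic := by
    rw [hF]
    infer_instance
  have hFnil : Group.IsNilpotent F := by
    rw [hF]
    exact fittingSubgroup_isNilpotent A
  have hFσ : ∀ f ∈ F, σ f ∈ F := s2_char_inv F σ
  have hrF : ¬ r ∣ Nat.card F :=
    s2_no_r r hM (2 ^ n) (pow_pos (by norm_num) n) σ hσ β φ hφ hβφ hirr F hFnil hFσ
  obtain ⟨τ, hτ⟩ : ∃ τ : MulAut A, τ = σ ^ (2 ^ (n - 1)) := ⟨_, rfl⟩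
  rw [← hτ, ← hF] at hK ⊢
  obtain ⟨σq, hσq⟩ : ∃ σq : MulAut (A ⧸ F), σq = quotAut σ F hFσ := ⟨_, rfl⟩
  have hσqmk : ∀ k x, (σq ^ k) (QuotientGroup.mk x : A ⧸ F) = QuotientGroup.mk ((σ ^ k) x) := by
    intro k x
    rw [hσq]
    exact sg_quot_pow_mk σ F hFσ k x
  obtain ⟨τq, hτq⟩ : ∃ τq : MulAut (A ⧸ F), τq = σq ^ (2 ^ (n - 1)) := ⟨_, rfl⟩
  have hτqmk : ∀ x, τq (QuotientGroup.mk x : A ⧸ F) = QuotientGroup.mk (τ x) := by
    intro x
    rw [hτq, hτ]
    exact hσqmk _ x
  have hKq_le : sgK τq ≤ (sgK τ).map (QuotientGroup.mk' F) := by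
    apply sgK_le
    intro g
    obtain ⟨x, rfl⟩ := QuotientGroup.mk_surjective g
    rw [hτqmk]
    exact ⟨x⁻¹ * τ x, sgK_mem τ x, rfl⟩
  have hnilq : Group.IsNilpotent (sgK τq) := by
    obtain ⟨k, hk⟩ := hK
    rw [Subgroup.isNilpotent_iff_lowerCentralSeries]
    refine ⟨k, ?_⟩
    rw [eq_bot_iff]
    have h1 : (sgK τq).lowerCentralSeries k
        ≤ ((sgK τ).map (QuotientGroup.mk' F)).lowerCentralSeries k :=
      Subgroup.lowerCentralSeries_mono k hKq_le
    refine h1.trans ?_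
    rw [← Subgroup.map_lowerCentralSeries]
    intro y hy
    obtain ⟨x, hx, rfl⟩ := hy
    exact Subgroup.mem_bot.mpr ((QuotientGroup.eq_one_iff x).mpr (hk hx))
  have hτσq : ∀ x, σq (τq x) = τq (σq x) := fun x => by
    rw [hτq]
    exact (sg_pow_comm σq _ x).symm
  have hKσq : ∀ x ∈ sgK τq, σq x ∈ sgK τq := sgK_inv σq τq hτσq
  have hfixK : ∀ y ∈ sgK τq, τq y = y := by
    obtain ⟨Fix, hFix⟩ : ∃ Fix : Subgroup (sgK τq), ∀ y, y ∈ Fix ↔ τq (y : A ⧸ F) = y :=
      ⟨{ carrier := {y | τq (y : A ⧸ F) = y}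
         mul_mem' := by
          intro a b ha hb
          show τq ((a * b : sgK τq) : A ⧸ F) = _
          rw [Subgroup.coe_mul, map_mul, ha, hb]
         one_mem' := by
          show τq ((1 : sgK τq) : A ⧸ F) = _
          rw [Subgroup.coe_one, map_one]
         inv_mem' := by
          intro a ha
          show τq ((a⁻¹ : sgK τq) : A ⧸ F) = _
          rw [Subgroup.coe_inv, map_inv, ha] }, fun y => Iff.rfl⟩
    have hFixtop : Fix = ⊤ := by
      by_contra hne
      have hidx : Fix.index ≠ 1 := fun h => hne (Subgroup.index_eq_one.mp h)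
      obtain ⟨s, hs, hsd⟩ := Nat.exists_prime_and_dvd hidx
      haveI : Fact s.Prime := ⟨hs⟩
      obtain ⟨P⟩ : Nonempty (Sylow s (sgK τq)) := inferInstance
      haveI := hnilq
      have hPn : (P : Subgroup (sgK τq)).Normal :=
        Sylow.normal_of_normalizerCondition Group.normalizerCondition_of_isNilpotent P
      haveI hPc : (P : Subgroup (sgK τq)).Characteristic :=
        Sylow.characteristic_of_normal P hPn
      obtain ⟨Pb, hPb⟩ : ∃ Pb : Subgroup (A ⧸ F),
          Pb = (P : Subgroup (sgK τq)).map (sgK τq).subtype := ⟨_, rfl⟩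
      haveI hPbn : Pb.Normal := by
        rw [hPb]
        exact ConjAct.normal_of_characteristic_of_normal
      have hPbs : IsPGroup s Pb := by
        rw [hPb]
        exact P.isPGroup'.map _
      have hPbσ : ∀ x ∈ Pb, σq x ∈ Pb := by
        rw [hPb]
        rintro _ ⟨y, hy, rfl⟩
        exact ⟨restrictAut σq (sgK τq) hKσq y,
          s2_char_inv (P : Subgroup (sgK τq)) (restrictAut σq (sgK τq) hKσq) y hy, rfl⟩
      obtain ⟨L, hL⟩ : ∃ L : Subgroup A, L = Pb.comap (QuotientGroup.mk' F) := ⟨_, rfl⟩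
      have hLmem : ∀ x, x ∈ L ↔ (QuotientGroup.mk x : A ⧸ F) ∈ Pb := by
        intro x
        rw [hL]
        exact Iff.rfl
      haveI hLn : L.Normal := by
        rw [hL]
        infer_instance
      have hLσ : ∀ x ∈ L, σ x ∈ L := by
        intro x hx
        rw [hLmem] at hx ⊢
        have h1 := hPbσ _ hx
        have h2 := hσqmk 1 x
        rw [pow_one, pow_one] at h2
        rwa [h2] at h1
      have hFL : F ≤ L := by
        intro f hf
        rw [hLmem, (QuotientGroup.eq_one_iff f).mpr hf]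
        exact Pb.one_mem
      obtain ⟨m, hm⟩ := IsPGroup.iff_card.mp hPbs
      have hLs : F.relIndex L = s ^ m := by
        have h1 := Subgroup.relIndex_ker L (QuotientGroup.mk' F)
        rw [QuotientGroup.ker_mk'] at h1
        rw [h1, hL, Subgroup.map_comap_eq_self_of_surjective (QuotientGroup.mk'_surjective F), hm]
      have hcore := s2_star_core r hM n hn σ hσ hfpf β hβ hβfpf φ hφ hβφ
        (by rw [← hF]; exact hrF) s L hLσ (by rw [← hF]; exact hFL) m
        (by rw [← hF]; exact hLs)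
      rw [← hF, ← hτ] at hcore
      have hPle : (P : Subgroup (sgK τq)) ≤ Fix := by
        intro y hy
        rw [hFix]
        have hyPb : (y : A ⧸ F) ∈ Pb := by
          rw [hPb]
          exact ⟨y, hy, rfl⟩
        obtain ⟨l, hl⟩ := QuotientGroup.mk_surjective (y : A ⧸ F)
        have hlL : l ∈ L := by
          rw [hLmem, hl]
          exact hyPb
        rw [← hl, hτqmk]
        exact (QuotientGroup.eq.mpr (hcore l hlL)).symm
      have h1 : Fix.index ∣ (P : Subgroup (sgK τq)).index := Subgroup.index_dvd_of_le hPle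
      exact P.not_dvd_index (dvd_trans hsd h1)
    intro y hy
    have h1 : (⟨y, hy⟩ : sgK τq) ∈ Fix := by
      rw [hFixtop]
      trivial
    exact (hFix _).mp h1
  apply sgK_le
  intro a
  have h1 : (QuotientGroup.mk (a⁻¹ * τ a) : A ⧸ F) ∈ sgK τq := by
    have h0 := sgK_mem τq (QuotientGroup.mk a)
    rw [hτqmk] at h0
    exact h0
  have h2 := hfixK _ h1
  rw [hτqmk] at h2
  have h3 : (a⁻¹ * τ a)⁻¹ * τ (a⁻¹ * τ a) ∈ F := QuotientGroup.eq.mp h2.symm
  have hττ : τ (τ a) = a := by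
    have e2 : 2 ^ (n - 1) * 2 = 2 ^ n := by
      rw [← pow_succ]
      congr 1
      omega
    rw [hτ, ← MulAut.mul_apply, ← pow_two, ← pow_mul, e2, hσ, MulAut.one_apply]
  have h4 : (a⁻¹ * τ a)⁻¹ * τ (a⁻¹ * τ a) = ((τ a)⁻¹ * a) ^ 2 := by
    rw [map_mul, map_inv, hττ, pow_two]
    group
  rw [h4] at h3
  have hodd : Odd (orderOf ((τ a)⁻¹ * a)) := by
    have hnd := sg_not_dvd_card σ 2 n Nat.prime_two hσ hfpf
    have h5 := orderOf_dvd_natCard ((τ a)⁻¹ * a)
    rw [Nat.odd_iff]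
    by_contra h6
    apply hnd
    exact (Nat.dvd_of_mod_eq_zero (by omega)).trans h5
  have h5 := s2_mem_of_sq_mem F _ hodd h3
  have h6 := F.inv_mem h5
  rwa [mul_inv_rev, inv_inv] at h6

end S2Star

end Cfsg.Agent.Lib.helper75
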