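import Mathlib
import Cfsg.Agent.S3794
import Cfsg.Agent.Lib.helper75.S2Star

set_option autoImplicit false

namespace Cfsg.Agent.Lib.helper75

open Cfsg.Agent.Lib.helper1 Cfsg.Agent.Lib.helper28 Cfsg

universe u

section S2Wrap

/-- Some term of the lower central series of `[G, τ]` centralizes a minimal invariant normal
subgroup. -/
theorem s2_step1 {G : Type*} [Group G] [Finite G] (n : ℕ) (hn : 1 ≤ n)
    (σ : MulAut G) (hσ : σ ^ (2 ^ n) = 1) (hfpf : ∀ g, σ g = g → g = 1)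
    (M : Subgroup G) [hMn : M.Normal] (hMσ : ∀ x ∈ M, σ x ∈ M) (hM0 : M ≠ ⊥)
    (hmin : ∀ N : Subgroup G, N.Normal → (∀ x ∈ N, σ x ∈ N) → N ≤ M → N = ⊥ ∨ N = M)
    (hab : ∀ a ∈ M, ∀ b ∈ M, a * b = b * a) (r : ℕ) [Fact r.Prime]
    (hexp : ∀ x ∈ M, x ^ r = 1)
    (IH : ∀ (C : Subgroup G) [C.Normal] (hC : ∀ x ∈ C, σ x ∈ C), C ≠ ⊥ →
      ∃ k, (sgK ((quotAut σ C hC : MulAut (G ⧸ C)) ^ (2 ^ (n - 1)))).lowerCentralSeries k
        ≤ fittingSubgroup (G ⧸ C)) :
    ∃ k, (sgK (σ ^ (2 ^ (n - 1)))).lowerCentralSeries k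
      ≤ Subgroup.centralizer (M : Set G) := by
  classical
  have hP0 : 0 < 2 ^ n := pow_pos (by norm_num) n
  have hMσ' : ∀ x ∈ M, σ⁻¹ x ∈ M := sg_inv_mem σ (2 ^ n) hP0 hσ M hMσ
  obtain ⟨φ, hφ⟩ : ∃ φ : G →* MulAut M, ∀ (g : G) (m : M), ((φ g m : M) : G) = g * m * g⁻¹ :=
    ⟨MulAut.conjNormal, fun g m => MulAut.conjNormal_apply g m⟩
  have hker : ∀ g, g ∈ φ.ker ↔ ∀ m ∈ M, g * m = m * g := by
    intro g
    rw [MonoidHom.mem_ker]
    constructor
    · intro h m hm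
      have h1 : ((φ g ⟨m, hm⟩ : M) : G) = m := by rw [h]; rfl
      rw [hφ] at h1
      calc g * m = g * m * g⁻¹ * g := by group
        _ = m * g := by rw [h1]
    · intro h
      refine MulEquiv.ext fun m => Subtype.ext ?_
      rw [hφ, h m m.2]
      show (m : G) * g * g⁻¹ = m
      group
  have hCσ : ∀ x ∈ φ.ker, σ x ∈ φ.ker := by
    intro x hx
    rw [hker] at hx ⊢
    intro m hm
    have h1 := hx (σ⁻¹ m) (hMσ' m hm)
    have h2 := congrArg σ h1
    rwa [map_mul, map_mul, MulAut.apply_inv_self] at h2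
  have hMC : M ≤ φ.ker := by
    intro a ha
    rw [hker]
    intro m hm
    exact hab a ha m hm
  have hC0 : φ.ker ≠ ⊥ := by
    intro h
    apply hM0
    rw [eq_bot_iff, ← h]
    exact hMC
  have hnil := IH φ.ker hCσ hC0
  letI : CommGroup M :=
    { (inferInstance : Group M) with mul_comm := fun a b => Subtype.ext (hab a a.2 b b.2) }
  haveI : Nontrivial M := (Subgroup.nontrivial_iff_ne_bot M).mpr hM0
  have hexpM : ∀ x : M, x ^ r = 1 := fun x => Subtype.ext (hexp x x.2)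
  have hβ : (restrictAut σ M hMσ : MulAut M) ^ (2 ^ n) = 1 := by
    refine MulEquiv.ext fun y => Subtype.ext ?_
    rw [sg_restrict_pow, hσ]
    rfl
  have hβfpf : ∀ x : M, (restrictAut σ M hMσ : MulAut M) x = x → x = 1 :=
    fun x hx => Subtype.ext (hfpf x (congrArg Subtype.val hx))
  have hσq : (quotAut σ φ.ker hCσ : MulAut (G ⧸ φ.ker)) ^ (2 ^ n) = 1 := by
    refine MulEquiv.ext fun g => ?_
    obtain ⟨u, rfl⟩ := QuotientGroup.mk_surjective g
    rw [sg_quot_pow_mk, hσ]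
    rfl
  have hfpfq := quotAut_fpf σ hfpf φ.ker hCσ
  have hcompat : ∀ (a : G ⧸ φ.ker) (x : M),
      (restrictAut σ M hMσ : MulAut M) (QuotientGroup.kerLift φ a x)
        = QuotientGroup.kerLift φ ((quotAut σ φ.ker hCσ : MulAut (G ⧸ φ.ker)) a)
            ((restrictAut σ M hMσ : MulAut M) x) := by
    intro a x
    obtain ⟨g, rfl⟩ := QuotientGroup.mk_surjective a
    apply Subtype.ext
    show σ ((φ g x : M) : G) = ((φ (σ g) (restrictAut σ M hMσ x) : M) : G)
    rw [hφ, hφ, map_mul, map_mul, map_inv]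
    rfl
  have hirr : ∀ F : Subgroup M,
      (∀ a : G ⧸ φ.ker, ∀ m ∈ F, QuotientGroup.kerLift φ a m ∈ F) →
      (∀ m ∈ F, (restrictAut σ M hMσ : MulAut M) m ∈ F) → F = ⊥ ∨ F = ⊤ := by
    intro F hF1 hF2
    have hNn : (F.map M.subtype).Normal := by
      constructor
      rintro _ ⟨m, hm, rfl⟩ g
      exact ⟨φ g m, hF1 (QuotientGroup.mk g) m hm, hφ g m⟩
    have hNσ : ∀ x ∈ F.map M.subtype, σ x ∈ F.map M.subtype := by
      rintro _ ⟨m, hm, rfl⟩
      exact ⟨restrictAut σ M hMσ m, hF2 m hm, rfl⟩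
    have hNM : F.map M.subtype ≤ M := by
      rintro _ ⟨m, hm, rfl⟩
      exact m.2
    rcases hmin _ hNn hNσ hNM with h | h
    · left
      exact (Subgroup.map_eq_bot_iff_of_injective F M.subtype_injective).mp h
    · right
      rw [eq_top_iff]
      intro m _
      have h1 : (m : G) ∈ F.map M.subtype := by
        rw [h]
        exact m.2
      obtain ⟨m', hm', hmm⟩ := h1
      have h2 : m' = m := Subtype.ext hmm
      rwa [← h2]
  have key := s2_star r hexpM n hn (quotAut σ φ.ker hCσ) hσq hfpfq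
    (restrictAut σ M hMσ) hβ hβfpf (QuotientGroup.kerLift φ) (QuotientGroup.kerLift_injective φ)
    hcompat hirr hnil
  have hnilA : Group.IsNilpotent
      ↥(sgK ((quotAut σ φ.ker hCσ : MulAut (G ⧸ φ.ker)) ^ (2 ^ (n - 1)))) :=
    isNilpotent_of_le_fittingSubgroup key
  obtain ⟨k, hk⟩ := (Subgroup.isNilpotent_iff_lowerCentralSeries _).mp hnilA
  refine ⟨k, ?_⟩
  have hmap : (sgK (σ ^ (2 ^ (n - 1)))).map (QuotientGroup.mk' φ.ker)
      ≤ sgK ((quotAut σ φ.ker hCσ : MulAut (G ⧸ φ.ker)) ^ (2 ^ (n - 1))) := by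
    rintro _ ⟨x, hx, rfl⟩
    exact sgK_map (QuotientGroup.mk' φ.ker) _ _
      (fun y => (sg_quot_pow_mk σ φ.ker hCσ _ y).symm) x hx
  intro x hx
  have h1 : (QuotientGroup.mk' φ.ker) x
      ∈ ((sgK (σ ^ (2 ^ (n - 1)))).map (QuotientGroup.mk' φ.ker)).lowerCentralSeries k := by
    rw [← Subgroup.map_lowerCentralSeries]
    exact ⟨x, hx, rfl⟩
  have h2 : (QuotientGroup.mk' φ.ker) x
      ∈ (sgK ((quotAut σ φ.ker hCσ : MulAut (G ⧸ φ.ker)) ^ (2 ^ (n - 1)))).lowerCentralSeries k :=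
    Subgroup.lowerCentralSeries_mono k hmap h1
  rw [hk, Subgroup.mem_bot] at h2
  have h3 : x ∈ φ.ker := (QuotientGroup.eq_one_iff x).mp h2
  rw [Subgroup.mem_centralizer_iff]
  intro m hm
  exact ((hker x).mp h3 m hm).symm

/-- Theorem B: some term of the lower central series of `[G, τ]` lies in the Fitting
subgroup. -/
theorem s2_thmB (N : ℕ) :
    ∀ {G : Type u} [Group G] [Finite G], Nat.card G ≤ N → Group.IsSolvable G →
      ∀ (n : ℕ) (σ : MulAut G), 1 ≤ n → σ ^ (2 ^ n) = 1 → (∀ g, σ g = g → g = 1) →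
        ∃ k, (sgK (σ ^ (2 ^ (n - 1)))).lowerCentralSeries k ≤ fittingSubgroup G := by
  induction N with
  | zero =>
    intro G _ _ hcard
    have := Nat.card_pos (α := G)
    omega
  | succ N ih =>
    intro G _ _ hcard hG n σ hn hσ hfpf
    classical
    rcases subsingleton_or_nontrivial G with hsub | hnt
    · refine ⟨0, ?_⟩
      intro x _
      rw [Subsingleton.elim x 1]
      exact Subgroup.one_mem _
    obtain ⟨τ, hτ⟩ : ∃ τ : MulAut G, τ = σ ^ (2 ^ (n - 1)) := ⟨_, rfl⟩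
    have IH : ∀ (C : Subgroup G) [C.Normal] (hC : ∀ x ∈ C, σ x ∈ C), C ≠ ⊥ →
        ∃ k, (sgK ((quotAut σ C hC : MulAut (G ⧸ C)) ^ (2 ^ (n - 1)))).lowerCentralSeries k
          ≤ fittingSubgroup (G ⧸ C) := by
      intro C _ hC hC0
      have hcardC : Nat.card (G ⧸ C) ≤ N := by
        have h1 := Subgroup.card_eq_card_quotient_mul_card_subgroup C
        haveI : Nontrivial C := (Subgroup.nontrivial_iff_ne_bot C).mpr hC0
        have h2 : 1 < Nat.card C := Finite.one_lt_card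
        have h3 : 0 < Nat.card (G ⧸ C) := Nat.card_pos
        have h4 : Nat.card (G ⧸ C) * 2 ≤ Nat.card (G ⧸ C) * Nat.card C :=
          Nat.mul_le_mul_left _ h2
        omega
      have hσq : (quotAut σ C hC : MulAut (G ⧸ C)) ^ (2 ^ n) = 1 := by
        refine MulEquiv.ext fun g => ?_
        obtain ⟨u, rfl⟩ := QuotientGroup.mk_surjective g
        rw [sg_quot_pow_mk, hσ]
        rfl
      haveI := hG
      exact ih hcardC inferInstance n (quotAut σ C hC) hn hσq (quotAut_fpf σ hfpf C hC)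
    obtain ⟨M, hMn, hMσ, hM0, hmin⟩ := sg_exists_min σ
    haveI := hMn
    have hab := sg_min_abelian hG σ M hMσ hM0 hmin
    obtain ⟨r, hr, hexp⟩ := sg_min_exp σ M hMσ hM0 hmin hab
    haveI : Fact r.Prime := ⟨hr⟩
    obtain ⟨k₂, hk₂⟩ := s2_step1 n hn σ hσ hfpf M hMσ hM0 hmin hab r hexp IH
    obtain ⟨k₃, hk₃⟩ := IH M hMσ hM0
    rw [← hτ] at hk₂ ⊢
    obtain ⟨F₁, hF₁⟩ : ∃ F₁ : Subgroup G, F₁ = Subgroup.centralizer (M : Set G) ⊓
        (fittingSubgroup (G ⧸ M)).comap (QuotientGroup.mk' M) := ⟨_, rfl⟩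
    haveI hF₁n : F₁.Normal := by
      rw [hF₁]
      infer_instance
    have hF₁c : F₁ ≤ Subgroup.centralizer (M : Set G) := by
      rw [hF₁]
      exact inf_le_left
    have hF₁f : F₁ ≤ (fittingSubgroup (G ⧸ M)).comap (QuotientGroup.mk' M) := by
      rw [hF₁]
      exact inf_le_right
    have hF₁nil : Group.IsNilpotent F₁ := by
      obtain ⟨f, hf⟩ : ∃ f : F₁ →* fittingSubgroup (G ⧸ M),
          ∀ x : F₁, ((f x : fittingSubgroup (G ⧸ M)) : G ⧸ M) = QuotientGroup.mk (x : G) :=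
        ⟨((QuotientGroup.mk' M).comp F₁.subtype).codRestrict (fittingSubgroup (G ⧸ M))
          (fun x => hF₁f x.2), fun x => rfl⟩
      have hker : f.ker ≤ Subgroup.center F₁ := by
        intro x hx
        rw [MonoidHom.mem_ker] at hx
        have h1 : (QuotientGroup.mk (x : G) : G ⧸ M) = 1 := by
          rw [← hf, hx]
          rfl
        have h2 : (x : G) ∈ M := (QuotientGroup.eq_one_iff _).mp h1
        rw [Subgroup.mem_center_iff]
        intro y
        apply Subtype.ext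
        exact (Subgroup.mem_centralizer_iff.mp (hF₁c y.2) (x : G) h2).symm
      haveI := fittingSubgroup_isNilpotent (G ⧸ M)
      exact Subgroup.isNilpotent_of_ker_le_center f hker
    have hF₁le : F₁ ≤ fittingSubgroup G := le_fittingSubgroup hF₁n hF₁nil
    refine ⟨max k₂ k₃, le_trans ?_ hF₁le⟩
    rw [hF₁]
    apply le_inf
    · exact (Subgroup.lowerCentralSeries_antitone _ (le_max_left k₂ k₃)).trans hk₂
    · refine (Subgroup.lowerCentralSeries_antitone _ (le_max_right k₂ k₃)).trans ?_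
      rw [← Subgroup.map_le_iff_le_comap, Subgroup.map_lowerCentralSeries]
      have hmap : (sgK τ).map (QuotientGroup.mk' M)
          ≤ sgK ((quotAut σ M hMσ : MulAut (G ⧸ M)) ^ (2 ^ (n - 1))) := by
        rintro _ ⟨x, hx, rfl⟩
        rw [hτ] at hx
        exact sgK_map (QuotientGroup.mk' M) _ _
          (fun y => (sg_quot_pow_mk σ M hMσ _ y).symm) x hx
      have h2 : ((sgK τ).map (QuotientGroup.mk' M)).lowerCentralSeries k₃
          ≤ (sgK ((quotAut σ M hMσ : MulAut (G ⧸ M)) ^ (2 ^ (n - 1)))).lowerCentralSeries k₃ :=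
        Subgroup.lowerCentralSeries_mono k₃ hmap
      exact h2.trans hk₃

/-- A chain of normal subgroups with nilpotent factors (without the end conditions). -/
def S2Chain {G : Type*} [Group G] (m : ℕ) (F : Fin (m + 1) → Subgroup G) : Prop :=
  Monotone F ∧ (∀ i, (F i).Normal) ∧
    ∀ i : Fin m, ∃ k : ℕ, (F i.succ).lowerCentralSeries k ≤ F i.castSucc

theorem s2_chain_cons {G : Type*} [Group G] (m : ℕ) (F₁ : Fin (m + 1) → Subgroup G)
    (hF₁ : S2Chain m F₁) (B : Subgroup G) [B.Normal] (hB : B ≤ F₁ 0)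
    (hk : ∃ k, (F₁ 0).lowerCentralSeries k ≤ B) :
    S2Chain (m + 1) (Fin.cons B F₁ : Fin (m + 1 + 1) → Subgroup G) := by
  obtain ⟨hmono, hnorm, hnil⟩ := hF₁
  refine ⟨?_, ?_, ?_⟩
  · rw [Fin.monotone_iff_le_succ]
    intro i
    refine Fin.cases ?_ (fun j => ?_) i
    · rw [Fin.castSucc_zero, Fin.cons_zero, Fin.cons_succ]
      exact hB
    · rw [← Fin.succ_castSucc, Fin.cons_succ, Fin.cons_succ]
      exact hmono (Fin.castSucc_le_succ j)
  · intro i
    refine Fin.cases ?_ (fun j => ?_) i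
    · rw [Fin.cons_zero]
      infer_instance
    · rw [Fin.cons_succ]
      exact hnorm j
  · intro i
    refine Fin.cases ?_ (fun j => ?_) i
    · obtain ⟨k, hk⟩ := hk
      refine ⟨k, ?_⟩
      rw [Fin.castSucc_zero, Fin.cons_zero, Fin.cons_succ]
      exact hk
    · obtain ⟨k, hk⟩ := hnil j
      refine ⟨k, ?_⟩
      rw [← Fin.succ_castSucc, Fin.cons_succ, Fin.cons_succ]
      exact hk

theorem s2_chain_comap {G : Type*} [Group G] (N : Subgroup G) [N.Normal] (m : ℕ)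
    (F' : Fin (m + 1) → Subgroup (G ⧸ N)) (hF' : S2Chain m F') :
    S2Chain m (fun i => (F' i).comap (QuotientGroup.mk' N)) := by
  obtain ⟨hmono, hnorm, hnil⟩ := hF'
  refine ⟨fun i j hij => Subgroup.comap_mono (hmono hij), fun i => ?_, fun i => ?_⟩
  · haveI := hnorm i
    infer_instance
  · obtain ⟨k, hk⟩ := hnil i
    refine ⟨k, ?_⟩
    show ((F' i.succ).comap (QuotientGroup.mk' N)).lowerCentralSeries k
      ≤ (F' i.castSucc).comap (QuotientGroup.mk' N)
    rw [← Subgroup.map_le_iff_le_comap, Subgroup.map_lowerCentralSeries,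
      Subgroup.map_comap_eq_self_of_surjective (QuotientGroup.mk'_surjective N)]
    exact hk

/-- Gross's theorem for `p = 2`: a chain with nilpotent factors of length `2 n - 2`
(`n = j + 2`). -/
theorem s2_chain (j : ℕ) :
    ∀ {G : Type u} [Group G] [Finite G], Group.IsSolvable G → ∀ σ : MulAut G,
      σ ^ (2 ^ (j + 2)) = 1 → (∀ g, σ g = g → g = 1) → ∀ m : ℕ, m = 2 * j + 2 →
      ∃ F : Fin (m + 1) → Subgroup G, F 0 = ⊥ ∧ F (Fin.last m) = ⊤ ∧ S2Chain m F := by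
  induction j with
  | zero =>
    intro G _ _ hG σ hσ hfpf m hm
    have hm' : m = 0 + 1 + 1 := by omega
    subst hm'
    have hnil := Cfsg.Agent.S3794.result hG σ hσ hfpf
    have hc : S2Chain 0 (fun _ : Fin (0 + 1) => (⊤ : Subgroup G)) :=
      ⟨fun _ _ _ => le_rfl, fun _ => inferInstance, fun i => i.elim0⟩
    have h1 := s2_chain_cons 0 _ hc (commutator G) le_top
      ⟨1, le_of_eq Subgroup.top_lowerCentralSeries_one⟩
    have h2 := s2_chain_cons (0 + 1) _ h1 ⊥ bot_le (by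
      obtain ⟨k, hk⟩ := (Subgroup.isNilpotent_iff_lowerCentralSeries _).mp hnil
      exact ⟨k, le_of_eq hk⟩)
    exact ⟨_, rfl, rfl, h2⟩
  | succ j ih =>
    intro G _ _ hG σ hσ hfpf m hm
    have hm' : m = (2 * j + 2) + 1 + 1 := by omega
    subst hm'
    obtain ⟨k, hk⟩ := s2_thmB (Nat.card G) le_rfl hG (j + 1 + 2) σ (by omega) hσ hfpf
    have e1 : j + 1 + 2 - 1 = j + 2 := by omega
    rw [e1] at hk
    have hKσ : ∀ x ∈ sgK (σ ^ (2 ^ (j + 2))), σ x ∈ sgK (σ ^ (2 ^ (j + 2))) :=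
      sgK_inv σ _ (fun x => (sg_pow_comm σ _ x).symm)
    have hσq : (quotAut σ _ hKσ : MulAut (G ⧸ sgK (σ ^ (2 ^ (j + 2))))) ^ (2 ^ (j + 2)) = 1 := by
      refine MulEquiv.ext fun g => ?_
      obtain ⟨u, rfl⟩ := QuotientGroup.mk_surjective g
      rw [sg_quot_pow_mk]
      show (QuotientGroup.mk ((σ ^ (2 ^ (j + 2))) u) : G ⧸ sgK (σ ^ (2 ^ (j + 2))))
        = QuotientGroup.mk u
      apply QuotientGroup.eq.mpr
      have h2 := Subgroup.inv_mem _ (sgK_mem (σ ^ (2 ^ (j + 2))) u)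
      rwa [mul_inv_rev, inv_inv] at h2
    haveI := hG
    obtain ⟨F', h0, h1, hF'⟩ := ih (G := G ⧸ sgK (σ ^ (2 ^ (j + 2)))) inferInstance
      (quotAut σ _ hKσ) hσq (quotAut_fpf σ hfpf _ hKσ) (2 * j + 2) rfl
    have hc1 := s2_chain_comap (sgK (σ ^ (2 ^ (j + 2)))) _ F' hF'
    have e0 : (F' 0).comap (QuotientGroup.mk' (sgK (σ ^ (2 ^ (j + 2)))))
        = sgK (σ ^ (2 ^ (j + 2))) := by
      rw [h0, MonoidHom.comap_bot, QuotientGroup.ker_mk']
    have hc2 := s2_chain_cons _ _ hc1 (fittingSubgroup G ⊓ sgK (σ ^ (2 ^ (j + 2))))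
      (by
        show fittingSubgroup G ⊓ sgK (σ ^ (2 ^ (j + 2)))
          ≤ (F' 0).comap (QuotientGroup.mk' (sgK (σ ^ (2 ^ (j + 2)))))
        rw [e0]
        exact inf_le_right)
      ⟨k, by
        show ((F' 0).comap (QuotientGroup.mk' (sgK (σ ^ (2 ^ (j + 2)))))).lowerCentralSeries k
          ≤ fittingSubgroup G ⊓ sgK (σ ^ (2 ^ (j + 2)))
        rw [e0]
        exact le_inf hk (Subgroup.lowerCentralSeries_le_self _ k)⟩
    have hBnil : Group.IsNilpotent ↥(fittingSubgroup G ⊓ sgK (σ ^ (2 ^ (j + 2)))) :=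
      isNilpotent_of_le_fittingSubgroup inf_le_left
    obtain ⟨k', hk'⟩ := (Subgroup.isNilpotent_iff_lowerCentralSeries _).mp hBnil
    have hc3 := s2_chain_cons _ _ hc2 ⊥ bot_le ⟨k', le_of_eq hk'⟩
    refine ⟨_, rfl, ?_, hc3⟩
    have e : Fin.last ((2 * j + 2) + 1 + 1) = ((Fin.last (2 * j + 2)).succ).succ := rfl
    rw [e, Fin.cons_succ, Fin.cons_succ, h1, Subgroup.comap_top]

end S2Wrap

end Cfsg.Agent.Lib.helper75
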