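import Mathlib
import Cfsg.Agent.Lib.helper26.S4409Defs

/-!
S4409 split (helper26), piece G3 -- prefixed racer copy by helper75.
If `⁅X, H⁆ = X` for a 2-group `X` acted on by an odd-order `H`, every `H`-fixed element of `X`
lies in `⁅X, X⁆` (averaging product over `H` in the abelianization of `X`).
-/

set_option autoImplicit false

namespace Cfsg.Agent.Lib.helper26.S4409

variable {G : Type*} [Group G]

/-- Conjugation by a normalizing element, as an endomorphism of `↥X`. -/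
def h75_conjHom (X : Subgroup G) (h : G) (hh : h ∈ Subgroup.normalizer (X : Set G)) :
    ↥X →* ↥X where
  toFun x := ⟨h * x * h⁻¹, (Subgroup.mem_normalizer_iff.mp hh x).mp x.2⟩
  map_one' := by ext; simp
  map_mul' x y := by ext; simp [mul_assoc]

theorem h75_g3 [Finite G] (X H : Subgroup G) (hX : IsPGroup 2 ↥X)
    (hH : H ≤ Subgroup.normalizer (X : Set G)) (hodd : (Nat.card ↥H).Coprime 2)
    (hXH : ⁅X, H⁆ = X) (w : G) (hw : w ∈ X) (hc : ∀ h ∈ H, h * w = w * h) : w ∈ ⁅X, X⁆ := by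
  classical
  haveI : Fintype ↥H := Fintype.ofFinite _
  let ofA : ↥X →* Abelianization ↥X := Abelianization.of
  let τ : ↥X →* Abelianization ↥X := ∏ h : ↥H, ofA.comp (h75_conjHom X h.1 (hH h.2))
  have hτ : ∀ x : ↥X, τ x = ∏ h : ↥H, ofA (h75_conjHom X h.1 (hH h.2) x) := by
    intro x
    simp only [τ, MonoidHom.finsetProd_apply, MonoidHom.comp_apply]
  have hinv : ∀ (k : ↥H) (x : ↥X), τ (h75_conjHom X k.1 (hH k.2) x) = τ x := by
    intro k x
    rw [hτ, hτ]
    refine Fintype.prod_equiv (Equiv.mulRight k) _ _ ?_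
    intro h
    congr 1
    ext
    simp [h75_conjHom, mul_assoc]
  have hker : X ≤ (MonoidHom.ker τ).map X.subtype := by
    conv_lhs => rw [← hXH]
    rw [Subgroup.commutator_le]
    intro x hx h hh
    refine ⟨⟨x, hx⟩ * h75_conjHom X h (hH hh) (⟨x, hx⟩⁻¹), ?_, ?_⟩
    · rw [SetLike.mem_coe, MonoidHom.mem_ker, map_mul, hinv ⟨h, hh⟩, ← map_mul, mul_inv_cancel,
        map_one]
    · simp [h75_conjHom, commutatorElement_def, mul_assoc]
  have hτ1 : ∀ x : ↥X, τ x = 1 := by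
    intro x
    obtain ⟨y, hy, hyx⟩ := hker x.2
    have hyx' : y = x := Subtype.ext hyx
    rw [← hyx']; exact hy
  have hτw : τ ⟨w, hw⟩ = ofA ⟨w, hw⟩ ^ Nat.card ↥H := by
    rw [hτ]
    have hfix : ∀ h : ↥H, ofA (h75_conjHom X h.1 (hH h.2) ⟨w, hw⟩) = ofA ⟨w, hw⟩ := by
      intro h
      congr 1
      ext
      simp only [h75_conjHom, MonoidHom.coe_mk, OneHom.coe_mk]
      rw [hc h.1 h.2, mul_inv_cancel_right]
    rw [Finset.prod_congr rfl (fun h _ => hfix h), Finset.prod_const, Finset.card_univ,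
      Nat.card_eq_fintype_card]
  have h1 : ofA ⟨w, hw⟩ ^ Nat.card ↥H = 1 := by rw [← hτw]; exact hτ1 _
  obtain ⟨k, hk⟩ := hX ⟨w, hw⟩
  have h2 : ofA ⟨w, hw⟩ ^ 2 ^ k = 1 := by rw [← map_pow, hk, map_one]
  have hord : orderOf (ofA ⟨w, hw⟩) = 1 :=
    Nat.eq_one_of_dvd_coprimes (Nat.Coprime.pow_right k hodd) (orderOf_dvd_of_pow_eq_one h1)
      (orderOf_dvd_of_pow_eq_one h2)
  have hof : ofA ⟨w, hw⟩ = 1 := orderOf_eq_one_iff.mp hord
  have hmem : (⟨w, hw⟩ : ↥X) ∈ _root_.commutator ↥X := by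
    rw [← Abelianization.ker_of]; exact hof
  have hmap : (_root_.commutator ↥X).map X.subtype = ⁅X, X⁆ := by
    rw [_root_.commutator_def, Subgroup.map_commutator, ← MonoidHom.range_eq_map,
      Subgroup.range_subtype]
  rw [← hmap]
  exact ⟨⟨w, hw⟩, hmem, rfl⟩

end Cfsg.Agent.Lib.helper26.S4409
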