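import Mathlib
import Cfsg.Agent.Lib.helper89.S60Defs
import Cfsg.Agent.Lib.helper29.S60BTF
import Cfsg.Agent.Lib.helper31.S60BFC

/-! S6000 split (helper89), piece N3 -- prefixed racer copy by helper75. -/

set_option autoImplicit false

namespace Cfsg.Agent.Lib.helper89.S60

open Matrix Cfsg Cfsg.Geo

theorem h75_s60_conj_pow {G : Type*} [Group G] (g x : G) (n : ℕ) :
    (g⁻¹ * x * g) ^ n = g⁻¹ * x ^ n * g := by
  have h := conj_pow (i := n) (a := g⁻¹) (b := x)
  rwa [inv_inv] at h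

theorem h75_s60_trace_conj {F : Type*} [Field F] (g x : GL (Fin 4) F) :
    Matrix.trace ((g⁻¹ * x * g : GL (Fin 4) F) : Matrix (Fin 4) (Fin 4) F)
      = Matrix.trace (x : Matrix (Fin 4) (Fin 4) F) := by
  rw [Units.val_mul, Units.val_mul, Matrix.trace_mul_comm, ← Matrix.mul_assoc, ← Units.val_mul,
    mul_inv_cancel, Units.val_one, Matrix.one_mul]

theorem h75_s60_conj_scalar {F : Type*} [Field F] (g x : GL (Fin 4) F) (c : F)
    (h : ((g⁻¹ * x * g : GL (Fin 4) F) : Matrix (Fin 4) (Fin 4) F) = c • (1 : Matrix (Fin 4) (Fin 4) F)) :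
    (x : Matrix (Fin 4) (Fin 4) F) = c • (1 : Matrix (Fin 4) (Fin 4) F) := by
  have e : x = g * (g⁻¹ * x * g) * g⁻¹ := by group
  rw [e, Units.val_mul, Units.val_mul, h, Matrix.mul_smul, Matrix.mul_one, Matrix.smul_mul,
    ← Units.val_mul, mul_inv_cancel, Units.val_one]

/-- a primitive cube root of unity when `q = 1 mod 3` -/
theorem h75_s60_omega {F : Type*} [Field F] [Fintype F] (hq : Fintype.card F % 3 = 1) :
    ∃ ω : F, ω ≠ 1 ∧ ω ^ 3 = 1 ∧ ω ^ 2 + ω + 1 = 0 := by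
  classical
  have hdvd : 3 ∣ Fintype.card Fˣ := by
    rw [Fintype.card_units]
    have hpos : 0 < Fintype.card F := Fintype.card_pos
    omega
  haveI : Fact (Nat.Prime 3) := ⟨Nat.prime_three⟩
  obtain ⟨u, hu⟩ := exists_prime_orderOf_dvd_card 3 hdvd
  have hu3 : u ^ 3 = 1 := by rw [← hu]; exact pow_orderOf_eq_one u
  have hu1 : u ≠ 1 := by
    rintro rfl
    rw [orderOf_one] at hu
    omega
  refine ⟨(u : F), ?_, ?_, ?_⟩
  · intro h
    exact hu1 (Units.ext h)
  · have h1 := congrArg Units.val hu3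
    rwa [Units.val_pow_eq_pow_val, Units.val_one] at h1
  · have h1 := congrArg Units.val hu3
    rw [Units.val_pow_eq_pow_val, Units.val_one] at h1
    have h2 : ((u : F) - 1) * ((u : F) ^ 2 + (u : F) + 1) = 0 := by linear_combination h1
    rcases mul_eq_zero.mp h2 with h | h
    · exact absurd (Units.ext (sub_eq_zero.mp h)) hu1
    · exact h

/-- N3 (M; uses BFC BTF). -/
theorem h75_s60_nec_three {F : Type*} [Field F] [Fintype F] (h2 : (2 : F) ≠ 0) (R : Subgroup (GL (Fin 4) F)) (w : F) (hG : Good R w)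
    (h3 : (3 : F) ≠ 0) (hq : Fintype.card F % 3 = 1) : Derang R 3 := by
  classical
  obtain ⟨ω, hω1, hω3, hω⟩ := h75_s60_omega hq
  have hωω : ω * ω ^ 2 = 1 := by rw [← hω3]; ring
  have hd1 : (Matrix.diagonal ![ω, ω, ω, 1] : Matrix (Fin 4) (Fin 4) F) *
      Matrix.diagonal ![ω ^ 2, ω ^ 2, ω ^ 2, 1] = 1 := by
    rw [Matrix.diagonal_mul_diagonal, ← Matrix.diagonal_one]
    congr 1
    funext i
    fin_cases i <;> simp [hωω]
  have hd2 : (Matrix.diagonal ![ω ^ 2, ω ^ 2, ω ^ 2, 1] : Matrix (Fin 4) (Fin 4) F) *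
      Matrix.diagonal ![ω, ω, ω, 1] = 1 := by
    rw [Matrix.diagonal_mul_diagonal, ← Matrix.diagonal_one]
    congr 1
    funext i
    fin_cases i <;> simp [mul_comm, hωω]
  let x : GL (Fin 4) F := ⟨Matrix.diagonal ![ω, ω, ω, 1], Matrix.diagonal ![ω ^ 2, ω ^ 2, ω ^ 2, 1],
    hd1, hd2⟩
  have hxval : (x : Matrix (Fin 4) (Fin 4) F) = Matrix.diagonal ![ω, ω, ω, 1] := rfl
  have hxinv : ((x⁻¹ : GL (Fin 4) F) : Matrix (Fin 4) (Fin 4) F) =
      Matrix.diagonal ![ω ^ 2, ω ^ 2, ω ^ 2, 1] := rfl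
  have hxsl : x ∈ specialLinear (Fin 4) F := by
    show Matrix.GeneralLinearGroup.det x = 1
    apply Units.ext
    rw [Matrix.GeneralLinearGroup.val_det_apply, hxval, Matrix.det_diagonal, Fin.prod_univ_four,
      Units.val_one]
    simp only [Matrix.cons_val_zero, Matrix.cons_val_one, Matrix.cons_val_two, Matrix.cons_val_three,
      Matrix.head_cons, Matrix.tail_cons]
    have hprod : ω * ω * ω * 1 = ω ^ 3 := by ring
    rw [hprod, hω3]
  have hx3 : x ^ 3 = 1 := by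
    apply Units.ext
    rw [Units.val_pow_eq_pow_val, hxval, Matrix.diagonal_pow, Units.val_one, ← Matrix.diagonal_one]
    congr 1
    funext i
    fin_cases i <;> simp [hω3]
  have hxs : ∀ z : F, (x : Matrix (Fin 4) (Fin 4) F) ≠ z • (1 : Matrix (Fin 4) (Fin 4) F) := by
    intro z hz
    rw [hxval] at hz
    have h0 := congrFun (congrFun hz 0) 0
    have h33 := congrFun (congrFun hz 3) 3
    simp [Matrix.diagonal] at h0 h33
    exact hω1 (h0.trans h33.symm)
  have htx : Matrix.trace (x : Matrix (Fin 4) (Fin 4) F) = 3 * ω + 1 := by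
    rw [hxval, Matrix.trace_diagonal, Fin.sum_univ_four]
    simp only [Matrix.cons_val_zero, Matrix.cons_val_one, Matrix.cons_val_two, Matrix.cons_val_three,
      Matrix.head_cons, Matrix.tail_cons]
    ring
  have htxi : Matrix.trace ((x⁻¹ : GL (Fin 4) F) : Matrix (Fin 4) (Fin 4) F) = 3 * ω ^ 2 + 1 := by
    rw [hxinv, Matrix.trace_diagonal, Fin.sum_univ_four]
    simp only [Matrix.cons_val_zero, Matrix.cons_val_one, Matrix.cons_val_two, Matrix.cons_val_three,
      Matrix.head_cons, Matrix.tail_cons]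
    ring
  refine ⟨x, hxsl, hx3, hxs, ?_⟩
  intro g hy
  have hy3 : (g⁻¹ * x * g) ^ 3 = 1 := by
    rw [h75_s60_conj_pow, hx3]
    group
  have hty : Matrix.trace ((g⁻¹ * x * g : GL (Fin 4) F) : Matrix (Fin 4) (Fin 4) F) = 3 * ω + 1 := by
    rw [h75_s60_trace_conj, htx]
  have htyi : Matrix.trace (((g⁻¹ * x * g)⁻¹ : GL (Fin 4) F) : Matrix (Fin 4) (Fin 4) F) =
      3 * ω ^ 2 + 1 := by
    have e : (g⁻¹ * x * g)⁻¹ = g⁻¹ * x⁻¹ * g := by group
    rw [e, h75_s60_trace_conj, htxi]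
  haveI : Fact (Nat.Prime 3) := ⟨Nat.prime_three⟩
  obtain ⟨hdvd, h4dvd, hmod, -⟩ := s60_fix_count h2 R w hG 3 (g⁻¹ * x * g) hy hy3
  have hF := s60_trace_formula h2 R w hG (g⁻¹ * x * g) hy 3 (by decide) hy3
  rw [hty, htyi] at hF
  obtain ⟨c, hc⟩ : ∃ c : ℕ, c = Nat.card {s : GL (Fin 4) F // s ∈ R ∧ g⁻¹ * x * g * s = s * (g⁻¹ * x * g)} :=
    ⟨_, rfl⟩
  rw [← hc] at hdvd h4dvd hmod hF
  have hF' : (c : F) = 28 := by
    rw [← hF]
    linear_combination 36 * hω3 + 12 * hω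
  have hcle : c ≤ 64 := Nat.le_of_dvd (by norm_num) hdvd
  have h23 : ∀ a b : ℕ, (2 : F) ^ a * 3 ^ b ≠ 0 := fun a b =>
    mul_ne_zero (pow_ne_zero _ h2) (pow_ne_zero _ h3)
  have hc3 : c = 4 ∨ c = 16 ∨ c = 64 := by
    interval_cases c <;> omega
  rcases hc3 with h | h | h
  · rw [h] at hF'
    apply h23 3 1
    push_cast at hF'
    linear_combination -hF'
  · rw [h] at hF'
    apply h23 2 1
    push_cast at hF'
    linear_combination -hF'
  · rw [h] at hF'
    apply h23 2 2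
    push_cast at hF'
    linear_combination hF'

end Cfsg.Agent.Lib.helper89.S60
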