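import Cfsg.Agent.Lib.helper75.S60S5core
import Cfsg.Agent.Lib.helper82.S60B5S
import Cfsg.Agent.Lib.helper57.S60B5E

/-!
# S6000 split (helper89), piece S5: the case `r = 5` (verbatim statement, canonical name)
-/

set_option autoImplicit false

namespace Cfsg.Agent.Lib.helper89.S60

open Matrix Cfsg Cfsg.Geo

/-- S5 (M; uses B5E B5S). -/
theorem s60_suff_five {F : Type*} [Field F] [Fintype F] (h2 : (2 : F) ≠ 0) (R : Subgroup (GL (Fin 4) F)) (w : F) (hG : Good R w)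
    (h4 : orderOf ((Fintype.card F : ℕ) : ZMod 5) = 4) (x : GL (Fin 4) F) (hx : x ∈ specialLinear (Fin 4) F) (z : F)
    (hz : (x : Matrix (Fin 4) (Fin 4) F) ^ 5 = z • (1 : Matrix (Fin 4) (Fin 4) F)) (hns : ∀ z : F, (x : Matrix (Fin 4) (Fin 4) F) ≠ z • (1 : Matrix (Fin 4) (Fin 4) F)) :
    ∃ g ∈ specialLinear (Fin 4) F, g⁻¹ * x * g ∈ subgroupNormalizer R :=
  h75_s60_suff_five_core R (s60_exists_five_elt h2 R w hG h4)
    (fun x h hx hh hx5 hx1 hh5 hh1 => s60_five_conj h4 x h hx hh hx5 hx1 hh5 hh1) x hx z hz hns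

end Cfsg.Agent.Lib.helper89.S60
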