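import Mathlib
import Cfsg.Agent.Lib.helper89.S60Defs

/-!
# S6000 split (helper89), piece S5 (core): the case `r = 5`, with the statements of the pieces B5E and
B5S as hypotheses.
-/

set_option autoImplicit false

namespace Cfsg.Agent.Lib.helper89.S60

open Matrix Cfsg Cfsg.Geo

/-- Piece S5 with the statements of B5E (`hB5E`) and B5S (`hB5S`) as hypotheses. -/
theorem h75_s60_suff_five_core {F : Type*} [Field F] (R : Subgroup (GL (Fin 4) F))
    (hB5E : ∃ h : GL (Fin 4) F, h ∈ specialLinear (Fin 4) F ∧ h ∈ subgroupNormalizer R ∧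
      h ^ 5 = 1 ∧ h ≠ 1)
    (hB5S : ∀ x h : GL (Fin 4) F, x ∈ specialLinear (Fin 4) F → h ∈ specialLinear (Fin 4) F →
      x ^ 5 = 1 → x ≠ 1 → h ^ 5 = 1 → h ≠ 1 →
      ∃ g ∈ specialLinear (Fin 4) F, ∃ k : ℕ, g⁻¹ * x * g = h ^ k)
    (x : GL (Fin 4) F) (hx : x ∈ specialLinear (Fin 4) F) (z : F)
    (hz : (x : Matrix (Fin 4) (Fin 4) F) ^ 5 = z • (1 : Matrix (Fin 4) (Fin 4) F))
    (hns : ∀ z : F, (x : Matrix (Fin 4) (Fin 4) F) ≠ z • (1 : Matrix (Fin 4) (Fin 4) F)) :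
    ∃ g ∈ specialLinear (Fin 4) F, g⁻¹ * x * g ∈ subgroupNormalizer R := by
  obtain ⟨h, hh, hhN, hh5, hh1⟩ := hB5E
  have hdet : (x : Matrix (Fin 4) (Fin 4) F).det = 1 := by
    have h1 : Matrix.GeneralLinearGroup.det x = 1 := hx
    have h2 := congrArg Units.val h1
    rwa [Matrix.GeneralLinearGroup.val_det_apply, Units.val_one] at h2
  have hz4 : z ^ 4 = 1 := by
    have h1 := congrArg Matrix.det hz
    rw [Matrix.det_pow, hdet, one_pow, Matrix.det_smul, Matrix.det_one, mul_one,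
      Fintype.card_fin] at h1
    exact h1.symm
  have hz0 : z ≠ 0 := by
    rintro rfl
    norm_num at hz4
  let S : GL (Fin 4) F := ⟨z⁻¹ • (1 : Matrix (Fin 4) (Fin 4) F), z • (1 : Matrix (Fin 4) (Fin 4) F),
    by rw [smul_mul_smul_comm, inv_mul_cancel₀ hz0, one_mul, one_smul],
    by rw [smul_mul_smul_comm, mul_inv_cancel₀ hz0, one_mul, one_smul]⟩
  have hSval : (S : Matrix (Fin 4) (Fin 4) F) = z⁻¹ • (1 : Matrix (Fin 4) (Fin 4) F) := rfl
  have hSc : ∀ y : GL (Fin 4) F, S * y = y * S := by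
    intro y
    apply Units.ext
    rw [Units.val_mul, Units.val_mul, hSval, Matrix.smul_mul, Matrix.mul_smul, Matrix.one_mul,
      Matrix.mul_one]
  have hSx : ((S * x : GL (Fin 4) F) : Matrix (Fin 4) (Fin 4) F) =
      z⁻¹ • (x : Matrix (Fin 4) (Fin 4) F) := by
    rw [Units.val_mul, hSval, Matrix.smul_mul, Matrix.one_mul]
  have hx5 : (S * x) ^ 5 = 1 := by
    apply Units.ext
    rw [Units.val_pow_eq_pow_val, hSx, smul_pow, hz, smul_smul, Units.val_one]
    have h1 : z⁻¹ ^ 5 * z = 1 := by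
      rw [inv_pow, inv_mul_eq_one₀ (pow_ne_zero 5 hz0)]
      calc z ^ 5 = z ^ 4 * z := by ring
        _ = z := by rw [hz4, one_mul]
    rw [h1, one_smul]
  have hx1 : S * x ≠ 1 := by
    intro h1
    apply hns z
    have h3 : ((S * x : GL (Fin 4) F) : Matrix (Fin 4) (Fin 4) F) = 1 := by rw [h1]; rfl
    rw [hSx] at h3
    have h4 := congrArg (fun M : Matrix (Fin 4) (Fin 4) F => z • M) h3
    simp only [smul_smul, mul_inv_cancel₀ hz0, one_smul] at h4
    exact h4
  have hSsl : S ∈ specialLinear (Fin 4) F := by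
    show Matrix.GeneralLinearGroup.det S = 1
    apply Units.ext
    rw [Matrix.GeneralLinearGroup.val_det_apply, hSval, Matrix.det_smul, Matrix.det_one, mul_one,
      Fintype.card_fin, inv_pow, hz4, inv_one, Units.val_one]
  have hSN : S ∈ subgroupNormalizer R := by
    unfold subgroupNormalizer
    rw [Subgroup.mem_normalizer_iff]
    intro y
    rw [hSc y, mul_inv_cancel_right]
  obtain ⟨g, hg, k, hgk⟩ := hB5S (S * x) h (mul_mem hSsl hx) hh hx5 hx1 hh5 hh1
  refine ⟨g, hg, ?_⟩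
  have h5 : g⁻¹ * x * g = S⁻¹ * h ^ k := by
    have h6 : g⁻¹ * (S * x) * g = S * (g⁻¹ * x * g) := by
      rw [← mul_assoc g⁻¹ S x, ← hSc g⁻¹]
      simp only [mul_assoc]
    rw [← hgk, h6, inv_mul_cancel_left]
  rw [h5]
  exact mul_mem (inv_mem hSN) (Subgroup.pow_mem _ hhN k)

end Cfsg.Agent.Lib.helper89.S60
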