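import Mathlib
import Cfsg.Agent.Lib.helper69.SNDefs

/-!
# S4073 split project, piece E1-B: `sn_sylow2_fusion_noncenter`
-/

set_option autoImplicit false

namespace Cfsg.Agent.Lib.helper75.SNG

open Cfsg.Agent.Lib.helper69.SNG
open scoped Pointwise

universe u v

/-- Sylow conjugation inside a subgroup. -/
theorem h75_sylow_conj_in {G : Type*} [Group G] [Finite G] (p : ℕ) [Fact p.Prime]
    (L : Subgroup G) (P : Sylow p G) (hP : (P : Subgroup G) ≤ L) (Q : Subgroup G)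
    (hQ : IsPGroup p Q) (hQL : Q ≤ L) :
    ∃ k ∈ L, ∀ x ∈ Q, k * x * k⁻¹ ∈ (P : Subgroup G) := by
  have hQ' : IsPGroup p (Q.subgroupOf L) := by
    rw [← Subgroup.comap_subtype]
    exact hQ.comap_subtype
  obtain ⟨R, hR⟩ := hQ'.exists_le_sylow
  obtain ⟨k, hk⟩ := MulAction.exists_smul_eq L R (P.subtype hP)
  refine ⟨k, k.2, fun x hx => ?_⟩
  have h1 : (⟨x, hQL hx⟩ : L) ∈ (R : Subgroup L) := hR (Subgroup.mem_subgroupOf.mpr hx)
  have h2 : MulAut.conj k • (⟨x, hQL hx⟩ : L) ∈ MulAut.conj k • (R : Subgroup L) :=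
    Subgroup.smul_mem_pointwise_smul _ _ _ h1
  rw [← Sylow.coe_subgroup_smul, hk, Sylow.coe_subtype, Subgroup.mem_subgroupOf] at h2
  simpa [MulAut.smul_def] using h2

/-- A subgroup of index two is normalised. -/
theorem h75_le_normalizer_of_index_two {G : Type*} [Group G] [Finite G] (M T : Subgroup G)
    (hMT : M ≤ T) (h2 : 2 * Nat.card M = Nat.card T) :
    T ≤ Subgroup.normalizer (M : Set G) := by
  have h3 : Nat.card M * M.relIndex T = Nat.card T := by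
    have h4 := Subgroup.relIndex_mul_relIndex (H := (⊥ : Subgroup G)) (K := M) (L := T)
      bot_le hMT
    rwa [Subgroup.relIndex_bot_left, Subgroup.relIndex_bot_left] at h4
  have hpos : 0 < Nat.card M := Nat.card_pos
  have h5 : M.relIndex T = 2 := by
    have h6 : Nat.card M * M.relIndex T = Nat.card M * 2 := by rw [h3, ← h2, mul_comm]
    exact Nat.eq_of_mul_eq_mul_left hpos h6
  have h6 : (M.subgroupOf T).Normal := Subgroup.normal_of_index_eq_two h5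
  exact (Subgroup.normal_subgroupOf_iff_le_normalizer hMT).mp h6

/-- **[E1-B]** -/
theorem sn_sylow2_fusion_noncenter {G : Type u} [Group G] [Finite G] [IsSimpleGroup G]
    (hna : ¬ IsMulCommutative G) (h : SN G) (S : Sylow 2 G) (hS : ¬ IsMulCommutative S)
    (hP2N : ∀ (K : Subgroup G), K ≠ ⊤ → ∀ T : Sylow 2 G, (T : Subgroup G) ≤ K →
      ∃ O : Subgroup G, O ≤ K ∧ K ≤ Subgroup.normalizer (O : Set G) ∧ Odd (Nat.card O) ∧
        O ⊔ (T : Subgroup G) = K)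
    (z : G) (hzS : z ∈ S) (hz1 : z ≠ 1)
    (hz : z ∈ Subgroup.centralizer ((S : Subgroup G) : Set G)) (g : G)
    (hgS : g * z * g⁻¹ ∈ S)
    (hM : 2 * Nat.card ↥((S : Subgroup G) ⊓ Subgroup.centralizer ({g * z * g⁻¹} : Set G))
      = Nat.card S) : False := by
  classical
  obtain ⟨z', hz'⟩ : ∃ z' : G, z' = g * z * g⁻¹ := ⟨_, rfl⟩
  rw [← hz'] at hgS hM
  obtain ⟨M₁, hM₁⟩ : ∃ M₁ : Subgroup G,
      M₁ = (S : Subgroup G) ⊓ Subgroup.centralizer ({z'} : Set G) := ⟨_, rfl⟩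
  rw [← hM₁] at hM
  have hM' : 2 * Nat.card M₁ = Nat.card (S : Subgroup G) := hM
  have hgS' : z' ∈ (S : Subgroup G) := hgS
  have hzS' : z ∈ (S : Subgroup G) := hzS
  have hM₁S : M₁ ≤ (S : Subgroup G) := by rw [hM₁]; exact inf_le_left
  have hM₁C : M₁ ≤ Subgroup.centralizer ({z'} : Set G) := by rw [hM₁]; exact inf_le_right
  have hzc : ∀ s ∈ (S : Subgroup G), s * z = z * s :=
    fun s hs => Subgroup.mem_centralizer_iff.mp hz s hs
  have hzM : z ∈ M₁ := by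
    rw [hM₁, Subgroup.mem_inf]
    refine ⟨hzS', ?_⟩
    rw [Subgroup.mem_centralizer_iff]
    intro y hy
    rw [Set.mem_singleton_iff] at hy
    rw [hy]
    exact hzc z' hgS'
  have hz'M : z' ∈ M₁ := by
    rw [hM₁, Subgroup.mem_inf]
    refine ⟨hgS', ?_⟩
    rw [Subgroup.mem_centralizer_iff]
    intro y hy
    rw [Set.mem_singleton_iff] at hy
    rw [hy]
  have hM₁p : IsPGroup 2 M₁ := S.isPGroup'.to_le hM₁S
  -- Step A
  have hgSL : ((g • S : Sylow 2 G) : Subgroup G) ≤ Subgroup.centralizer ({z'} : Set G) := by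
    intro y hy
    rw [Sylow.coe_subgroup_smul] at hy
    have hs : g⁻¹ * y * g ∈ (S : Subgroup G) := by
      have h1 := Subgroup.mem_pointwise_smul_iff_inv_smul_mem.mp hy
      rw [MulAut.smul_def, MulAut.conj_inv_apply] at h1
      exact h1
    rw [Subgroup.mem_centralizer_iff]
    intro w hw
    rw [Set.mem_singleton_iff] at hw
    rw [hw, hz']
    have e := hzc _ hs
    calc g * z * g⁻¹ * y = g * (z * (g⁻¹ * y * g)) * g⁻¹ := by group
      _ = g * (g⁻¹ * y * g * z) * g⁻¹ := by rw [e]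
      _ = y * (g * z * g⁻¹) := by group
  obtain ⟨k, hkL, hk⟩ := h75_sylow_conj_in 2 (Subgroup.centralizer ({z'} : Set G)) (g • S)
    hgSL M₁ hM₁p hM₁C
  obtain ⟨c, hc⟩ : ∃ c : G, c = k⁻¹ * g := ⟨_, rfl⟩
  have hcM : ∀ x ∈ M₁, c⁻¹ * x * c ∈ (S : Subgroup G) := by
    intro x hx
    have h1 := hk x hx
    rw [Sylow.coe_subgroup_smul] at h1
    have h2 := Subgroup.mem_pointwise_smul_iff_inv_smul_mem.mp h1
    have h3 : g⁻¹ * (k * x * k⁻¹) * g ∈ (S : Subgroup G) := by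
      rw [MulAut.smul_def, MulAut.conj_inv_apply] at h2
      exact h2
    have e : c⁻¹ * x * c = g⁻¹ * (k * x * k⁻¹) * g := by rw [hc]; group
    rw [e]
    exact h3
  have hkz : k * z' = z' * k :=
    (Subgroup.mem_centralizer_iff.mp hkL z' (Set.mem_singleton z')).symm
  have hcz : c * z * c⁻¹ = z' := by
    rw [hc]
    have e : k⁻¹ * g * z * (k⁻¹ * g)⁻¹ = k⁻¹ * (g * z * g⁻¹) * k := by group
    rw [e, ← hz', mul_assoc, ← hkz, ← mul_assoc, inv_mul_cancel, one_mul]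
  obtain ⟨S₂, hS₂⟩ : ∃ S₂ : Subgroup G,
      S₂ = (S : Subgroup G).map (MulAut.conj c).toMonoidHom := ⟨_, rfl⟩
  have hS₂mem : ∀ s ∈ (S : Subgroup G), c * s * c⁻¹ ∈ S₂ := by
    intro s hs
    rw [hS₂]
    exact ⟨s, hs, rfl⟩
  have hS₂card : Nat.card S₂ = Nat.card (S : Subgroup G) := by
    rw [hS₂]
    exact Subgroup.card_map_of_injective (MulAut.conj c).injective
  have hS₂p : IsPGroup 2 S₂ := by
    rw [hS₂]
    exact S.isPGroup'.map _
  have hM₁S₂ : M₁ ≤ S₂ := by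
    intro x hx
    have h1 := hS₂mem _ (hcM x hx)
    have e : c * (c⁻¹ * x * c) * c⁻¹ = x := by group
    rwa [e] at h1
  -- Step B
  have hSN : (S : Subgroup G) ≤ Subgroup.normalizer (M₁ : Set G) :=
    h75_le_normalizer_of_index_two M₁ S hM₁S hM'
  have hS₂N : S₂ ≤ Subgroup.normalizer (M₁ : Set G) :=
    h75_le_normalizer_of_index_two M₁ S₂ hM₁S₂ (by rw [hS₂card]; exact hM')
  -- Step C
  have hNtop : Subgroup.normalizer (M₁ : Set G) ≠ ⊤ := by
    intro htop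
    have hn : M₁.Normal := Subgroup.normalizer_eq_top_iff.mp htop
    rcases hn.eq_bot_or_eq_top with h1 | h1
    · rw [h1, Subgroup.mem_bot] at hzM
      exact hz1 hzM
    · have h2 : (S : Subgroup G) = ⊤ := top_le_iff.mp (h1 ▸ hM₁S)
      have h3 : Nat.card M₁ = Nat.card (S : Subgroup G) := by rw [h1, h2]
      have hpos : 0 < Nat.card M₁ := Nat.card_pos
      omega
  -- Step D
  obtain ⟨O, hON, hNO, hOodd, hOS⟩ := hP2N _ hNtop S hSN
  have hOM : O ⊓ M₁ = ⊥ := by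
    apply disjoint_iff.mp
    apply Subgroup.disjoint_of_coprime_natCard
    obtain ⟨n, hn⟩ := IsPGroup.iff_card.mp hM₁p
    rw [hn]
    exact Nat.Coprime.pow_right n (Nat.coprime_two_right.mpr hOodd)
  have hOcent : ∀ o ∈ O, ∀ m ∈ M₁, o * m = m * o := by
    intro o ho m hm
    have h1 : o * m * o⁻¹ ∈ M₁ := (Subgroup.mem_normalizer_iff.mp (hON ho) m).mp hm
    have h2 : m * o⁻¹ * m⁻¹ ∈ O :=
      (Subgroup.mem_normalizer_iff.mp (hNO (hSN (hM₁S hm))) o⁻¹).mp (O.inv_mem ho)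
    have h3 : o * m * o⁻¹ * m⁻¹ ∈ O ⊓ M₁ := by
      refine ⟨?_, M₁.mul_mem h1 (M₁.inv_mem hm)⟩
      have e : o * m * o⁻¹ * m⁻¹ = o * (m * o⁻¹ * m⁻¹) := by group
      rw [e]
      exact O.mul_mem ho h2
    rw [hOM, Subgroup.mem_bot] at h3
    have e : o * m = (o * m * o⁻¹ * m⁻¹) * (m * o) := by group
    rw [e, h3, one_mul]
  -- Step E
  obtain ⟨n, hnN, hn⟩ := h75_sylow_conj_in 2 (Subgroup.normalizer (M₁ : Set G)) S hSN S₂
    hS₂p hS₂N
  obtain ⟨d, hd⟩ : ∃ d : G, d = n * c := ⟨_, rfl⟩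
  have hdS : ∀ s ∈ (S : Subgroup G), d * s * d⁻¹ ∈ (S : Subgroup G) := by
    intro s hs
    have h1 := hn _ (hS₂mem s hs)
    have e : d * s * d⁻¹ = n * (c * s * c⁻¹) * n⁻¹ := by rw [hd]; group
    rw [e]
    exact h1
  have hDeq : (S : Subgroup G).map (MulAut.conj d).toMonoidHom = (S : Subgroup G) := by
    apply Subgroup.eq_of_le_of_card_ge
    · rintro x ⟨s, hs, rfl⟩
      exact hdS s hs
    · rw [Subgroup.card_map_of_injective (MulAut.conj d).injective]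
  have hdsurj : ∀ t ∈ (S : Subgroup G), ∃ s ∈ (S : Subgroup G), t = d * s * d⁻¹ := by
    intro t ht
    rw [← hDeq] at ht
    obtain ⟨s, hs, rfl⟩ := ht
    exact ⟨s, hs, rfl⟩
  have hz''c : ∀ t ∈ (S : Subgroup G), (d * z * d⁻¹) * t = t * (d * z * d⁻¹) := by
    intro t ht
    obtain ⟨s, hs, rfl⟩ := hdsurj t ht
    have e := hzc s hs
    calc d * z * d⁻¹ * (d * s * d⁻¹) = d * (z * s) * d⁻¹ := by group
      _ = d * (s * z) * d⁻¹ := by rw [e]
      _ = d * s * d⁻¹ * (d * z * d⁻¹) := by group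
  have hninv : n⁻¹ ∈ O ⊔ (S : Subgroup G) := by
    rw [hOS]
    exact Subgroup.inv_mem _ hnN
  have hcoe := Subgroup.coe_mul_of_right_le_normalizer_left O (S : Subgroup G) (hSN.trans hNO)
  have hninv' : n⁻¹ ∈ ((O : Set G) * ((S : Subgroup G) : Set G)) := by
    rw [← hcoe]
    exact hninv
  obtain ⟨o, ho, s₀, hs₀, hos⟩ := Set.mem_mul.mp hninv'
  have hn_eq : n = s₀⁻¹ * o⁻¹ := by
    have h1 : n⁻¹⁻¹ = (o * s₀)⁻¹ := by rw [hos]
    rw [inv_inv, mul_inv_rev] at h1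
    exact h1
  have hoz : o * z' = z' * o := hOcent o ho z' hz'M
  have hdz : d * z * d⁻¹ = s₀⁻¹ * z' * s₀ := by
    have e1 : d * z * d⁻¹ = n * (c * z * c⁻¹) * n⁻¹ := by rw [hd]; group
    rw [e1, hcz, hn_eq]
    have e2 : s₀⁻¹ * o⁻¹ * z' * (s₀⁻¹ * o⁻¹)⁻¹ = s₀⁻¹ * (o⁻¹ * (z' * o)) * s₀ := by group
    rw [e2, ← hoz, ← mul_assoc o⁻¹, inv_mul_cancel, one_mul]
  have hz'S : ∀ t ∈ (S : Subgroup G), z' * t = t * z' := by
    intro t ht
    have ht' : s₀⁻¹ * t * s₀ ∈ (S : Subgroup G) :=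
      Subgroup.mul_mem _ (Subgroup.mul_mem _ (Subgroup.inv_mem _ hs₀) ht) hs₀
    have e := hz''c _ ht'
    rw [hdz] at e
    have e1 : z' * t = s₀ * (s₀⁻¹ * z' * s₀ * (s₀⁻¹ * t * s₀)) * s₀⁻¹ := by group
    have e2 : t * z' = s₀ * (s₀⁻¹ * t * s₀ * (s₀⁻¹ * z' * s₀)) * s₀⁻¹ := by group
    rw [e1, e2, e]
  have hSle : (S : Subgroup G) ≤ M₁ := by
    rw [hM₁]
    refine le_inf le_rfl ?_
    intro t ht
    rw [Subgroup.mem_centralizer_iff]
    intro w hw
    rw [Set.mem_singleton_iff] at hw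
    rw [hw]
    exact hz'S t ht
  have hMS : M₁ = (S : Subgroup G) := le_antisymm hM₁S hSle
  have hcard : Nat.card M₁ = Nat.card (S : Subgroup G) := by rw [hMS]
  have hpos : 0 < Nat.card M₁ := Nat.card_pos
  omega

end Cfsg.Agent.Lib.helper75.SNG
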