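import Mathlib
import Cfsg.Agent.Lib.helper44.SUWDefs
import Cfsg.Agent.Lib.helper17.HermForm
import Cfsg.Agent.Lib.helper61.SUWFSKEW
import Cfsg.Agent.Lib.helper29.SUWFSIG

/-! S2334 split (helper72), piece M1COUNT: `count_one` (the `m = 1` orbit count). -/

set_option autoImplicit false

namespace Cfsg.Agent.Lib.helper72.SUO

open Matrix Cfsg.Agent.Lib.helper44.SUW

/-- M1COUNT (M) -/
theorem count_one {K : Type*} [Field K] [Fintype K] [DecidableEq K] {q : ℕ}
    (hK : Fintype.card K = q ^ 2) (σ : K →+* K) (hσ : ∀ x, σ x = x ^ q)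
    (S : Set (Matrix (Fin 1) (Fin 1) K)) (hS : ∀ Y ∈ S, Y ∈ skewH σ 1)
    (hstab : ∀ Y ∈ S, ∀ a : K, a ≠ 0 →
      ((a • (1 : Matrix (Fin 1) (Fin 1) K)).map σ)ᵀ * Y * (a • (1 : Matrix (Fin 1) (Fin 1) K)) ∈ S)
    (hne : ∃ Y ∈ S, Y ≠ 0) :
    q - 1 ≤ Nat.card ↥{Y : Matrix (Fin 1) (Fin 1) K | Y ∈ S ∧ Y ≠ 0} := by
  classical
  obtain ⟨hσσ, hσid⟩ := sigma_facts hK σ hσ
  obtain ⟨Y₀, hY₀S, hY₀ne⟩ := hne
  have hy₀ : Y₀ 0 0 ≠ 0 := by
    intro h0
    apply hY₀ne
    ext i j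
    rw [Fin.eq_zero i, Fin.eq_zero j, h0]
    rfl
  have hy₀σ : σ (Y₀ 0 0) = - Y₀ 0 0 := hS Y₀ hY₀S 0 0
  -- every non-zero skew scalar gives an element of `S`
  have hmem : ∀ c : K, σ c = -c → c ≠ 0 → c • (1 : Matrix (Fin 1) (Fin 1) K) ∈ S := by
    intro c hc hc0
    have hr0 : c / Y₀ 0 0 ≠ 0 := div_ne_zero hc0 hy₀
    have hrσ : σ (c / Y₀ 0 0) = c / Y₀ 0 0 := by
      rw [map_div₀, hc, hy₀σ, neg_div_neg_eq]
    obtain ⟨a, ha⟩ := Cfsg.Agent.Lib.helper17.norm_surj σ hσid hσσ (c / Y₀ 0 0) hr0 hrσ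
    have ha0 : a ≠ 0 := by
      intro h0
      rw [h0, zero_mul] at ha
      exact hr0 ha.symm
    have hst := hstab Y₀ hY₀S a ha0
    have heq : ((a • (1 : Matrix (Fin 1) (Fin 1) K)).map σ)ᵀ * Y₀ *
        (a • (1 : Matrix (Fin 1) (Fin 1) K)) = c • (1 : Matrix (Fin 1) (Fin 1) K) := by
      ext i j
      rw [Fin.eq_zero i, Fin.eq_zero j]
      simp only [Matrix.mul_apply, Finset.univ_unique, Finset.sum_singleton, Matrix.transpose_apply,
        Matrix.map_apply, Matrix.smul_apply, Matrix.one_apply_eq, smul_eq_mul, mul_one, Fin.default_eq_zero]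
      have h1 : σ a * Y₀ 0 0 * a = (a * σ a) * Y₀ 0 0 := by ring
      rw [h1, ha, div_mul_cancel₀ _ hy₀]
    rw [heq] at hst
    exact hst
  have hne1 : ∀ c : K, c ≠ 0 → c • (1 : Matrix (Fin 1) (Fin 1) K) ≠ 0 := by
    intro c hc0 h
    have := congrFun (congrFun h 0) 0
    simp only [Matrix.smul_apply, Matrix.one_apply_eq, smul_eq_mul, mul_one, Matrix.zero_apply] at this
    exact hc0 this
  let T := ↥{Y : Matrix (Fin 1) (Fin 1) K | Y ∈ S ∧ Y ≠ 0}
  haveI : Finite T := Subtype.finite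
  let g : {c : K // σ c = -c} → Option T := fun c =>
    if h : c.1 = 0 then none else some ⟨c.1 • (1 : Matrix (Fin 1) (Fin 1) K), hmem c.1 c.2 h, hne1 c.1 h⟩
  have hg : Function.Injective g := by
    intro c c' hcc
    by_cases h : c.1 = 0
    · by_cases h' : c'.1 = 0
      · exact Subtype.ext (h.trans h'.symm)
      · simp only [g, dif_pos h, dif_neg h'] at hcc
        exact absurd hcc (by simp)
    · by_cases h' : c'.1 = 0
      · simp only [g, dif_neg h, dif_pos h'] at hcc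
        exact absurd hcc (by simp)
      · simp only [g, dif_neg h, dif_neg h', Option.some.injEq] at hcc
        have hv := congrArg Subtype.val hcc
        have := congrFun (congrFun hv 0) 0
        simp only [Matrix.smul_apply, Matrix.one_apply_eq, smul_eq_mul, mul_one] at this
        exact Subtype.ext this
  have hle := Nat.card_le_card_of_injective g hg
  rw [card_skew hK σ hσ, Finite.card_option] at hle
  change q - 1 ≤ Nat.card T
  omega

end Cfsg.Agent.Lib.helper72.SUO
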