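import Mathlib
import Cfsg.Agent.Lib.helper75.SUWSLTR

set_option autoImplicit false

namespace Cfsg.Agent.Lib.helper44.SUW

open Matrix

/-- `B†(c z z†)B` for `B = (A.map σ)ᵀ` is `c (A z)(A z)†`. -/
theorem h75_r1_conj {K : Type*} [Field K] {m : ℕ} (σ : K →+* K) (hσσ : ∀ x, σ (σ x) = x)
    (A : Matrix (Fin m) (Fin m) K) (c : K) (z : Fin m → K) :
    (((A.map σ)ᵀ).map σ)ᵀ * (c • Matrix.vecMulVec z (fun j => σ (z j))) * (A.map σ)ᵀ
      = c • Matrix.vecMulVec (A *ᵥ z) (fun j => σ ((A *ᵥ z) j)) := by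
  have hA : (((A.map σ)ᵀ).map σ)ᵀ = A := by
    ext i j
    simp [hσσ]
  rw [hA, Matrix.mul_smul, Matrix.smul_mul, Matrix.mul_vecMulVec, Matrix.vecMulVec_mul]
  congr 2
  funext j
  simp only [Matrix.vecMul, Matrix.mulVec, dotProduct, Matrix.transpose_apply, Matrix.map_apply,
    map_sum, map_mul]
  exact Finset.sum_congr rfl fun l _ => mul_comm _ _

/-- At most `q + 1` elements of norm one. -/
theorem h75_r1_norm_one {K : Type*} [Field K] [Fintype K] [DecidableEq K] {q : ℕ}
    (σ : K →+* K) (hσ : ∀ x, σ x = x ^ q) :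
    (Finset.univ.filter (fun ζ : K => ζ * σ ζ = 1)).card ≤ q + 1 := by
  have hsub : Finset.univ.filter (fun ζ : K => ζ * σ ζ = 1)
      ⊆ (Polynomial.nthRoots (q + 1) (1 : K)).toFinset := by
    intro ζ hζ
    rw [Finset.mem_filter] at hζ
    rw [Multiset.mem_toFinset, Polynomial.mem_nthRoots (Nat.succ_pos q)]
    rw [pow_succ', ← hσ]
    exact hζ.2
  calc (Finset.univ.filter (fun ζ : K => ζ * σ ζ = 1)).card
      ≤ (Polynomial.nthRoots (q + 1) (1 : K)).toFinset.card := Finset.card_le_card hsub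
    _ ≤ Multiset.card (Polynomial.nthRoots (q + 1) (1 : K)) := Multiset.toFinset_card_le _
    _ ≤ q + 1 := Polynomial.card_nthRoots _ _

/-- R1COUNT (L), spare copy. -/
theorem h75_rank_one_count {K : Type*} [Field K] [Fintype K] [DecidableEq K] {q m : ℕ}
    (hK : Fintype.card K = q ^ 2) (hm : 2 ≤ m) (σ : K →+* K) (hσ : ∀ x, σ x = x ^ q)
    (S : Set (Matrix (Fin m) (Fin m) K))
    (hstab : ∀ Y ∈ S, ∀ B : Matrix (Fin m) (Fin m) K, B.det = 1 → (B.map σ)ᵀ * Y * B ∈ S)
    (c : K) (z : Fin m → K) (hc : c ≠ 0) (hz : z ≠ 0)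
    (hmem : c • Matrix.vecMulVec z (fun j => σ (z j)) ∈ S) :
    (q ^ (m + m) - 1) / (q + 1) ≤ Nat.card S := by
  classical
  have hσσ : ∀ x, σ (σ x) = x := by
    intro x
    rw [hσ, hσ, ← pow_mul, ← sq, ← hK, FiniteField.pow_card]
  have hσinj : Function.Injective σ := σ.injective
  -- every `c w w†` with `w ≠ 0` lies in `S`
  have hall : ∀ w : Fin m → K, w ≠ 0 →
      c • Matrix.vecMulVec w (fun j => σ (w j)) ∈ S := by
    intro w hw
    obtain ⟨A, hA, hAz⟩ := sl_trans hm z w hz hw
    have hdet : ((A.map σ)ᵀ).det = 1 := by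
      rw [Matrix.det_transpose]
      have : (A.map σ).det = σ A.det := (RingHom.map_det σ A).symm
      rw [this, hA, map_one]
    have h := hstab _ hmem ((A.map σ)ᵀ) hdet
    rw [h75_r1_conj σ hσσ A c z, hAz] at h
    exact h
  -- counting
  set f : (Fin m → K) → Matrix (Fin m) (Fin m) K :=
    fun w => c • Matrix.vecMulVec w (fun j => σ (w j)) with hf
  set s : Finset (Fin m → K) := Finset.univ.filter (fun w => w ≠ 0) with hs
  have hfib : ∀ b ∈ s.image f, (s.filter (fun a => f a = b)).card ≤ q + 1 := by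
    intro b hb
    obtain ⟨w0, hw0s, rfl⟩ := Finset.mem_image.mp hb
    have hw0 : w0 ≠ 0 := (Finset.mem_filter.mp hw0s).2
    obtain ⟨j0, hj0⟩ : ∃ j, w0 j ≠ 0 := by
      by_contra h
      exact hw0 (funext fun i => by simpa using fun hne => h ⟨i, hne⟩)
    have hsub : s.filter (fun a => f a = f w0)
        ⊆ (Finset.univ.filter (fun ζ : K => ζ * σ ζ = 1)).image (fun ζ => ζ • w0) := by
      intro x hx
      rw [Finset.mem_filter] at hx
      have hfx : f x = f w0 := hx.2
      have hent : ∀ i j, x i * σ (x j) = w0 i * σ (w0 j) := by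
        intro i j
        have h1 := congrFun (congrFun hfx i) j
        simp only [hf, Matrix.smul_apply, Matrix.vecMulVec_apply, smul_eq_mul] at h1
        exact mul_left_cancel₀ hc h1
      have hσw : σ (w0 j0) ≠ 0 := fun h => hj0 (hσinj (by rw [h, map_zero]))
      have hxj : x j0 ≠ 0 := by
        intro h
        have h2 := hent j0 j0
        rw [h, zero_mul] at h2
        exact (mul_ne_zero hj0 hσw) h2.symm
      have hσx : σ (x j0) ≠ 0 := fun h => hxj (hσinj (by rw [h, map_zero]))
      rw [Finset.mem_image]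
      refine ⟨σ (w0 j0) / σ (x j0), ?_, ?_⟩
      · rw [Finset.mem_filter]
        refine ⟨Finset.mem_univ _, ?_⟩
        rw [map_div₀, hσσ, hσσ, div_mul_div_comm]
        have h2 := hent j0 j0
        rw [div_eq_one_iff_eq (mul_ne_zero hσx hxj)]
        rw [mul_comm (σ (w0 j0)), mul_comm (σ (x j0))]
        exact h2.symm
      · funext i
        have h2 := hent i j0
        simp only [Pi.smul_apply, smul_eq_mul]
        field_simp
        linear_combination -h2
    calc (s.filter (fun a => f a = f w0)).card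
        ≤ ((Finset.univ.filter (fun ζ : K => ζ * σ ζ = 1)).image (fun ζ => ζ • w0)).card :=
          Finset.card_le_card hsub
      _ ≤ (Finset.univ.filter (fun ζ : K => ζ * σ ζ = 1)).card := Finset.card_image_le
      _ ≤ q + 1 := h75_r1_norm_one σ hσ
  have hcard := Finset.card_le_mul_card_image s (q + 1) hfib
  have hscard : s.card = q ^ (m + m) - 1 := by
    have h1 : s = Finset.univ.erase (0 : Fin m → K) := by
      ext w
      simp [hs]
    rw [h1, Finset.card_erase_of_mem (Finset.mem_univ _), Finset.card_univ, Fintype.card_fun,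
      Fintype.card_fin, hK, ← pow_mul, two_mul]
  have himg : (s.image f).card ≤ Nat.card S := by
    have hsubS : ((s.image f : Finset (Matrix (Fin m) (Fin m) K)) : Set _) ⊆ S := by
      intro Y hY
      obtain ⟨w, hw, rfl⟩ := Finset.mem_image.mp (Finset.mem_coe.mp hY)
      exact hall w (Finset.mem_filter.mp hw).2
    have h1 := Set.ncard_le_ncard hsubS (Set.toFinite S)
    rw [Set.ncard_coe_finset] at h1
    rw [Nat.card_coe_set_eq]
    exact h1
  apply Nat.div_le_of_le_mul
  rw [← hscard]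
  exact hcard.trans (Nat.mul_le_mul_left _ himg)

end Cfsg.Agent.Lib.helper44.SUW
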