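import Mathlib
import Cfsg.Agent.Lib.helper24.SffDefs
import Cfsg.Agent.Lib.helper63.Elusive1
import Cfsg.Agent.Lib.helper63.Elusive4

/-!
# S5965 split project, piece A (core): `sff_suff_k` with the pieces PB and PC as hypotheses
-/

set_option autoImplicit false

namespace Cfsg.Agent.Lib.helper24

open Module Matrix Polynomial

/-- Core of piece A: the case `r = k`, with PB and PC as hypotheses. -/
theorem h75_sff_suff_k_core {F : Type*} [Field F] [Fintype F] (F₀ : Subfield F) {n : ℕ}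
    (hn : 0 < n) (r : ℕ) [Fact r.Prime] (hr2 : r ≠ 2)
    (hcard : Fintype.card F = (Nat.card F₀) ^ r)
    (hgapk : r ∣ Nat.card F₀ - 1 → padicValNat r n ≤ padicValNat r (Fintype.card F - 1))
    (hPB : ∀ y : Matrix (Fin n) (Fin n) F, y ^ r = 1 →
      ∃ P M₀ : Matrix (Fin n) (Fin n) F, P.det ≠ 0 ∧ (∀ i j, M₀ i j ∈ F₀) ∧ y * P = P * M₀)
    (hPC : ∀ y : Matrix (Fin n) (Fin n) F, y ^ r = 1 → ∀ t : F, t ≠ 0 →
      ∃ C : Matrix (Fin n) (Fin n) F, C * y = y * C ∧ C.det = t)
    (x : Matrix (Fin n) (Fin n) F) (hdet : x.det = 1) (z : F)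
    (hx : x ^ r = z • (1 : Matrix (Fin n) (Fin n) F)) : SffConj F₀ x := by
  classical
  have hr : r.Prime := Fact.out
  haveI : Nonempty (Fin n) := Fin.pos_iff_nonempty.mp hn
  have hz0 : z ≠ 0 := by
    rintro rfl
    have h1 : (x ^ r).det = 0 := by rw [hx, zero_smul, Matrix.det_zero]
    rw [Matrix.det_pow, hdet, one_pow] at h1
    exact one_ne_zero h1
  by_cases hzr : ∃ w : F, w ^ r = z
  · obtain ⟨w, hw⟩ := hzr
    have hw0 : w ≠ 0 := by
      rintro rfl
      rw [zero_pow hr.ne_zero] at hw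
      exact hz0 hw.symm
    have hy : (w⁻¹ • x) ^ r = 1 := by
      rw [_root_.smul_pow, hx, smul_smul, ← hw, inv_pow, inv_mul_cancel₀ (pow_ne_zero r hw0), one_smul]
    obtain ⟨P₁, M₀, hP₁, hM₀, hyP⟩ := hPB _ hy
    obtain ⟨C, hCy, hCdet⟩ := hPC _ hy (P₁.det)⁻¹ (inv_ne_zero hP₁)
    refine ⟨C * P₁, M₀, w, ?_, hw0, hM₀, ?_⟩
    · rw [Matrix.det_mul, hCdet, inv_mul_cancel₀ hP₁]
    · calc x * (C * P₁) = w • ((w⁻¹ • x) * C * P₁) := by
            rw [Matrix.smul_mul, Matrix.smul_mul, smul_smul, mul_inv_cancel₀ hw0, one_smul,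
              Matrix.mul_assoc]
        _ = w • (C * (w⁻¹ • x) * P₁) := by rw [hCy]
        _ = w • (C * (P₁ * M₀)) := by rw [Matrix.mul_assoc, hyP]
        _ = (C * P₁) * (w • M₀) := by rw [Matrix.mul_smul, Matrix.mul_assoc]
  · exfalso
    have hzr' : ∀ d : F, d ^ r ≠ z := fun d hd => hzr ⟨d, hd⟩
    have hq1 : r ∣ Fintype.card F - 1 := by
      by_contra hnd
      have hcop : Nat.Coprime r (Fintype.card F - 1) :=
        (Nat.Prime.coprime_iff_not_dvd hr).mpr hnd
      have hcop' : (Nat.card Fˣ).Coprime r := by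
        rw [Nat.card_eq_fintype_card, Fintype.card_units]
        exact hcop.symm
      obtain ⟨u, hu⟩ := (powCoprime hcop').surjective (Units.mk0 z hz0)
      rw [powCoprime_apply] at hu
      apply hzr' (u : F)
      have h1 := congrArg Units.val hu
      simpa using h1
    have hq₀ : r ∣ Nat.card F₀ - 1 := by
      have h1 : 1 ≤ Fintype.card F := Fintype.card_pos
      have h2 : ((Fintype.card F : ℕ) : ZMod r) = 1 := by
        have h3 := (Nat.modEq_iff_dvd' h1).mpr hq1
        have h4 := (ZMod.natCast_eq_natCast_iff _ _ _).mpr h3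
        rw [← h4]
        simp
      rw [hcard, Nat.cast_pow, ZMod.pow_card] at h2
      have h4 : 1 ≤ Nat.card F₀ := Nat.card_pos
      have h5 : (1 : ℕ) ≡ Nat.card F₀ [MOD r] := by
        apply (ZMod.natCast_eq_natCast_iff _ _ _).mp
        rw [h2]
        simp
      exact (Nat.modEq_iff_dvd' h4).mp h5
    have hv := hgapk hq₀
    have hirr : Irreducible (X ^ r - C z : F[X]) := X_pow_sub_C_irreducible_of_prime hr hzr'
    obtain ⟨k, hk, hdetk⟩ :=
      Cfsg.Agent.Lib.helper63.Elusive.det_of_pow_eq r hr.ne_zero z hirr x hx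
    rw [Fintype.card_fin] at hk hdetk
    have hk0 : k ≠ 0 := by
      rintro rfl
      omega
    exact Cfsg.Agent.Lib.helper63.Elusive.no_bad_scalar r hq1 z hzr' n k hk0 hk
      (by rw [← hdetk, hdet]) hv (fun h => absurd h hr2)

end Cfsg.Agent.Lib.helper24
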