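import Mathlib
import Cfsg.Agent.Lib.helper24.SffDefs
import Cfsg.Agent.Lib.helper75.SffAcore
import Cfsg.Agent.Lib.helper43.SffPA
import Cfsg.Agent.Lib.helper66.SffPB
import Cfsg.Agent.Lib.helper32.SffPC

/-!
# S5965 split project, piece A: `sff_suff_k` (assembly of PA, PB, PC and the core)
-/

set_option autoImplicit false

namespace Cfsg.Agent.Lib.helper24

open Module Matrix Polynomial

/-- A -/
theorem sff_suff_k {F : Type*} [Field F] [Fintype F] (F₀ : Subfield F) {n : ℕ} (hn : 0 < n)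
    (r : ℕ) [Fact r.Prime] (hr2 : r ≠ 2) (hrF : (r : F) ≠ 0)
    (hcard : Fintype.card F = (Nat.card F₀) ^ r)
    (hgapk : r ∣ Nat.card F₀ - 1 → padicValNat r n ≤ padicValNat r (Fintype.card F - 1))
    (x : Matrix (Fin n) (Fin n) F) (hdet : x.det = 1) (z : F)
    (hx : x ^ r = z • (1 : Matrix (Fin n) (Fin n) F)) : SffConj F₀ x :=
  h75_sff_suff_k_core F₀ hn r hr2 hcard hgapk
    (fun y hy => sff_basis_sub F₀ r hrF
      (fun g hg hi hd => sff_poly_coeff F₀ r hcard g hg hi hd) y hy)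
    (fun y hy t ht => sff_cent_det hn r hrF y hy t ht) x hdet z hx

end Cfsg.Agent.Lib.helper24
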