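import Mathlib
import Cfsg.Agent.Lib.helper75.SylGeom

/-!
Basic facts on a simple group with exactly 22 Sylow 3-subgroups (helper75).

* `card_eq_22_mul`: `|S| = 22 |N(P)|`.
* `orbCard_cases_22`: nontrivial orbits of a Sylow 3-subgroup have size 3 or 9.
* `eq_top_of_stabilizers_22`: a subgroup containing two distinct point stabilizers is everything.
* `invariant_set_eq_univ_22`: a nonempty set invariant under two distinct point stabilizers is
  everything.
* `sylNbr_count_22`, `sylNbr_type_22`: the number of points at "distance 3" is 21, 12 or 3.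
-/

set_option autoImplicit false

namespace Cfsg.Agent.Lib.helper75

open MulAction
open scoped Pointwise

section Syl22

variable {S : Type*} [Group S] [Finite S]

theorem card_eq_22_mul (h22 : Nat.card (Sylow 3 S) = 22) (P : Sylow 3 S) :
    Nat.card S = 22 * Nat.card (stabilizer S P) := by
  have h1 := Subgroup.card_mul_index (stabilizer S P)
  rw [MulAction.index_stabilizer_of_transitive, h22] at h1
  rw [← h1, mul_comm]

theorem orbCard_cases_22 (h22 : Nat.card (Sylow 3 S) = 22) (P Q : Sylow 3 S) (hQ : Q ≠ P) :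
    orbCard P Q = 3 ∨ orbCard P Q = 9 := by
  have hdvd : orbCard P Q ∣ Nat.card P := Dvd.intro _ (orbCard_mul P Q)
  obtain ⟨n, hn⟩ := IsPGroup.iff_card.mp P.2
  rw [hn] at hdvd
  obtain ⟨j, -, hj⟩ := (Nat.dvd_prime_pow Nat.prime_three).mp hdvd
  have hne1 : orbCard P Q ≠ 1 := fun h => hQ ((orbCard_eq_one_iff P Q).mp h)
  have hle : orbCard P Q ≤ 22 := by
    unfold orbCard
    have h1 := Set.ncard_le_ncard (Set.subset_univ (orbit (P : Subgroup S) Q)) (Set.toFinite _)
    rwa [Set.ncard_univ, h22] at h1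
  rw [hj] at hne1 hle ⊢
  rcases j with _ | _ | _ | j
  · exact absurd (pow_zero 3) hne1
  · left
    norm_num
  · right
    norm_num
  · exfalso
    have h3 : 3 ^ 3 ≤ 3 ^ (j + 1 + 1 + 1) := Nat.pow_le_pow_right (by norm_num) (by omega)
    omega

/-- Every Sylow subgroup is contained in its stabilizer. -/
theorem sylow_le_stabilizer (Q : Sylow 3 S) : (Q : Subgroup S) ≤ stabilizer S Q := by
  intro x hx
  rw [MulAction.mem_stabilizer_iff]
  exact (sylow_fixed_iff Q Q).mpr rfl x hx

variable [IsSimpleGroup S]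

/-- A subgroup containing the stabilizers of two distinct points is the whole group. -/
theorem eq_top_of_stabilizers_22 (h22 : Nat.card (Sylow 3 S) = 22) (P R : Sylow 3 S)
    (hne : P ≠ R) (W : Subgroup S) (hP : stabilizer S P ≤ W) (hR : stabilizer S R ≤ W) :
    W = ⊤ := by
  have hidx : (stabilizer S P).index = 22 := by
    rw [MulAction.index_stabilizer_of_transitive, h22]
  have hmul := Subgroup.relIndex_mul_index hP
  rw [hidx] at hmul
  have hcardS := card_eq_22_mul h22 P
  have hdvd : W.index ∣ 22 := Dvd.intro_left _ hmul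
  have hle : W.index ≤ 22 := Nat.le_of_dvd (by norm_num) hdvd
  have hcases : W.index = 1 ∨ W.index = 2 ∨ W.index = 11 ∨ W.index = 22 := by
    have hpos : 0 < W.index := Nat.pos_of_dvd_of_pos hdvd (by norm_num)
    interval_cases h : W.index <;> omega
  rcases hcases with h | h | h | h
  · exact Subgroup.index_eq_one.mp h
  · exfalso
    have hnorm : W.Normal := Subgroup.normal_of_index_eq_two h
    rcases hnorm.eq_bot_or_eq_top with hb | ht
    · rw [hb, Subgroup.index_bot] at h
      have hpos : 0 < Nat.card (stabilizer S P) := Nat.card_pos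
      omega
    · rw [ht, Subgroup.index_top] at h
      omega
  · exfalso
    rw [h] at hmul
    have hrel : (stabilizer S P).relIndex W = 2 := by omega
    have hnorm : ((stabilizer S P).subgroupOf W).Normal := Subgroup.normal_of_index_eq_two hrel
    have hWle : W ≤ stabilizer S P := by
      intro w hw
      rw [MulAction.mem_stabilizer_iff]
      refine ((sylow_fixed_iff (w • P) P).mp ?_).symm
      intro g hg
      rw [sylow_mem_smul_iff] at hg
      have hx : w⁻¹ * g * w ∈ stabilizer S P := sylow_le_stabilizer P hg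
      have hxW : w⁻¹ * g * w ∈ W := hP hx
      have h1 := hnorm.conj_mem ⟨w⁻¹ * g * w, hxW⟩
        (by rw [Subgroup.mem_subgroupOf]; exact hx) ⟨w, hw⟩
      rw [Subgroup.mem_subgroupOf] at h1
      have e : w * (w⁻¹ * g * w) * w⁻¹ = g := by group
      have h2 : g ∈ stabilizer S P := by
        have h3 : ((⟨w, hw⟩ * ⟨w⁻¹ * g * w, hxW⟩ * (⟨w, hw⟩ : W)⁻¹ : W) : S) = g := e
        rw [← h3]
        exact h1
      exact MulAction.mem_stabilizer_iff.mp h2
    have h4 := Subgroup.relIndex_eq_one.mpr hWle
    omega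
  · exfalso
    rw [h] at hmul
    have hrel : (stabilizer S P).relIndex W = 1 := by omega
    have hWle : W ≤ stabilizer S P := Subgroup.relIndex_eq_one.mp hrel
    apply hne
    rw [← sylow_fixed_iff R P]
    intro g hg
    exact MulAction.mem_stabilizer_iff.mp (hWle (hR (sylow_le_stabilizer R hg)))

/-- A nonempty set of points invariant under the stabilizers of two distinct points is everything. -/
theorem invariant_set_eq_univ_22 (h22 : Nat.card (Sylow 3 S) = 22) (P R : Sylow 3 S)
    (hne : P ≠ R) (B : Set (Sylow 3 S)) (hB : B.Nonempty)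
    (hP : ∀ g : S, g • P = P → ∀ x ∈ B, g • x ∈ B)
    (hR : ∀ g : S, g • R = R → ∀ x ∈ B, g • x ∈ B) : B = Set.univ := by
  let W : Subgroup S :=
    { carrier := {g | ∀ x, x ∈ B ↔ g • x ∈ B}
      one_mem' := by
        intro x
        rw [one_smul]
      mul_mem' := by
        intro a b ha hb x
        rw [mul_smul, ← ha (b • x), ← hb x]
      inv_mem' := by
        intro a ha x
        have h1 := ha (a⁻¹ • x)
        rw [smul_inv_smul] at h1
        exact h1.symm }
  have hstab : ∀ Q : Sylow 3 S, (∀ g : S, g • Q = Q → ∀ x ∈ B, g • x ∈ B) →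
      stabilizer S Q ≤ W := by
    intro Q hQ g hg x
    rw [MulAction.mem_stabilizer_iff] at hg
    constructor
    · exact hQ g hg x
    · intro hx
      have hg' : g⁻¹ • Q = Q := by rw [inv_smul_eq_iff, hg]
      have h1 := hQ g⁻¹ hg' _ hx
      rwa [inv_smul_smul] at h1
  have hW : W = ⊤ := eq_top_of_stabilizers_22 h22 P R hne W (hstab P hP) (hstab R hR)
  obtain ⟨b, hb⟩ := hB
  rw [Set.eq_univ_iff_forall]
  intro y
  obtain ⟨g, rfl⟩ := MulAction.exists_smul_eq S b y
  have hg : g ∈ W := by
    rw [hW]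
    trivial
  exact (hg b).mp hb

omit [IsSimpleGroup S] in
theorem sylNbr_count_22 (h22 : Nat.card (Sylow 3 S) = 22) (P : Sylow 3 S) :
    (sylNbr 3 P).ncard + (sylNbr 9 P).ncard = 21 := by
  have hdisj : Disjoint (sylNbr 3 P) (sylNbr 9 P) := by
    rw [Set.disjoint_left]
    intro Q h3 h9
    have h3' : orbCard P Q = 3 := h3
    have h9' : orbCard P Q = 9 := h9
    omega
  have hun : sylNbr 3 P ∪ sylNbr 9 P = Set.univ \ {P} := by
    ext Q
    constructor
    · rintro (h | h)
      · refine ⟨trivial, ?_⟩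
        intro hQP
        have h' : orbCard P Q = 3 := h
        rw [(orbCard_eq_one_iff P Q).mpr hQP] at h'
        omega
      · refine ⟨trivial, ?_⟩
        intro hQP
        have h' : orbCard P Q = 9 := h
        rw [(orbCard_eq_one_iff P Q).mpr hQP] at h'
        omega
    · rintro ⟨-, hQ⟩
      rcases orbCard_cases_22 h22 P Q hQ with h | h
      · left
        exact h
      · right
        exact h
  rw [← Set.ncard_union_eq hdisj (Set.toFinite _) (Set.toFinite _), hun,
    Set.ncard_sdiff_singleton_of_mem (Set.mem_univ P), Set.ncard_univ, h22]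

omit [IsSimpleGroup S] in
theorem sylNbr_type_22 (h22 : Nat.card (Sylow 3 S) = 22) (P : Sylow 3 S) :
    (sylNbr 3 P).ncard = 21 ∨ (sylNbr 3 P).ncard = 12 ∨ (sylNbr 3 P).ncard = 3 := by
  have h1 := sylNbr_count_22 h22 P
  obtain ⟨a, ha⟩ := dvd_sylNbr_ncard 3 P
  obtain ⟨b, hb⟩ := dvd_sylNbr_ncard 9 P
  omega

omit [IsSimpleGroup S] in
theorem orbCard_three_of_type_a (h22 : Nat.card (Sylow 3 S) = 22) (P : Sylow 3 S)
    (h : (sylNbr 3 P).ncard = 21) (Q : Sylow 3 S) (hQ : Q ≠ P) : orbCard P Q = 3 := by
  rcases orbCard_cases_22 h22 P Q hQ with h3 | h9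
  · exact h3
  · exfalso
    have h1 := sylNbr_count_22 h22 P
    have h0 : (sylNbr 9 P).ncard = 0 := by omega
    rw [Set.ncard_eq_zero (Set.toFinite _)] at h0
    have hmem : Q ∈ sylNbr 9 P := h9
    rw [h0] at hmem
    exact hmem

omit [IsSimpleGroup S] in
theorem self_not_mem_sylNbr (c : ℕ) (hc : c ≠ 1) (P : Sylow 3 S) : P ∉ sylNbr c P := by
  intro h
  have h' : orbCard P P = c := h
  rw [(orbCard_eq_one_iff P P).mpr rfl] at h'
  exact hc h'.symm

omit [IsSimpleGroup S] in
theorem ne_of_orbCard (c : ℕ) (hc : c ≠ 1) (P Q : Sylow 3 S) (h : orbCard P Q = c) : Q ≠ P := by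
  intro hQP
  rw [(orbCard_eq_one_iff P Q).mpr hQP] at h
  exact hc h.symm

end Syl22

end Cfsg.Agent.Lib.helper75
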