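import Mathlib
import Cfsg.Agent.Lib.helper75.Syl22Basic

/-!
A simple group with exactly 22 Sylow 3-subgroups: the cases where a Sylow 3-subgroup `P` has
exactly one orbit of size 3 (`no_type_c_22`), or only orbits of size 3 and `|P| ≠ 3`
(`no_type_a_22`) (helper75).

In the second case the Sylow subgroups containing a fixed intersection `D = P ∩ Q` form a "line";
a point off the line sees its points in different directions, so lines have at most 7 points and
some point `R₁` has all its lines of size 4.  A Sylow 2-subgroup of `N(R₁)` fixes a second point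
`Y`, normalizes `D = R₁ ∩ Y`, and `N(D)` is transitive on the 4 points of the line: the 2-part of
the group order is too large.
-/

set_option autoImplicit false

namespace Cfsg.Agent.Lib.helper75

open MulAction
open scoped Pointwise

section Lines

variable {S : Type*} [Group S] [Finite S] [IsSimpleGroup S]

/-- Type (c): exactly one orbit of size 3. -/
theorem no_type_c_22 (h22 : Nat.card (Sylow 3 S) = 22)
    (hc : ∀ P : Sylow 3 S, (sylNbr 3 P).ncard = 3) : False := by
  obtain ⟨P⟩ : Nonempty (Sylow 3 S) := inferInstance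
  have h1 := sylNbr_count_22 h22 P
  rw [hc P] at h1
  have h9 : (sylNbr 9 P).ncard = 18 := by omega
  have hne3 : (sylNbr 3 P).Nonempty := by
    rw [← Set.ncard_pos (Set.toFinite _), hc P]
    norm_num
  obtain ⟨Q, hQ⟩ := hne3
  have hQ3 : orbCard P Q = 3 := hQ
  have hQP : Q ≠ P := ne_of_orbCard 3 (by norm_num) P Q hQ3
  have horb : ∀ (P Q : Sylow 3 S), orbCard P Q = 3 → sylNbr 3 P = orbit (P : Subgroup S) Q := by
    intro P Q hQ3
    symm
    apply Set.eq_of_subset_of_ncard_le
    · intro R hR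
      show orbCard P R = 3
      rw [orbCard_of_mem_orbit P Q R hR]
      exact hQ3
    · rw [hc P]
      exact le_of_eq hQ3.symm
    · exact Set.toFinite _
  have hnorm : ∀ (P Q : Sylow 3 S), orbCard P Q = 3 → ∀ g : S, g • P = P →
      g ∈ Subgroup.normalizer ((((P : Subgroup S) ⊓ (Q : Subgroup S)) : Subgroup S) : Set S) := by
    intro P Q hQ3 g hg
    apply mem_normalizer_inf g P Q hg
    apply inf_eq_of_mem_orbit P Q (g • Q) hQ3
    rw [← horb P Q hQ3]
    exact sylNbr_invariant 3 g P hg Q hQ3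
  have hW := eq_top_of_stabilizers_22 h22 P Q (Ne.symm hQP)
    (Subgroup.normalizer ((((P : Subgroup S) ⊓ (Q : Subgroup S)) : Subgroup S) : Set S))
    (fun g hg => hnorm P Q hQ3 g (MulAction.mem_stabilizer_iff.mp hg))
    (fun g hg => by
      have h2 := hnorm Q P (by rw [orbCard_symm]; exact hQ3) g (MulAction.mem_stabilizer_iff.mp hg)
      rwa [inf_comm] at h2)
  have hD : ((P : Subgroup S) ⊓ (Q : Subgroup S)).Normal := Subgroup.normalizer_eq_top_iff.mp hW
  have hmul := orbCard_mul P Q
  rw [hQ3] at hmul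
  rcases hD.eq_bot_or_eq_top with hb | ht
  · rw [hb, Subgroup.card_bot] at hmul
    have hne9 : (sylNbr 9 P).Nonempty := by
      rw [← Set.ncard_pos (Set.toFinite _), h9]
      norm_num
    obtain ⟨Q', hQ'⟩ := hne9
    have hQ'9 : orbCard P Q' = 9 := hQ'
    have h3 := orbCard_mul P Q'
    rw [hQ'9, ← hmul] at h3
    have hpos : 0 < Nat.card ((P : Subgroup S) ⊓ (Q' : Subgroup S) : Subgroup S) := Nat.card_pos
    omega
  · rw [ht, Subgroup.card_top] at hmul
    have h3 := Subgroup.card_subgroup_dvd_card (P : Subgroup S)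
    have hle := Nat.le_of_dvd Nat.card_pos h3
    have hpos : 0 < Nat.card S := Nat.card_pos
    omega

/-- All lines through `R` consist of `R` and a single `R`-orbit. -/
def SylInjAt (R : Sylow 3 S) : Prop :=
  ∀ Y Y' : Sylow 3 S, Y ≠ R → Y' ≠ R →
    (R : Subgroup S) ⊓ (Y : Subgroup S) = (R : Subgroup S) ⊓ (Y' : Subgroup S) →
    Y' ∈ orbit (R : Subgroup S) Y

/-- Type (a): all orbits have size 3, and the Sylow 3-subgroups do not have order 3. -/
theorem no_type_a_22 (h22 : Nat.card (Sylow 3 S) = 22)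
    (ha : ∀ P Q : Sylow 3 S, Q ≠ P → orbCard P Q = 3)
    (hP3 : ∀ P : Sylow 3 S, Nat.card P ≠ 3) : False := by
  classical
  have hcardEq : ∀ P Q : Sylow 3 S, Nat.card P = Nat.card Q := fun P Q => by
    rw [P.card_eq_multiplicity, Q.card_eq_multiplicity]
  have hinfcard : ∀ P Q : Sylow 3 S, Q ≠ P →
      3 * Nat.card ((P : Subgroup S) ⊓ (Q : Subgroup S) : Subgroup S) = Nat.card P := by
    intro P Q hQ
    have h1 := orbCard_mul P Q
    rw [ha P Q hQ] at h1
    exact h1
  have hn1 : Nat.card (Sylow 3 S) ≠ 1 := by omega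
  have hinfne : ∀ P Q : Sylow 3 S, Q ≠ P → (P : Subgroup S) ⊓ (Q : Subgroup S) ≠ ⊥ := by
    intro P Q hQ hb
    have h1 := hinfcard P Q hQ
    rw [hb, Subgroup.card_bot] at h1
    exact hP3 P h1.symm
  -- a point off a line sees the points of the line in different directions
  have key3 : ∀ (D : Subgroup S) (R₀ X X' : Sylow 3 S), 3 * Nat.card D = Nat.card X →
      ¬ D ≤ (R₀ : Subgroup S) → D ≤ (X : Subgroup S) → D ≤ (X' : Subgroup S) →
      (R₀ : Subgroup S) ⊓ (X : Subgroup S) = (R₀ : Subgroup S) ⊓ (X' : Subgroup S) → X = X' := by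
    intro D R₀ X X' hDc hR₀ hX hX' hE
    by_contra hne
    have hXX' := (orbCard_eq_of_le X X' D hX hX' hDc (Ne.symm hne)).2
    have hXR₀ : X ≠ R₀ := by
      rintro rfl
      exact hR₀ hX
    have hEle : (R₀ : Subgroup S) ⊓ (X : Subgroup S) ≤ D := by
      rw [← hXX']
      exact le_inf inf_le_right (hE ▸ inf_le_right)
    have hEc := hinfcard R₀ X hXR₀
    have hEq : (R₀ : Subgroup S) ⊓ (X : Subgroup S) = D := by
      apply Subgroup.eq_of_le_of_card_ge hEle
      have h1 := hcardEq R₀ X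
      omega
    apply hR₀
    rw [← hEq]
    exact inf_le_left
  -- lines have at most 7 points
  have key4 : ∀ (D : Subgroup S) (X : Sylow 3 S), 3 * Nat.card D = Nat.card X →
      D ≤ (X : Subgroup S) → D ≠ ⊥ →
      ∃ R₀ : Sylow 3 S, {R : Sylow 3 S | D ≤ (R : Subgroup S)}.ncard ≤ 7 ∧
      ({R : Sylow 3 S | D ≤ (R : Subgroup S)}.ncard = 7 → SylInjAt R₀) := by
    intro D X hDc hDX hDne
    have hex : ∃ R₀ : Sylow 3 S, ¬ D ≤ (R₀ : Subgroup S) := by
      by_contra hcon
      apply hDne
      apply sylow_core_trivial (p := 3) hn1 D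
      intro R
      by_contra hR
      exact hcon ⟨R, hR⟩
    obtain ⟨R₀, hR₀⟩ := hex
    refine ⟨R₀, ?_⟩
    obtain ⟨s, hs⟩ : ∃ s : Finset (Sylow 3 S),
        s = (Set.toFinite {R : Sylow 3 S | D ≤ (R : Subgroup S)}).toFinset := ⟨_, rfl⟩
    have hsmem : ∀ Z : Sylow 3 S, Z ∈ s ↔ D ≤ (Z : Subgroup S) := by
      intro Z
      rw [hs, Set.Finite.mem_toFinset]
      rfl
    have hscard : s.card = {R : Sylow 3 S | D ≤ (R : Subgroup S)}.ncard := by
      rw [hs, ← Set.ncard_eq_toFinset_card]
    have hsne : ∀ Z ∈ s, Z ≠ R₀ := by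
      intro Z hZ hZR
      rw [hZR] at hZ
      exact hR₀ ((hsmem R₀).mp hZ)
    have hsinj : ∀ Z ∈ s, ∀ Z' ∈ s, (R₀ : Subgroup S) ⊓ (Z : Subgroup S) =
        (R₀ : Subgroup S) ⊓ (Z' : Subgroup S) → Z = Z' := by
      intro Z hZ Z' hZ' hE
      exact key3 D R₀ Z Z' (by rw [hDc]; exact hcardEq X Z) hR₀ ((hsmem Z).mp hZ)
        ((hsmem Z').mp hZ') hE
    have hU := orbit_union_le R₀ s (fun Z hZ => ha R₀ Z (hsne Z hZ)) hsinj
    have h21 : {Q : Sylow 3 S | orbCard R₀ Q = 3}.ncard ≤ 21 := by
      have h1 := sylNbr_count_22 h22 R₀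
      have h2 : {Q : Sylow 3 S | orbCard R₀ Q = 3}.ncard = (sylNbr 3 R₀).ncard := rfl
      omega
    have hU1 := hU.1
    rw [← hscard]
    refine ⟨by omega, ?_⟩
    intro h7
    have hcover := hU.2 (by omega)
    intro Y Y' hY hY' hE
    obtain ⟨Z, hZ, hYZ⟩ := hcover Y (ha R₀ Y hY)
    obtain ⟨Z', hZ', hYZ'⟩ := hcover Y' (ha R₀ Y' hY')
    have e1 := inf_eq_of_mem_orbit R₀ Z Y (ha R₀ Z (hsne Z hZ)) hYZ
    have e2 := inf_eq_of_mem_orbit R₀ Z' Y' (ha R₀ Z' (hsne Z' hZ')) hYZ'
    have hZZ' : Z = Z' := hsinj Z hZ Z' hZ' (by rw [← e1, ← e2, hE])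
    rw [← hZZ'] at hYZ'
    rw [MulAction.orbit_eq_iff.mpr hYZ]
    exact hYZ'
  -- some point has all lines of size 4
  have key5 : ∃ R₁ : Sylow 3 S, SylInjAt R₁ := by
    obtain ⟨P⟩ : Nonempty (Sylow 3 S) := inferInstance
    by_cases hinj : SylInjAt P
    · exact ⟨P, hinj⟩
    · unfold SylInjAt at hinj
      rw [not_forall] at hinj
      obtain ⟨Y, hinj⟩ := hinj
      rw [not_forall] at hinj
      obtain ⟨Y', hinj⟩ := hinj
      rw [Classical.not_imp] at hinj
      obtain ⟨hY, hinj⟩ := hinj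
      rw [Classical.not_imp] at hinj
      obtain ⟨hY', hinj⟩ := hinj
      rw [Classical.not_imp] at hinj
      obtain ⟨hE, hnot⟩ := hinj
      obtain ⟨D, hD⟩ : ∃ D : Subgroup S, D = (P : Subgroup S) ⊓ (Y : Subgroup S) := ⟨_, rfl⟩
      have hDP : D ≤ (P : Subgroup S) := by
        rw [hD]
        exact inf_le_left
      obtain ⟨R₀, hle, h7⟩ := key4 D P (by rw [hD]; exact hinfcard P Y hY) hDP
        (by rw [hD]; exact hinfne P Y hY)
      refine ⟨R₀, h7 ?_⟩
      apply le_antisymm hle
      have hA : (⋃ Z ∈ ({Y, Y'} : Finset (Sylow 3 S)), orbit (P : Subgroup S) Z).ncard =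
          3 * ({Y, Y'} : Finset (Sylow 3 S)).card :=
        ncard_biUnion_orbit (P : Subgroup S) 3 {Y, Y'} (by
          intro Z hZ
          rw [Finset.mem_insert, Finset.mem_singleton] at hZ
          rcases hZ with rfl | rfl
          · exact ha P _ hY
          · exact ha P _ hY') (by
          intro Z hZ Z' hZ' hmem
          rw [Finset.mem_insert, Finset.mem_singleton] at hZ hZ'
          rcases hZ with rfl | rfl <;> rcases hZ' with rfl | rfl
          · rfl
          · exact absurd hmem hnot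
          · exfalso
            apply hnot
            have e := MulAction.orbit_eq_iff.mpr hmem
            rw [e]
            exact mem_orbit_self _
          · rfl)
      have hYY' : Y ≠ Y' := by
        rintro rfl
        exact hnot (mem_orbit_self _)
      rw [Finset.card_pair hYY'] at hA
      have hPnot : P ∉ (⋃ Z ∈ ({Y, Y'} : Finset (Sylow 3 S)), orbit (P : Subgroup S) Z) := by
        intro hmem
        simp only [Set.mem_iUnion] at hmem
        obtain ⟨Z, hZ, hmem⟩ := hmem
        rw [Finset.mem_insert, Finset.mem_singleton] at hZ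
        rcases hZ with rfl | rfl
        · exact self_not_mem_orbit P _ hY hmem
        · exact self_not_mem_orbit P _ hY' hmem
      have hsub : insert P (⋃ Z ∈ ({Y, Y'} : Finset (Sylow 3 S)), orbit (P : Subgroup S) Z) ⊆
          {R : Sylow 3 S | D ≤ (R : Subgroup S)} := by
        intro R hR
        show D ≤ (R : Subgroup S)
        rcases hR with rfl | hR
        · exact hDP
        · simp only [Set.mem_iUnion] at hR
          obtain ⟨Z, hZ, hmem⟩ := hR
          rw [Finset.mem_insert, Finset.mem_singleton] at hZ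
          rcases hZ with rfl | rfl
          · rw [hD, ← inf_eq_of_mem_orbit P _ R (ha P _ hY) hmem]
            exact inf_le_right
          · rw [hD, hE, ← inf_eq_of_mem_orbit P _ R (ha P _ hY') hmem]
            exact inf_le_right
      have h1 := Set.ncard_le_ncard hsub (Set.toFinite _)
      rw [Set.ncard_insert_of_notMem hPnot (Set.toFinite _), hA] at h1
      omega
  -- the final count at `R₁`
  obtain ⟨R₁, hinjR⟩ := key5
  obtain ⟨T⟩ : Nonempty (Sylow 2 (stabilizer S R₁)) := inferInstance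
  obtain ⟨T', hT'⟩ : ∃ T' : Subgroup S,
      T' = (T : Subgroup (stabilizer S R₁)).map (stabilizer S R₁).subtype := ⟨_, rfl⟩
  have hT'card : Nat.card T' = Nat.card T := by
    rw [hT']
    exact Subgroup.card_map_of_injective (Subgroup.subtype_injective _)
  have hT'p : IsPGroup 2 T' := by
    rw [hT']
    exact T.2.map _
  have hT'fix : ∀ t ∈ T', t • R₁ = R₁ := by
    rw [hT']
    rintro _ ⟨t, -, rfl⟩
    exact MulAction.mem_stabilizer_iff.mp t.2
  have hmod := hT'p.card_modEq_card_fixedPoints (Sylow 3 S)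
  rw [h22] at hmod
  have hex : ∃ Y : Sylow 3 S, Y ≠ R₁ ∧ ∀ t ∈ T', t • Y = Y := by
    by_contra hcon
    have hone : Nat.card (fixedPoints T' (Sylow 3 S)) = 1 := by
      rw [Nat.card_eq_one_iff_unique]
      refine ⟨⟨?_⟩, ⟨⟨R₁, fun t => hT'fix t.1 t.2⟩⟩⟩
      have hall : ∀ a : Sylow 3 S, a ∈ fixedPoints T' (Sylow 3 S) → a = R₁ := by
        intro a ha'
        by_contra hne
        exact hcon ⟨a, hne, fun t ht => ha' ⟨t, ht⟩⟩
      rintro ⟨a, ha'⟩ ⟨b, hb'⟩
      exact Subtype.ext ((hall a ha').trans (hall b hb').symm)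
    rw [hone] at hmod
    unfold Nat.ModEq at hmod
    omega
  obtain ⟨Y, hYR, hYfix⟩ := hex
  have hD3 := hinfcard R₁ Y hYR
  have hTN : T' ≤ Subgroup.normalizer
      ((((R₁ : Subgroup S) ⊓ (Y : Subgroup S)) : Subgroup S) : Set S) := by
    intro t ht
    apply mem_normalizer_inf t R₁ Y (hT'fix t ht)
    rw [hYfix t ht]
  have hline := line_eq_orbit ((R₁ : Subgroup S) ⊓ (Y : Subgroup S)) R₁ inf_le_left hD3
  have hline2 : {R : Sylow 3 S | (R₁ : Subgroup S) ⊓ (Y : Subgroup S) ≤ (R : Subgroup S)} =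
      insert R₁ (orbit (R₁ : Subgroup S) Y) := by
    ext X
    constructor
    · intro hX
      by_cases hXR : X = R₁
      · left
        exact hXR
      · right
        have h1 := (orbCard_eq_of_le R₁ X _ inf_le_left hX hD3 hXR).2
        exact hinjR Y X hYR hXR h1.symm
    · rintro (hXR | hX)
      · rw [hXR]
        show (R₁ : Subgroup S) ⊓ (Y : Subgroup S) ≤ (R₁ : Subgroup S)
        exact inf_le_left
      · show (R₁ : Subgroup S) ⊓ (Y : Subgroup S) ≤ (X : Subgroup S)
        rw [← inf_eq_of_mem_orbit R₁ Y X (ha R₁ Y hYR) hX]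
        exact inf_le_right
  have hncard : (orbit (Subgroup.normalizer
      ((((R₁ : Subgroup S) ⊓ (Y : Subgroup S)) : Subgroup S) : Set S)) R₁).ncard = 4 := by
    rw [hline, hline2, Set.ncard_insert_of_notMem (self_not_mem_orbit R₁ Y hYR) (Set.toFinite _)]
    have h3 : (orbit (R₁ : Subgroup S) Y).ncard = 3 := ha R₁ Y hYR
    rw [h3]
  have hdvd := orbit_card_mul_dvd (Subgroup.normalizer
    ((((R₁ : Subgroup S) ⊓ (Y : Subgroup S)) : Subgroup S) : Set S)) T' R₁ hTN hT'fix
  rw [hncard, hT'card, card_eq_22_mul h22 R₁] at hdvd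
  have hidx := Subgroup.card_mul_index (T : Subgroup (stabilizer S R₁))
  have hodd := T.not_dvd_index
  rw [← hidx] at hdvd
  obtain ⟨k, hk⟩ := hdvd
  have hTpos : 0 < Nat.card T := Nat.card_pos
  have h2 : 22 * (T : Subgroup (stabilizer S R₁)).index = 4 * k := by
    have h3 : Nat.card T * (22 * (T : Subgroup (stabilizer S R₁)).index) =
        Nat.card T * (4 * k) := by
      calc Nat.card T * (22 * (T : Subgroup (stabilizer S R₁)).index)
          = 22 * (Nat.card T * (T : Subgroup (stabilizer S R₁)).index) := by ring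
        _ = 4 * Nat.card T * k := hk
        _ = Nat.card T * (4 * k) := by ring
    exact Nat.eq_of_mul_eq_mul_left hTpos h3
  exact hodd (by omega)

end Lines

end Cfsg.Agent.Lib.helper75
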