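import Mathlib
import Cfsg.Agent.Lib.helper75.Syl22Basic

/-!
No simple group has exactly 22 Sylow 3-subgroups of order 3 (helper75).

Fixed-point counting on the 22 Sylow subgroups: an involution centralizing a Sylow 3-subgroup
would fix 10 points with centralizer transitive on them, giving an element of order 5; an element
of order 5 fixes 7 points with centralizer transitive on them, giving a commuting element of order
7, which fixes exactly one point: contradiction.  Hence `|N(P)|` divides 42, and a Sylow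
11-subgroup is central in its normalizer, contradicting Burnside's transfer theorem.
-/

set_option autoImplicit false

namespace Cfsg.Agent.Lib.helper75

open MulAction
open scoped Pointwise

section Three

variable {S : Type*} [Group S] [Finite S]

/-- If `g` normalizes a Sylow 3-subgroup `R` of order 3 then `g ^ 2` centralizes it. -/
theorem sq_mem_centralizer_of_card_three (R : Sylow 3 S) (hR : Nat.card R = 3) (g : S)
    (hg : g • R = R) : g ^ 2 ∈ Subgroup.centralizer ((R : Subgroup S) : Set S) := by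
  have hgN : g ∈ Subgroup.normalizer ((R : Subgroup S) : Set S) :=
    Sylow.smul_eq_iff_mem_normalizer.mp hg
  have hcyc : IsCyclic (R : Subgroup S) := isCyclic_of_prime_card hR
  have hrel := relIndex_centralizer_normalizer_dvd (R : Subgroup S)
  rw [IsCyclic.card_mulAut, hR, Nat.totient_prime Nat.prime_three] at hrel
  have hnorm : ((Subgroup.centralizer ((R : Subgroup S) : Set S)).subgroupOf
      (Subgroup.normalizer ((R : Subgroup S) : Set S))).Normal := by
    rw [← Subgroup.normalizerMonoidHom_ker]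
    infer_instance
  have hpow := Subgroup.pow_index_mem ((Subgroup.centralizer ((R : Subgroup S) : Set S)).subgroupOf
      (Subgroup.normalizer ((R : Subgroup S) : Set S)))
      (⟨g, hgN⟩ : Subgroup.normalizer ((R : Subgroup S) : Set S))
  rw [Subgroup.mem_subgroupOf] at hpow
  have hpow' : g ^ (Subgroup.centralizer ((R : Subgroup S) : Set S)).relIndex
      (Subgroup.normalizer ((R : Subgroup S) : Set S)) ∈
      Subgroup.centralizer ((R : Subgroup S) : Set S) := hpow
  rcases (Nat.dvd_prime Nat.prime_two).mp hrel with h1 | h2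
  · rw [h1, pow_one] at hpow'
    exact pow_mem hpow' 2
  · rw [h2] at hpow'
    exact hpow'

/-- An element of odd order normalizing a Sylow 3-subgroup of order 3 centralizes it. -/
theorem mem_centralizer_of_odd_order (R : Sylow 3 S) (hR : Nat.card R = 3) (g : S)
    (hg : g • R = R) (hodd : Nat.Coprime 2 (orderOf g)) :
    g ∈ Subgroup.centralizer ((R : Subgroup S) : Set S) := by
  obtain ⟨m, hm⟩ := exists_pow_eq_self_of_coprime hodd
  rw [← hm]
  exact pow_mem (sq_mem_centralizer_of_card_three R hR g hg) m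

theorem fixed_modEq_three_of_odd (hR3 : ∀ R : Sylow 3 S, Nat.card R = 3) (x : S)
    (hodd : Nat.Coprime 2 (orderOf x)) (R : Sylow 3 S) (hxR : x • R = R) :
    Nat.card {ω : Sylow 3 S // x • ω = ω} ≡ 1 [MOD 3] :=
  card_fixed_centralizer_modEq R x (mem_centralizer_of_odd_order R (hR3 R) x hxR hodd)

variable [IsSimpleGroup S]

theorem fixed_lt_22 (h22 : Nat.card (Sylow 3 S) = 22) (x : S) (hx : x ≠ 1) :
    Nat.card {ω : Sylow 3 S // x • ω = ω} < 22 := by
  by_contra hcon
  apply hx
  apply sylow_faithful (p := 3) (by omega) x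
  intro R
  by_contra hR
  have hlt := Finite.card_subtype_lt (p := fun ω : Sylow 3 S => x • ω = ω) hR
  omega

/-- An element of order 7 fixes exactly one Sylow 3-subgroup. -/
theorem fixed_seven_22 (h22 : Nat.card (Sylow 3 S) = 22)
    (hR3 : ∀ R : Sylow 3 S, Nat.card R = 3) (w : S) (hw : orderOf w = 7) :
    Nat.card {ω : Sylow 3 S // w • ω = ω} = 1 := by
  have : Fact (Nat.Prime 7) := ⟨by norm_num⟩
  have hmod := card_fixed_modEq (Sylow 3 S) w 7 hw
  rw [h22] at hmod
  have hw1 : w ≠ 1 := by
    rintro rfl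
    rw [orderOf_one] at hw
    omega
  have hlt := fixed_lt_22 h22 w hw1
  have hpos : 0 < Nat.card {ω : Sylow 3 S // w • ω = ω} := by
    unfold Nat.ModEq at hmod
    omega
  obtain ⟨⟨R, hR⟩⟩ := (Nat.card_pos_iff.mp hpos).1
  have h3 := fixed_modEq_three_of_odd hR3 w (by rw [hw]; norm_num) R hR
  unfold Nat.ModEq at hmod h3
  omega

/-- There are no elements of order 5. -/
theorem no_order_five_22 (h22 : Nat.card (Sylow 3 S) = 22)
    (hR3 : ∀ R : Sylow 3 S, Nat.card R = 3) (y : S) (hy : orderOf y = 5) : False := by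
  have : Fact (Nat.Prime 5) := ⟨by norm_num⟩
  have : Fact (Nat.Prime 7) := ⟨by norm_num⟩
  have hmod := card_fixed_modEq (Sylow 3 S) y 5 hy
  rw [h22] at hmod
  have hy1 : y ≠ 1 := by
    rintro rfl
    rw [orderOf_one] at hy
    omega
  have hlt := fixed_lt_22 h22 y hy1
  have hpos : 0 < Nat.card {ω : Sylow 3 S // y • ω = ω} := by
    unfold Nat.ModEq at hmod
    omega
  obtain ⟨⟨R, hR⟩⟩ := (Nat.card_pos_iff.mp hpos).1
  have hodd : Nat.Coprime 2 (orderOf y) := by
    rw [hy]
    norm_num
  have h3 := fixed_modEq_three_of_odd hR3 y hodd R hR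
  have hf7 : Nat.card {ω : Sylow 3 S // y • ω = ω} = 7 := by
    unfold Nat.ModEq at hmod h3
    omega
  have horb := fixed_eq_orbit_centralizer y R hR (fun R' hR' z hz =>
    Subgroup.mem_centralizer_iff.mp (mem_centralizer_of_odd_order R' (hR3 R') y hR' hodd) z hz)
  have hncard : (orbit (Subgroup.centralizer ({y} : Set S)) R).ncard = 7 := by
    rw [horb, ← hf7]
    exact (Nat.card_coe_set_eq _).symm
  have h7dvd : 7 ∣ Nat.card (Subgroup.centralizer ({y} : Set S)) := by
    have h1 := Subgroup.card_mul_index (stabilizer (Subgroup.centralizer ({y} : Set S)) R)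
    rw [MulAction.index_stabilizer, hncard] at h1
    exact Dvd.intro_left _ h1
  obtain ⟨w, hw⟩ := exists_prime_orderOf_dvd_card' 7 h7dvd
  have hw' : orderOf (w : S) = 7 := by
    rw [Subgroup.orderOf_coe]
    exact hw
  have hcomm : (w : S) * y = y * (w : S) := (Subgroup.mem_centralizer_iff.mp w.2 y rfl).symm
  have hfw := fixed_seven_22 h22 hR3 (w : S) hw'
  have hmod7 := card_fixed_commuting_modEq (Ω := Sylow 3 S) y (w : S) 7 hw' hcomm
  rw [hf7] at hmod7
  have hone : Nat.card {ω : Sylow 3 S // y • ω = ω ∧ (w : S) • ω = ω} = 1 := by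
    rw [Nat.card_eq_one_iff_unique] at hfw
    obtain ⟨hsub, ⟨⟨R', hR'⟩⟩⟩ := hfw
    have hyR' : y • R' = R' := by
      have hfix : (w : S) • (y • R') = y • R' := by
        rw [← mul_smul, hcomm, mul_smul, hR']
      have h1 := hsub.elim ⟨y • R', hfix⟩ ⟨R', hR'⟩
      exact congrArg Subtype.val h1
    rw [Nat.card_eq_one_iff_unique]
    refine ⟨⟨?_⟩, ⟨⟨R', hyR', hR'⟩⟩⟩
    rintro ⟨a, ha1, ha2⟩ ⟨b, hb1, hb2⟩
    have h1 := hsub.elim ⟨a, ha2⟩ ⟨b, hb2⟩
    have h2 : a = b := congrArg Subtype.val h1
    exact Subtype.ext h2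
  rw [hone] at hmod7
  unfold Nat.ModEq at hmod7
  omega

/-- No involution centralizes a Sylow 3-subgroup. -/
theorem no_involution_centralizer_22 (h22 : Nat.card (Sylow 3 S) = 22)
    (hR3 : ∀ R : Sylow 3 S, Nat.card R = 3) (P : Sylow 3 S) (c : S) (hc : orderOf c = 2)
    (hcC : c ∈ Subgroup.centralizer ((P : Subgroup S) : Set S)) : False := by
  have : Fact (Nat.Prime 5) := ⟨by norm_num⟩
  have hS : 22 ≤ Nat.card S := by
    have h1 := card_eq_22_mul h22 P
    have hpos : 0 < Nat.card (stabilizer S P) := Nat.card_pos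
    omega
  have h1 := card_fixed_centralizer_modEq P c hcC
  have h2 := involution_fixed_modEq_four (p := 3) (by omega) (by omega) c hc
  rw [h22] at h2
  have hc1 : c ≠ 1 := by
    rintro rfl
    rw [orderOf_one] at hc
    omega
  have hlt := fixed_lt_22 h22 c hc1
  have hf : Nat.card {ω : Sylow 3 S // c • ω = ω} = 10 := by
    unfold Nat.ModEq at h1 h2
    omega
  have hcP : c • P = P :=
    Sylow.smul_eq_iff_mem_normalizer.mpr (Subgroup.centralizer_le_normalizer _ hcC)
  have hc2 : c * c = 1 := by
    rw [← pow_two, ← hc]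
    exact pow_orderOf_eq_one c
  have hcent : ∀ R : Sylow 3 S, c • R = R → ∀ z ∈ (R : Subgroup S), z * c = c * z := by
    intro R hR z hz
    by_contra hne
    have hcR : c ∉ Subgroup.centralizer ((R : Subgroup S) : Set S) := by
      intro h
      exact hne (Subgroup.mem_centralizer_iff.mp h z hz)
    have hinv := inverts_of_involution R (hR3 R) c hc2 hR hcR
    have hb := (inverting_card_fixed (by norm_num) R (hR3 R) c hR hinv).1
    rw [hf, h22] at hb
    omega
  have horb := fixed_eq_orbit_centralizer c P hcP hcent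
  have hncard : (orbit (Subgroup.centralizer ({c} : Set S)) P).ncard = 10 := by
    rw [horb, ← hf]
    exact (Nat.card_coe_set_eq _).symm
  have h5dvd : 5 ∣ Nat.card S := by
    have h3 := Subgroup.card_mul_index (stabilizer (Subgroup.centralizer ({c} : Set S)) P)
    rw [MulAction.index_stabilizer, hncard] at h3
    have h4 : 10 ∣ Nat.card (Subgroup.centralizer ({c} : Set S)) := Dvd.intro_left _ h3
    exact (Dvd.dvd.trans (by norm_num) h4).trans (Subgroup.card_subgroup_dvd_card _)
  obtain ⟨y, hy⟩ := exists_prime_orderOf_dvd_card' 5 h5dvd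
  exact no_order_five_22 h22 hR3 y hy

omit [Finite S] [IsSimpleGroup S] in
theorem dvd_42_of_primes (m : ℕ) (hm : 0 < m)
    (hpr : ∀ r : ℕ, r.Prime → r ∣ m → r = 2 ∨ r = 3 ∨ r = 7)
    (h4 : ¬ 4 ∣ m) (h9 : ¬ 9 ∣ m) (h49 : ¬ 49 ∣ m) : m ∣ 42 := by
  obtain ⟨a, m1, h2, rfl⟩ := Nat.exists_eq_pow_mul_and_not_dvd hm.ne' 2 (by norm_num)
  have hm1 : m1 ≠ 0 := by
    rintro rfl
    simp at hm
  obtain ⟨b, m2, h3, rfl⟩ := Nat.exists_eq_pow_mul_and_not_dvd hm1 3 (by norm_num)
  have hm2 : m2 ≠ 0 := by
    rintro rfl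
    simp at hm1
  obtain ⟨c, m3, h7, rfl⟩ := Nat.exists_eq_pow_mul_and_not_dvd hm2 7 (by norm_num)
  have hm3 : m3 = 1 := by
    by_contra hne
    obtain ⟨r, hr, hrd⟩ := Nat.exists_prime_and_dvd hne
    have hrm : r ∣ 2 ^ a * (3 ^ b * (7 ^ c * m3)) :=
      Dvd.dvd.mul_left (Dvd.dvd.mul_left (Dvd.dvd.mul_left hrd _) _) _
    rcases hpr r hr hrm with rfl | rfl | rfl
    · exact h2 (Dvd.dvd.mul_left (Dvd.dvd.mul_left hrd _) _)
    · exact h3 (Dvd.dvd.mul_left hrd _)
    · exact h7 hrd
  subst hm3
  have ha : a ≤ 1 := by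
    by_contra hcon
    apply h4
    have h : (4 : ℕ) ∣ 2 ^ a := by
      obtain ⟨k, rfl⟩ : ∃ k, a = 2 + k := ⟨a - 2, by omega⟩
      exact ⟨2 ^ k, by ring⟩
    exact Dvd.dvd.mul_right h _
  have hb : b ≤ 1 := by
    by_contra hcon
    apply h9
    have h : (9 : ℕ) ∣ 3 ^ b := by
      obtain ⟨k, rfl⟩ : ∃ k, b = 2 + k := ⟨b - 2, by omega⟩
      exact ⟨3 ^ k, by ring⟩
    exact Dvd.dvd.mul_left (Dvd.dvd.mul_right h _) _
  have hc : c ≤ 1 := by
    by_contra hcon
    apply h49
    have h : (49 : ℕ) ∣ 7 ^ c := by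
      obtain ⟨k, rfl⟩ : ∃ k, c = 2 + k := ⟨c - 2, by omega⟩
      exact ⟨7 ^ k, by ring⟩
    exact Dvd.dvd.mul_left (Dvd.dvd.mul_left (Dvd.dvd.mul_right h _) _) _
  interval_cases a <;> interval_cases b <;> interval_cases c <;> decide

/-- The normalizer of a Sylow 3-subgroup has order dividing 42. -/
theorem stabilizer_card_dvd_42 (h22 : Nat.card (Sylow 3 S) = 22)
    (hR3 : ∀ R : Sylow 3 S, Nat.card R = 3) (P : Sylow 3 S) :
    Nat.card (stabilizer S P) ∣ 42 := by
  have : Fact (Nat.Prime 7) := ⟨by norm_num⟩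
  have hS := card_eq_22_mul h22 P
  have hpos : 0 < Nat.card (stabilizer S P) := Nat.card_pos
  have hdvdS : Nat.card (stabilizer S P) ∣ Nat.card S := Subgroup.card_subgroup_dvd_card _
  apply dvd_42_of_primes _ hpos
  · intro r hr hrd
    have : Fact r.Prime := ⟨hr⟩
    obtain ⟨x, hx⟩ := exists_prime_orderOf_dvd_card' r hrd
    have hx' : orderOf (x : S) = r := by
      rw [Subgroup.orderOf_coe]
      exact hx
    have hxP : (x : S) • P = P := MulAction.mem_stabilizer_iff.mp x.2
    by_contra hcon
    rw [not_or, not_or] at hcon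
    obtain ⟨hr2, hr3, hr7⟩ := hcon
    by_cases hr5 : r = 5
    · exact no_order_five_22 h22 hR3 (x : S) (by rw [hx', hr5])
    · have hx1 : (x : S) ≠ 1 := by
        intro h
        rw [h, orderOf_one] at hx'
        exact hr.one_lt.ne hx'
      have hlt := fixed_lt_22 h22 (x : S) hx1
      have hmod := card_fixed_modEq (Sylow 3 S) (x : S) r hx'
      rw [h22] at hmod
      have hodd : Nat.Coprime 2 (orderOf (x : S)) := by
        rw [hx']
        exact (Nat.coprime_primes Nat.prime_two hr).mpr (Ne.symm hr2)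
      have h3 := fixed_modEq_three_of_odd hR3 (x : S) hodd P hxP
      have hdvd : r ∣ 22 - Nat.card {ω : Sylow 3 S // (x : S) • ω = ω} :=
        (Nat.modEq_iff_dvd' hlt.le).mp hmod.symm
      obtain ⟨j, hj⟩ : ∃ j, 22 - Nat.card {ω : Sylow 3 S // (x : S) • ω = ω} = 3 * j := by
        unfold Nat.ModEq at h3
        exact ⟨(22 - Nat.card {ω : Sylow 3 S // (x : S) • ω = ω}) / 3, by omega⟩
      rw [hj] at hdvd
      rcases (Nat.Prime.dvd_mul hr).mp hdvd with h | h
      · exact hr3 ((Nat.prime_dvd_prime_iff_eq hr Nat.prime_three).mp h)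
      · have hj7 : j ≤ 7 := by omega
        have hj0 : 0 < j := by omega
        have hrle : r ≤ 7 := (Nat.le_of_dvd hj0 h).trans hj7
        have h2le := hr.two_le
        interval_cases r
        · exact hr2 rfl
        · exact hr3 rfl
        · exact absurd hr (by norm_num)
        · exact hr5 rfl
        · exact absurd hr (by norm_num)
        · exact hr7 rfl
  · -- 4 does not divide
    intro h4
    have hrel := relIndex_centralizer_normalizer_dvd (P : Subgroup S)
    have hcyc : IsCyclic (P : Subgroup S) := isCyclic_of_prime_card (hR3 P)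
    rw [IsCyclic.card_mulAut, hR3 P, Nat.totient_prime Nat.prime_three] at hrel
    have hcm := Subgroup.card_mul_index ((Subgroup.centralizer ((P : Subgroup S) : Set S)).subgroupOf
      (Subgroup.normalizer ((P : Subgroup S) : Set S)))
    rw [Nat.card_congr (Subgroup.subgroupOfEquivOfLe
      (Subgroup.centralizer_le_normalizer ((P : Subgroup S) : Set S))).toEquiv] at hcm
    have hidx : ((Subgroup.centralizer ((P : Subgroup S) : Set S)).subgroupOf
      (Subgroup.normalizer ((P : Subgroup S) : Set S))).index =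
      (Subgroup.centralizer ((P : Subgroup S) : Set S)).relIndex
      (Subgroup.normalizer ((P : Subgroup S) : Set S)) := rfl
    rw [hidx] at hcm
    have hstab : Nat.card (stabilizer S P) =
        Nat.card (Subgroup.normalizer ((P : Subgroup S) : Set S)) := by
      rw [Sylow.stabilizer_eq_normalizer]
      rfl
    rw [hstab, ← hcm] at h4
    have h2C : 2 ∣ Nat.card (Subgroup.centralizer ((P : Subgroup S) : Set S)) := by
      rcases (Nat.dvd_prime Nat.prime_two).mp hrel with h1 | h2
      · rw [h1, mul_one] at h4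
        exact Dvd.dvd.trans (by norm_num) h4
      · rw [h2] at h4
        omega
    obtain ⟨c, hc⟩ := exists_prime_orderOf_dvd_card' 2 h2C
    exact no_involution_centralizer_22 h22 hR3 P (c : S)
      (by rw [Subgroup.orderOf_coe]; exact hc) c.2
  · -- 9 does not divide
    intro h9
    have h9S : 3 ^ 2 ∣ Nat.card S := Dvd.dvd.trans h9 hdvdS
    obtain ⟨K, hK⟩ := Sylow.exists_subgroup_card_pow_prime 3 h9S
    have hKp : IsPGroup 3 K := IsPGroup.of_card hK
    obtain ⟨Q, hQ⟩ := hKp.exists_le_sylow
    have hle := Subgroup.card_le_of_le hQ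
    rw [hK] at hle
    have hQ3 : Nat.card (Q : Subgroup S) = 3 := hR3 Q
    omega
  · -- 49 does not divide
    intro h49
    have h49S : 7 ^ 2 ∣ Nat.card S := Dvd.dvd.trans h49 hdvdS
    obtain ⟨W, hW⟩ := Sylow.exists_subgroup_card_pow_prime 7 h49S
    have hWp : IsPGroup 7 W := IsPGroup.of_card hW
    have hmod := hWp.card_modEq_card_fixedPoints (Sylow 3 S)
    rw [h22] at hmod
    have hposf : 0 < Nat.card (fixedPoints W (Sylow 3 S)) := by
      unfold Nat.ModEq at hmod
      omega
    obtain ⟨⟨R, hR⟩⟩ := (Nat.card_pos_iff.mp hposf).1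
    have hnontriv : Nontrivial (Sylow 3 S) := by
      rw [← Finite.one_lt_card_iff_nontrivial, h22]
      norm_num
    obtain ⟨Z, hZ⟩ := exists_ne R
    have hstab1 : Nat.card (stabilizer W Z) = 1 := by
      by_contra hne
      have hd : Nat.card (stabilizer W Z) ∣ 7 ^ 2 := by
        rw [← hW]
        exact Subgroup.card_subgroup_dvd_card _
      obtain ⟨j, -, hj⟩ := (Nat.dvd_prime_pow (by norm_num : Nat.Prime 7)).mp hd
      have h7 : 7 ∣ Nat.card (stabilizer W Z) := by
        rw [hj]
        apply dvd_pow_self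
        rintro rfl
        rw [pow_zero] at hj
        exact hne hj
      obtain ⟨u, hu⟩ := exists_prime_orderOf_dvd_card' 7 h7
      have hu' : orderOf (((u : W) : S)) = 7 := by
        rw [Subgroup.orderOf_coe, Subgroup.orderOf_coe]
        exact hu
      have hfu := fixed_seven_22 h22 hR3 (((u : W) : S)) hu'
      rw [Nat.card_eq_one_iff_unique] at hfu
      have huZ : ((u : W) : S) • Z = Z := MulAction.mem_stabilizer_iff.mp u.2
      have huR : ((u : W) : S) • R = R := hR (u : W)
      have h1 := hfu.1.elim ⟨Z, huZ⟩ ⟨R, huR⟩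
      exact hZ (congrArg Subtype.val h1)
    have h1 := Subgroup.card_mul_index (stabilizer W Z)
    rw [MulAction.index_stabilizer, hstab1, hW, one_mul] at h1
    have h2 := Set.ncard_le_ncard (Set.subset_univ (orbit W Z)) (Set.toFinite _)
    rw [Set.ncard_univ, h22, h1] at h2
    omega

/-- No simple group has exactly 22 Sylow 3-subgroups of order 3. -/
theorem no_22_of_card_three (h22 : Nat.card (Sylow 3 S) = 22)
    (hR3 : ∀ R : Sylow 3 S, Nat.card R = 3) : False := by
  have : Fact (Nat.Prime 11) := ⟨by norm_num⟩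
  obtain ⟨P⟩ : Nonempty (Sylow 3 S) := inferInstance
  have hS := card_eq_22_mul h22 P
  have hm := stabilizer_card_dvd_42 h22 hR3 P
  obtain ⟨m, hmdef⟩ : ∃ m, m = Nat.card (stabilizer S P) := ⟨_, rfl⟩
  rw [← hmdef] at hS hm
  have hmpos : 0 < m := Nat.pos_of_dvd_of_pos hm (by norm_num)
  have hmle : m ≤ 42 := Nat.le_of_dvd (by norm_num) hm
  obtain ⟨j, hj⟩ := hm
  obtain ⟨Q⟩ : Nonempty (Sylow 11 S) := inferInstance
  have hQ11 : Nat.card Q = 11 := by
    obtain ⟨k, hk⟩ := IsPGroup.iff_card.mp Q.2
    have h11 : 11 ∣ Nat.card S := by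
      rw [hS]
      exact Dvd.dvd.mul_right (by norm_num) _
    have hd1 : 11 ∣ Nat.card Q := Q.dvd_card_of_dvd_card h11
    have hd2 : Nat.card Q ∣ Nat.card S := Subgroup.card_subgroup_dvd_card _
    rw [hk] at hd1 hd2 ⊢
    rcases k with _ | _ | k
    · norm_num at hd1
    · norm_num
    · exfalso
      have h121 : 11 ^ 2 ∣ Nat.card S := (pow_dvd_pow 11 (by omega)).trans hd2
      rw [hS] at h121
      have h3 : (121 : ℕ) ∣ 22 * m * j := Dvd.dvd.mul_right h121 j
      rw [mul_assoc, ← hj] at h3
      norm_num at h3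
  have hmod := card_sylow_modEq_one 11 S
  have hdvd := Q.card_dvd_index
  have hidx : (Q : Subgroup S).index = 2 * m := by
    have h1 := Subgroup.card_mul_index (Q : Subgroup S)
    rw [hQ11, hS] at h1
    omega
  rw [hidx] at hdvd
  have h84 : Nat.card (Sylow 11 S) ∣ 84 := hdvd.trans ⟨j, by rw [mul_assoc, ← hj]; norm_num⟩
  have hn_le := Nat.le_of_dvd (by norm_num) h84
  have hcases : Nat.card (Sylow 11 S) = 1 ∨ Nat.card (Sylow 11 S) = 12 := by
    unfold Nat.ModEq at hmod
    have hpos : 0 < Nat.card (Sylow 11 S) := Nat.card_pos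
    interval_cases hc : Nat.card (Sylow 11 S) <;> omega
  rcases hcases with h1 | h12
  · have hidx1 := Sylow.card_eq_index_normalizer Q
    rw [h1] at hidx1
    have htop : Subgroup.normalizer ((Q : Subgroup S) : Set S) = ⊤ :=
      Subgroup.index_eq_one.mp hidx1.symm
    have hnorm : (Q : Subgroup S).Normal := Subgroup.normalizer_eq_top_iff.mp htop
    rcases hnorm.eq_bot_or_eq_top with hb | ht
    · have h2 : Nat.card (Q : Subgroup S) = 1 := by
        rw [hb]
        exact Subgroup.card_bot
      omega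
    · have h2 : Nat.card (Q : Subgroup S) = Nat.card S := by
        rw [ht]
        exact Subgroup.card_top
      omega
  · have hidxN : Nat.card (Sylow 11 S) =
        (Subgroup.normalizer ((Q : Subgroup S) : Set S)).index :=
      Sylow.card_eq_index_normalizer Q
    rw [h12] at hidxN
    have hcardN := Subgroup.card_mul_index (Subgroup.normalizer ((Q : Subgroup S) : Set S))
    rw [← hidxN, hS] at hcardN
    have hcyc : IsCyclic (Q : Subgroup S) := isCyclic_of_prime_card hQ11
    have hrel := relIndex_centralizer_normalizer_dvd (Q : Subgroup S)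
    rw [IsCyclic.card_mulAut, hQ11, Nat.totient_prime (by norm_num : Nat.Prime 11)] at hrel
    have hrel2 : (Subgroup.centralizer ((Q : Subgroup S) : Set S)).relIndex
        (Subgroup.normalizer ((Q : Subgroup S) : Set S)) ∣
        Nat.card (Subgroup.normalizer ((Q : Subgroup S) : Set S)) :=
      Subgroup.relIndex_dvd_card _ _
    have hN : Nat.card (Subgroup.normalizer ((Q : Subgroup S) : Set S)) = 11 ∨
        Nat.card (Subgroup.normalizer ((Q : Subgroup S) : Set S)) = 77 := by
      have hj42 : j ≤ 42 := by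
        by_contra hcon
        have : 42 < m * j := by nlinarith
        omega
      interval_cases m <;> omega
    have hone : (Subgroup.centralizer ((Q : Subgroup S) : Set S)).relIndex
        (Subgroup.normalizer ((Q : Subgroup S) : Set S)) = 1 := by
      rcases hN with h | h
      · rw [h] at hrel2
        have h3 := Nat.dvd_gcd hrel hrel2
        have h4 : Nat.gcd (11 - 1) 11 = 1 := by norm_num
        rw [h4] at h3
        exact Nat.dvd_one.mp h3
      · rw [h] at hrel2
        have h3 := Nat.dvd_gcd hrel hrel2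
        have h4 : Nat.gcd (11 - 1) 77 = 1 := by norm_num
        rw [h4] at h3
        exact Nat.dvd_one.mp h3
    exact not_simple_of_sylow_central 11 Q (Subgroup.relIndex_eq_one.mp hone)
      (by omega) (by omega)

end Three

end Cfsg.Agent.Lib.helper75
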