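import Mathlib
import Cfsg.Agent.Lib.helper75.Syl22Three
import Cfsg.Agent.Lib.helper75.Syl22Lines

/-!
No finite simple group has exactly 22 Sylow 3-subgroups (helper75).

This file treats the remaining case where a Sylow 3-subgroup `P` has four orbits of size 3 and
one of size 9 on the other Sylow subgroups, and assembles the final statement
`no_simple_twentytwo_sylow_three`.

* `line_inj_b_22`: a line through `P` consists of `P` and one `P`-orbit (otherwise `N(D)` would
  have an orbit of size 7, 10 or 13, and a Sylow 7-, 5- or 13-subgroup of `N(P)` would lie in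
  `N(D)`, giving too large a power of that prime in the group order).
* `no_edge_b_22`: points on different lines through `P` are not at distance 3 (otherwise the
  closed neighbourhoods of two distinct points would coincide).
* `no_type_b_22`: so all points at distance 9 from `P` have the same neighbours as `P`.
-/

set_option autoImplicit false

namespace Cfsg.Agent.Lib.helper75

open MulAction
open scoped Pointwise

section TypeB

variable {S : Type*} [Group S] [Finite S] [IsSimpleGroup S]

omit [IsSimpleGroup S] in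
/-- In type (b), a line through `P` consists of `P` and one `P`-orbit. -/
theorem line_inj_b_22 (h22 : Nat.card (Sylow 3 S) = 22)
    (hb : ∀ P : Sylow 3 S, (sylNbr 3 P).ncard = 12)
    (P Y Y' : Sylow 3 S) (hY : orbCard P Y = 3) (hY' : orbCard P Y' = 3)
    (hE : (P : Subgroup S) ⊓ (Y : Subgroup S) = (P : Subgroup S) ⊓ (Y' : Subgroup S)) :
    Y' ∈ orbit (P : Subgroup S) Y := by
  classical
  by_contra hnot
  have hYP : Y ≠ P := ne_of_orbCard 3 (by norm_num) P Y hY
  have hY'P : Y' ≠ P := ne_of_orbCard 3 (by norm_num) P Y' hY'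
  obtain ⟨D, hD⟩ : ∃ D : Subgroup S, D = (P : Subgroup S) ⊓ (Y : Subgroup S) := ⟨_, rfl⟩
  have hD3 : 3 * Nat.card D = Nat.card P := by
    have h1 := orbCard_mul P Y
    rw [hY] at h1
    rw [hD]
    exact h1
  have hDP : D ≤ (P : Subgroup S) := by
    rw [hD]
    exact inf_le_left
  have hPN := sylow_le_normalizer_of_index P D hDP hD3
  have hline := line_eq_orbit D P hDP hD3
  have hk1 := orbit_ncard_modEq_one (Subgroup.normalizer (D : Set S)) P hPN
  have hsub5 : insert Y' (insert P (orbit (P : Subgroup S) Y)) ⊆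
      {R : Sylow 3 S | D ≤ (R : Subgroup S)} := by
    intro R hR
    show D ≤ (R : Subgroup S)
    rcases hR with hR | hR | hR
    · rw [hR, hD, hE]
      exact inf_le_right
    · rw [hR]
      exact hDP
    · rw [hD, ← inf_eq_of_mem_orbit P Y R hY hR]
      exact inf_le_right
  have h5 : 5 ≤ {R : Sylow 3 S | D ≤ (R : Subgroup S)}.ncard := by
    have h1 := Set.ncard_le_ncard hsub5 (Set.toFinite _)
    have hn1 : Y' ∉ insert P (orbit (P : Subgroup S) Y) := by
      rintro (h | h)
      · exact hY'P h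
      · exact hnot h
    rw [Set.ncard_insert_of_notMem hn1 (Set.toFinite _),
      Set.ncard_insert_of_notMem (self_not_mem_orbit P Y hYP) (Set.toFinite _)] at h1
    have h3 : (orbit (P : Subgroup S) Y).ncard = 3 := hY
    omega
  have hsub13 : {R : Sylow 3 S | D ≤ (R : Subgroup S)} ⊆ insert P (sylNbr 3 P) := by
    intro R hR
    by_cases hRP : R = P
    · left
      exact hRP
    · right
      exact (orbCard_eq_of_le P R D hDP hR hD3 hRP).1
  have h13 : {R : Sylow 3 S | D ≤ (R : Subgroup S)}.ncard ≤ 13 := by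
    have h1 := Set.ncard_le_ncard hsub13 (Set.toFinite _)
    have h2 := Set.ncard_insert_le P (sylNbr 3 P)
    rw [hb P] at h2
    omega
  rw [hline] at hk1
  obtain ⟨k, hk⟩ : ∃ k, k = {R : Sylow 3 S | D ≤ (R : Subgroup S)}.ncard := ⟨_, rfl⟩
  rw [← hk] at hk1 h5 h13
  obtain ⟨r, hr, hr5, hrk, hr22⟩ : ∃ r : ℕ, r.Prime ∧ 5 ≤ r ∧ r ∣ k ∧ ¬ r ∣ 22 := by
    unfold Nat.ModEq at hk1
    have hcases : k = 7 ∨ k = 10 ∨ k = 13 := by omega
    rcases hcases with rfl | rfl | rfl
    · exact ⟨7, by norm_num, by norm_num, by norm_num, by norm_num⟩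
    · exact ⟨5, by norm_num, by norm_num, by norm_num, by norm_num⟩
    · exact ⟨13, by norm_num, by norm_num, by norm_num, by norm_num⟩
  have hfact : Fact r.Prime := ⟨hr⟩
  obtain ⟨Y₀⟩ : Nonempty (Sylow r (stabilizer S P)) := inferInstance
  obtain ⟨Y₁, hY₁⟩ : ∃ Y₁ : Subgroup S,
      Y₁ = (Y₀ : Subgroup (stabilizer S P)).map (stabilizer S P).subtype := ⟨_, rfl⟩
  have hY₁card : Nat.card Y₁ = Nat.card Y₀ := by
    rw [hY₁]
    exact Subgroup.card_map_of_injective (Subgroup.subtype_injective _)
  have hY₁p : IsPGroup r Y₁ := by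
    rw [hY₁]
    exact Y₀.2.map _
  have hY₁fix : ∀ t ∈ Y₁, t • P = P := by
    rw [hY₁]
    rintro _ ⟨t, -, rfl⟩
    exact MulAction.mem_stabilizer_iff.mp t.2
  have hU : ∀ s : Finset (Sylow 3 S), (∀ Z ∈ s, orbCard P Z = 3) →
      (∀ Z ∈ s, ∀ Z' ∈ s, (P : Subgroup S) ⊓ (Z : Subgroup S) =
        (P : Subgroup S) ⊓ (Z' : Subgroup S) → Z = Z') → s.card ≤ 4 := by
    intro s hs hinj
    have h1 := (orbit_union_le P s hs hinj).1
    have h12 : {Q : Sylow 3 S | orbCard P Q = 3}.ncard = 12 := hb P
    omega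
  have hYN : Y₁ ≤ Subgroup.normalizer (D : Set S) := by
    intro y hy
    have hyP := hY₁fix y hy
    have hpowP : ∀ i : ℕ, (y ^ i) • P = P := fun i =>
      MulAction.mem_stabilizer_iff.mp
        ((stabilizer S P).pow_mem (MulAction.mem_stabilizer_iff.mpr hyP) i)
    have hex : ∃ i j : ℕ, i < j ∧ j < 5 ∧
        (P : Subgroup S) ⊓ (((y ^ i) • Y : Sylow 3 S) : Subgroup S) =
          (P : Subgroup S) ⊓ (((y ^ j) • Y : Sylow 3 S) : Subgroup S) := by
      by_contra hcon
      have hcon' : ∀ i j : ℕ, i < j → j < 5 →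
          (P : Subgroup S) ⊓ (((y ^ i) • Y : Sylow 3 S) : Subgroup S) ≠
            (P : Subgroup S) ⊓ (((y ^ j) • Y : Sylow 3 S) : Subgroup S) := by
        intro i j hij hj h
        exact hcon ⟨i, j, hij, hj, h⟩
      have hinj : Set.InjOn (fun i : ℕ => (y ^ i) • Y) (Finset.range 5 : Set ℕ) := by
        intro i hi j hj hij
        rw [Finset.coe_range, Set.mem_Iio] at hi hj
        have hij' : (y ^ i) • Y = (y ^ j) • Y := hij
        by_contra hne
        rcases lt_or_gt_of_ne hne with hlt | hlt
        · exact hcon' i j hlt hj (by rw [hij'])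
        · exact hcon' j i hlt hi (by rw [hij'])
      have hcard : ((Finset.range 5).image (fun i : ℕ => (y ^ i) • Y)).card = 5 := by
        rw [Finset.card_image_of_injOn hinj, Finset.card_range]
      have h4 := hU ((Finset.range 5).image (fun i : ℕ => (y ^ i) • Y)) (by
        intro Z hZ
        obtain ⟨i, -, rfl⟩ := Finset.mem_image.mp hZ
        have h1 := orbCard_smul (y ^ i) P Y
        rw [hpowP i] at h1
        rw [h1]
        exact hY) (by
        intro Z hZ Z' hZ' hinf
        obtain ⟨i, hi, rfl⟩ := Finset.mem_image.mp hZ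
        obtain ⟨j, hj, rfl⟩ := Finset.mem_image.mp hZ'
        rw [Finset.mem_range] at hi hj
        by_contra hne
        have hij : i ≠ j := by
          rintro rfl
          exact hne rfl
        rcases lt_or_gt_of_ne hij with hlt | hlt
        · exact hcon' i j hlt hj hinf
        · exact hcon' j i hlt hi hinf.symm)
      omega
    obtain ⟨i, j, hij, hj5, hinf⟩ := hex
    have hg : y ^ (j - i) ∈ Subgroup.normalizer (D : Set S) := by
      rw [hD]
      apply mem_normalizer_inf (y ^ (j - i)) P Y (hpowP _)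
      have h1 := inf_smul_congr ((y ^ i)⁻¹) P _ _ (by rw [inv_smul_eq_iff, hpowP i]) hinf
      rw [inv_smul_smul] at h1
      have h2 : (y ^ i)⁻¹ • (y ^ j) • Y = (y ^ (j - i)) • Y := by
        rw [← mul_smul]
        congr 1
        have h3 : y ^ j = y ^ i * y ^ (j - i) := by
          rw [← pow_add]
          congr 1
          omega
        rw [h3, inv_mul_cancel_left]
      rw [h2] at h1
      exact h1.symm
    obtain ⟨e, he⟩ : ∃ e, orderOf y = r ^ e := by
      obtain ⟨e, he⟩ := (IsPGroup.iff_orderOf.mp hY₁p) ⟨y, hy⟩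
      exact ⟨e, by rw [← he, Subgroup.orderOf_mk]⟩
    have hcop : Nat.Coprime (j - i) (orderOf y) := by
      rw [he]
      apply Nat.Coprime.pow_right
      exact (Nat.coprime_of_lt_prime (by omega) (by omega) hr).symm
    obtain ⟨m, hm⟩ := exists_pow_eq_self_of_coprime hcop
    rw [← hm]
    exact pow_mem hg m
  have hdvd := orbit_card_mul_dvd (Subgroup.normalizer (D : Set S)) Y₁ P hYN hY₁fix
  rw [hline, ← hk, hY₁card, card_eq_22_mul h22 P] at hdvd
  have hidx := Subgroup.card_mul_index (Y₀ : Subgroup (stabilizer S P))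
  have hnd := Y₀.not_dvd_index
  rw [← hidx] at hdvd
  obtain ⟨k', rfl⟩ := hrk
  obtain ⟨c, hc⟩ := hdvd
  have hpos : 0 < Nat.card Y₀ := Nat.card_pos
  have h2 : r ∣ 22 * (Y₀ : Subgroup (stabilizer S P)).index := by
    have h3 : Nat.card Y₀ * (22 * (Y₀ : Subgroup (stabilizer S P)).index) =
        Nat.card Y₀ * (r * (k' * c)) := by
      calc Nat.card Y₀ * (22 * (Y₀ : Subgroup (stabilizer S P)).index)
          = 22 * (Nat.card Y₀ * (Y₀ : Subgroup (stabilizer S P)).index) := by ring
        _ = r * k' * Nat.card Y₀ * c := hc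
        _ = Nat.card Y₀ * (r * (k' * c)) := by ring
    exact ⟨k' * c, Nat.eq_of_mul_eq_mul_left hpos h3⟩
  rcases (Nat.Prime.dvd_mul hr).mp h2 with h | h
  · exact hr22 h
  · exact hnd h

/-- In type (b), points on different lines through `P` are not at distance 3. -/
theorem no_edge_b_22 (h22 : Nat.card (Sylow 3 S) = 22)
    (hb : ∀ P : Sylow 3 S, (sylNbr 3 P).ncard = 12)
    (P R X : Sylow 3 S) (hR : orbCard P R = 3) (hX : orbCard P X = 3)
    (hXR : X ∉ orbit (P : Subgroup S) R) : orbCard R X ≠ 3 := by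
  classical
  intro hRX
  have hinj := line_inj_b_22 h22 hb
  have hcardEq : ∀ A B : Sylow 3 S, Nat.card A = Nat.card B := fun A B => by
    rw [A.card_eq_multiplicity, B.card_eq_multiplicity]
  have hinfcard : ∀ A B : Sylow 3 S, orbCard A B = 3 →
      3 * Nat.card ((A : Subgroup S) ⊓ (B : Subgroup S) : Subgroup S) = Nat.card A := by
    intro A B h
    have h1 := orbCard_mul A B
    rw [h] at h1
    exact h1
  have hRP : R ≠ P := ne_of_orbCard 3 (by norm_num) P R hR
  have hXP : X ≠ P := ne_of_orbCard 3 (by norm_num) P X hX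
  have hPR : orbCard R P = 3 := by
    rw [orbCard_symm]
    exact hR
  have hexd : ∀ A B C : Sylow 3 S, orbCard A B = 3 → orbCard A C = 3 →
      (A : Subgroup S) ⊓ (B : Subgroup S) ≠ (A : Subgroup S) ⊓ (C : Subgroup S) →
      ∃ d : S, d ∈ (A : Subgroup S) ∧ d ∈ (B : Subgroup S) ∧ d ∉ (C : Subgroup S) := by
    intro A B C hB hC hne
    by_contra hcon
    apply hne
    apply Subgroup.eq_of_le_of_card_ge
    · intro d hd
      refine ⟨hd.1, ?_⟩
      by_contra hdC
      exact hcon ⟨d, hd.1, hd.2, hdC⟩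
    · have h1 := hinfcard A B hB
      have h2 := hinfcard A C hC
      omega
  have hne1 : (P : Subgroup S) ⊓ (R : Subgroup S) ≠ (P : Subgroup S) ⊓ (X : Subgroup S) := by
    intro h
    exact hXR (hinj P R X hR hX h)
  obtain ⟨d, hdP, hdR, hdX⟩ := hexd P R X hR hX hne1
  have hadj : ∀ X' ∈ orbit (P : Subgroup S) X, orbCard R X' = 3 := by
    intro X' hX'
    obtain ⟨z, hz, rfl⟩ := orbit_subset_zpowers P X hX d hdP hdX X' hX'
    have hzR : z ∈ (R : Subgroup S) := (Subgroup.zpowers_le.mpr hdR) hz
    have hzR' : z • R = R := (sylow_fixed_iff R R).mpr rfl z hzR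
    have h1 := orbCard_smul z R X
    rw [hzR'] at h1
    rw [h1]
    exact hRX
  have horbX : ∀ X' ∈ orbit (P : Subgroup S) X, orbCard P X' = 3 := fun X' hX' => by
    rw [orbCard_of_mem_orbit P X X' hX']
    exact hX
  have hinfX : ∀ X' ∈ orbit (P : Subgroup S) X,
      (P : Subgroup S) ⊓ (X' : Subgroup S) = (P : Subgroup S) ⊓ (X : Subgroup S) :=
    fun X' hX' => inf_eq_of_mem_orbit P X X' hX hX'
  have hα : ∀ X' ∈ orbit (P : Subgroup S) X,
      (R : Subgroup S) ⊓ (P : Subgroup S) ≠ (R : Subgroup S) ⊓ (X' : Subgroup S) := by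
    intro X' hX' hE
    apply hne1
    rw [← hinfX X' hX']
    apply Subgroup.eq_of_le_of_card_ge
    · intro y hy
      have hy' : y ∈ (R : Subgroup S) ⊓ (P : Subgroup S) := ⟨hy.2, hy.1⟩
      rw [hE] at hy'
      exact ⟨hy.1, hy'.2⟩
    · have h1 := hinfcard P R hR
      have h2 := hinfcard P X' (horbX X' hX')
      omega
  have hβ : ∀ X' ∈ orbit (P : Subgroup S) X, ∀ X'' ∈ orbit (P : Subgroup S) X,
      (R : Subgroup S) ⊓ (X' : Subgroup S) = (R : Subgroup S) ⊓ (X'' : Subgroup S) →
      X' = X'' := by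
    intro X' hX' X'' hX'' hE
    by_contra hne
    have hD'c : 3 * Nat.card ((P : Subgroup S) ⊓ (X : Subgroup S) : Subgroup S) =
        Nat.card X' := by
      rw [hinfcard P X hX]
      exact hcardEq P X'
    have hD'X' : (P : Subgroup S) ⊓ (X : Subgroup S) ≤ (X' : Subgroup S) := by
      rw [← hinfX X' hX']
      exact inf_le_right
    have hD'X'' : (P : Subgroup S) ⊓ (X : Subgroup S) ≤ (X'' : Subgroup S) := by
      rw [← hinfX X'' hX'']
      exact inf_le_right
    have hXX := (orbCard_eq_of_le X' X'' _ hD'X' hD'X'' hD'c (Ne.symm hne)).2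
    have hEle : (R : Subgroup S) ⊓ (X' : Subgroup S) ≤ (P : Subgroup S) ⊓ (X : Subgroup S) := by
      rw [← hXX]
      exact le_inf inf_le_right (hE ▸ inf_le_right)
    have hEq : (R : Subgroup S) ⊓ (X' : Subgroup S) = (P : Subgroup S) ⊓ (X : Subgroup S) := by
      apply Subgroup.eq_of_le_of_card_ge hEle
      have h1 := hinfcard R X' (hadj X' hX')
      have h2 := hinfcard P X hX
      have h3 := hcardEq P R
      omega
    apply hne1
    symm
    apply Subgroup.eq_of_le_of_card_ge
    · exact le_inf inf_le_left (hEq ▸ inf_le_left)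
    · have h1 := hinfcard P R hR
      have h2 := hinfcard P X hX
      omega
  obtain ⟨s, hs⟩ : ∃ s : Finset (Sylow 3 S),
      s = insert P (Set.toFinite (orbit (P : Subgroup S) X)).toFinset := ⟨_, rfl⟩
  have hscard : s.card = 4 := by
    rw [hs, Finset.card_insert_of_notMem, ← Set.ncard_eq_toFinset_card]
    · have h3 : (orbit (P : Subgroup S) X).ncard = 3 := hX
      rw [h3]
    · rw [Set.Finite.mem_toFinset]
      exact self_not_mem_orbit P X hXP
  have hsmem : ∀ Z, Z ∈ s ↔ Z = P ∨ Z ∈ orbit (P : Subgroup S) X := by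
    intro Z
    rw [hs, Finset.mem_insert, Set.Finite.mem_toFinset]
  have hU := orbit_union_le R s (by
      intro Z hZ
      rcases (hsmem Z).mp hZ with hZ | hZ
      · rw [hZ]
        exact hPR
      · exact hadj Z hZ) (by
      intro Z hZ Z' hZ' hE
      rcases (hsmem Z).mp hZ with hZ | hZ <;> rcases (hsmem Z').mp hZ' with hZ' | hZ'
      · rw [hZ, hZ']
      · rw [hZ] at hE
        exact absurd hE (hα Z' hZ')
      · rw [hZ'] at hE
        exact absurd hE.symm (hα Z hZ)
      · exact hβ Z hZ Z' hZ' hE)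
  have h12 : {Q : Sylow 3 S | orbCard R Q = 3}.ncard = 12 := hb R
  have hcover := hU.2 (by rw [hscard, h12])
  have hsub : insert R (sylNbr 3 R) ⊆ insert P (sylNbr 3 P) := by
    intro Q hQ
    rcases hQ with hQ | hQ
    · right
      rw [hQ]
      exact hR
    · obtain ⟨Z, hZ, hQZ⟩ := hcover Q hQ
      by_cases hQP : Q = P
      · left
        exact hQP
      · right
        show orbCard P Q = 3
        rcases (hsmem Z).mp hZ with hZ | hZ
        · rw [hZ] at hQZ
          have h1 := inf_eq_of_mem_orbit R P Q hPR hQZ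
          have hle : (P : Subgroup S) ⊓ (R : Subgroup S) ≤ (Q : Subgroup S) := by
            rw [inf_comm, ← h1]
            exact inf_le_right
          exact (orbCard_eq_of_le P Q _ inf_le_left hle (hinfcard P R hR) hQP).1
        · obtain ⟨d', hd'R, hd'P, hd'Z⟩ := hexd R P Z hPR (hadj Z hZ) (hα Z hZ)
          obtain ⟨z, hz, rfl⟩ := orbit_subset_zpowers R Z (hadj Z hZ) d' hd'R hd'Z Q hQZ
          have hzP : z ∈ (P : Subgroup S) := (Subgroup.zpowers_le.mpr hd'P) hz
          have hzP' : z • P = P := (sylow_fixed_iff P P).mpr rfl z hzP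
          have h1 := orbCard_smul z P Z
          rw [hzP'] at h1
          rw [h1]
          exact horbX Z hZ
  have hnotR : R ∉ sylNbr 3 R := self_not_mem_sylNbr 3 (by norm_num) R
  have hnotP : P ∉ sylNbr 3 P := self_not_mem_sylNbr 3 (by norm_num) P
  have heq : insert R (sylNbr 3 R) = insert P (sylNbr 3 P) := by
    apply Set.eq_of_subset_of_ncard_le hsub _ (Set.toFinite _)
    rw [Set.ncard_insert_of_notMem hnotR (Set.toFinite _),
      Set.ncard_insert_of_notMem hnotP (Set.toFinite _), hb, hb]
  have huniv := invariant_set_eq_univ_22 h22 P R (Ne.symm hRP) (insert P (sylNbr 3 P))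
    ⟨P, Set.mem_insert _ _⟩ (by
      intro g hg x hx
      rcases hx with hx | hx
      · left
        rw [hx]
        exact hg
      · right
        exact sylNbr_invariant 3 g P hg x hx) (by
      intro g hg x hx
      rw [← heq] at hx ⊢
      rcases hx with hx | hx
      · left
        rw [hx]
        exact hg
      · right
        exact sylNbr_invariant 3 g R hg x hx)
  have hcard := congrArg Set.ncard huniv
  rw [Set.ncard_insert_of_notMem hnotP (Set.toFinite _), hb, Set.ncard_univ, h22] at hcard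
  omega

/-- Type (b): four orbits of size 3 and one of size 9. -/
theorem no_type_b_22 (h22 : Nat.card (Sylow 3 S) = 22)
    (hb : ∀ P : Sylow 3 S, (sylNbr 3 P).ncard = 12) : False := by
  obtain ⟨P⟩ : Nonempty (Sylow 3 S) := inferInstance
  have hcount := sylNbr_count_22 h22 P
  rw [hb P] at hcount
  have h9 : (sylNbr 9 P).ncard = 9 := by omega
  have hne9 : (sylNbr 9 P).Nonempty := by
    rw [← Set.ncard_pos (Set.toFinite _), h9]
    norm_num
  obtain ⟨Q, hQ⟩ := hne9
  have hQ9 : orbCard P Q = 9 := hQ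
  have hQP : Q ≠ P := ne_of_orbCard 9 (by norm_num) P Q hQ9
  have key : ∀ R : Sylow 3 S, orbCard P R = 3 → sylNbr 9 P ⊆ sylNbr 3 R := by
    intro R hR
    have hRP : R ≠ P := ne_of_orbCard 3 (by norm_num) P R hR
    have hsub : sylNbr 3 R ⊆ ((insert P (orbit (P : Subgroup S) R)) \ {R}) ∪
        (sylNbr 9 P ∩ sylNbr 3 R) := by
      intro X hX
      have hX3 : orbCard R X = 3 := hX
      have hXR : X ≠ R := ne_of_orbCard 3 (by norm_num) R X hX3
      by_cases hXP : X = P
      · left
        exact ⟨Or.inl hXP, hXR⟩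
      · rcases orbCard_cases_22 h22 P X hXP with h3 | h9'
        · left
          refine ⟨Or.inr ?_, hXR⟩
          by_contra hnot
          exact no_edge_b_22 h22 hb P R X hR h3 hnot hX3
        · right
          exact ⟨h9', hX⟩
    have hc1 : ((insert P (orbit (P : Subgroup S) R)) \ {R}).ncard = 3 := by
      have hmemR : R ∈ insert P (orbit (P : Subgroup S) R) := Or.inr (mem_orbit_self R)
      have e1 := Set.ncard_sdiff_singleton_of_mem hmemR
      have e2 := Set.ncard_insert_of_notMem (self_not_mem_orbit P R hRP) (Set.toFinite _)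
      have h3 : (orbit (P : Subgroup S) R).ncard = 3 := hR
      omega
    have hle := Set.ncard_le_ncard hsub (Set.toFinite _)
    have hun := Set.ncard_union_le ((insert P (orbit (P : Subgroup S) R)) \ {R})
      (sylNbr 9 P ∩ sylNbr 3 R)
    rw [hb R] at hle
    rw [hc1] at hun
    have h9' : 9 ≤ (sylNbr 9 P ∩ sylNbr 3 R).ncard := by omega
    have heq : sylNbr 9 P ∩ sylNbr 3 R = sylNbr 9 P :=
      Set.eq_of_subset_of_ncard_le Set.inter_subset_left (by rw [h9]; exact h9') (Set.toFinite _)
    rw [← heq]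
    exact Set.inter_subset_right
  have hsubPQ : sylNbr 3 P ⊆ sylNbr 3 Q := by
    intro R hR
    have h1 : orbCard R Q = 3 := key R hR hQ
    show orbCard Q R = 3
    rw [orbCard_symm]
    exact h1
  have heq : sylNbr 3 P = sylNbr 3 Q :=
    Set.eq_of_subset_of_ncard_le hsubPQ (by rw [hb, hb]) (Set.toFinite _)
  have hne3 : (sylNbr 3 P).Nonempty := by
    rw [← Set.ncard_pos (Set.toFinite _), hb P]
    norm_num
  have huniv := invariant_set_eq_univ_22 h22 P Q (Ne.symm hQP) (sylNbr 3 P) hne3
    (fun g hg x hx => sylNbr_invariant 3 g P hg x hx)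
    (fun g hg x hx => by
      rw [heq] at hx ⊢
      exact sylNbr_invariant 3 g Q hg x hx)
  have hcard := congrArg Set.ncard huniv
  rw [hb, Set.ncard_univ, h22] at hcard
  omega

/-- No finite simple group has exactly 22 Sylow 3-subgroups. -/
theorem no_simple_twentytwo_sylow_three : Nat.card (Sylow 3 S) ≠ 22 := by
  intro h22
  obtain ⟨P⟩ : Nonempty (Sylow 3 S) := inferInstance
  rcases sylNbr_type_22 h22 P with h | h | h
  · by_cases hP3 : Nat.card P = 3
    · exact no_22_of_card_three h22 (fun R => by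
        rw [R.card_eq_multiplicity, ← P.card_eq_multiplicity]
        exact hP3)
    · apply no_type_a_22 h22
      · intro P' Q hQ
        exact orbCard_three_of_type_a h22 P' (by rw [sylNbr_ncard_eq 3 P' P]; exact h) Q hQ
      · intro P'
        rw [P'.card_eq_multiplicity, ← P.card_eq_multiplicity]
        exact hP3
  · exact no_type_b_22 h22 (fun P' => by rw [sylNbr_ncard_eq 3 P' P]; exact h)
  · exact no_type_c_22 h22 (fun P' => by rw [sylNbr_ncard_eq 3 P' P]; exact h)

end TypeB

end Cfsg.Agent.Lib.helper75
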