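import Mathlib
import Cfsg.Prelude.Def_OddOrderLocal
import Cfsg.Prelude.Def_Solvable

/-!
# S4118 split project, piece E2: `quat_aut_odd_trivial`
-/

set_option autoImplicit false

namespace Cfsg.Agent.Lib.helper75.TIH

open Cfsg

/-- **E2** (pure).  For `n ≥ 2` an automorphism of odd order of the generalized quaternion group
of order `4 * 2^n` is trivial.  (`φ (a 1)` has order `2 * 2^n ≥ 8` while every `xa i` has order 4,
so `φ (a 1) = a j`, `φ` preserves `zpowers (a 1)`, `φ (xa 0) = xa s`; `φ^k (a 1) = a (j^k)`,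
`φ^k (xa 0) = xa (s * (1 + j + ... + j^(k-1)))`; the unit group of `ZMod (2^(n+1))` is a 2-group,
so odd order forces `j = 1`, and then `k • s = 0` with `k` odd forces `s = 0`.) -/
theorem quat_aut_odd_trivial (n : ℕ) (hn : 2 ≤ n) (φ : MulAut (QuaternionGroup (2 ^ n)))
    (hφ : Odd (orderOf φ)) : φ = 1 := by
  classical
  haveI : NeZero (2 ^ n) := ⟨by positivity⟩
  haveI : NeZero (2 * 2 ^ n) := ⟨by positivity⟩
  have hN8 : 8 ≤ 2 * 2 ^ n := by
    have : 2 ^ 2 ≤ 2 ^ n := Nat.pow_le_pow_right (by norm_num) hn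
    omega
  set k := orderOf φ with hk
  have hk0 : 0 < k := hφ.pos
  have hφk : φ ^ k = 1 := pow_orderOf_eq_one φ
  have apow : ∀ (j : ZMod (2 * 2 ^ n)) (m : ℕ),
      (QuaternionGroup.a j : QuaternionGroup (2 ^ n)) ^ m =
        QuaternionGroup.a ((m : ZMod (2 * 2 ^ n)) * j) := by
    intro j m
    induction m with
    | zero => rw [pow_zero, Nat.cast_zero, zero_mul, QuaternionGroup.a_zero]
    | succ m ih =>
      rw [pow_succ, ih, QuaternionGroup.a_mul_a]
      congr 1
      push_cast
      ring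
  obtain ⟨j, hj⟩ : ∃ j, φ (QuaternionGroup.a 1) = QuaternionGroup.a j := by
    have hord : orderOf (φ (QuaternionGroup.a 1)) = 2 * 2 ^ n := by
      rw [MulEquiv.orderOf_eq, QuaternionGroup.orderOf_a_one]
    rcases h : φ (QuaternionGroup.a 1) with t | t
    · exact ⟨t, rfl⟩
    · rw [h, QuaternionGroup.orderOf_xa] at hord
      omega
  have hφa : ∀ i : ZMod (2 * 2 ^ n), φ (QuaternionGroup.a i) = QuaternionGroup.a (j * i) := by
    intro i
    have h1 : (QuaternionGroup.a i : QuaternionGroup (2 ^ n)) = QuaternionGroup.a 1 ^ i.val := by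
      rw [QuaternionGroup.a_one_pow, ZMod.natCast_zmod_val]
    rw [h1, map_pow, hj, apow, ZMod.natCast_zmod_val, mul_comm]
  have hpowa : ∀ m : ℕ, (φ ^ m) (QuaternionGroup.a 1) = QuaternionGroup.a (j ^ m) := by
    intro m
    induction m with
    | zero => simp
    | succ m ih => rw [pow_succ', MulAut.mul_apply, ih, hφa, pow_succ']
  have hjk : j ^ k = 1 := by
    have h1 := hpowa k
    rw [hφk, MulAut.one_apply] at h1
    injection h1 with h2
    exact h2.symm
  have hkodd : Nat.Coprime k (2 * 2 ^ n) := by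
    have h1 : Nat.Coprime k 2 := Nat.coprime_two_right.mpr hφ
    exact Nat.Coprime.mul_right h1 (Nat.Coprime.pow_right n h1)
  have hj1 : j = 1 := by
    have hu : IsUnit j := IsUnit.of_pow_eq_one hjk hk0.ne'
    obtain ⟨u, rfl⟩ := hu
    have h1 : u ^ k = 1 := by
      apply Units.ext
      rw [Units.val_pow_eq_pow_val]
      exact hjk
    have h2 : u ^ (Nat.totient (2 * 2 ^ n)) = 1 := ZMod.pow_totient u
    have h3 : Nat.totient (2 * 2 ^ n) = 2 ^ n := by
      rw [← pow_succ', Nat.totient_prime_pow_succ Nat.prime_two]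
      simp
    rw [h3] at h2
    have h4 : orderOf u ∣ Nat.gcd k (2 ^ n) :=
      Nat.dvd_gcd (orderOf_dvd_of_pow_eq_one h1) (orderOf_dvd_of_pow_eq_one h2)
    have h5 : Nat.gcd k (2 ^ n) = 1 := Nat.Coprime.pow_right n (Nat.coprime_two_right.mpr hφ)
    rw [h5, Nat.dvd_one, orderOf_eq_one_iff] at h4
    rw [h4]
    rfl
  have hφa' : ∀ i : ZMod (2 * 2 ^ n), φ (QuaternionGroup.a i) = QuaternionGroup.a i := by
    intro i
    rw [hφa, hj1, one_mul]
  obtain ⟨s, hs⟩ : ∃ s, φ (QuaternionGroup.xa 0) = QuaternionGroup.xa s := by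
    rcases h : φ (QuaternionGroup.xa 0) with t | t
    · exfalso
      have hcomm : φ (QuaternionGroup.xa 0 * QuaternionGroup.a 1) =
          φ (QuaternionGroup.a 1 * QuaternionGroup.xa 0) := by
        rw [map_mul, map_mul, h, hj, QuaternionGroup.a_mul_a, QuaternionGroup.a_mul_a, add_comm]
      have h2 := φ.injective hcomm
      rw [QuaternionGroup.xa_mul_a, QuaternionGroup.a_mul_xa] at h2
      injection h2 with h3
      have h4 : (2 : ZMod (2 * 2 ^ n)) = 0 := by linear_combination h3
      have h5 : ((2 : ℕ) : ZMod (2 * 2 ^ n)) = 0 := by exact_mod_cast h4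
      rw [ZMod.natCast_eq_zero_iff] at h5
      have := Nat.le_of_dvd (by norm_num) h5
      omega
    · exact ⟨t, rfl⟩
  have hφx : ∀ i : ZMod (2 * 2 ^ n), φ (QuaternionGroup.xa i) = QuaternionGroup.xa (s + i) := by
    intro i
    have h1 : (QuaternionGroup.xa i : QuaternionGroup (2 ^ n)) =
        QuaternionGroup.xa 0 * QuaternionGroup.a i := by
      rw [QuaternionGroup.xa_mul_a, zero_add]
    rw [h1, map_mul, hs, hφa', QuaternionGroup.xa_mul_a]
  have hpowx : ∀ m : ℕ, (φ ^ m) (QuaternionGroup.xa 0) =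
      QuaternionGroup.xa ((m : ZMod (2 * 2 ^ n)) * s) := by
    intro m
    induction m with
    | zero => simp
    | succ m ih =>
      rw [pow_succ', MulAut.mul_apply, ih, hφx]
      congr 1
      push_cast
      ring
  have hs0 : s = 0 := by
    have h1 := hpowx k
    rw [hφk, MulAut.one_apply] at h1
    injection h1 with h2
    have h3 : IsUnit ((k : ℕ) : ZMod (2 * 2 ^ n)) := (ZMod.isUnit_iff_coprime k (2 * 2 ^ n)).mpr hkodd
    exact (h3.mul_right_eq_zero).mp h2.symm
  apply MulEquiv.ext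
  intro x
  rw [MulAut.one_apply]
  cases x with
  | a i => exact hφa' i
  | xa i => rw [hφx, hs0, zero_add]

end Cfsg.Agent.Lib.helper75.TIH
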